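import Cfsg.Agent.GW.Scalar

/-!
# Gorenstein–Walter: coprime tricks and a subgroup inside the Fitting subgroup
-/

set_option autoImplicit false
set_option linter.style.haveILetI false

open Subgroup

namespace CfsgLib.GW

/-- If `x y x⁻¹ = c y` with `c` fixed by `x`, `c ^ r = 1` and `r` prime to the order of `x`, then
`x` and `y` commute. -/
theorem commute_of_conj_coprime {G : Type*} [Group G] {x y c : G} {r : ℕ} (hc : c ^ r = 1)
    (hr : (orderOf x).Coprime r) (hxc : x * c = c * x) (h : x * y * x⁻¹ = c * y) : x * y = y * x := by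
  have hn : ∀ n : ℕ, x ^ n * y * (x ^ n)⁻¹ = c ^ n * y := fun n => by
    induction n with
    | zero => simp
    | succ n ih =>
      have e : x * c ^ n * x⁻¹ = c ^ n := by
        rw [((show Commute x c from hxc).pow_right n).eq, mul_inv_cancel_right]
      calc x ^ (n + 1) * y * (x ^ (n + 1))⁻¹ = x * (x ^ n * y * (x ^ n)⁻¹) * x⁻¹ := by
            rw [pow_succ']; group
        _ = x * c ^ n * x⁻¹ * (x * y * x⁻¹) := by rw [ih]; group
        _ = c ^ (n + 1) * y := by rw [e, h, ← mul_assoc, ← pow_succ]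
  have h1 := hn (orderOf x)
  rw [pow_orderOf_eq_one, one_mul, inv_one, mul_one] at h1
  have h2 : c ^ orderOf x = 1 := mul_eq_right.1 h1.symm
  have h3 : orderOf c ∣ Nat.gcd (orderOf x) r :=
    Nat.dvd_gcd (orderOf_dvd_of_pow_eq_one h2) (orderOf_dvd_of_pow_eq_one hc)
  rw [hr.gcd_eq_one, Nat.dvd_one, orderOf_eq_one_iff] at h3
  rw [h3, one_mul] at h
  exact mul_inv_eq_iff_eq_mul.1 h

variable {G : Type*} [Group G] [Finite G]

/-- An element of order prime to `r` fixing the elements of order `r` of an abelian `r`-group fixes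
the group. -/
theorem commute_of_omega {B : Subgroup G} {r : ℕ} [Fact r.Prime] (hB : IsPGroup r B)
    (hab : ∀ v ∈ B, ∀ w ∈ B, v * w = w * v) {x : G} (hxB : x ∈ normalizer (B : Set G))
    (hx : (orderOf x).Coprime r) (h : ∀ w ∈ B, w ^ r = 1 → x * w = w * x) :
    ∀ w ∈ B, x * w = w * x := by
  have key : ∀ j : ℕ, ∀ w ∈ B, w ^ r ^ j = 1 → x * w = w * x := by
    intro j
    induction j with
    | zero => intro w _ hw; rw [pow_zero, pow_one] at hw; rw [hw]; simp
    | succ j ih =>
      intro w hw hwj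
      have hwr : x * w ^ r = w ^ r * x :=
        ih _ (pow_mem hw r) (by rw [← pow_mul, ← pow_succ']; exact hwj)
      set c := x * w * x⁻¹ * w⁻¹ with hc
      have hwx : x * w * x⁻¹ ∈ B := (mem_normalizer_iff.1 hxB w).1 hw
      have hcB : c ∈ B := mul_mem hwx (inv_mem hw)
      have hcr : c ^ r = 1 := by
        rw [hc, (show Commute (x * w * x⁻¹) w⁻¹ from hab _ hwx _ (inv_mem hw)).mul_pow, conj_pow,
          inv_pow, hwr, mul_inv_cancel_right, mul_inv_cancel]
      exact commute_of_conj_coprime hcr hx (h c hcB hcr) (by rw [hc, inv_mul_cancel_right])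
  intro w hw
  obtain ⟨j, hj⟩ := hB ⟨w, hw⟩
  exact key j w hw (congrArg Subtype.val hj)

/-- A `q`-element of the Fitting subgroup of the core lies in the `q`-core. -/
theorem mem_qcore_of_fit {q : ℕ} (hq : q.Prime) {z w : G} (hw : w ∈ fit z)
    (h : ∃ e : ℕ, w ^ q ^ e = 1) : w ∈ qcore q z := by
  haveI := Fact.mk hq
  obtain ⟨e, he⟩ := h
  obtain ⟨i, -, hi⟩ := (Nat.dvd_prime_pow hq).1 (orderOf_dvd_of_pow_eq_one he)
  exact LocalStructure.le_pCoreOf ((OddOrder.piCoreOf_le _ _).trans (OddOrder.fittingOf_le _))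
    ((OddOrder.le_normalizer_fittingOf _).trans (OddOrder.normalizer_le_normalizer_piCoreOf _ _))
    (OddOrder.isPGroup_of_isPiSubgroup (OddOrder.isPiSubgroup_piCoreOf _ _))
    (OddOrder.nilpotent_le_piCoreOf (OddOrder.isNilpotent_fittingOf _) (zpowers_le.2 hw)
      (OddOrder.isPiSubgroup_of_isPGroup
        (IsPGroup.of_card (n := i) (by rw [Nat.card_zpowers, hi])) (Set.mem_singleton q))
      (mem_zpowers _))

/-- A finite group in which elements of coprime prime power orders commute is nilpotent. -/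
theorem isNilpotent_of_commute_coprime {M : Type*} [Group M] [Finite M]
    (h : ∀ p q : ℕ, p.Prime → q.Prime → p ≠ q → ∀ x y : M, (∃ i : ℕ, orderOf x = p ^ i) →
      (∃ j : ℕ, orderOf y = q ^ j) → x * y = y * x) : Group.IsNilpotent M := by
  refine (Group.isNilpotent_of_finite_tfae.out 0 3).mpr fun p hp P => ?_
  haveI := hp
  rw [← normalizer_eq_top_iff, ← index_eq_one]
  by_contra hne
  obtain ⟨s, hs, hsd⟩ := Nat.exists_prime_and_dvd hne
  haveI := Fact.mk hs
  have hsp : s ≠ p := fun e => by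
    rw [e] at hsd
    exact P.not_dvd_index (hsd.trans (index_dvd_of_le le_normalizer))
  obtain ⟨Q⟩ : Nonempty (Sylow s M) := inferInstance
  have hQ : (Q : Subgroup M) ≤ normalizer ((P : Subgroup M) : Set M) := fun g hg =>
    centralizer_le_normalizer _ (mem_centralizer_iff.2 fun v hv => by
      obtain ⟨k, hk⟩ := IsPGroup.iff_orderOf.1 P.isPGroup' ⟨v, hv⟩
      obtain ⟨e, he⟩ := IsPGroup.iff_orderOf.1 Q.isPGroup' ⟨g, hg⟩
      rw [orderOf_mk] at hk he
      exact h p s hp.out hs hsp.symm v g ⟨k, hk⟩ ⟨e, he⟩)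
  exact Q.not_dvd_index (hsd.trans (index_dvd_of_le hQ))

/-- A subgroup normalised by the core whose elements of order prime to `p` centralise the `p`-part
of the Fitting subgroup lies in the Fitting subgroup. -/
theorem le_fit_of_coprime_action {z : G} {M : Subgroup G} (hMU : M ≤ core z)
    (hMn : core z ≤ normalizer (M : Set G))
    (h : ∀ p : ℕ, p.Prime → ∀ x ∈ M, (orderOf x).Coprime p → ∀ v ∈ qcore p z, x * v = v * x) :
    M ≤ fit z := by
  classical
  have hUsol := Cfsg.Agent.S0205.result (odd_core z)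
  -- elements of coprime prime power order commute
  have hcomm : ∀ p q : ℕ, p.Prime → q.Prime → p ≠ q → ∀ x ∈ M, ∀ y ∈ M,
      (∃ i : ℕ, orderOf x = p ^ i) → (∃ j : ℕ, orderOf y = q ^ j) → x * y = y * x := by
    -- the commutator is killed by every power killed ... by `y` centralises the `q'`-part
    have hhalf : ∀ p q : ℕ, p.Prime → q.Prime → p ≠ q → ∀ x ∈ M, ∀ y ∈ M,
        (∃ i : ℕ, orderOf x = p ^ i) → (∃ j : ℕ, orderOf y = q ^ j) →
        ∃ b : ℕ, (x * y * x⁻¹ * y⁻¹) ^ q ^ b = 1 := by
      rintro p q hp hq hpq x hx y hy ⟨i, hi⟩ ⟨j, hj⟩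
      set c := x * y * x⁻¹ * y⁻¹ with hcdef
      have hcM : c ∈ M := mul_mem (mul_mem (mul_mem hx hy) (inv_mem hx)) (inv_mem hy)
      -- `x` or `y` acts trivially on each primary part, so `c` centralises `fit z`
      have hcfix : ∀ v ∈ fit z, c * v * c⁻¹ = v := by
        refine fix_fit fun s hs v hv => ?_
        have hU : ∀ g ∈ M, g * v * g⁻¹ ∈ qcore s z := fun g hg =>
          (mem_normalizer_iff.1 (core_le_normalizer_qcore s z (hMU hg)) v).1 hv
        have hV : ∀ g ∈ M, ∀ w ∈ qcore s z, g * w * g⁻¹ ∈ qcore s z := fun g hg w hw =>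
          (mem_normalizer_iff.1 (core_le_normalizer_qcore s z (hMU hg)) w).1 hw
        rcases eq_or_ne s p with rfl | hsp
        · have hyf : ∀ w ∈ qcore s z, y * w * y⁻¹ = w := fun w hw => mul_inv_eq_iff_eq_mul.2
            (h s hs y hy (by rw [hj]; exact ((Nat.coprime_primes hq hs).2 hpq.symm).pow_left j) w hw)
          have hyi : ∀ w ∈ qcore s z, y⁻¹ * w * y = w := fun w hw => by
            conv_lhs => rw [← hyf w hw]
            group
          calc c * v * c⁻¹ = x * (y * (x⁻¹ * (y⁻¹ * v * y) * x) * y⁻¹) * x⁻¹ := by rw [hcdef]; group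
            _ = x * (x⁻¹ * v * x) * x⁻¹ := by
              rw [hyi v hv, hyf _ (by simpa using hV x⁻¹ (inv_mem hx) v hv)]
            _ = v := by group
        · have hxf : ∀ w ∈ qcore s z, x * w * x⁻¹ = w := fun w hw => mul_inv_eq_iff_eq_mul.2
            (h s hs x hx (by rw [hi]; exact ((Nat.coprime_primes hp hs).2 hsp.symm).pow_left i) w hw)
          have hxi : ∀ w ∈ qcore s z, x⁻¹ * w * x = w := fun w hw => by
            conv_lhs => rw [← hxf w hw]
            group
          calc c * v * c⁻¹ = x * (y * (x⁻¹ * (y⁻¹ * v * y) * x) * y⁻¹) * x⁻¹ := by rw [hcdef]; group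
            _ = x * (y * (y⁻¹ * v * y) * y⁻¹) * x⁻¹ := by
              rw [hxi _ (by simpa using hV y⁻¹ (inv_mem hy) v hv)]
            _ = x * v * x⁻¹ := by group
            _ = v := hxf v hv
      have hcfit : c ∈ fit z := OddOrder.inf_centralizer_fittingOf_le hUsol
        ⟨hMU hcM, mem_centralizer_iff.2 fun v hv => (mul_inv_eq_iff_eq_mul.1 (hcfix v hv)).symm⟩
      obtain ⟨b, m, hm, hbm⟩ := Nat.exists_eq_pow_mul_and_not_dvd (orderOf_pos c).ne' q hq.ne_one
      refine ⟨b, ?_⟩
      set Q := q ^ b with hQ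
      -- `c ^ Q` is a `q'`-element of `fit z`, fixed by `y`
      have hcQ : orderOf (c ^ Q) = m := by
        rw [orderOf_pow, hbm, Nat.gcd_eq_right (dvd_mul_right _ _),
          Nat.mul_div_cancel_left _ (pow_pos hq.pos b)]
      have hyc : y * c ^ Q = c ^ Q * y := by
        by_contra hne
        have hmem : c ^ Q ∈ centralizer ({y} : Set G) := by
          -- decompose into primary parts
          have key : ∀ n : ℕ, ∀ w ∈ fit z, orderOf w = n → ¬ q ∣ n → w ∈ centralizer ({y} : Set G) := by
            intro n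
            induction n using Nat.strong_induction_on with
            | _ n ih =>
              intro w hw hwn hqn
              rcases eq_or_ne w 1 with rfl | hw1
              · exact one_mem _
              have hn1 : n ≠ 1 := fun e => hw1 (orderOf_eq_one_iff.1 (hwn.trans e))
              have hn0 : 0 < n := hwn ▸ orderOf_pos w
              set s := n.minFac
              have hs : s.Prime := Nat.minFac_prime hn1
              obtain ⟨e, f, hf, hef⟩ := Nat.exists_eq_pow_mul_and_not_dvd hn0.ne' s hs.ne_one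
              have he0 : e ≠ 0 := fun e0 => hf (by
                have : s ∣ n := Nat.minFac_dvd n
                rwa [hef, e0, pow_zero, one_mul] at this)
              have hwf : w ^ f ∈ qcore s z := by
                refine mem_qcore_of_fit hs (pow_mem hw f) ⟨e, ?_⟩
                rw [← pow_mul, mul_comm, ← hef, ← hwn, pow_orderOf_eq_one]
              have h1 : w ^ f ∈ centralizer ({y} : Set G) := mem_centralizer_singleton_iff.2
                (h s hs y hy (by
                  rw [hj]
                  exact ((Nat.coprime_primes hq hs).2 fun e' => hqn (e' ▸ Nat.minFac_dvd n)).pow_left j)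
                  _ hwf).symm
              have h2 : w ^ (s ^ e) ∈ centralizer ({y} : Set G) := by
                refine ih f ?_ _ (pow_mem hw _) ?_ fun e' => hqn (hef ▸ e'.mul_left _)
                · rw [hef]
                  exact lt_mul_of_one_lt_left (Nat.pos_of_ne_zero fun e' => by
                    rw [e', mul_zero] at hef; omega) (Nat.one_lt_pow he0 hs.one_lt)
                · rw [orderOf_pow, hwn, hef, Nat.gcd_eq_right (dvd_mul_right _ _),
                    Nat.mul_div_cancel_left _ (pow_pos hs.pos e)]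
              have hco : Nat.Coprime f (s ^ e) :=
                (Nat.Coprime.pow_right e ((hs.coprime_iff_not_dvd.2 hf).symm))
              obtain ⟨u, v, huv⟩ : ∃ u v : ℤ, (f : ℤ) * u + ((s ^ e : ℕ) : ℤ) * v = 1 :=
                ⟨_, _, (Nat.gcd_eq_gcd_ab f (s ^ e)).symm.trans (by rw [hco.gcd_eq_one]; rfl)⟩
              rw [← zpow_one w, ← huv, zpow_add, zpow_mul, zpow_mul, zpow_natCast, zpow_natCast]
              exact mul_mem (zpow_mem h1 u) (zpow_mem h2 v)
          exact key m (c ^ Q) (pow_mem hcfit Q) hcQ hm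
        exact hne (mem_centralizer_singleton_iff.1 hmem).symm
      -- the norm of `c` under `y`
      have hxy : x * y * x⁻¹ = c * y := by rw [hcdef, inv_mul_cancel_right]
      have hK : ∀ g : ℕ, ∀ v ∈ fit z, (y ^ g * c * (y ^ g)⁻¹) * v = v * (y ^ g * c * (y ^ g)⁻¹) := by
        intro g v hv
        have hvn : (y ^ g)⁻¹ * v * y ^ g ∈ fit z := by
          simpa using (mem_normalizer_iff.1
            (centralizer_le_normalizer_fit z (core_le z (hMU (inv_mem (pow_mem hy g))))) v).1 hv
        have e := mul_inv_eq_iff_eq_mul.1 (hcfix _ hvn)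
        calc y ^ g * c * (y ^ g)⁻¹ * v = y ^ g * (c * ((y ^ g)⁻¹ * v * y ^ g)) * (y ^ g)⁻¹ := by group
          _ = y ^ g * ((y ^ g)⁻¹ * v * y ^ g * c) * (y ^ g)⁻¹ := by rw [e]
          _ = _ := by group
      have hnorm : ∀ n : ℕ, ∃ a ∈ fit z, (c * y) ^ n = a * y ^ n ∧ a ^ Q = c ^ (n * Q) := by
        intro n
        induction n with
        | zero => exact ⟨1, one_mem _, by simp, by simp⟩
        | succ n ih =>
          obtain ⟨a, ha, ha1, ha2⟩ := ih
          refine ⟨a * (y ^ n * c * (y ^ n)⁻¹), mul_mem ha ?_, ?_, ?_⟩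
          · exact (mem_normalizer_iff.1 (centralizer_le_normalizer_fit z
              (core_le z (hMU (pow_mem hy n)))) c).1 hcfit
          · rw [pow_succ, ha1, pow_succ]; group
          · rw [(show Commute a (y ^ n * c * (y ^ n)⁻¹) from (hK n a ha).symm).mul_pow, ha2, conj_pow,
              ((show Commute y (c ^ Q) from hyc).pow_left n).eq, mul_inv_cancel_right, ← pow_add,
              Nat.succ_mul]
      obtain ⟨a, -, ha1, ha2⟩ := hnorm (q ^ j)
      have h1 : (c * y) ^ (q ^ j) = 1 := by
        rw [← hxy, conj_pow, ← hj, pow_orderOf_eq_one, mul_one, mul_inv_cancel]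
      have hy1 : y ^ (q ^ j) = 1 := by rw [← hj, pow_orderOf_eq_one]
      rw [h1, hy1, mul_one] at ha1
      rw [← ha1, one_pow] at ha2
      have h3 : orderOf (c ^ Q) ∣ Nat.gcd m (q ^ j) :=
        Nat.dvd_gcd hcQ.dvd (orderOf_dvd_of_pow_eq_one (by rw [← pow_mul, mul_comm]; exact ha2.symm))
      rw [((hq.coprime_iff_not_dvd.2 hm).symm.pow_right j).gcd_eq_one, Nat.dvd_one,
        orderOf_eq_one_iff] at h3
      exact h3
    intro p q hp hq hpq x hx y hy hxo hyo
    obtain ⟨b, hb⟩ := hhalf p q hp hq hpq x hx y hy hxo hyo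
    obtain ⟨a, ha⟩ := hhalf q p hq hp hpq.symm y hy x hx hyo hxo
    have ha' : (x * y * x⁻¹ * y⁻¹) ^ p ^ a = 1 := by
      have e : x * y * x⁻¹ * y⁻¹ = (y * x * y⁻¹ * x⁻¹)⁻¹ := by group
      rw [e, inv_pow, ha, inv_one]
    have h3 : orderOf (x * y * x⁻¹ * y⁻¹) ∣ Nat.gcd (p ^ a) (q ^ b) :=
      Nat.dvd_gcd (orderOf_dvd_of_pow_eq_one ha') (orderOf_dvd_of_pow_eq_one hb)
    rw [(Nat.coprime_pow_primes a b hp hq hpq).gcd_eq_one, Nat.dvd_one, orderOf_eq_one_iff] at h3
    exact mul_inv_eq_iff_eq_mul.1 (mul_inv_eq_one.1 h3)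
  refine OddOrder.le_fittingOf hMU hMn (isNilpotent_of_commute_coprime ?_)
  intro p q hp hq hpq x y hxo hyo
  refine Subtype.ext (hcomm p q hp hq hpq x x.2 y y.2 ?_ ?_)
  · obtain ⟨i, hi⟩ := hxo
    exact ⟨i, by rw [orderOf_coe]; exact hi⟩
  · obtain ⟨j, hj⟩ := hyo
    exact ⟨j, by rw [orderOf_coe]; exact hj⟩

end CfsgLib.GW
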