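import Cfsg.Agent.GW.FourNormal
import Cfsg.Agent.CharSimple.Basic
import Cfsg.Agent.S0514
import Cfsg.Agent.Inv54.Core

/-!
# Gorenstein–Walter: the structure predicate and the reduction to simple groups

`SimpleHyp m`: every simple group of order at most `m` with dihedral Sylow 2-subgroups is `PSL₂(q)`,
`q > 3` odd, or `A₇`.  Under it every group `X` of dihedral type of order at most `m` is `Known`:
`X/O(X)` is a 2-group, `A₄`, `S₄`, or has a normal `PSL₂(q)` or `A₇` with trivial centralizer.
-/

set_option autoImplicit false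
set_option linter.style.haveILetI false

namespace CfsgLib.GW

universe u

/-- `L` is `PSL₂(q)` for an odd `q > 3`, or `A₇`. -/
def IsPSLOrAltSeven (L : Type*) [Group L] : Prop :=
  (∃ (F : Type) (_ : Field F) (_ : Fintype F), Odd (Fintype.card F) ∧ 3 < Fintype.card F ∧
      Nonempty (L ≃* Matrix.ProjectiveSpecialLinearGroup (Fin 2) F)) ∨
    Nonempty (L ≃* alternatingGroup (Fin 7))

/-- The possible structures of a group of dihedral type with trivial odd core. -/
def KnownCore (Q : Type*) [Group Q] : Prop :=
  IsPGroup 2 Q ∨ Nonempty (Q ≃* alternatingGroup (Fin 4)) ∨ Nonempty (Q ≃* Equiv.Perm (Fin 4)) ∨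
    ∃ L : Subgroup Q, L.Normal ∧ IsPSLOrAltSeven L ∧ Subgroup.centralizer (L : Set Q) = ⊥

/-- The induction predicate. -/
def Known (X : Type*) [Group X] : Prop := KnownCore (X ⧸ Cfsg.oddCore X)

/-- The Gorenstein–Walter theorem for simple groups of order at most `m`. -/
def SimpleHyp (m : ℕ) : Prop :=
  ∀ (G : Type u) [Group G] [Finite G], IsSimpleGroup G → Nat.card G ≤ m →
    ∀ (S : Sylow 2 G) (n : ℕ), 2 ≤ n → Nonempty ((S : Subgroup G) ≃* DihedralGroup n) →
      IsPSLOrAltSeven G

theorem SimpleHyp.mono {m m' : ℕ} (h : SimpleHyp.{u} m) (hm : m' ≤ m) : SimpleHyp.{u} m' :=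
  fun G _ _ hs hc => h G hs (hc.trans hm)

variable {G : Type u} [Group G] [Finite G]

/-- A group with cyclic Sylow 2-subgroups and trivial odd core is a 2-group. -/
theorem isPGroup_of_cyclic_sylow (S : Sylow 2 G) (hS : IsCyclic (S : Subgroup G))
    (hO : Cfsg.oddCore G = ⊥) : IsPGroup 2 G := by
  haveI : Fact (Nat.Prime 2) := ⟨Nat.prime_two⟩
  by_cases h2 : 2 ∣ Nat.card G
  · have hmin : (Nat.card G).minFac = 2 := (Nat.minFac_eq_two_iff _).2 h2
    have hN := hS.normalizer_le_centralizer hmin
    have hcomp := MonoidHom.ker_transferSylow_isComplement' S hN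
    have hK : (MonoidHom.transferSylow S hN).ker = ⊥ := by
      rw [eq_bot_iff, ← hO]
      exact CfsgLib.PLocal.le_pPrimeCore (CfsgLib.PLocal.not_dvd_iff_coprime.2
        (MonoidHom.not_dvd_card_ker_transferSylow S hN))
    rw [hK, Subgroup.isComplement'_bot_left] at hcomp
    have h := S.isPGroup'
    rw [hcomp] at h
    exact h.of_equiv Subgroup.topEquiv
  · have : (⊤ : Subgroup G) ≤ Cfsg.oddCore G := CfsgLib.PLocal.le_pPrimeCore
      (CfsgLib.PLocal.not_dvd_iff_coprime.2 (by rwa [Subgroup.card_top]))
    rw [hO] at this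
    intro g
    exact ⟨0, by simpa using Subgroup.mem_bot.1 (this (Subgroup.mem_top g))⟩

theorem exists_four_of_dihedral {P : Type*} [Group P] [Finite P] {m : ℕ} (hm : 2 ≤ m)
    (hP : IsPGroup 2 P) (e : P ≃* DihedralGroup m) :
    ∃ a b : P, a * a = 1 ∧ b * b = 1 ∧ a ≠ 1 ∧ b ≠ 1 ∧ a ≠ b ∧ a * b = b * a := by
  haveI : Fact (Nat.Prime 2) := ⟨Nat.prime_two⟩
  haveI : NeZero m := ⟨by omega⟩
  obtain ⟨k, hk⟩ := IsPGroup.iff_card.1 hP
  rw [Nat.card_congr e.toEquiv, DihedralGroup.nat_card] at hk
  obtain ⟨h, rfl⟩ : 2 ∣ m := by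
    rcases k with _ | _ | k
    · simp at hk
    · simp at hk; omega
    · exact ⟨2 ^ k, by rw [pow_succ, pow_succ] at hk; linarith⟩
  have hhh : ((h : ZMod (2 * h)) + h) = 0 := by
    rw [← Nat.cast_add, ← two_mul, ZMod.natCast_self]
  have hh0 : ((h : ZMod (2 * h))) ≠ 0 := by
    rw [Ne, CharP.cast_eq_zero_iff (ZMod (2 * h)) (2 * h)]
    exact fun hd => absurd (Nat.le_of_dvd (by omega) hd) (by omega)
  refine ⟨e.symm (DihedralGroup.r (h : ZMod (2 * h))), e.symm (DihedralGroup.sr 0), ?_, ?_, ?_, ?_,
    fun he => ?_, ?_⟩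
  · rw [← map_mul, DihedralGroup.r_mul_r, hhh, DihedralGroup.r_zero, map_one]
  · rw [← map_mul, DihedralGroup.sr_mul_self, map_one]
  · rw [Ne, MulEquiv.map_eq_one_iff, DihedralGroup.one_def, DihedralGroup.r.injEq]
    exact hh0
  · rw [Ne, MulEquiv.map_eq_one_iff, DihedralGroup.one_def]
    intro hsr; cases hsr
  · simpa using e.symm.injective he
  · rw [← map_mul, ← map_mul, DihedralGroup.r_mul_sr, DihedralGroup.sr_mul_r, zero_add, zero_sub,
      neg_eq_of_add_eq_zero_left hhh]

/-- The core of the reduction. -/
theorem knownCore_of_simpleHyp (hG : DihType G) (hO : Cfsg.oddCore G = ⊥)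
    (h : SimpleHyp.{u} (Nat.card G)) : KnownCore G := by
  classical
  haveI : Fact (Nat.Prime 2) := ⟨Nat.prime_two⟩
  obtain ⟨S⟩ : Nonempty (Sylow 2 G) := inferInstance
  obtain hS | ⟨n, hn, hS⟩ := hG.cyclic_or_dihedral S
  · exact Or.inl (isPGroup_of_cyclic_sylow S hS hO)
  by_cases hne : ∀ x : G, x = 1
  · exact Or.inl fun g => ⟨0, by simpa using hne g⟩
  obtain ⟨M, ⟨hMn, hMne⟩, hMmin⟩ := (Set.toFinite {K : Subgroup G | K.Normal ∧ K ≠ ⊥}).exists_minimal
    ⟨⊤, inferInstance, fun h => hne fun x => Subgroup.mem_bot.1 (h ▸ Subgroup.mem_top x)⟩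
  have hmin : ∀ L : Subgroup G, L.Normal → L ≤ M → L = ⊥ ∨ L = M := fun L hL hLM => by
    by_contra hc
    push_neg at hc
    exact hc.2 (le_antisymm hLM (hMmin ⟨hL, hc.1⟩ hLM))
  haveI := hMn
  have hodd : ∀ K : Subgroup G, K.Normal → ¬ 2 ∣ Nat.card K → K = ⊥ := fun K hK h2 => by
    rw [eq_bot_iff, ← hO]
    exact CfsgLib.PLocal.le_pPrimeCore (hN := hK) (CfsgLib.PLocal.not_dvd_iff_coprime.2 h2)
  have hMeven : 2 ∣ Nat.card M := by_contra fun h2 => hMne (hodd M hMn h2)
  by_cases hab : IsMulCommutative M
  · -- a normal subgroup of exponent 2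
    let E : Subgroup G := {
      carrier := {x | x ∈ M ∧ x * x = 1}
      one_mem' := ⟨one_mem M, one_mul 1⟩
      mul_mem' := by
        rintro a b ⟨ha, ha2⟩ ⟨hb, hb2⟩
        refine ⟨mul_mem ha hb, ?_⟩
        have hc : b * a = a * b := congrArg Subtype.val (mul_comm' (⟨b, hb⟩ : M) ⟨a, ha⟩)
        rw [mul_assoc, ← mul_assoc b, hc, mul_assoc a b, hb2, mul_one, ha2]
      inv_mem' := by
        rintro a ⟨ha, ha2⟩
        exact ⟨inv_mem ha, by rw [← mul_inv_rev, ha2, inv_one]⟩ }
    have hEn : E.Normal := ⟨fun x hx g => ⟨hMn.conj_mem x hx.1 g, by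
      rw [show g * x * g⁻¹ * (g * x * g⁻¹) = g * (x * x) * g⁻¹ by group, hx.2, mul_one,
        mul_inv_cancel]⟩⟩
    obtain ⟨x, hx⟩ := exists_prime_orderOf_dvd_card' (G := M) 2 hMeven
    have hEM : E = M := (hmin E hEn fun y hy => hy.1).resolve_left fun hb => by
      have hxE : (x : G) ∈ E := ⟨x.2, by
        have := pow_orderOf_eq_one x
        rw [hx, pow_two] at this
        exact congrArg Subtype.val this⟩
      rw [hb, Subgroup.mem_bot] at hxE
      rw [← Subgroup.orderOf_coe, hxE, orderOf_one] at hx
      omega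
    have hM2 : ∀ y ∈ M, y * y = 1 := fun y hy => (hEM.symm ▸ hy : y ∈ E).2
    have hM4 := hG.card_le_four M hM2
    have hcard : Nat.card M = 2 ∨ Nat.card M = 4 := by
      have hp : IsPGroup 2 M := fun a => ⟨1, Subtype.ext (by simpa [pow_two] using hM2 a a.2)⟩
      obtain ⟨k, hk⟩ := IsPGroup.iff_card.1 hp
      rw [hk] at hMeven hM4 ⊢
      rcases k with _ | _ | _ | k
      · simp at hMeven
      · simp
      · simp
      · have : 2 ^ 3 ≤ 2 ^ (k + 1 + 1 + 1) := Nat.pow_le_pow_right (by norm_num) (by omega)
        omega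
    rcases hcard with h2 | h4
    · -- a central involution
      obtain ⟨z, hz⟩ := exists_prime_orderOf_dvd_card' (G := M) 2 hMeven
      have hz' : orderOf (z : G) = 2 := by rw [Subgroup.orderOf_coe, hz]
      have hall : ∀ g : G, g * z = z * g := by
        intro g
        have hmem : g * z * g⁻¹ ∈ M := hMn.conj_mem _ z.2 g
        have hz1 : (z : G) ≠ 1 := Small.ne_one_of_orderOf_two hz'
        by_contra hne'
        have h3 : ({1, (z : G), g * z * g⁻¹} : Finset G).card = 3 := by
          rw [Finset.card_insert_of_notMem, Finset.card_insert_of_notMem, Finset.card_singleton]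
          · rw [Finset.mem_singleton]
            exact fun e => hne' (mul_inv_eq_iff_eq_mul.1 e.symm)
          · simp only [Finset.mem_insert, Finset.mem_singleton, not_or]
            exact ⟨Ne.symm hz1, fun e => hz1 (by simpa using e.symm)⟩
        have hsub : (({1, (z : G), g * z * g⁻¹} : Finset G) : Set G) ⊆ (M : Set G) := by
          intro y hy
          simp only [Finset.coe_insert, Finset.coe_singleton, Set.mem_insert_iff,
            Set.mem_singleton_iff] at hy
          rcases hy with rfl | rfl | rfl
          exacts [one_mem M, z.2, hmem]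
        have h' := Set.ncard_le_ncard hsub (Set.toFinite _)
        rw [Set.ncard_coe_finset, h3, ← Nat.card_coe_set_eq] at h'
        change 3 ≤ Nat.card M at h'
        omega
      obtain ⟨N, hN, hNodd, k, hk⟩ := Cfsg.Agent.S0514.result S n hn hS (z : G) hz'
      have hC : Subgroup.centralizer ({(z : G)} : Set G) = ⊤ := (Subgroup.eq_top_iff' _).2 fun g =>
        Subgroup.mem_centralizer_singleton_iff.2 (hall g)
      let e : Subgroup.centralizer ({(z : G)} : Set G) ≃* G :=
        (MulEquiv.subgroupCongr hC).trans Subgroup.topEquiv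
      have hN' : (N.map e.toMonoidHom).Normal := Subgroup.Normal.map hN e.toMonoidHom e.surjective
      have hNbot := hodd _ hN' (by
        rw [← Nat.card_congr (N.equivMapOfInjective _ e.injective).toEquiv]
        exact hNodd.not_two_dvd_nat)
      rw [Subgroup.map_eq_bot_iff_of_injective _ e.injective] at hNbot
      refine Or.inl (IsPGroup.of_card (n := k) ?_)
      rw [← Nat.card_congr e.toEquiv, ← hk, hNbot, Subgroup.index_bot]
    · rcases structure_normal_four hG hO M h4 hM2 with h' | h' | h'
      exacts [Or.inl h', Or.inr (Or.inl h'), Or.inr (Or.inr (Or.inl h'))]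
  · -- a simple non-abelian normal subgroup
    obtain ⟨T, _, _, m, hm, hTs, -, ⟨eM⟩⟩ :=
      CfsgLib.CharSimple.exists_equiv_pi hMn hMne hmin hab
    haveI := hTs
    have hMtype : DihType ↥M := hG.subgroup M
    obtain ⟨P⟩ : Nonempty (Sylow 2 M) := inferInstance
    have hMO : Cfsg.oddCore ↥M = ⊥ := by
      have h := CfsgLib.PLocal.pPrimeCore_map_subtype_le (p := 2) M
      rw [show Cfsg.pPrimeCore 2 G = ⊥ from hO] at h
      exact (Subgroup.map_eq_bot_iff_of_injective _ M.subtype_injective).1 (le_bot_iff.1 h)
    have hM2grp : ¬ IsPGroup 2 M := by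
      intro hp
      haveI : Nontrivial M := (Subgroup.nontrivial_iff_ne_bot M).2 hMne
      have hc := hp.center_nontrivial
      have hchar : ((Subgroup.center M).map M.subtype).Normal :=
        CfsgLib.PLocal.normal_map_subtype M _
      rcases hmin _ hchar (Subgroup.map_subtype_le _) with h' | h'
      · rw [Subgroup.map_eq_bot_iff_of_injective _ M.subtype_injective] at h'
        exact (Subgroup.nontrivial_iff_ne_bot _).1 hc h'
      · refine hab ⟨⟨fun a b => ?_⟩⟩
        have ha : (a : G) ∈ (Subgroup.center M).map M.subtype := h'.symm ▸ a.2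
        obtain ⟨a', ha', e⟩ := ha
        obtain rfl : a' = a := Subtype.ext e
        exact (Subgroup.mem_center_iff.1 ha' b).symm
    obtain hP | ⟨k, hk, ⟨eP⟩⟩ := hMtype.cyclic_or_dihedral P
    · exact absurd (isPGroup_of_cyclic_sylow P hP hMO) hM2grp
    obtain ⟨a, b, ha, hb, ha1, hb1, hab', hc⟩ := exists_four_of_dihedral hk P.isPGroup' eP
    set a' : G := ((a : M) : G) with ha'
    set b' : G := ((b : M) : G) with hb'
    have hval : ∀ {x y : (P : Subgroup M)}, x = y → (((x : M) : G)) = ((y : M) : G) := fun h => by rw [h]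
    -- `M` is simple
    have hm1 : m = 1 := by
      by_contra hm1
      let i : Fin m := ⟨0, by omega⟩
      let j : Fin m := ⟨1, by omega⟩
      have hij : i ≠ j := by simp [i, j, Fin.ext_iff]
      have hTeven : 2 ∣ Nat.card T := by
        by_contra h2
        apply (Nat.not_even_iff_odd.2 ?_) (even_iff_two_dvd.2 hMeven)
        rw [Nat.card_congr eM.toEquiv, Nat.card_fun, Nat.card_fin]
        exact (Nat.not_even_iff_odd.1 (fun h => h2 (even_iff_two_dvd.1 h))).pow
      -- the images of the coordinates of a four-subgroup of `T`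
      have hTfour : ∃ a b : T, a * a = 1 ∧ b * b = 1 ∧ a ≠ 1 ∧ b ≠ 1 ∧ a ≠ b ∧ a * b = b * a := by
        have hTM : DihType T := by
          let ι : T →* M := eM.symm.toMonoidHom.comp (MonoidHom.mulSingle (fun _ : Fin m => T) i)
          have hι : Function.Injective ι := eM.symm.injective.comp (Pi.mulSingle_injective (M := fun _ : Fin m => T) i)
          exact (hMtype.subgroup ι.range).of_equiv (MonoidHom.ofInjective hι).symm
        obtain ⟨Q⟩ : Nonempty (Sylow 2 T) := inferInstance
        obtain hQ | ⟨l, hl, ⟨eQ⟩⟩ := hTM.cyclic_or_dihedral Q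
        · exfalso
          have hTO : Cfsg.oddCore T = ⊥ := by
            rcases IsSimpleGroup.eq_bot_or_eq_top_of_normal _ (inferInstance :
              (Cfsg.oddCore T).Normal) with h' | h'
            · exact h'
            · exfalso
              have := CfsgLib.Inv54.odd_card_oddCore (G := T)
              rw [h', Subgroup.card_top] at this
              exact this.not_two_dvd_nat hTeven
          have hT2 := isPGroup_of_cyclic_sylow Q hQ hTO
          apply hM2grp
          refine (?_ : IsPGroup 2 (Fin m → T)).of_equiv eM.symm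
          obtain ⟨c, hc⟩ := IsPGroup.iff_card.1 hT2
          exact IsPGroup.of_card (n := c * m) (by rw [Nat.card_fun, Nat.card_fin, hc, pow_mul])
        · obtain ⟨c, d, h1, h2, h3, h4, h5, h6⟩ := exists_four_of_dihedral hl Q.isPGroup' eQ
          exact ⟨c, d, congrArg Subtype.val h1, congrArg Subtype.val h2,
            fun e => h3 (Subtype.ext e), fun e => h4 (Subtype.ext e),
            fun e => h5 (Subtype.ext e), congrArg Subtype.val h6⟩
      obtain ⟨c, d, hc2, hd2, hc1, hd1, hcd, hcomm⟩ := hTfour
      let W : Subgroup T := {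
        carrier := {1, c, d, c * d}
        one_mem' := by simp
        mul_mem' := by
          have h1 : d * c = c * d := hcomm.symm
          have h2 : c * (c * d) = d := by rw [← mul_assoc, hc2, one_mul]
          have h3 : d * (c * d) = c := by rw [← mul_assoc, h1, mul_assoc, hd2, mul_one]
          have h4 : c * d * c = d := by rw [mul_assoc, h1, h2]
          have h5 : c * d * d = c := by rw [mul_assoc, hd2, mul_one]
          have h6 : c * d * (c * d) = 1 := by rw [← mul_assoc, h4, hd2]
          rintro x y (rfl | rfl | rfl | rfl) (rfl | rfl | rfl | rfl) <;>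
            simp [hc2, hd2, h1, h2, h3, h4, h5, h6]
        inv_mem' := by
          have hci : c⁻¹ = c := inv_eq_of_mul_eq_one_right hc2
          have hdi : d⁻¹ = d := inv_eq_of_mul_eq_one_right hd2
          rintro x (rfl | rfl | rfl | rfl) <;> simp [hci, hdi, hcomm.symm] }
      have hW4 : 4 ≤ Nat.card W := by
        have h4 : ({1, c, d, c * d} : Finset T).card = 4 := by
          rw [Finset.card_insert_of_notMem, Finset.card_insert_of_notMem,
            Finset.card_insert_of_notMem, Finset.card_singleton]
          · simpa using Ne.symm (fun e : c * d = d => hc1 (by simpa using e))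
          · simp only [Finset.mem_insert, Finset.mem_singleton, not_or]
            exact ⟨hcd, fun e => hd1 (by simpa using e.symm)⟩
          · simp only [Finset.mem_insert, Finset.mem_singleton, not_or]
            exact ⟨Ne.symm hc1, Ne.symm hd1, fun e => hcd
              (by rw [eq_inv_of_mul_eq_one_left e.symm, inv_eq_of_mul_eq_one_right hd2])⟩
        have hsub : (({1, c, d, c * d} : Finset T) : Set T) ⊆ (W : Set T) := by
          intro y hy
          simpa [W] using hy
        have h' := Set.ncard_le_ncard hsub (Set.toFinite _)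
        rwa [Set.ncard_coe_finset, h4, ← Nat.card_coe_set_eq] at h'
      have hWsq : ∀ w ∈ W, w * w = 1 := by
        rintro w (rfl | rfl | rfl | rfl)
        · exact one_mul 1
        · exact hc2
        · exact hd2
        · calc c * d * (c * d) = c * (d * c) * d := by group
            _ = 1 := by rw [hcomm.symm, ← mul_assoc, hc2, one_mul, hd2]
      let A : Subgroup (Fin m → T) := Subgroup.pi Set.univ fun l => if l = i ∨ l = j then W else ⊥
      have hA : ∀ x ∈ A, x * x = 1 := fun x hx => funext fun l => by
        have := (Subgroup.mem_pi _).1 hx l trivial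
        show x l * x l = 1
        by_cases hl : l = i ∨ l = j
        · rw [if_pos hl] at this; exact hWsq _ this
        · rw [if_neg hl, Subgroup.mem_bot] at this; rw [this, one_mul]
      have hbig : Nat.card (W × W) ≤ Nat.card A := by
        refine Nat.card_le_card_of_injective (fun p =>
          (⟨fun l => if l = i then (p.1 : T) else if l = j then (p.2 : T) else 1,
            (Subgroup.mem_pi _).2 fun l _ => by
              by_cases h1 : l = i
              · simp [h1, p.1.2]
              by_cases h2 : l = j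
              · simp [h2, Ne.symm hij, p.2.2]
              simp [h1, h2]⟩ : A)) fun p q hpq => ?_
        have h1 := congrFun (congrArg Subtype.val hpq) i
        have h2 := congrFun (congrArg Subtype.val hpq) j
        simp only [if_pos rfl, if_neg (Ne.symm hij)] at h1 h2
        exact Prod.ext (Subtype.ext (by simpa using h1)) (Subtype.ext (by simpa using h2))
      have hle := hMtype.card_le_four (A.map eM.symm.toMonoidHom) (by
        rintro _ ⟨x, hx, rfl⟩
        rw [← map_mul, hA x hx, map_one])
      rw [← Nat.card_congr (A.equivMapOfInjective _ eM.symm.injective).toEquiv] at hle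
      rw [Nat.card_prod] at hbig
      have : 4 * 4 ≤ Nat.card W * Nat.card W := Nat.mul_le_mul hW4 hW4
      omega
    subst hm1
    have eT : M ≃* T := eM.trans (MulEquiv.piUnique fun _ : Fin 1 => T)
    haveI : Nontrivial M := eT.toEquiv.nontrivial
    haveI : IsSimpleGroup M := IsSimpleGroup.isSimpleGroup_of_surjective eT.symm.toMonoidHom eT.symm.surjective
    have hMP := h M inferInstance (Subgroup.card_le_card_group M) P k hk ⟨eP⟩
    refine Or.inr (Or.inr (Or.inr ⟨M, hMn, hMP, ?_⟩))
    haveI : (Subgroup.centralizer (M : Set G)).Normal := inferInstance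
    refine hodd _ inferInstance fun h2 => ?_
    obtain ⟨x, hx⟩ := exists_prime_orderOf_dvd_card' (G := Subgroup.centralizer (M : Set G)) 2 h2
    have hx' : orderOf (x : G) = 2 := by rw [Subgroup.orderOf_coe, hx]
    -- `x` and a four-subgroup of `M` generate an elementary group of order eight
    let Ps : Subgroup G := (P : Subgroup M).map M.subtype
    have hcx : ∀ y : G, y ∈ M → y * (x : G) = x * y := fun y hy =>
      Subgroup.mem_centralizer_iff.1 x.2 y hy
    have hxx := Small.mul_self_of_orderOf_two hx'
    have ha2 : a' * a' = 1 := hval ha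
    have hb2 : b' * b' = 1 := hval hb
    have hba : a' * b' = b' * a' := hval hc
    have hcl : ∀ y ∈ Subgroup.closure ({a', b', (x : G)} : Set G), y * y = 1 := by
      have hcomm : IsMulCommutative (Subgroup.closure ({a', b', (x : G)} : Set G)) := by
        refine Subgroup.isMulCommutative_closure ?_
        rintro p (rfl | rfl | rfl) q (rfl | rfl | rfl)
        exacts [rfl, hba, hcx _ (a : M).2, hba.symm, rfl, hcx _ (b : M).2, (hcx _ (a : M).2).symm,
          (hcx _ (b : M).2).symm, rfl]
      intro y hy
      induction hy using Subgroup.closure_induction with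
      | mem y hy => rcases hy with rfl | rfl | rfl; exacts [ha2, hb2, hxx]
      | one => exact one_mul 1
      | mul p q hp hq hp2 hq2 =>
        have : q * p = p * q := congrArg Subtype.val (hcomm.is_comm.comm ⟨q, hq⟩ ⟨p, hp⟩)
        rw [mul_assoc, ← mul_assoc q, this, mul_assoc p q, hq2, mul_one, hp2]
      | inv p _ hp2 => rw [← mul_inv_rev, hp2, inv_one]
    have h4 := hG.card_le_four _ hcl
    have hne0 : (x : G) ∉ M := by
      intro hxM
      have hcen : (⟨(x : G), hxM⟩ : M) ∈ Subgroup.center M := Subgroup.mem_center_iff.2 fun y =>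
        Subtype.ext (hcx _ y.2)
      rcases IsSimpleGroup.eq_bot_or_eq_top_of_normal _ (inferInstance :
        (Subgroup.center M).Normal) with h' | h'
      · rw [h', Subgroup.mem_bot] at hcen
        exact Small.ne_one_of_orderOf_two hx' (congrArg Subtype.val hcen)
      · exact hab ⟨⟨fun p q => (Subgroup.mem_center_iff.1 (h' ▸ Subgroup.mem_top p) q).symm⟩⟩
    have h5 : ({1, a', b', a' * b', (x : G)} : Finset G).card = 5 := by
      have h1 : a' ≠ 1 := fun e => ha1 (Subtype.ext (Subtype.ext e))
      have h2 : b' ≠ 1 := fun e => hb1 (Subtype.ext (Subtype.ext e))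
      have h3 : a' ≠ b' := fun e => hab' (Subtype.ext (Subtype.ext e))
      have hm : ∀ y ∈ M, y ≠ (x : G) := fun y hy e => hne0 (e ▸ hy)
      rw [Finset.card_insert_of_notMem, Finset.card_insert_of_notMem,
        Finset.card_insert_of_notMem, Finset.card_insert_of_notMem, Finset.card_singleton]
      · simpa using hm _ (mul_mem (a : M).2 (b : M).2)
      · simp only [Finset.mem_insert, Finset.mem_singleton, not_or]
        exact ⟨fun e => h1 (by simpa using e.symm), hm _ (b : M).2⟩
      · simp only [Finset.mem_insert, Finset.mem_singleton, not_or]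
        exact ⟨h3, fun e => h2 (by simpa using e.symm), hm _ (a : M).2⟩
      · simp only [Finset.mem_insert, Finset.mem_singleton, not_or]
        exact ⟨Ne.symm h1, Ne.symm h2, fun e => h3
          (by rw [eq_inv_of_mul_eq_one_left e.symm, inv_eq_of_mul_eq_one_right hb2]),
          hm _ (one_mem M)⟩
    have hsub : (({1, a', b', a' * b', (x : G)} : Finset G) : Set G) ⊆
        (Subgroup.closure ({a', b', (x : G)} : Set G) : Set G) := by
      intro y hy
      simp only [Finset.coe_insert, Finset.coe_singleton, Set.mem_insert_iff,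
        Set.mem_singleton_iff] at hy
      rcases hy with rfl | rfl | rfl | rfl | rfl
      exacts [one_mem _, Subgroup.subset_closure (by simp), Subgroup.subset_closure (by simp),
        mul_mem (Subgroup.subset_closure (by simp)) (Subgroup.subset_closure (by simp)),
        Subgroup.subset_closure (by simp)]
    have h' := Set.ncard_le_ncard hsub (Set.toFinite _)
    rw [Set.ncard_coe_finset, h5, ← Nat.card_coe_set_eq] at h'
    change 5 ≤ Nat.card (Subgroup.closure ({a', b', (x : G)} : Set G)) at h'
    omega

/-- **The reduction to simple groups.** -/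
theorem known_of_simpleHyp (hG : DihType G) (h : SimpleHyp.{u} (Nat.card G)) : Known G :=
  knownCore_of_simpleHyp (hG.quotient _ (CfsgLib.PLocal.coprime_card_pPrimeCore 2 G))
    (CfsgLib.PLocal.pPrimeCore_quotient_pPrimeCore_eq_bot 2 G)
    (h.mono (Nat.card_le_card_of_surjective _ QuotientGroup.mk_surjective))

end CfsgLib.GW
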