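import Cfsg.Agent.GW.Known
import Cfsg.Agent.SL2Tori.SylowTwo
import Cfsg.Agent.Linear.Basic

/-!
# Involution centralisers in `PSL₂(q)`, `A₇` and `A₄`

`2 |C_L(v)|³ ≤ 11 |L|` for an involution `v` of `L = A₄`, `A₇` or `PSL₂(q)`, `q ≥ 5` odd.
-/

set_option autoImplicit false
set_option linter.style.haveILetI false

namespace CfsgLib.GW

open scoped MatrixGroups

/-- The centraliser of an involution of `PSL₂(q)` has order at most `q + 1`. -/
theorem card_centralizer_psl_le {F : Type*} [Field F] [Fintype F] (hodd : Odd (Fintype.card F))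
    (x : Matrix.ProjectiveSpecialLinearGroup (Fin 2) F) (hx : x * x = 1) (hx1 : x ≠ 1) :
    Nat.card (Subgroup.centralizer ({x} : Set (Matrix.ProjectiveSpecialLinearGroup (Fin 2) F))) ≤
      Fintype.card F + 1 := by
  classical
  have h2 : (2 : F) ≠ 0 := SL2Tori.two_ne_zero_of_odd hodd
  obtain ⟨g, rfl⟩ := QuotientGroup.mk_surjective x
  set Z := Subgroup.center SL(2, F)
  have hZ : ∀ y ∈ Z, y * y = 1 := by
    intro y hy
    obtain ⟨r, hr, hry⟩ := Matrix.SpecialLinearGroup.mem_center_iff.1 hy
    rw [Fintype.card_fin] at hr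
    apply Subtype.ext
    show y.1 * y.1 = 1
    rw [← hry, ← map_mul, ← pow_two, hr, map_one]
  have hgZ : g ∉ Z := fun h => hx1 ((QuotientGroup.eq_one_iff g).2 h)
  have hgg : g * g ∈ Z := (QuotientGroup.eq_one_iff (g * g)).1 hx
  have hsq : g.1 * g.1 = -1 := by
    rcases SL2Tori.eq_one_or_neg_one_of_sq h2 (hZ _ hgg) with h | h
    · exfalso
      rcases SL2Tori.eq_one_or_neg_one_of_sq h2 h with h' | h'
      · exact hgZ (h' ▸ one_mem Z)
      · refine hgZ (Subgroup.mem_center_iff.2 fun y => ?_)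
        rw [h']
        simp
    · simpa using congrArg (fun m : SL(2, F) => m.1) h
  have ht : SL2Tori.tr g ^ 2 ≠ 4 := by
    rw [SL2Tori.trace_eq_zero_of_sq h2 hsq]
    intro h
    exact h2 (pow_eq_zero_iff (n := 2) (by norm_num) |>.1 (by linear_combination -h))
  -- the centraliser of `g`
  have hC : Nat.card (Subgroup.centralizer ({g} : Set SL(2, F))) ≤ Fintype.card F + 1 := by
    by_cases hl : ∃ l : F, l ^ 2 + SL2Tori.tr g * l + 1 = 0
    · obtain ⟨l, hl⟩ := hl
      rw [SL2Tori.card_centralizer_split ht hl]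
      omega
    · push Not at hl
      rw [SL2Tori.card_centralizer_nonsplit ht hl]
  -- the preimage
  set Cx := Subgroup.centralizer ({(QuotientGroup.mk g : SL(2, F) ⧸ Z)} : Set (SL(2, F) ⧸ Z))
  set K := Cx.comap (QuotientGroup.mk' Z)
  have hK : Nat.card K = Nat.card Z * Nat.card Cx := by
    have hi : K.index = Cx.index :=
      Cx.index_comap_of_surjective (QuotientGroup.mk'_surjective Z)
    have h1 := K.card_mul_index
    rw [Subgroup.card_eq_card_quotient_mul_card_subgroup Z, ← Cx.card_mul_index, hi] at h1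
    refine Nat.eq_of_mul_eq_mul_right (Nat.pos_of_ne_zero Cx.index_ne_zero_of_finite) ?_
    linarith
  let s : K → Z := fun h => ⟨(h : SL(2, F)) * g * (h : SL(2, F))⁻¹ * g⁻¹, by
    have hh : (QuotientGroup.mk (h : SL(2, F)) : SL(2, F) ⧸ Z) * QuotientGroup.mk g =
        QuotientGroup.mk g * QuotientGroup.mk (h : SL(2, F)) :=
      Subgroup.mem_centralizer_singleton_iff.1 h.2
    refine (QuotientGroup.eq_one_iff _).1 ?_
    simp only [QuotientGroup.mk_mul, QuotientGroup.mk_inv]
    rw [hh]
    group⟩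
  let rep : Z → K := fun z => if h : ∃ k, s k = z then h.choose else 1
  have hrep : ∀ k, s (rep (s k)) = s k := fun k => by
    have h : ∃ k', s k' = s k := ⟨k, rfl⟩
    simp only [rep, dif_pos h]
    exact h.choose_spec
  have hmem : ∀ k : K, (rep (s k) : SL(2, F))⁻¹ * k ∈ Subgroup.centralizer ({g} : Set SL(2, F)) := by
    intro k
    have h : (rep (s k) : SL(2, F)) * g * (rep (s k) : SL(2, F))⁻¹ * g⁻¹ =
        (k : SL(2, F)) * g * (k : SL(2, F))⁻¹ * g⁻¹ := congrArg Subtype.val (hrep k)
    have h' := mul_right_cancel h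
    rw [Subgroup.mem_centralizer_singleton_iff]
    calc (rep (s k) : SL(2, F))⁻¹ * k * g
        = (rep (s k) : SL(2, F))⁻¹ * ((k : SL(2, F)) * g * (k : SL(2, F))⁻¹) * k := by group
      _ = g * ((rep (s k) : SL(2, F))⁻¹ * k) := by rw [← h']; group
  have hle : Nat.card K ≤ Nat.card (Z × Subgroup.centralizer ({g} : Set SL(2, F))) :=
    Nat.card_le_card_of_injective (fun k => (s k, ⟨_, hmem k⟩)) fun k k' h => by
      obtain ⟨h1, h3⟩ := Prod.mk.injEq _ _ _ _ |>.mp h
      have h4 := congrArg Subtype.val h3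
      simp only [h1] at h4
      exact Subtype.ext (mul_left_cancel h4)
  rw [Nat.card_prod, hK] at hle
  exact le_trans (Nat.le_of_mul_le_mul_left hle Nat.card_pos) hC

theorem card_centralizer_alt_seven_le (x : alternatingGroup (Fin 7)) (hx : orderOf x = 2) :
    Nat.card (Subgroup.centralizer ({x} : Set (alternatingGroup (Fin 7)))) ≤ 24 := by
  classical
  set σ : Equiv.Perm (Fin 7) := (x : Equiv.Perm (Fin 7))
  have hσ : orderOf σ = 2 := (Subgroup.orderOf_coe x).trans hx
  obtain ⟨n, hn⟩ := Equiv.Perm.cycleType_prime_order (hσ.symm ▸ Nat.prime_two)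
  rw [hσ] at hn
  have hsum := σ.sum_cycleType ▸ (Finset.card_le_univ σ.support)
  have hsign : Equiv.Perm.sign σ = 1 := Equiv.Perm.mem_alternatingGroup.1 x.2
  rw [hn, Multiset.sum_replicate, smul_eq_mul, Fintype.card_fin] at hsum
  rw [Equiv.Perm.sign_of_cycleType, hn, Multiset.sum_replicate, Multiset.card_replicate,
    smul_eq_mul] at hsign
  obtain rfl : n = 1 := by
    rcases (show n = 0 ∨ n = 1 ∨ n = 2 by omega) with rfl | rfl | rfl
    · exact absurd hsign (by decide)
    · rfl
    · exact absurd hsign (by decide)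
  -- the centraliser in the symmetric group has order 48
  have h48 : Nat.card (Subgroup.centralizer ({σ} : Set (Equiv.Perm (Fin 7)))) = 48 := by
    rw [Equiv.Perm.nat_card_centralizer, hn]
    decide
  obtain ⟨a, ha⟩ := Finset.nonempty_of_ne_empty (s := σ.support) fun h => by
    rw [Equiv.Perm.support_eq_empty_iff] at h
    rw [h, orderOf_one] at hσ
    omega
  rw [Equiv.Perm.mem_support] at ha
  have hσa : σ (σ a) = a := by
    have h := congrArg (fun p : Equiv.Perm (Fin 7) => p a) (pow_orderOf_eq_one σ)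
    simpa [hσ, pow_two] using h
  set T := Equiv.swap a (σ a)
  have hT : T ∈ Subgroup.centralizer ({σ} : Set (Equiv.Perm (Fin 7))) := by
    rw [Subgroup.mem_centralizer_singleton_iff]
    have h := Equiv.swap_apply_apply σ a (σ a)
    rw [hσa, Equiv.swap_comm] at h
    exact (eq_mul_inv_iff_mul_eq.1 h)
  let f : Subgroup.centralizer ({x} : Set (alternatingGroup (Fin 7))) × Bool →
      Subgroup.centralizer ({σ} : Set (Equiv.Perm (Fin 7))) := fun p =>
    ⟨if p.2 then ((p.1.1 : alternatingGroup (Fin 7)) : Equiv.Perm (Fin 7)) * T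
      else ((p.1.1 : alternatingGroup (Fin 7)) : Equiv.Perm (Fin 7)), by
      have h : ((p.1.1 : alternatingGroup (Fin 7)) : Equiv.Perm (Fin 7)) ∈
          Subgroup.centralizer ({σ} : Set (Equiv.Perm (Fin 7))) :=
        Subgroup.mem_centralizer_singleton_iff.2
          (congrArg Subtype.val (Subgroup.mem_centralizer_singleton_iff.1 p.1.2))
      split_ifs
      exacts [mul_mem h hT, h]⟩
  have hf : Function.Injective f := by
    rintro ⟨⟨p, hp⟩, u⟩ ⟨⟨q, hq⟩, v⟩ h
    have h' := congrArg Subtype.val h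
    have hs := congrArg Equiv.Perm.sign h'
    have hTs : Equiv.Perm.sign T = -1 := Equiv.Perm.sign_swap (Ne.symm ha)
    have hp' := Equiv.Perm.mem_alternatingGroup.1 p.2
    have hq' := Equiv.Perm.mem_alternatingGroup.1 q.2
    cases u <;> cases v <;> simp [f, hTs, hp', hq'] at h' hs ⊢ <;> exact h'
  have := Nat.card_le_card_of_injective f hf
  rw [Nat.card_prod, Nat.card_eq_fintype_card (α := Bool), Fintype.card_bool, h48] at this
  omega

/-- `2 |C(v)|³ ≤ 11 |L|` for an involution `v` of `PSL₂(q)`, `q ≥ 5` odd, or of `A₇`. -/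
theorem cube_centralizer_le {L : Type*} [Group L] (hL : IsPSLOrAltSeven L) (v : L)
    (hv : v * v = 1) (hv1 : v ≠ 1) :
    2 * Nat.card (Subgroup.centralizer ({v} : Set L)) ^ 3 ≤ 11 * Nat.card L := by
  classical
  have key : ∀ {M : Type} [Group M] (e : L ≃* M),
      Nat.card (Subgroup.centralizer ({v} : Set L)) =
        Nat.card (Subgroup.centralizer ({e v} : Set M)) := fun e =>
    Nat.card_congr (e.toEquiv.subtypeEquiv fun y => by
      simp only [Subgroup.mem_centralizer_singleton_iff]
      exact ⟨fun h => by simpa using congrArg e h, fun h => e.injective (by simpa using h)⟩)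
  rcases hL with ⟨F, _, _, hodd, h3, ⟨e⟩⟩ | ⟨⟨e⟩⟩
  · have hc := card_centralizer_psl_le hodd (e v) (by rw [← map_mul, hv, map_one])
      (fun h => hv1 (by simpa using h))
    rw [← key e] at hc
    have hL2 := Linear.card_PSL_two_odd hodd
    rw [← Nat.card_congr e.toEquiv] at hL2
    set q := Fintype.card F
    have hq : 5 ≤ q := by
      obtain ⟨k, hk⟩ := hodd
      omega
    obtain ⟨r, hr⟩ : ∃ r, q ^ 2 = r + 1 := ⟨q ^ 2 - 1, by have := Nat.one_le_pow 2 q (by omega); omega⟩
    rw [hr, Nat.add_sub_cancel] at hL2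
    have hcube : Nat.card (Subgroup.centralizer ({v} : Set L)) ^ 3 ≤ (q + 1) ^ 3 :=
      Nat.pow_le_pow_left hc 3
    nlinarith [hL2, hcube, hq, Nat.mul_le_mul hq hq, hr, Nat.mul_le_mul (Nat.mul_le_mul hq hq) hq]
  · have ho : orderOf (e v) = 2 := by
      rw [MulEquiv.orderOf_eq]
      exact orderOf_eq_prime (by rw [pow_two, hv]) hv1
    have hc := card_centralizer_alt_seven_le (e v) ho
    rw [← key e] at hc
    rw [Nat.card_congr e.toEquiv, nat_card_alternatingGroup, Nat.card_fin]
    have := Nat.pow_le_pow_left hc 3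
    norm_num [Nat.factorial] at this ⊢
    omega

/-- The same for `A₄`. -/
theorem cube_centralizer_alt_four {L : Type*} [Group L]
    (hL : Nonempty (L ≃* alternatingGroup (Fin 4))) (v : L) (hv1 : v ≠ 1) (hv : v * v = 1) :
    2 * Nat.card (Subgroup.centralizer ({v} : Set L)) ^ 3 ≤ 11 * Nat.card L := by
  classical
  obtain ⟨e⟩ := hL
  have h : ∀ w : alternatingGroup (Fin 4), w ≠ 1 → w * w = 1 →
      (Finset.univ.filter fun y => y * w = w * y).card = 4 := by decide +kernel
  have hc : Nat.card (Subgroup.centralizer ({v} : Set L)) = 4 := by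
    rw [← h (e v) (fun h' => hv1 (by simpa using h')) (by rw [← map_mul, hv, map_one]),
      ← Fintype.card_coe, ← Nat.card_eq_fintype_card]
    refine Nat.card_congr (e.toEquiv.subtypeEquiv fun y => ?_)
    simp only [Subgroup.mem_centralizer_singleton_iff, Finset.mem_filter, Finset.mem_univ, true_and]
    exact ⟨fun h => by simpa using congrArg e h, fun h => e.injective (by simpa using h)⟩
  rw [hc, Nat.card_congr e.toEquiv, nat_card_alternatingGroup, Nat.card_fin]
  decide

end CfsgLib.GW
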