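import Cfsg.Agent.GW.Orders
import Cfsg.Agent.GW.InvolutionBound
import Cfsg.Agent.S0253
import Cfsg.Agent.S0493
import Cfsg.Agent.S0494

/-!
# Gorenstein–Walter: no maximal overgroup of `C(z)` with one class of involutions

If `M ⊋ C(z)` is maximal and all its involutions are conjugate in `M`, then with `O = O(M)` the
quotient `M/O` is `A₄` or has a normal `PSL₂(q)` or `A₇` with trivial centraliser; the four-group formula
`|O| |C_O(V)|² = |C_O(z)|³` turns this into `2 |C(z)|³ ≤ 11 |M| |W|²`, so with the order formula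
`16 |G| |W|² ≤ 15 |C(z)|³` the index of `M` is at most five and `G` would have order 60.
-/

set_option autoImplicit false
set_option linter.style.haveILetI false
set_option linter.unusedSectionVars false

open Subgroup

namespace CfsgLib.GW

universe u

section Quotient

variable {X : Type*} [Group X] [Finite X]

/-- Conjugate elements have fixed subgroups of equal order on a normal subgroup. -/
theorem card_inf_centralizer_conj (O : Subgroup X) [O.Normal] {a a' g : X} (h : g * a * g⁻¹ = a') :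
    Nat.card (O ⊓ centralizer ({a} : Set X) : Subgroup X) =
      Nat.card (O ⊓ centralizer ({a'} : Set X) : Subgroup X) := by
  refine Nat.card_congr
    { toFun := fun y => ⟨g * y * g⁻¹, (inferInstance : O.Normal).conj_mem _ y.2.1 g, ?_⟩
      invFun := fun y => ⟨g⁻¹ * y * g, by simpa using (inferInstance : O.Normal).conj_mem _ y.2.1 g⁻¹, ?_⟩
      left_inv := fun y => Subtype.ext (by simp [mul_assoc])
      right_inv := fun y => Subtype.ext (by simp [mul_assoc]) }
  · refine mem_centralizer_singleton_iff.2 ?_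
    have hy := mem_centralizer_singleton_iff.1 y.2.2
    subst h
    calc g * y * g⁻¹ * (g * a * g⁻¹) = g * ((y : X) * a) * g⁻¹ := by group
      _ = g * (a * y) * g⁻¹ := by rw [hy]
      _ = g * a * g⁻¹ * (g * y * g⁻¹) := by group
  · refine mem_centralizer_singleton_iff.2 ?_
    have hy := mem_centralizer_singleton_iff.1 y.2.2
    subst h
    calc g⁻¹ * y * g * a = g⁻¹ * ((y : X) * (g * a * g⁻¹)) * g := by group
      _ = g⁻¹ * (g * a * g⁻¹ * y) * g := by rw [hy]
      _ = a * (g⁻¹ * y * g) := by group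

/-- Fixed points of a four-group whose involutions are conjugate. -/
theorem four_fixed_formula (O : Subgroup X) [O.Normal] (hO : Odd (Nat.card O)) {z b g₁ g₂ : X}
    (hz : z * z = 1) (hb : b * b = 1)
    (hzb : z * b = b * z) (h₁ : g₁ * z * g₁⁻¹ = b) (h₂ : g₂ * z * g₂⁻¹ = z * b) :
    Nat.card O * Nat.card (O ⊓ centralizer ({z, b} : Set X) : Subgroup X) ^ 2 =
      Nat.card (O ⊓ centralizer ({z} : Set X) : Subgroup X) ^ 3 := by
  have hn : ∀ x : X, x ∈ normalizer (O : Set X) := fun x => by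
    rw [normalizer_eq_top]
    exact mem_top x
  have h := FourFixed.card_mul_centralizer_sq hO hz hb hzb (hn z) (hn b)
  have he : O ⊓ centralizer ({z} : Set X) ⊓ centralizer ({b} : Set X) =
      O ⊓ centralizer ({z, b} : Set X) := by
    rw [inf_assoc]
    congr 1
    ext x
    simp [mem_centralizer_iff]
  rw [he, ← card_inf_centralizer_conj O h₁, ← card_inf_centralizer_conj O h₂] at h
  rw [h]
  ring

/-- The centraliser of `z` in a subgroup `K ≥ O` is at most the centraliser on `O` times the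
centraliser of the image. -/
theorem card_centralizer_le_mul (O K : Subgroup X) [O.Normal] (z : X)
    (hzK : (QuotientGroup.mk' O) z ∈ K.map (QuotientGroup.mk' O)) :
    Nat.card (K ⊓ centralizer ({z} : Set X) : Subgroup X) ≤
      Nat.card (O ⊓ centralizer ({z} : Set X) : Subgroup X) *
        Nat.card (centralizer ({⟨_, hzK⟩} : Set (K.map (QuotientGroup.mk' O)))) := by
  classical
  set π := QuotientGroup.mk' O
  set A := K ⊓ centralizer ({z} : Set X)
  let f : A →* (K.map π) := (π.comp A.subtype).codRestrict _ fun a => ⟨a, a.2.1, rfl⟩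
  have h1 := f.ker.card_mul_index
  rw [index_ker] at h1
  rw [← h1]
  refine Nat.mul_le_mul ?_ ?_
  · refine Nat.card_le_card_of_injective (fun a => ⟨((a.1 : A) : X), ?_, a.1.2.2⟩) fun a a' h =>
      Subtype.ext (Subtype.ext (congrArg (fun y : (O ⊓ centralizer ({z} : Set X) : Subgroup X) =>
        (y : X)) h))
    have := congrArg Subtype.val (MonoidHom.mem_ker.1 a.2)
    exact (QuotientGroup.eq_one_iff _).1 this
  · refine card_le_of_le ?_
    rintro _ ⟨a, rfl⟩
    exact mem_centralizer_singleton_iff.2 (Subtype.ext (by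
      have := congrArg π (mem_centralizer_singleton_iff.1 a.2.2)
      show π (a : X) * π z = π z * π (a : X)
      simpa using this))

end Quotient

namespace Minimal

variable {G : Type u} [Group G] [Finite G] (hG : Minimal G)
include hG

/-- `|C(z)|` is controlled by a normal subgroup of `M` containing its involutions. -/
theorem card_centralizer_mul_le {z b : G} (hz : orderOf z = 2) (hb : orderOf b = 2)
    (hzb : z * b = b * z) {M : Subgroup G} (hCM : centralizer ({z} : Set G) ≤ M) (N : Subgroup ↥M)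
    [N.Normal] (hinv : ∀ a : ↥M, orderOf a = 2 → a ∈ N) :
    Nat.card (centralizer ({z} : Set G)) * Nat.card ((fix z b).subgroupOf M ⊓ N : Subgroup ↥M) ≤
        Nat.card (N ⊓ (centralizer ({z} : Set G)).subgroupOf M : Subgroup ↥M) *
          Nat.card (fix z b) ∧
      Nat.card (fix z b) * Nat.card N ≤
        Nat.card ((fix z b).subgroupOf M ⊓ N : Subgroup ↥M) * Nat.card M := by
  classical
  set C := centralizer ({z} : Set G)
  set W := fix z b
  set C' := C.subgroupOf M
  set W' := W.subgroupOf M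
  have hWC : W ≤ C := (fix_le_core z b).trans (core_le z)
  have hcW : Nat.card W' = Nat.card W :=
    Nat.card_congr (subgroupOfEquivOfLe (hWC.trans hCM)).toEquiv
  refine ⟨?_, ?_⟩
  · -- every element of `C(z)` is one of `N ∩ C(z)` times one of `W`
    set C₁ := N ⊓ C'
    have hbC : b ∈ C := mem_centralizer_singleton_iff.2 hzb.symm
    obtain ⟨S, hzS, hS⟩ := hG.exists_sylow hz
    have hSC : (S : Subgroup G) ≤ C := hG.sylow_le hS
    have hbb := Small.mul_self_of_orderOf_two hb
    have hsN : ∀ s (hs : s ∈ (S : Subgroup G)), (⟨s, hCM (hSC hs)⟩ : ↥M) ∈ N := by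
      intro s hs
      obtain ⟨n, hn, ⟨e⟩⟩ := hG.dih S
      have hone : ∀ w : (S : Subgroup G), w * w = 1 →
          (⟨(w : G), hCM (hSC w.2)⟩ : ↥M) ∈ N := fun w hw => by
        by_cases hw1 : w = 1
        · subst hw1
          exact one_mem N
        · exact hinv _ (orderOf_eq_prime (by rw [pow_two]; exact Subtype.ext (congrArg
            (fun v : (S : Subgroup G) => (v : G)) hw)) fun h => hw1 (Subtype.ext (congrArg
              (fun v : ↥M => (v : G)) h)))
      have hd : ∀ d : DihedralGroup n, ∃ u v : DihedralGroup n, u * u = 1 ∧ v * v = 1 ∧ d = u * v := by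
        rintro (i | i)
        · exact ⟨.sr 0, .sr i, by simp, by simp, by simp⟩
        · exact ⟨.sr i, 1, by simp, by simp, by simp⟩
      obtain ⟨u, v, hu, hv, huv⟩ := hd (e ⟨s, hs⟩)
      have := mul_mem (hone (e.symm u) (by rw [← map_mul, hu, map_one]))
        (hone (e.symm v) (by rw [← map_mul, hv, map_one]))
      convert this using 1
      apply Subtype.ext
      have h' : (⟨s, hs⟩ : (S : Subgroup G)) = e.symm u * e.symm v := by
        rw [← map_mul, ← huv, e.symm_apply_apply]
      exact congrArg (fun v : (S : Subgroup G) => (v : G)) h'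
    have hcov : ∀ c : C', ∃ (x : C₁) (w : W'), (c : ↥M) = (x : ↥M) * w := by
      rintro ⟨⟨c, hcM⟩, hc⟩
      obtain ⟨k, hk, s, hs, rfl⟩ := hG.decomp hz hS (mem_subgroupOf.1 hc)
      set a := k * b * k⁻¹ * b with ha
      have hbk : b * k * b⁻¹ ∈ core z := core_conj hbC hk
      have hbinv : b⁻¹ = b := inv_eq_of_mul_eq_one_right hbb
      have hak : a ∈ core z := by
        rw [ha, show k * b * k⁻¹ * b = k * (b * k⁻¹ * b) by group]
        refine mul_mem hk ?_
        have := core_conj hbC (inv_mem hk)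
        rwa [hbinv] at this
      have hbab : b * a * b = a⁻¹ := by
        rw [ha, mul_inv_rev, mul_inv_rev, mul_inv_rev, inv_inv, hbinv]
        calc b * (k * b * k⁻¹ * b) * b = b * k * b * k⁻¹ * (b * b) := by group
          _ = b * (k * (b * k⁻¹)) := by rw [hbb]; group
      obtain ⟨j, hj⟩ := odd_orderOf_core hak
      set y := a ^ (j + 1) with hy
      have hy2 : y * y = a := by
        rw [hy, ← pow_add, show j + 1 + (j + 1) = orderOf a + 1 by omega, pow_succ,
          pow_orderOf_eq_one, one_mul]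
      have hbyb : b * y * b = y⁻¹ := by
        have h := conj_pow (a := b) (b := a) (i := j + 1)
        rw [hbinv, hbab] at h
        rw [hy, ← inv_pow, h]
      have hyb : y * b * y⁻¹ = k * b * k⁻¹ := by
        calc y * b * y⁻¹ = y * b * (b * y * b) := by rw [hbyb]
          _ = y * (b * b) * y * b := by group
          _ = y * y * b := by rw [hbb, mul_one]
          _ = k * b * k⁻¹ * (b * b) := by rw [hy2, ha]; group
          _ = k * b * k⁻¹ := by rw [hbb, mul_one]
      have hyk : y ∈ core z := pow_mem hak _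
      have hwW : y⁻¹ * k ∈ W := mem_inf.2 ⟨(mul_mem (inv_mem hyk) hk : y⁻¹ * k ∈ core z),
          mem_centralizer_singleton_iff.2 (by
        calc y⁻¹ * k * b = y⁻¹ * (k * b * k⁻¹) * k := by group
          _ = y⁻¹ * (y * b * y⁻¹) * k := by rw [hyb]
          _ = b * (y⁻¹ * k) := by group)⟩
      have hkC : k ∈ C := core_le z hk
      have hsC : s ∈ C := hSC hs
      set w := y⁻¹ * k with hw
      have hwC : w ∈ C := hWC hwW
      set kM : ↥M := ⟨k, hCM hkC⟩
      set bM : ↥M := ⟨b, hCM hbC⟩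
      have hbN : bM ∈ N := hinv _ (by rw [← orderOf_coe]; exact hb)
      have haN : (⟨a, hCM (core_le z hak)⟩ : ↥M) ∈ N := by
        have h := mul_mem ((inferInstance : N.Normal).conj_mem bM hbN kM) hbN
        convert h using 1
        exact Subtype.ext rfl
      have hyN : (⟨y, hCM (core_le z hyk)⟩ : ↥M) ∈ N := by
        have h := pow_mem haN (j + 1)
        convert h using 1
        exact Subtype.ext rfl
      have hxN : (⟨y * (w * s * w⁻¹), hCM (mul_mem (core_le z hyk)
          (mul_mem (mul_mem hwC hsC) (inv_mem hwC)))⟩ : ↥M) ∈ N := by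
        have h := mul_mem hyN ((inferInstance : N.Normal).conj_mem _ (hsN s hs) ⟨w, hCM hwC⟩)
        convert h using 1
        exact Subtype.ext rfl
      refine ⟨⟨_, hxN, mem_subgroupOf.2 (mul_mem (core_le z hyk)
        (mul_mem (mul_mem hwC hsC) (inv_mem hwC)))⟩, ⟨⟨w, hCM hwC⟩, mem_subgroupOf.2 hwW⟩, ?_⟩
      apply Subtype.ext
      show k * s = y * (w * s * w⁻¹) * w
      rw [hw]
      group
    choose fx fw hfe using hcov
    let F : C' × (W' ⊓ N : Subgroup ↥M) → C₁ × W' := fun p =>
      (⟨(fx p.1 : ↥M) * (p.2 : ↥M), mul_mem (fx p.1).2 ⟨p.2.2.2, mem_subgroupOf.2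
        (hWC (mem_subgroupOf.1 p.2.2.1))⟩⟩, ⟨(p.2 : ↥M)⁻¹ * (fw p.1 : ↥M),
        mul_mem (inv_mem p.2.2.1) (fw p.1).2⟩)
    have hF : Function.Injective F := by
      intro p q h
      obtain ⟨h1, h2⟩ := Prod.mk.injEq _ _ _ _ |>.mp h
      replace h1 := congrArg Subtype.val h1
      replace h2 := congrArg Subtype.val h2
      have hc : (p.1 : ↥M) = q.1 := by
        rw [hfe p.1, hfe q.1]
        calc (fx p.1 : ↥M) * fw p.1
            = (fx p.1 : ↥M) * p.2 * ((p.2 : ↥M)⁻¹ * fw p.1) := by group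
          _ = (fx q.1 : ↥M) * q.2 * ((q.2 : ↥M)⁻¹ * fw q.1) := by
              simp only at h1 h2
              rw [h1, h2]
          _ = _ := by group
      have hc' : p.1 = q.1 := Subtype.ext hc
      refine Prod.ext hc' (Subtype.ext ?_)
      simp only [hc'] at h1
      exact mul_left_cancel h1
    have hle := Nat.card_le_card_of_injective F hF
    rwa [Nat.card_prod, Nat.card_prod, hcW,
      Nat.card_congr (subgroupOfEquivOfLe hCM).toEquiv] at hle
  · have h := relIndex_inf_mul_relIndex (⊥ : Subgroup ↥M) W' N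
    have h1 := (W' ⊓ N).card_mul_index
    have h2 : (W' ⊓ N).index ≤ W'.index * N.index := index_inf_le
    have h3 := W'.card_mul_index
    have h4 := N.card_mul_index
    rw [hcW] at h3
    refine Nat.le_of_mul_le_mul_right (c := W'.index * N.index) ?_
      (Nat.pos_of_ne_zero (mul_ne_zero index_ne_zero_of_finite index_ne_zero_of_finite))
    calc Nat.card W * Nat.card N * (W'.index * N.index)
        = Nat.card W * W'.index * (Nat.card N * N.index) := by ring
      _ = Nat.card M * Nat.card M := by rw [h3, h4]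
      _ = Nat.card M * (Nat.card (W' ⊓ N : Subgroup ↥M) * (W' ⊓ N).index) := by rw [h1]
      _ ≤ Nat.card M * (Nat.card (W' ⊓ N : Subgroup ↥M) * (W'.index * N.index)) := by gcongr
      _ = _ := by ring

/-- The centraliser bound from a normal subgroup of the quotient containing all involutions. -/
theorem cube_bound {z b : G} (hz : orderOf z = 2) (hb : orderOf b = 2) (hne : z ≠ b)
    (hzb : z * b = b * z) {M : Subgroup G} (hCM : centralizer ({z} : Set G) ≤ M)
    (h1 : ∀ a c, a ∈ M → c ∈ M → orderOf a = 2 → orderOf c = 2 → ∃ m ∈ M, m * a * m⁻¹ = c)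
    (L : Subgroup (↥M ⧸ Cfsg.oddCore ↥M)) [L.Normal] (hev : 2 ∣ Nat.card L)
    (hL : ∀ v : L, v * v = 1 → v ≠ 1 →
      2 * Nat.card (centralizer ({v} : Set L)) ^ 3 ≤ 11 * Nat.card L) :
    2 * Nat.card (centralizer ({z} : Set G)) ^ 3 ≤ 11 * Nat.card M * Nat.card (fix z b) ^ 2 := by
  classical
  haveI : Fact (Nat.Prime 2) := ⟨Nat.prime_two⟩
  set O := Cfsg.oddCore ↥M
  set π := QuotientGroup.mk' O
  set N := L.comap π
  have hO : Odd (Nat.card O) := ExtremelyClosed.odd_card_oddCore' _
  -- all involutions lie in `N`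
  have hNev : 2 ∣ Nat.card N := by
    refine hev.trans ?_
    have h := Subgroup.card_map_dvd (H := N) π
    rwa [Subgroup.map_comap_eq_self_of_surjective (QuotientGroup.mk'_surjective O)] at h
  obtain ⟨i, hi⟩ := exists_prime_orderOf_dvd_card' 2 hNev
  have hinv : ∀ a : ↥M, orderOf a = 2 → a ∈ N := by
    intro a ha
    obtain ⟨m, hm, hma⟩ := h1 ((i : ↥M) : G) (a : G) (i : ↥M).2 a.2
      (by rw [orderOf_coe, orderOf_coe, hi]) (by rw [orderOf_coe, ha])
    have h := (inferInstance : N.Normal).conj_mem _ i.2 ⟨m, hm⟩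
    convert h using 1
    exact Subtype.ext hma.symm
  set z' : ↥M := ⟨z, hCM (mem_centralizer_singleton_iff.2 rfl)⟩ with hz'
  set b' : ↥M := ⟨b, hCM (mem_centralizer_singleton_iff.2 hzb.symm)⟩ with hb'
  have hzo : orderOf z' = 2 := by rw [← orderOf_coe, hz]
  have hbo : orderOf b' = 2 := by rw [← orderOf_coe, hb]
  have hzz := Small.mul_self_of_orderOf_two hzo
  have hbb := Small.mul_self_of_orderOf_two hbo
  have hne' : z' ≠ b' := fun h => hne (congrArg Subtype.val h)
  have hzb' : z' * b' = b' * z' := Subtype.ext hzb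
  have hcyc : orderOf (z * b) = 2 := by
    refine orderOf_eq_prime ?_ fun h => hne ?_
    · rw [(Commute.mul_pow hzb 2), pow_two, pow_two, Small.mul_self_of_orderOf_two hz,
        Small.mul_self_of_orderOf_two hb, one_mul]
    · rw [← inv_eq_of_mul_eq_one_left h,
        inv_eq_of_mul_eq_one_right (Small.mul_self_of_orderOf_two hb)]
  obtain ⟨m₁, hm₁, e₁⟩ := h1 z b z'.2 b'.2 hz hb
  obtain ⟨m₂, hm₂, e₂⟩ := h1 z (z * b) z'.2 (mul_mem z'.2 b'.2) hz hcyc
  have hW := four_fixed_formula O hO hzz hbb hzb' (g₁ := ⟨m₁, hm₁⟩) (g₂ := ⟨m₂, hm₂⟩)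
    (Subtype.ext e₁) (Subtype.ext e₂)
  obtain ⟨hA, hB⟩ := hG.card_centralizer_mul_le hz hb hzb hCM N hinv
  have hCsub : (centralizer ({z} : Set G)).subgroupOf M = centralizer ({z'} : Set ↥M) := by
    ext x
    simp only [mem_subgroupOf, mem_centralizer_singleton_iff, Subtype.ext_iff]
    rfl
  rw [hCsub] at hA
  have hzN : π z' ∈ N.map π := ⟨z', hinv _ hzo, rfl⟩
  have hC1 := card_centralizer_le_mul O N z' hzN
  set v : N.map π := ⟨π z', hzN⟩
  have hv2 : v * v = 1 := Subtype.ext (by show π z' * π z' = 1; rw [← map_mul, hzz, map_one])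
  have hv1 : v ≠ 1 := by
    intro h
    have hmem := (QuotientGroup.eq_one_iff z').1 (congrArg Subtype.val h)
    exact (by decide : ¬ Odd 2) (hzo ▸ hO.of_dvd_nat (O.orderOf_dvd_natCard hmem))
  have hNL : N.map π = L := Subgroup.map_comap_eq_self_of_surjective (QuotientGroup.mk'_surjective O) L
  have hLN : ∀ w : N.map π, w * w = 1 → w ≠ 1 →
      2 * Nat.card (centralizer ({w} : Set (N.map π))) ^ 3 ≤ 11 * Nat.card (N.map π) := by
    rw [hNL]
    exact hL
  have hcardN : Nat.card O * Nat.card (N.map π) = Nat.card N := by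
    have hOle : O ≤ N := by
      intro x hx
      rw [mem_comap, QuotientGroup.mk'_apply, (QuotientGroup.eq_one_iff x).2 hx]
      exact one_mem L
    let f : N →* N.map π := π.subgroupMap N
    have h := f.ker.card_mul_index
    rw [index_ker, MonoidHom.range_eq_top.2 (π.subgroupMap_surjective N), card_top] at h
    rw [← h]
    congr 1
    refine Nat.card_congr
      { toFun := fun x => ⟨⟨x, hOle x.2⟩, MonoidHom.mem_ker.2 (Subtype.ext ((QuotientGroup.eq_one_iff _).2 x.2))⟩
        invFun := fun x => ⟨x.1.1, (QuotientGroup.eq_one_iff _).1 (congrArg Subtype.val (MonoidHom.mem_ker.1 x.2))⟩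
        left_inv := fun x => rfl
        right_inv := fun x => rfl }
  have hle0 : Nat.card (O ⊓ centralizer ({z', b'} : Set ↥M) : Subgroup ↥M) ≤
      Nat.card ((fix z b).subgroupOf M ⊓ N : Subgroup ↥M) := by
    refine card_le_of_le fun x hx => ?_
    obtain ⟨hxO, hxc⟩ := mem_inf.1 hx
    refine mem_inf.2 ⟨mem_subgroupOf.2 ((hG.mem_fix hz).2 ⟨?_, ?_, ?_⟩), ?_⟩
    · exact congrArg Subtype.val (mem_centralizer_iff.1 hxc z' (by simp)).symm
    · exact congrArg Subtype.val (mem_centralizer_iff.1 hxc b' (by simp)).symm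
    · rw [orderOf_coe]
      exact hO.of_dvd_nat (O.orderOf_dvd_natCard hxO)
    · rw [mem_comap, QuotientGroup.mk'_apply, (QuotientGroup.eq_one_iff x).2 hxO]
      exact one_mem L
  -- the arithmetic
  have hbd := hLN v hv2 hv1
  set c := Nat.card (centralizer ({z} : Set G))
  set w := Nat.card (fix z b)
  set w₁ := Nat.card ((fix z b).subgroupOf M ⊓ N : Subgroup ↥M)
  set c₁ := Nat.card (N ⊓ centralizer ({z'} : Set ↥M) : Subgroup ↥M)
  set o := Nat.card O
  set cO := Nat.card (O ⊓ centralizer ({z'} : Set ↥M) : Subgroup ↥M)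
  set w₀ := Nat.card (O ⊓ centralizer ({z', b'} : Set ↥M) : Subgroup ↥M)
  set l := Nat.card (centralizer ({v} : Set (N.map π)))
  set lN := Nat.card (N.map π)
  have hw₁ : 0 < w₁ := Nat.card_pos
  have e1 : 2 * c₁ ^ 3 ≤ 11 * Nat.card N * w₁ ^ 2 := by
    calc 2 * c₁ ^ 3 ≤ 2 * (cO * l) ^ 3 := by gcongr
      _ = cO ^ 3 * (2 * l ^ 3) := by ring
      _ ≤ cO ^ 3 * (11 * lN) := by gcongr
      _ = 11 * (o * lN) * w₀ ^ 2 := by rw [← hW]; ring
      _ ≤ 11 * Nat.card N * w₁ ^ 2 := by rw [hcardN]; gcongr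
  refine Nat.le_of_mul_le_mul_right (c := w₁ ^ 3) ?_ (pow_pos hw₁ 3)
  calc 2 * c ^ 3 * w₁ ^ 3 = 2 * (c * w₁) ^ 3 := by ring
    _ ≤ 2 * (c₁ * w) ^ 3 := by gcongr
    _ = (2 * c₁ ^ 3) * w ^ 3 := by ring
    _ ≤ 11 * Nat.card N * w₁ ^ 2 * w ^ 3 := by gcongr
    _ = 11 * (w * Nat.card N) * (w₁ ^ 2 * w ^ 2) := by ring
    _ ≤ 11 * (w₁ * Nat.card M) * (w₁ ^ 2 * w ^ 2) := by gcongr
    _ = _ := by ring

/-- A maximal overgroup with one class of involutions satisfies `2 |C|³ ≤ 11 |M| |W|²`. -/
theorem one_class_bound {z b : G} (hz : orderOf z = 2) (hb : orderOf b = 2) (hne : z ≠ b)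
    (hzb : z * b = b * z) {M : Subgroup G} (hM : M ≠ ⊤) (hCM : centralizer ({z} : Set G) ≤ M)
    (h1 : ∀ a c, a ∈ M → c ∈ M → orderOf a = 2 → orderOf c = 2 → ∃ m ∈ M, m * a * m⁻¹ = c) :
    2 * Nat.card (centralizer ({z} : Set G)) ^ 3 ≤ 11 * Nat.card M * Nat.card (fix z b) ^ 2 := by
  classical
  haveI : Fact (Nat.Prime 2) := ⟨Nat.prime_two⟩
  set O := Cfsg.oddCore ↥M
  have hO : Odd (Nat.card O) := ExtremelyClosed.odd_card_oddCore' _
  have hzM : z ∈ M := hCM (mem_centralizer_singleton_iff.2 rfl)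
  have hbM : b ∈ M := hCM (mem_centralizer_singleton_iff.2 hzb.symm)
  -- involutions of the quotient are conjugate
  have hconj : ∀ p q : ↥M ⧸ O, orderOf p = 2 → orderOf q = 2 → IsConj p q := by
    have hlift : ∀ p : ↥M ⧸ O, orderOf p = 2 → ∃ a : ↥M, orderOf a = 2 ∧ QuotientGroup.mk a = p := by
      intro p hp
      obtain ⟨y, rfl⟩ := QuotientGroup.mk_surjective p
      have hy : y * y ∈ O := by
        rw [← QuotientGroup.eq_one_iff, QuotientGroup.mk_mul]
        exact Small.mul_self_of_orderOf_two hp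
      obtain ⟨j, hj⟩ := hO.of_dvd_nat (O.orderOf_dvd_natCard hy)
      refine ⟨y ^ (2 * j + 1), ?_, ?_⟩
      · refine orderOf_eq_prime ?_ fun h => ?_
        · rw [← pow_mul, mul_comm, pow_mul, pow_two, ← hj, pow_orderOf_eq_one]
        · have h' := congrArg (QuotientGroup.mk (s := O)) h
          rw [QuotientGroup.mk_pow, pow_succ, pow_mul, pow_two, Small.mul_self_of_orderOf_two hp,
            one_pow, one_mul, QuotientGroup.mk_one] at h'
          rw [h', orderOf_one] at hp
          omega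
      · rw [QuotientGroup.mk_pow, pow_succ, pow_mul, pow_two, Small.mul_self_of_orderOf_two hp,
          one_pow, one_mul]
    intro p q hp hq
    obtain ⟨a, ha, rfl⟩ := hlift p hp
    obtain ⟨c, hc, rfl⟩ := hlift q hq
    obtain ⟨m, hm, hmac⟩ := h1 a c a.2 c.2 (by rw [orderOf_coe, ha]) (by rw [orderOf_coe, hc])
    refine isConj_iff.2 ⟨QuotientGroup.mk ⟨m, hm⟩, ?_⟩
    rw [← QuotientGroup.mk_inv, ← QuotientGroup.mk_mul, ← QuotientGroup.mk_mul]
    exact congrArg QuotientGroup.mk (Subtype.ext hmac)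
  rcases hG.known M hM with hp | hA4 | hS4 | ⟨L, hLn, hL, -⟩
  · -- a 2-group quotient
    exfalso
    obtain ⟨S, hzS, hS⟩ := hG.exists_sylow hz
    have hSM : (S : Subgroup G) ≤ M := (hG.sylow_le hS).trans hCM
    set z' : ↥M := ⟨z, hzM⟩
    set b' : ↥M := ⟨b, hbM⟩
    have htop : O ⊔ (S.subtype hSM : Subgroup ↥M) = ⊤ := by
      obtain ⟨k, hk⟩ := IsPGroup.iff_card.1 hp
      exact sup_eq_top_of_index _ _ (k := k) (by rw [index_eq_card]; exact hk)
        (Sylow.not_dvd_index _)
    have hcent : ∀ q : ↥M ⧸ O, q * QuotientGroup.mk z' = QuotientGroup.mk z' * q := by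
      intro q
      obtain ⟨y, rfl⟩ := QuotientGroup.mk_surjective q
      obtain ⟨o, ho, s, hs, rfl⟩ := mem_sup_of_normal_left.1 (htop ▸ mem_top y)
      have hc : s * z' = z' * s := Subtype.ext (hS _ (mem_subgroupOf.1 hs))
      rw [QuotientGroup.mk_mul, (QuotientGroup.eq_one_iff o).2 ho, one_mul, ← QuotientGroup.mk_mul,
        ← QuotientGroup.mk_mul, hc]
    have hord : ∀ a : ↥M, orderOf a = 2 → orderOf (QuotientGroup.mk a : ↥M ⧸ O) = 2 := fun a ha => by
      refine orderOf_eq_prime ?_ fun h => ?_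
      · rw [pow_two, ← QuotientGroup.mk_mul, Small.mul_self_of_orderOf_two ha, QuotientGroup.mk_one]
      · exact (by decide : ¬ Odd 2) (ha ▸ hO.of_dvd_nat (O.orderOf_dvd_natCard
          ((QuotientGroup.eq_one_iff a).1 h)))
    have hz' : orderOf z' = 2 := by rw [← orderOf_coe, hz]
    have hb' : orderOf b' = 2 := by rw [← orderOf_coe, hb]
    obtain ⟨q, hq⟩ := isConj_iff.1 (hconj _ _ (hord z' hz') (hord b' hb'))
    rw [hcent q, mul_inv_cancel_right] at hq
    have hzbO : z' * b' ∈ O := by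
      rw [← QuotientGroup.eq_one_iff, QuotientGroup.mk_mul, ← hq,
        Small.mul_self_of_orderOf_two (hord z' hz')]
    have hne' : z' * b' ≠ 1 := fun h => hne (congrArg Subtype.val (show z' = b' by
      rw [← inv_eq_of_mul_eq_one_left h, inv_eq_of_mul_eq_one_right (Small.mul_self_of_orderOf_two hb')]))
    have h2 : orderOf (z' * b') = 2 := orderOf_eq_prime (by
      rw [Commute.mul_pow (show Commute z' b' from Subtype.ext hzb) 2, pow_two, pow_two,
        Small.mul_self_of_orderOf_two hz', Small.mul_self_of_orderOf_two hb', one_mul]) hne'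
    exact (by decide : ¬ Odd 2) (h2 ▸ hO.of_dvd_nat (O.orderOf_dvd_natCard hzbO))
  · refine hG.cube_bound hz hb hne hzb hCM h1 ⊤ ?_ fun v hv hv1 =>
      cube_centralizer_alt_four ⟨Subgroup.topEquiv.trans hA4.some⟩ v hv1 hv
    rw [card_top, Nat.card_congr hA4.some.toEquiv, nat_card_alternatingGroup, Nat.card_fin]
    decide
  · -- two classes in `S₄`
    exfalso
    obtain ⟨e⟩ := hS4
    set p : Equiv.Perm (Fin 4) := Equiv.swap 0 1
    set q : Equiv.Perm (Fin 4) := Equiv.swap 0 1 * Equiv.swap 2 3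
    have h := hconj (e.symm p) (e.symm q) (by rw [MulEquiv.orderOf_eq]; exact orderOf_eq_prime (by decide) (by decide))
      (by rw [MulEquiv.orderOf_eq]; exact orderOf_eq_prime (by decide) (by decide))
    obtain ⟨c, hc⟩ := isConj_iff.1 h
    have hc' := congrArg (fun y => Equiv.Perm.sign (e y)) hc
    simp [p, q, mul_comm] at hc'
  · haveI := hLn
    refine hG.cube_bound hz hb hne hzb hCM h1 L ?_ fun v hv hv1 => cube_centralizer_le hL v hv hv1
    rcases hL with ⟨F, _, _, hodd, h3, ⟨e⟩⟩ | ⟨⟨e⟩⟩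
    · have h2 := Linear.card_PSL_two_odd hodd
      rw [← Nat.card_congr e.toEquiv] at h2
      obtain ⟨k, hk⟩ := hodd
      rw [hk] at h2
      have h4 : (2 * k + 1) ^ 2 - 1 = 4 * (k * (k + 1)) := Nat.sub_eq_of_eq_add (by ring)
      rw [h4] at h2
      exact ⟨(2 * k + 1) * (k * (k + 1)), by linarith⟩
    · rw [Nat.card_congr e.toEquiv, nat_card_alternatingGroup, Nat.card_fin]
      decide

/-- No maximal overgroup of `C(z)` has one class of involutions, given the order bound. -/
theorem not_one_class_of_order {z b : G} (hz : orderOf z = 2) (hb : orderOf b = 2) (hne : z ≠ b)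
    (hzb : z * b = b * z)
    (hord : 16 * Nat.card G * Nat.card (fix z b) ^ 2 ≤ 15 * Nat.card (centralizer ({z} : Set G)) ^ 3)
    {M : Subgroup G} (hM : M ≠ ⊤) (hCM : centralizer ({z} : Set G) ≤ M)
    (h1 : ∀ a c, a ∈ M → c ∈ M → orderOf a = 2 → orderOf c = 2 → ∃ m ∈ M, m * a * m⁻¹ = c) :
    False := by
  haveI := hG.simple
  have hbd := hG.one_class_bound hz hb hne hzb hM hCM h1
  rw [← M.card_mul_index] at hord
  have h5 : M.index ≤ 5 := by
    by_contra h
    have h6 : 6 ≤ M.index := by omega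
    have hpos : 0 < Nat.card M * Nat.card (fix z b) ^ 2 :=
      Nat.mul_pos Nat.card_pos (pow_pos Nat.card_pos 2)
    nlinarith
  have hdvd := (Small.two_mul_card_dvd_factorial_index hG.not_comm M hM).trans
    (Nat.factorial_dvd_factorial h5)
  have h60 : Nat.card G ≤ 100 := by
    have h := Nat.le_of_dvd (by norm_num [Nat.factorial]) hdvd
    norm_num [Nat.factorial] at h
    omega
  have hcyc : ¬ IsCyclic G := fun h => hG.not_comm (letI := h.commGroup; ⟨⟨mul_comm⟩⟩)
  obtain ⟨e⟩ := Cfsg.Agent.S0494.result (Cfsg.Agent.S0493.result hcyc h60)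
  haveI : Fact (Nat.Prime 5) := ⟨by norm_num⟩
  obtain ⟨e'⟩ := Cfsg.Agent.S0253.result (F := ZMod 5) (ZMod.card 5)
  exact hG.not_goal (Or.inl ⟨ZMod 5, inferInstance, inferInstance, by rw [ZMod.card]; decide,
    by rw [ZMod.card]; decide, ⟨e.trans e'.symm⟩⟩)

/-- A maximal subgroup properly containing `C(z)` has more than one class of involutions. -/
theorem not_one_class {z : G} (hz : orderOf z = 2) {M : Subgroup G} (hM : IsCoatom M)
    (hCM : centralizer ({z} : Set G) < M)
    (h1 : ∀ a b, a ∈ M → b ∈ M → orderOf a = 2 → orderOf b = 2 → ∃ m ∈ M, m * a * m⁻¹ = b) :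
    False := by
  obtain ⟨b, hb, hne, hzb, hord⟩ := hG.exists_bound hz
  exact hG.not_one_class_of_order hz hb hne hzb hord hM.1 hCM.le h1

end Minimal

end CfsgLib.GW
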