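import Cfsg.Agent.GW.TwoPGL
import Cfsg.Agent.DihedralFourAct.Main
import Cfsg.Agent.GW.FusionOne

/-!
# Gorenstein–Walter: the shapes of a proper overgroup of an involution centralizer

Such a subgroup `M` has a 2-group as quotient by its odd core, one class of involutions, or the
two-class data of `TwoClass`.
-/

set_option autoImplicit false
set_option linter.style.haveILetI false
set_option linter.unusedSectionVars false

open Subgroup

namespace CfsgLib.GW

universe u

section Models

open Equiv

theorem isConj_alt_seven {x y : alternatingGroup (Fin 7)} (hx : orderOf x = 2) (hy : orderOf y = 2) :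
    ∃ g : alternatingGroup (Fin 7), g * x * g⁻¹ = y := by
  classical
  have htype : ∀ v : alternatingGroup (Fin 7), orderOf v = 2 →
      (v : Perm (Fin 7)).cycleType = Multiset.replicate 2 2 := fun v hv => by
    set σ : Perm (Fin 7) := (v : Perm (Fin 7))
    have hσ : orderOf σ = 2 := (Subgroup.orderOf_coe v).trans hv
    obtain ⟨n, hn⟩ := Perm.cycleType_prime_order (hσ.symm ▸ Nat.prime_two)
    rw [hσ] at hn
    have hsum := σ.sum_cycleType ▸ (Finset.card_le_univ σ.support)
    have hsign : Perm.sign σ = 1 := Perm.mem_alternatingGroup.1 v.2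
    rw [hn, Multiset.sum_replicate, smul_eq_mul, Fintype.card_fin] at hsum
    rw [Perm.sign_of_cycleType, hn, Multiset.sum_replicate, Multiset.card_replicate,
      smul_eq_mul] at hsign
    rcases (show n = 0 ∨ n = 1 ∨ n = 2 by omega) with rfl | rfl | rfl
    · exact absurd hsign (by decide)
    · exact hn
    · exact absurd hsign (by decide)
  set σ : Perm (Fin 7) := (x : Perm (Fin 7))
  obtain ⟨c, hc⟩ := isConj_iff.1 (Perm.isConj_iff_cycleType_eq.2 ((htype x hx).trans (htype y hy).symm))
  obtain ⟨a, ha⟩ := Finset.nonempty_of_ne_empty (s := σ.support) fun h => by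
    rw [Perm.support_eq_empty_iff] at h
    rw [show x = 1 from Subtype.ext h, orderOf_one] at hx
    omega
  rw [Perm.mem_support] at ha
  have hσa : σ (σ a) = a := by
    have h := congrArg (fun p : Perm (Fin 7) => p a) (pow_orderOf_eq_one σ)
    simpa [σ, hx, pow_two] using h
  have hT : σ * Equiv.swap a (σ a) = Equiv.swap a (σ a) * σ := by
    have h := Equiv.swap_apply_apply σ a (σ a)
    rw [hσa, Equiv.swap_comm] at h
    exact (eq_mul_inv_iff_mul_eq.1 h).symm
  rcases Int.units_eq_one_or (Perm.sign c) with h | h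
  · exact ⟨⟨c, Perm.mem_alternatingGroup.2 h⟩, Subtype.ext hc⟩
  · refine ⟨⟨c * Equiv.swap a (σ a), Perm.mem_alternatingGroup.2 (by
      rw [map_mul, h, Perm.sign_swap (Ne.symm ha)]; rfl)⟩, Subtype.ext ?_⟩
    show c * Equiv.swap a (σ a) * σ * (c * Equiv.swap a (σ a))⁻¹ = _
    rw [mul_assoc c, ← hT, ← hc]
    group
    rfl

set_option synthInstance.maxSize 8192 in
set_option synthInstance.maxHeartbeats 400000 in
/-- The data of `S₄`. -/
theorem twoQuot_perm_four : TwoQuot (alternatingGroup (Fin 4)) 4 2 1 12 := by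
  have h2 : ∀ x : Perm (Fin 4), orderOf x = 2 → x * x = 1 ∧ x ≠ 1 := fun x h =>
    ⟨Small.mul_self_of_orderOf_two h, Small.ne_one_of_orderOf_two h⟩
  have hmem : ∀ x : Perm (Fin 4), x ∈ alternatingGroup (Fin 4) ↔ Perm.sign x = 1 := fun x =>
    Perm.mem_alternatingGroup
  have hcard : ∀ (p : Perm (Fin 4) → Prop) [DecidablePred p] (K : Subgroup (Perm (Fin 4))),
      (∀ x, x ∈ K ↔ p x) → Nat.card K = (Finset.univ.filter p).card := fun p _ K h => by
    rw [← Fintype.card_subtype, ← Nat.card_eq_fintype_card]
    exact Nat.card_congr (Equiv.subtypeEquivRight h)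
  haveI : Fact (Nat.Prime 2) := ⟨Nat.prime_two⟩
  refine
    { normal := inferInstance
      dih := ?_
      two := fun x y _ _ hx hy => ?_
      one := fun x y ox oy hx hy => ?_
      exist := ⟨swap 0 1 * swap 2 3, swap 0 2 * swap 1 3, swap 0 1,
        orderOf_eq_prime (by decide) (by decide), orderOf_eq_prime (by decide) (by decide),
        orderOf_eq_prime (by decide) (by decide), (hmem _).2 (by decide), (hmem _).2 (by decide),
        fun h => absurd ((hmem _).1 h) (by decide), by decide, by decide, by decide⟩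
      e_odd := odd_one
      four_dvd := dvd_rfl
      dvd_AB := fun _ => rfl
      half := ⟨1, odd_one, rfl⟩
      small := fun _ => ⟨rfl, rfl, rfl⟩
      six := fun h => absurd h (by decide)
      mul_odd := ⟨3, by decide, rfl⟩
      card_all := by rw [Nat.card_eq_fintype_card]; decide
      card_z := fun z oz hz => ?_
      card_t := fun t ot ht => ?_
      card_pair := fun z x oz hz ox hc hne => ?_
      core_cent := fun z t oz hz ot ht hc Y hCY hY y hy => ?_ }
  · intro P hP
    obtain ⟨S, hS⟩ := hP.exists_le_sylow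
    -- the dihedral group of order eight
    let r : Perm (Fin 4) := Equiv.swap 0 1 * Equiv.swap 1 2 * Equiv.swap 2 3
    let s : Perm (Fin 4) := Equiv.swap 1 3
    have hs2 : orderOf s = 2 := orderOf_eq_prime (by decide) (by decide)
    have hrs : orderOf (s * r) = 2 := orderOf_eq_prime (by decide) (by decide)
    have hne : s ≠ s * r := by decide
    have he := Small.closurePairEquivDihedral hs2 hrs hne
    set D := closure ({s, s * r} : Set (Perm (Fin 4)))
    have ho : orderOf (s * (s * r)) = 4 := by
      rw [← mul_assoc, show s * s = 1 by decide, one_mul]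
      exact orderOf_eq_prime_pow (p := 2) (n := 1) (by decide) (by decide)
    have hD : Nat.card D = 2 ^ 3 := by
      rw [Nat.card_congr he.toEquiv, DihedralGroup.nat_card, ho]; rfl
    have hDp : IsPGroup 2 D := IsPGroup.of_card hD
    obtain ⟨S', hS'⟩ := hDp.exists_le_sylow
    have hDS : D = (S' : Subgroup (Perm (Fin 4))) := eq_of_le_of_card_ge hS' (by
      rw [hD, Sylow.card_eq_multiplicity, Nat.card_eq_fintype_card, Fintype.card_perm,
        Fintype.card_fin]
      have h24 : (Nat.factorial 4).factorization 2 = 3 := by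
        rw [show Nat.factorial 4 = 2 ^ 3 * 3 by decide, Nat.factorization_mul (by norm_num) (by norm_num),
          Nat.Prime.factorization_pow Nat.prime_two, Nat.Prime.factorization Nat.prime_three]
        simp
      rw [h24])
    exact ⟨_, ((he.toMonoidHom.comp (MulEquiv.subgroupCongr hDS.symm).toMonoidHom).comp
      (Sylow.equiv S S').toMonoidHom).comp (inclusion hS),
      ((he.injective.comp (MulEquiv.subgroupCongr hDS.symm).injective).comp
        (Sylow.equiv S S').injective).comp (inclusion_injective hS)⟩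
  · rw [hmem] at hx hy ⊢
    rw [map_mul]
    rcases Int.units_eq_one_or (Perm.sign x) with h | h
    · exact absurd h hx
    rcases Int.units_eq_one_or (Perm.sign y) with h' | h'
    · exact absurd h' hy
    rw [h, h']
    rfl
  · rw [hmem] at hx hy
    have key : ∀ x y : Perm (Fin 4), x * x = 1 → x ≠ 1 → y * y = 1 → y ≠ 1 → Perm.sign x = 1 →
        Perm.sign y = 1 → ∃ g, g * x * g⁻¹ = y := by decide +kernel
    exact key x y (h2 x ox).1 (h2 x ox).2 (h2 y oy).1 (h2 y oy).2 hx hy
  · rw [hmem] at hz
    have key : ∀ z : Perm (Fin 4), z * z = 1 → z ≠ 1 → Perm.sign z = 1 →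
        (Finset.univ.filter fun x => x * z = z * x).card = 8 := by decide +kernel
    rw [hcard (fun x => x * z = z * x) _ fun x => mem_centralizer_singleton_iff]
    exact key z (h2 z oz).1 (h2 z oz).2 hz
  · rw [hmem] at ht
    have key : ∀ z : Perm (Fin 4), z * z = 1 → z ≠ 1 → Perm.sign z ≠ 1 →
        (Finset.univ.filter fun x => x * z = z * x).card = 4 := by decide +kernel
    rw [hcard (fun x => x * t = t * x) _ fun x => mem_centralizer_singleton_iff]
    exact key t (h2 t ot).1 (h2 t ot).2 ht
  · rw [hmem] at hz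
    have key : ∀ z x : Perm (Fin 4), z * z = 1 → z ≠ 1 → Perm.sign z = 1 → x * x = 1 → x ≠ 1 →
        z * x = x * z → z ≠ x →
        (Finset.univ.filter fun g => g * z = z * g ∧ g * x = x * g).card = 4 := by decide +kernel
    rw [hcard (fun g => g * z = z * g ∧ g * x = x * g) _ fun g => by
      rw [mem_inf, mem_centralizer_singleton_iff, mem_centralizer_singleton_iff]]
    exact key z x (h2 z oz).1 (h2 z oz).2 hz (h2 x ox).1 (h2 x ox).2 hc hne
  · by_contra hne
    rw [hmem] at hz ht
    have key : ∀ z t : Perm (Fin 4), z * z = 1 → z ≠ 1 → Perm.sign z = 1 → t * t = 1 → t ≠ 1 →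
        Perm.sign t ≠ 1 → z * t = t * z → ∀ y : Perm (Fin 4), y * t ≠ t * y →
        ((Perm.sign (y * z * y⁻¹) = 1 ∧ y * z * y⁻¹ * (y * z * y⁻¹) = 1 ∧ y * z * y⁻¹ ≠ 1 ∧
          z * (y * z * y⁻¹) = y * z * y⁻¹ * z ∧ y * z * y⁻¹ ≠ z) ∨
        ∃ c, c * t = t * c ∧ Perm.sign (y * c) = 1 ∧ y * c * (y * c) = 1 ∧ y * c ≠ 1 ∧
          z * (y * c) = y * c * z ∧ y * c ≠ z) := by decide +kernel
    have hzY : z ∈ Y := hCY (mem_centralizer_singleton_iff.2 hc)
    rcases key z t (h2 z oz).1 (h2 z oz).2 hz (h2 t ot).1 (h2 t ot).2 ht hc y hne with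
      ⟨h1, h3, h4, h5, h6⟩ | ⟨c, hct, h1, h3, h4, h5, h6⟩
    · exact h6 (hY _ (mul_mem (mul_mem hy hzY) (inv_mem hy))
        (orderOf_eq_prime (by rw [pow_two, h3]) h4) h5 ((hmem _).2 h1))
    · exact h6 (hY _ (mul_mem hy (hCY (mem_centralizer_singleton_iff.2 hct)))
        (orderOf_eq_prime (by rw [pow_two, h3]) h4) h5 ((hmem _).2 h1))

end Models

theorem TwoQuot.of_equiv {X Y : Type*} [Group X] [Group Y] (f : X ≃* Y) {L : Subgroup Y}
    {A B e N : ℕ} (h : TwoQuot L A B e N) : TwoQuot (L.comap f.toMonoidHom) A B e N := by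
  have ho : ∀ x, orderOf (f x) = orderOf x := fun x => MulEquiv.orderOf_eq f x
  have hcomm : ∀ {x y : X}, x * y = y * x → f x * f y = f y * f x := fun {x y} e => by
    rw [← map_mul, e, map_mul]
  have hc : ∀ x : X, centralizer ({x} : Set X) =
      (centralizer ({f x} : Set Y)).comap f.toMonoidHom := fun x => by
    ext g
    simp only [mem_comap, mem_centralizer_singleton_iff, MulEquiv.coe_toMonoidHom]
    rw [← map_mul, ← map_mul]
    exact f.injective.eq_iff.symm
  have hcard : ∀ K : Subgroup Y, Nat.card (K.comap f.toMonoidHom) = Nat.card K := fun K =>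
    Nat.card_congr (f.toEquiv.subtypeEquiv fun x => Iff.rfl)
  haveI := h.normal
  refine
    { normal := h.normal.comap _
      dih := h.dih.of_equiv f.symm
      two := fun x y ox oy hx hy => ?_
      one := fun x y ox oy hx hy => ?_
      exist := ?_
      e_odd := h.e_odd
      four_dvd := h.four_dvd
      dvd_AB := h.dvd_AB
      half := h.half
      small := h.small
      six := h.six
      mul_odd := h.mul_odd
      card_all := (Nat.card_congr f.toEquiv).trans h.card_all
      card_z := fun z oz hz => by rw [hc, hcard]; exact h.card_z _ (by rw [ho, oz]) hz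
      card_t := fun t ot ht => by rw [hc, hcard]; exact h.card_t _ (by rw [ho, ot]) ht
      card_pair := fun z x oz hz ox hzx hne => by
        rw [hc, hc, ← comap_inf, hcard]
        exact h.card_pair _ _ (by rw [ho, oz]) hz (by rw [ho, ox]) (hcomm hzx)
          fun e => hne (f.injective e)
      core_cent := fun z t oz hz ot ht hzt Y' hCY hY y hy => ?_ }
  · have := h.two (f x) (f y) (by rw [ho, ox]) (by rw [ho, oy]) hx hy
    rwa [← map_mul] at this
  · obtain ⟨g, hg⟩ := h.one (f x) (f y) (by rw [ho, ox]) (by rw [ho, oy]) hx hy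
    refine ⟨f.symm g, f.injective ?_⟩
    rw [map_mul, map_mul, map_inv, f.apply_symm_apply, hg]
  · obtain ⟨z, b, t, oz, ob, ot, hz, hb, ht, hne, hzb, hzt⟩ := h.exist
    refine ⟨f.symm z, f.symm b, f.symm t, by rw [MulEquiv.orderOf_eq, oz],
      by rw [MulEquiv.orderOf_eq, ob], by rw [MulEquiv.orderOf_eq, ot], ?_, ?_, ?_,
      fun e => hne (f.symm.injective e), by rw [← map_mul, hzb, map_mul],
      by rw [← map_mul, hzt, map_mul]⟩
    · simpa using hz
    · simpa using hb
    · simpa using ht
  · have := h.core_cent (f z) (f t) (by rw [ho, oz]) hz (by rw [ho, ot]) ht (hcomm hzt)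
      (Y'.map f.toMonoidHom) (fun g hg => ⟨f.symm g, hCY (by
        rw [hc t, mem_comap, MulEquiv.coe_toMonoidHom, f.apply_symm_apply]
        exact hg), f.apply_symm_apply g⟩) (by
        rintro _ ⟨x, hx, rfl⟩ ox hzx hxL
        rw [MulEquiv.coe_toMonoidHom, ho] at ox
        exact congrArg f (hY x hx ox (f.injective (by rw [map_mul, map_mul]; exact hzx)) hxL))
      (f y) ⟨y, hy, rfl⟩
    exact f.injective (by rw [map_mul, map_mul]; exact this)

namespace Minimal

variable {G : Type u} [Group G] [Finite G] (hG : Minimal G)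
include hG

/-- **The shapes of a proper overgroup of an involution centralizer.** -/
theorem classify {z : G} (hz : orderOf z = 2) {M : Subgroup G} (hM : M ≠ ⊤)
    (hCM : centralizer ({z} : Set G) ≤ M) :
    IsPGroup 2 (↥M ⧸ Cfsg.oddCore ↥M) ∨
      (∀ a b, a ∈ M → b ∈ M → orderOf a = 2 → orderOf b = 2 → ∃ m ∈ M, m * a * m⁻¹ = b) ∨
      ∃ (b t : G) (A B e N : ℕ), TwoClass M z b t A B e N := by
  classical
  haveI : Fact (Nat.Prime 2) := ⟨Nat.prime_two⟩
  set X := ↥M ⧸ Cfsg.oddCore ↥M
  set π := QuotientGroup.mk' (Cfsg.oddCore ↥M)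
  have hodd : Odd (Nat.card π.ker) := by
    rw [QuotientGroup.ker_mk']; exact ExtremelyClosed.odd_card_oddCore' _
  -- one class upstairs
  have hup : (∀ p q : X, orderOf p = 2 → orderOf q = 2 → ∃ g, g * p * g⁻¹ = q) →
      ∀ a b, a ∈ M → b ∈ M → orderOf a = 2 → orderOf b = 2 → ∃ m ∈ M, m * a * m⁻¹ = b := by
    intro hone a b ha hb oa ob
    have oa' : orderOf (⟨a, ha⟩ : ↥M) = 2 := by rw [orderOf_mk, oa]
    have ob' : orderOf (⟨b, hb⟩ : ↥M) = 2 := by rw [orderOf_mk, ob]
    obtain ⟨q, hq⟩ := hone (π ⟨a, ha⟩) (π ⟨b, hb⟩) (DGroupCent.orderOf_map_involution hodd oa')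
      (DGroupCent.orderOf_map_involution hodd ob')
    obtain ⟨m, rfl⟩ := QuotientGroup.mk'_surjective (Cfsg.oddCore ↥M) q
    obtain ⟨w, -, -, e⟩ := exists_ker_conj hodd (π := π) (K := ⊤) (mem_top (⟨b, hb⟩ : ↥M))
      (mem_top (m * ⟨a, ha⟩ * m⁻¹)) ob' (by rw [Small.orderOf_conj_eq, oa'])
      (by rw [map_mul, map_mul, map_inv, hq])
    refine ⟨(w * m : ↥M), (w * m).2, ?_⟩
    have := congrArg Subtype.val e
    simp only [Subgroup.coe_mul, InvMemClass.coe_inv] at this ⊢
    rw [← this]
    group
  rcases hG.known M hM with hp | ⟨⟨eA⟩⟩ | ⟨⟨eS⟩⟩ | ⟨L, hLn, hL, hLc⟩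
  · exact Or.inl hp
  · refine Or.inr (Or.inl (hup fun p q op oq => ?_))
    have key : ∀ x y : alternatingGroup (Fin 4), x * x = 1 → x ≠ 1 → y * y = 1 → y ≠ 1 →
        ∃ g, g * x * g⁻¹ = y := by decide +kernel
    have hs : ∀ v : X, orderOf v = 2 → eA v * eA v = 1 ∧ eA v ≠ 1 := fun v hv =>
      ⟨by rw [← map_mul, Small.mul_self_of_orderOf_two hv, map_one],
        fun h => Small.ne_one_of_orderOf_two hv ((MulEquiv.map_eq_one_iff eA).1 h)⟩
    obtain ⟨g, hg⟩ := key (eA p) (eA q) (hs p op).1 (hs p op).2 (hs q oq).1 (hs q oq).2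
    exact ⟨eA.symm g, eA.injective (by rw [map_mul, map_mul, map_inv, eA.apply_symm_apply, hg])⟩
  · obtain ⟨b, t, h⟩ := hG.twoClass_of_twoQuot hz hCM (twoQuot_perm_four.of_equiv eS)
    exact Or.inr (Or.inr ⟨b, t, 4, 2, 1, 12, h⟩)
  · haveI := hLn
    by_cases hout : ∀ v : X, orderOf v = 2 → v ∈ L
    · refine Or.inr (Or.inl (hup fun p q op oq => ?_))
      obtain ⟨g, hg⟩ : ∃ g : L, g * ⟨p, hout p op⟩ * g⁻¹ = ⟨q, hout q oq⟩ := by
        rcases hL with ⟨F, _, _, hF, -, ⟨e⟩⟩ | ⟨⟨e⟩⟩
        · have h2 := Linear.two_ne_zero_of_odd hF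
          have hl : ∀ v (hv : v ∈ L), orderOf v = 2 → ∃ a, Forms.KleinPSL.projHom a = e ⟨v, hv⟩ ∧
              a * a = -1 := fun v hv ov => by
            have ho : orderOf (e ⟨v, hv⟩) = 2 := by rw [MulEquiv.orderOf_eq, orderOf_mk, ov]
            exact Forms.KleinPSL.exists_lift_of_orderOf_two h2 (Small.ne_one_of_orderOf_two ho)
              (Small.mul_self_of_orderOf_two ho)
          obtain ⟨a, ha, ha2⟩ := hl p (hout p op) op
          obtain ⟨b, hb, hb2⟩ := hl q (hout q oq) oq
          obtain ⟨c, hc⟩ := isConj_iff.1 (Inv53.sl2_isConj h2 ha2 hb2)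
          refine ⟨e.symm (Forms.KleinPSL.projHom c), e.injective ?_⟩
          have e0 := congrArg Forms.KleinPSL.projHom hc
          rw [map_mul, map_mul, map_inv, ha, hb] at e0
          rw [map_mul, map_mul, map_inv, e.apply_symm_apply, e0]
        · obtain ⟨g, hg⟩ := isConj_alt_seven (x := e ⟨p, hout p op⟩) (y := e ⟨q, hout q oq⟩)
            (by rw [MulEquiv.orderOf_eq, orderOf_mk, op]) (by rw [MulEquiv.orderOf_eq, orderOf_mk, oq])
          exact ⟨e.symm g, e.injective (by rw [map_mul, map_mul, map_inv, e.apply_symm_apply, hg])⟩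
      exact ⟨(g : X), congrArg Subtype.val hg⟩
    · push Not at hout
      obtain ⟨v, ov, hvL⟩ := hout
      have hdX : DihType X := (hG.dihType.subgroup M).quotient _
        (CfsgLib.PLocal.coprime_card_pPrimeCore 2 ↥M)
      rcases hL with ⟨F, _, _, hF, h3, ⟨e⟩⟩ | ⟨⟨e⟩⟩
      · obtain ⟨A, B, e', N, hQ⟩ := twoQuot_of_model
          (⟨e, hLc, hF, h3, hdX⟩ : OS.Model L F) ov hvL
        obtain ⟨b, t, h⟩ := hG.twoClass_of_twoQuot hz hCM hQ
        exact Or.inr (Or.inr ⟨b, t, A, B, e', N, h⟩)
      · exfalso
        have hvv := Small.mul_self_of_orderOf_two ov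
        set α : MulAut (alternatingGroup (Fin 7)) := MulAut.congr e (MulAut.conjNormal v) with hα
        have hαe : ∀ l : L, α (e l) = e (MulAut.conjNormal v l) := fun l => by
          simp [hα, MulAut.congr]
        have hfix : ∀ u : L, α (e u) = e u → v * (u : X) = (u : X) * v := fun u hu => by
          rw [hαe] at hu
          have := congrArg Subtype.val (e.injective hu)
          rw [MulAut.conjNormal_apply] at this
          exact mul_inv_eq_iff_eq_mul.1 this
        refine DihedralFourAct.alt_seven_false α (fun h => Small.ne_one_of_orderOf_two ov ?_)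
          (by rw [hα, ← map_mul, ← map_mul, hvv, map_one, map_one]) fun a b ha hb ha2 hb2 hab => ?_
        · have : v ∈ centralizer (L : Set X) := mem_centralizer_iff.2 fun l hl => by
            have := hfix ⟨l, hl⟩ (by rw [h, MulAut.one_apply])
            exact this.symm
          rw [hLc] at this
          exact mem_bot.1 this
        by_contra hcon
        push Not at hcon
        obtain ⟨ha1, hb1, hne⟩ := hcon
        obtain ⟨a', rfl⟩ := e.surjective a
        obtain ⟨b', rfl⟩ := e.surjective b
        rw [← map_mul, ← map_one e] at ha2 hb2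
        rw [← map_mul, ← map_mul] at hab
        have ha2' : (a' : X) * a' = 1 := congrArg Subtype.val (e.injective ha2)
        have hb2' : (b' : X) * b' = 1 := congrArg Subtype.val (e.injective hb2)
        have hab' : (a' : X) * b' = b' * a' := congrArg Subtype.val (e.injective hab)
        have hcl := DGroupCent.sq_eq_one_of_mem_closure_pair ha2' hb2' hab'
        set U := closure ({(a' : X), (b' : X)} : Set X)
        have hU2 : ∀ u ∈ U, u * u = 1 := fun u hu => by
          rcases hcl u hu with rfl | rfl | rfl | rfl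
          · exact one_mul 1
          · exact ha2'
          · exact hb2'
          · calc (a' : X) * b' * ((a' : X) * b') = (a' : X) * ((b' : X) * a') * b' := by group
              _ = ((a' : X) * a') * ((b' : X) * b') := by rw [← hab']; group
              _ = 1 := by rw [ha2', hb2', one_mul]
        have hvc : ∀ u ∈ U, v * u = u * v := fun u hu => by
          have h1 := hfix a' ha
          have h2 := hfix b' hb
          rcases hcl u hu with rfl | rfl | rfl | rfl
          · simp
          · exact h1
          · exact h2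
          · exact (show Commute v (a' : X) from h1).mul_right h2
        have hU4 : Nat.card U = 4 := by
          have hset : ((U : Subgroup X) : Set X) =
              ↑({1, (a' : X), (b' : X), (a' : X) * b'} : Finset X) := by
            ext u
            refine ⟨fun hu => by simpa using hcl u hu, fun hu => ?_⟩
            simp only [Finset.coe_insert, Finset.coe_singleton, Set.mem_insert_iff,
              Set.mem_singleton_iff] at hu
            rcases hu with rfl | rfl | rfl | rfl
            exacts [one_mem _, subset_closure (by simp), subset_closure (by simp),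
              mul_mem (subset_closure (by simp)) (subset_closure (by simp))]
          show Nat.card (U : Set X) = 4
          rw [hset, Nat.card_coe_set_eq, Set.ncard_coe_finset]
          have n1 : (a' : X) ≠ 1 := fun h => ha1 (by rw [show a' = 1 from Subtype.ext h, map_one])
          have n2 : (b' : X) ≠ 1 := fun h => hb1 (by rw [show b' = 1 from Subtype.ext h, map_one])
          have n3 : (a' : X) ≠ b' := fun h => hne (by rw [show a' = b' from Subtype.ext h])
          have n4 : (a' : X) * b' ≠ 1 := fun h => n3 (by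
            rw [← inv_eq_of_mul_eq_one_left h, inv_eq_of_mul_eq_one_right hb2'])
          simp [n1.symm, n2.symm, n4.symm, n3, n1, n2]
        have hP : IsPGroup 2 (U ⊔ zpowers v : Subgroup X) := by
          refine IsPGroup.to_sup_of_normal_left' ?_ (IsPGroup.of_card (n := 1) (by
            rw [Nat.card_zpowers, ov]; rfl)) (zpowers_le.2 ?_)
          · exact IsPGroup.of_card (n := 2) (by rw [hU4]; rfl)
          · exact centralizer_le_normalizer _ (mem_centralizer_iff.2 fun u hu => (hvc u hu).symm)
        have hvU := hdX.mem_four hP le_sup_left hU4 hU2 (mem_sup_right (mem_zpowers v)) hvc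
        exact hvL ((closure_le L).2 (by rintro u (rfl | rfl); exacts [a'.2, b'.2]) hvU)

end Minimal

end CfsgLib.GW
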