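import Cfsg.Agent.GW.FusionTwoCore
import Cfsg.Agent.GW.TwoShape

/-!
# Gorenstein–Walter: a maximal subgroup properly containing `C(z)` has a 2-group modulo its odd core

The classification of the proper overgroups of `C(z)` is combined with the exclusion of one and of two
classes of involutions.
-/

set_option autoImplicit false

open Subgroup

namespace CfsgLib.GW

universe u

namespace Minimal

variable {G : Type u} [Group G] [Finite G] (hG : Minimal G)
include hG

/-- A maximal subgroup properly containing `C(z)` has a 2-group as quotient by its odd core. -/
theorem two_quotient {z : G} (hz : orderOf z = 2) {M : Subgroup G} (hM : IsCoatom M)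
    (hCM : centralizer ({z} : Set G) < M) : IsPGroup 2 (↥M ⧸ Cfsg.oddCore ↥M) :=
  hG.two_quotient_of_classify hz (fun _ hH hC => hG.classify hz hH hC) hM hCM

end Minimal

end CfsgLib.GW
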