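import Mathlib

/-!
# Gorenstein–Walter: the arithmetic of the one-class equations

`x`, `U`, `V` are the signed degrees, `K = (W₁ + W₂)²`, `L = (W₁ - W₂)²`.
-/

set_option autoImplicit false

namespace CfsgLib.GW.KArith

variable {x U V K L : ℤ}

/-- For `K ≤ 4L` the product of the signed degrees is negative and so is `x`. -/
theorem neg_of_le (hx : 4 ∣ x - 1) (hx9 : 9 ≤ x.natAbs) (hU : 4 ∣ U + 1) (hU9 : 9 ≤ U.natAbs)
    (hV : 4 ∣ V + 1) (hV9 : 9 ≤ V.natAbs) (hs : U + V = -(1 + x))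
    (heq : K * x * (U - V) ^ 2 = L * (x - 1) ^ 2 * (U * V))
    (hK : 0 < K) (hKL : K ≤ 4 * L) :
    x ≤ -11 ∧ U * V ≤ -9 * (-x + 8) ∧
      (U * V) * (L * (x - 1) ^ 2 + 4 * K * x) = K * x * (1 + x) ^ 2 := by
  have hform : (U * V) * (L * (x - 1) ^ 2 + 4 * K * x) = K * x * (1 + x) ^ 2 := by
    have : (1 + x) ^ 2 = (U - V) ^ 2 + 4 * (U * V) := by
      rw [show (1 + x) = -(U + V) by linarith]; ring
    rw [this]; linear_combination -heq
  have hL : 0 < L := by linarith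
  have hxneg : x < 0 := by
    by_contra hpos
    push Not at hpos
    have hx9' : 9 ≤ x := by omega
    have hP : 0 ≤ U * V := by
      by_contra hP
      push Not at hP
      have h1 : L * (x - 1) ^ 2 * (U * V) < 0 :=
        mul_neg_of_pos_of_neg (mul_pos hL (pow_pos (by linarith) 2)) hP
      have h2 : 0 ≤ K * x * (U - V) ^ 2 := by positivity
      linarith
    have hboth : U ≤ -9 ∧ V ≤ -9 := by
      rcases le_total U 0 with h1 | h1 <;> rcases le_total V 0 with h2 | h2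
      · omega
      · exfalso; have : U * V < 0 := mul_neg_of_neg_of_pos (by omega) (by omega); linarith
      · exfalso; have : U * V < 0 := mul_neg_of_pos_of_neg (by omega) (by omega); linarith
      · omega
    have hlow : 9 * (x - 8) ≤ U * V := by
      nlinarith [mul_nonneg_of_nonpos_of_nonpos (show U + 9 ≤ 0 by omega) (show V + 9 ≤ 0 by omega)]
    -- `UV ≤ 4x`
    have h1 : U * V * (K * (1 + x) ^ 2) ≤ 4 * x * (K * (1 + x) ^ 2) := by
      have hge : K * (1 + x) ^ 2 ≤ 4 * (L * (x - 1) ^ 2 + 4 * K * x) := by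
        nlinarith [mul_le_mul_of_nonneg_right hKL (sq_nonneg (x - 1)), mul_nonneg hK.le (show (0:ℤ) ≤ x by omega)]
      calc U * V * (K * (1 + x) ^ 2) ≤ U * V * (4 * (L * (x - 1) ^ 2 + 4 * K * x)) :=
            mul_le_mul_of_nonneg_left hge hP
        _ = _ := by linear_combination 4 * hform
    have h2 := le_of_mul_le_mul_right h1 (mul_pos hK (pow_pos (by omega) 2))
    omega
  have hx11 : x ≤ -11 := by omega
  refine ⟨hx11, ?_, hform⟩
  have hsplit : (U ≤ -9 ∧ 11 ≤ V) ∨ (V ≤ -9 ∧ 11 ≤ U) := by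
    by_contra hno
    have hUV : 11 ≤ U ∧ 11 ≤ V := by omega
    have hneg : L * (x - 1) ^ 2 + 4 * K * x < 0 := by
      have hr : K * x * (1 + x) ^ 2 < 0 :=
        mul_neg_of_neg_of_pos (mul_neg_of_pos_of_neg hK hxneg) (by
          have : (1 + x) ≠ 0 := by omega
          positivity)
      rw [← hform] at hr
      by_contra hge
      push Not at hge
      have : 0 ≤ U * V * (L * (x - 1) ^ 2 + 4 * K * x) :=
        mul_nonneg (mul_nonneg (by omega) (by omega)) hge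
      linarith
    nlinarith [mul_le_mul_of_nonneg_right hKL (sq_nonneg (x - 1)),
      mul_le_mul_of_nonneg_left (show 0 ≤ (-x - 14) * (-x) + 1 by nlinarith) hK.le]
  rcases hsplit with ⟨h1, h2⟩ | ⟨h1, h2⟩
  · rw [show U * V = U * (-(1 + x) - U) by rw [← hs]; ring]
    nlinarith [mul_nonneg (show (0:ℤ) ≤ -U - 9 by omega) (show (0:ℤ) ≤ -(1 + x) - U by omega)]
  · rw [show U * V = V * (-(1 + x) - V) by rw [← hs]; ring]
    nlinarith [mul_nonneg (show (0:ℤ) ≤ -V - 9 by omega) (show (0:ℤ) ≤ -(1 + x) - V by omega)]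

/-- The ratio is less than five. -/
theorem not_five (hx : 4 ∣ x - 1) (hx9 : 9 ≤ x.natAbs) (hU : 4 ∣ U + 1) (hU9 : 9 ≤ U.natAbs)
    (hV : 4 ∣ V + 1) (hV9 : 9 ≤ V.natAbs) (hs : U + V = -(1 + x))
    (heq : K * x * (U - V) ^ 2 = L * (x - 1) ^ 2 * (U * V))
    (hK : 0 < K) (hKL : 4 * K ≤ 9 * L) : False := by
  obtain ⟨hx11, hP, hform⟩ := neg_of_le hx hx9 hU hU9 hV hV9 hs heq hK (by linarith)
  obtain ⟨y, rfl⟩ : ∃ y, x = -y := ⟨-x, by ring⟩
  have hy : 11 ≤ y := by omega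
  -- `y(y-1)² ≥ 4(y+8)(y²-7y+1)`
  have hA : 0 < 9 * L * (y + 1) ^ 2 - 36 * K * y := by
    nlinarith [mul_le_mul_of_nonneg_right hKL (sq_nonneg (y + 1)),
      mul_pos hK (show 0 < (y - 7) * y + 1 by nlinarith)]
  have h1 : 9 * K * (y * (y - 1) ^ 2) ≥ 9 * (y + 8) * (9 * L * (y + 1) ^ 2 - 36 * K * y) := by
    have := mul_le_mul_of_nonneg_right hP hA.le
    nlinarith
  have h2 : (9 * L * (y + 1) ^ 2 - 36 * K * y) ≥ 4 * K * ((y - 7) * y + 1) := by
    nlinarith [mul_le_mul_of_nonneg_right hKL (sq_nonneg (y + 1))]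
  have h3 : K * (y * (y - 1) ^ 2) ≥ K * (4 * (y + 8) * ((y - 7) * y + 1)) := by
    nlinarith [mul_le_mul_of_nonneg_left h2 (show (0:ℤ) ≤ y + 8 by omega)]
  have h4 := le_of_mul_le_mul_left h3 hK
  nlinarith [mul_le_mul_of_nonneg_left hy (mul_nonneg (show (0:ℤ) ≤ y by omega) (show (0:ℤ) ≤ y by omega))]

/-- For ratio three only `x = -15` remains. -/
theorem eq_neg_fifteen (hx : 4 ∣ x - 1) (hx9 : 9 ≤ x.natAbs) (hU : 4 ∣ U + 1)
    (hU9 : 9 ≤ U.natAbs) (hV : 4 ∣ V + 1) (hV9 : 9 ≤ V.natAbs) (hs : U + V = -(1 + x))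
    (heq : K * x * (U - V) ^ 2 = L * (x - 1) ^ 2 * (U * V))
    (hK : 0 < K) (hKL : K = 4 * L) : x = -15 := by
  obtain ⟨hx11, hP, hform⟩ := neg_of_le hx hx9 hU hU9 hV hV9 hs heq hK hKL.le
  obtain ⟨y, rfl⟩ : ∃ y, x = -y := ⟨-x, by ring⟩
  have hy : 11 ≤ y := by omega
  subst hKL
  have hL : L ≠ 0 := by omega
  have e : U * V * ((y + 1) ^ 2 - 16 * y) = -4 * y * (y - 1) ^ 2 :=
    mul_left_cancel₀ hL (by linear_combination hform)
  have hy22 : y ≤ 22 := by
    by_contra hbig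
    push Not at hbig
    have h1 : 0 ≤ (y + 1) ^ 2 - 16 * y := by nlinarith
    have h2 := mul_le_mul_of_nonneg_right hP h1
    nlinarith [mul_le_mul_of_nonneg_left (show 23 ≤ y by omega) (mul_nonneg (show (0:ℤ) ≤ y by omega) (show (0:ℤ) ≤ y by omega))]
  generalize U * V = P at e hP
  rcases (show y = 11 ∨ y = 15 ∨ y = 19 by omega) with rfl | rfl | rfl <;> norm_num at e hP ⊢ <;>
    omega

end CfsgLib.GW.KArith
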