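import Cfsg.Agent.SuzukiWong.BlockSums

/-!
# Gorenstein–Walter: the one-class equations for the named principal characters

As `SuzukiWong.one_class`, but for given principal block characters, so that their degrees can be
bounded.
-/

set_option autoImplicit false
set_option linter.style.haveILetI false
set_option linter.unusedSectionVars false

namespace CfsgLib.GW

open Cfsg CfsgLib.SuzukiWong CfsgLib.Blocks CfsgLib.PrincipalBlock CfsgLib.Characters CfsgLib.Inv54.DihedralBlock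
open scoped ComplexConjugate

universe u

variable {G : Type u} [Group G] [Fintype G]

open Classical in
set_option maxHeartbeats 1000000 in
/-- The one-class equations for the characters `X`, `A`, `B` of the principal block. -/
theorem one_class_values {M : Ideal AlgInt} (hM : Cfsg.IsPModular 2 M) {P : Sylow 2 G} {σ τ : G}
    {h : ℕ} (S : Setup P σ τ h) (hτ : IsConj (σ ^ h) τ) (hστ : IsConj (σ ^ h) (σ * τ))
    {ζ : ℂ} (hζ : IsPrimitiveRoot ζ (2 * h))
    {X A B : IrrCharacter G} {Y : ℕ → IrrCharacter G} {δ a b : ℤ}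
    (hδ : δ = 1 ∨ δ = -1) (ha : a = 1 ∨ a = -1) (hb : b = 1 ∨ b = -1)
    (n1 : trivChar G ≠ X) (n2 : trivChar G ≠ A) (n3 : trivChar G ≠ B) (n4 : X ≠ A) (n5 : X ≠ B)
    (n6 : A ≠ B)
    (hY : ∀ i, 1 ≤ i → i < h → trivChar G ≠ Y i ∧ X ≠ Y i ∧ A ≠ Y i ∧ B ≠ Y i)
    (hYinj : ∀ i k, 1 ≤ i → i < h → 1 ≤ k → k < h → Y i = Y k → i = k)
    (hmem : ∀ χ, χ ∈ Cfsg.principalBlock M G ↔ χ = trivChar G ∨ χ = X ∨ χ = A ∨ χ = B ∨
      ∃ i, 1 ≤ i ∧ i < h ∧ χ = Y i)
    (hv : ∀ l : ℕ, σ ^ l ≠ 1 → (X : G → ℂ) (σ ^ l) = δ ∧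
      (A : G → ℂ) (σ ^ l) = a * (-1) ^ (l + 1) ∧ (B : G → ℂ) (σ ^ l) = b * (-1) ^ (l + 1) ∧
      ∀ i, 1 ≤ i → i < h → (Y i : G → ℂ) (σ ^ l) = δ * (ζ ^ (i * l) + (ζ ^ (i * l))⁻¹))
    (hrel : ∀ ρ : G, Odd (orderOf ρ) → ∀ i, 1 ≤ i → i < h →
      1 + δ * (X : G → ℂ) ρ = -a * (A : G → ℂ) ρ - b * (B : G → ℂ) ρ ∧
      1 + δ * (X : G → ℂ) ρ = δ * (Y i : G → ℂ) ρ)
    {dX dA dB : ℕ} (hdX : (X : G → ℂ) 1 = dX) (hdA : (A : G → ℂ) 1 = dA)
    (hdB : (B : G → ℂ) 1 = dB) :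
    ∀ x U V : ℤ, x = δ * dX → U = a * dA → V = b * dB →
    (2 * h : ℤ) ∣ x - 1 ∧ U + V = -(1 + x) ∧
      ((Subgroup.centralizer ({σ ^ h} : Set G)).index : ℤ) *
          (Nat.card (S.core ⊓ Subgroup.centralizer ({τ} : Set G) : Subgroup G) : ℤ) ^ 2 *
          (Nat.card (S.core ⊓ Subgroup.centralizer ({σ * τ} : Set G) : Subgroup G) : ℤ) ^ 2 *
          (x - 1) ^ 2 =
        2 * (h : ℤ) ^ 2 * (Nat.card S.core : ℤ) ^ 2 *
          ((Nat.card (S.core ⊓ Subgroup.centralizer ({τ} : Set G) : Subgroup G) : ℤ) +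
            (Nat.card (S.core ⊓ Subgroup.centralizer ({σ * τ} : Set G) : Subgroup G) : ℤ)) ^ 2 *
          (x * (x + 1)) ∧
      ((Subgroup.centralizer ({σ ^ h} : Set G)).index : ℤ) *
          (Nat.card (S.core ⊓ Subgroup.centralizer ({τ} : Set G) : Subgroup G) : ℤ) ^ 2 *
          (Nat.card (S.core ⊓ Subgroup.centralizer ({σ * τ} : Set G) : Subgroup G) : ℤ) ^ 2 *
          (U - V) ^ 2 =
        2 * (h : ℤ) ^ 2 * (Nat.card S.core : ℤ) ^ 2 *
          ((Nat.card (S.core ⊓ Subgroup.centralizer ({τ} : Set G) : Subgroup G) : ℤ) -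
            (Nat.card (S.core ⊓ Subgroup.centralizer ({σ * τ} : Set G) : Subgroup G) : ℤ)) ^ 2 *
          (U * V * (1 + x)) := by
  haveI : M.IsPrime := Blocks.IsPModular.isPrime hM
  haveI : Fact (Nat.Prime 2) := ⟨Nat.prime_two⟩
  haveI : NeZero (2 * h) := S.ne_zero
  have h2 := S.two_le
  have hheven : Even h := by
    obtain ⟨k₀, hk₀⟩ := S.pow2
    rcases k₀ with _ | k₀
    · simp at hk₀; omega
    · rw [hk₀, pow_succ]; exact even_two.mul_left _
  have hl : ∀ l : ℕ, 0 < l → l < 2 * h → σ ^ l ≠ 1 := fun l l0 l1 e => by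
    have := Nat.le_of_dvd l0 (S.pow_eq_one.1 e); omega
  have hζh : ζ ^ h = -1 := by
    have h1 : ζ ^ h * ζ ^ h = 1 := by rw [← pow_add, ← two_mul, hζ.pow_eq_one]
    exact (mul_self_eq_one_iff.1 h1).resolve_left
      (hζ.pow_ne_one_of_pos_of_lt (by omega) (by omega))
  have hYJ : ∀ i, 1 ≤ i → i < h → (Y i : G → ℂ) (σ ^ h) = δ * (2 * (-1) ^ i) := by
    intro i i1 i2
    rw [(hv h S.J_ne).2.2.2 i i1 i2, mul_comm i h, pow_mul, hζh]
    rcases Nat.even_or_odd i with hi | hi <;> rw [hi.neg_one_pow] <;> norm_num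
  have hdX0 : 0 < dX := Nat.pos_of_ne_zero fun e => irr_one_ne_zero X.2 (by simp [hdX, e])
  have hdA0 : 0 < dA := Nat.pos_of_ne_zero fun e => irr_one_ne_zero A.2 (by simp [hdA, e])
  have hdB0 : 0 < dB := Nat.pos_of_ne_zero fun e => irr_one_ne_zero B.2 (by simp [hdB, e])
  have hxmod : (2 * h : ℤ) ∣ δ * dX - 1 := by
    obtain ⟨c, hc⟩ := dvd_of_const S hdX fun l hl' => (hv l hl').1
    refine ⟨δ * c, ?_⟩
    rcases hδ with rfl | rfl
    · linear_combination hc
    · linear_combination -hc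
  have hd1 := hrel 1 (by rw [orderOf_one]; exact odd_one) 1 le_rfl (by omega)
  rw [hdX, hdA, hdB] at hd1
  have hUV : a * (dA : ℤ) + b * dB = -(1 + δ * dX) := by
    apply Int.cast_injective (α := ℂ)
    push_cast
    linear_combination hd1.1
  set o := Nat.card S.core with ho
  set CA := Nat.card (S.core ⊓ Subgroup.centralizer ({τ} : Set G) : Subgroup G) with hCA
  set CB := Nat.card (S.core ⊓ Subgroup.centralizer ({σ * τ} : Set G) : Subgroup G) with hCB
  -- conjugates over the reflections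
  set n : ZMod (2 * h) → ℕ := fun i => overRefl S (σ ^ h) i with hn
  have hnA : ∀ i : ZMod (2 * h), Even i.val → n i * CA = o := fun i hi => by
    have e := overRefl_eq S (t := σ ^ h) i
    simp only [if_pos hi] at e
    rwa [if_pos hτ] at e
  have hnB : ∀ i : ZMod (2 * h), ¬ Even i.val → n i * CB = o := fun i hi => by
    have e := overRefl_eq S (t := σ ^ h) i
    simp only [if_neg hi] at e
    rwa [if_pos hστ] at e
  have hone : ((1 : ℕ) : ZMod (2 * h)) ≠ 0 := fun e => by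
    have := Nat.le_of_dvd one_pos ((ZMod.natCast_eq_zero_iff _ _).1 e); omega
  have htwo : ((2 : ℕ) : ZMod (2 * h)) ≠ 0 := fun e => by
    have := Nat.le_of_dvd two_pos ((ZMod.natCast_eq_zero_iff _ _).1 e); omega
  have hv1 : ¬ Even ((1 : ℕ) : ZMod (2 * h)).val := by
    rw [ZMod.val_natCast_of_lt (by omega)]; simp
  have hv2 : Even ((2 : ℕ) : ZMod (2 * h)).val := by
    rw [ZMod.val_natCast_of_lt (by omega)]; exact even_two
  have hcodd : (Finset.univ.filter fun i : ZMod (2 * h) => ¬ Even i.val).card = h := by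
    have e := Finset.card_filter_add_card_filter_not (s := (Finset.univ : Finset (ZMod (2 * h))))
      (fun i => Even i.val)
    rw [card_even_val S, Finset.card_univ, ZMod.card] at e
    omega
  have hc1 : (∑ i : ZMod (2 * h), n i * n (i + (1 : ℕ))) * (CA * CB) = 2 * h * (o * o) := by
    rw [Finset.sum_mul, Finset.sum_congr rfl (g := fun _ : ZMod (2 * h) => o * o) fun i _ => ?_,
      Finset.sum_const, Finset.card_univ, ZMod.card, smul_eq_mul]
    by_cases hi : Even i.val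
    · rw [mul_mul_mul_comm, hnA i hi, hnB _ fun he => hv1 (((even_val_add S i _).1 he).1 hi)]
    · rw [mul_comm CA CB, mul_mul_mul_comm, hnB i hi,
        hnA _ ((even_val_add S i _).2 (iff_of_false hi hv1))]
  have hc2 : (∑ i : ZMod (2 * h), n i * n (i + (2 : ℕ))) * (CA * CA * (CB * CB)) =
      h * (o * o) * (CA * CA + CB * CB) := by
    rw [Finset.sum_mul, Finset.sum_congr rfl (g := fun i : ZMod (2 * h) =>
      if Even i.val then o * o * (CB * CB) else o * o * (CA * CA)) fun i _ => ?_,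
      Finset.sum_ite, Finset.sum_const, Finset.sum_const, card_even_val S, hcodd, smul_eq_mul,
      smul_eq_mul]
    · ring
    · by_cases hi : Even i.val
      · rw [if_pos hi, show n i * n (i + (2 : ℕ)) * (CA * CA * (CB * CB)) =
          n i * CA * (n (i + (2 : ℕ)) * CA) * (CB * CB) by ring, hnA i hi,
          hnA _ ((even_val_add S i _).2 (iff_of_true hi hv2))]
      · rw [if_neg hi, show n i * n (i + (2 : ℕ)) * (CA * CA * (CB * CB)) =
          n i * CB * (n (i + (2 : ℕ)) * CB) * (CA * CA) by ring, hnB i hi,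
          hnB _ fun he => hi (((even_val_add S i _).1 he).2 hv2)]
  have hsc : ∀ {l : ℕ}, (l : ZMod (2 * h)) ≠ 0 →
      (Nat.card G : ℂ) * (o : ℂ) * (∑ χ : IrrCharacter G, if χ ∈ Cfsg.principalBlock M G then
        (χ : G → ℂ) (σ ^ l) * ((χ : G → ℂ) (σ ^ h) * (χ : G → ℂ) (σ ^ h) / (χ : G → ℂ) 1)
          else 0) =
      (Nat.card (Subgroup.centralizer ({σ ^ h} : Set G)) : ℂ) *
        (Nat.card (Subgroup.centralizer ({σ ^ h} : Set G)) : ℂ) *
        ((∑ i : ZMod (2 * h), n i * n (i + (l : ℕ)) : ℕ) : ℂ) := by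
    intro l hlne
    have e := section_count₂ S hM S.J_order S.J_order hlne
    rw [Finset.sum_congr rfl fun χ _ => by rw [S.pw_natCast, conj_apply_pow S χ l]] at e
    exact e
  have hrel1 : ∀ i, 1 ≤ i → i < h → (Y i : G → ℂ) 1 = δ + (dX : ℂ) := by
    intro i i1 i2
    have e := (hrel 1 (by rw [orderOf_one]; exact odd_one) i i1 i2).2
    rw [hdX] at e
    rcases hδ with rfl | rfl <;> push_cast at e ⊢
    · linear_combination -e
    · linear_combination e
  set E : ℕ → ℂ := fun l => ∑ χ : IrrCharacter G, if χ ∈ Cfsg.principalBlock M G then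
    (χ : G → ℂ) (σ ^ l) * ((χ : G → ℂ) (σ ^ h) * (χ : G → ℂ) (σ ^ h) / (χ : G → ℂ) 1) else 0
    with hE
  have hJodd : ((-1 : ℂ)) ^ (h + 1) = -1 := hheven.add_one.neg_one_pow
  have hYs : ∀ l : ℕ, 0 < l → l < 2 * h → ∑ i ∈ Finset.Ico 1 h, (Y i : G → ℂ) (σ ^ l) *
      ((Y i : G → ℂ) (σ ^ h) * (Y i : G → ℂ) (σ ^ h) / (Y i : G → ℂ) 1) =
      4 / (1 + (δ : ℂ) * dX) * (-1 - (-1) ^ l) := by
    intro l l0 l1
    rw [show ((-1 : ℂ)) ^ l = (ζ ^ l) ^ h by rw [← hζh, ← pow_mul, ← pow_mul, mul_comm],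
      ← sum_pairs_pow (z := ζ ^ l) (by omega) (by
        rw [← pow_mul, mul_comm, pow_mul, hζ.pow_eq_one, one_pow])
        (hζ.pow_ne_one_of_pos_of_lt l0.ne' l1), Finset.mul_sum]
    refine Finset.sum_congr rfl fun i hi => ?_
    obtain ⟨i1, i2⟩ := Finset.mem_Ico.1 hi
    rw [(hv l (hl l l0 l1)).2.2.2 i i1 i2, hYJ i i1 i2, hrel1 i i1 i2, ← pow_mul, mul_comm l i]
    have hsum : (δ : ℂ) + dX = δ * (1 + (δ : ℂ) * dX) := by
      rcases hδ with rfl | rfl <;> push_cast <;> ring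
    rw [hsum]
    generalize (1 : ℂ) + (δ : ℂ) * dX = D
    rcases hδ with rfl | rfl <;> rcases Nat.even_or_odd i with hp | hp <;>
      rw [hp.neg_one_pow] <;> push_cast <;> ring
  have hEval : E 1 = 1 + 1 / ((δ : ℂ) * dX) + 1 / ((a : ℂ) * dA) + 1 / ((b : ℂ) * dB) ∧
      E 2 = 1 + 1 / ((δ : ℂ) * dX) - 1 / ((a : ℂ) * dA) - 1 / ((b : ℂ) * dB) -
        8 / (1 + (δ : ℂ) * dX) := by
    simp only [hE]
    rw [sum_block_eq n1 n2 n3 n4 n5 n6 hY hYinj hmem, sum_block_eq n1 n2 n3 n4 n5 n6 hY hYinj hmem,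
      hYs 1 one_pos (by omega), hYs 2 two_pos (by omega)]
    obtain ⟨p1, q1, r1, -⟩ := hv 1 (hl 1 one_pos (by omega))
    obtain ⟨p2, q2, r2, -⟩ := hv 2 (hl 2 two_pos (by omega))
    obtain ⟨pJ, qJ, rJ, -⟩ := hv h S.J_ne
    simp only [trivChar_apply, p1, q1, r1, p2, q2, r2, pJ, qJ, rJ, hdX, hdA, hdB, hJodd]
    constructor <;> rcases hδ with rfl | rfl <;> rcases ha with rfl | rfl <;>
      rcases hb with rfl | rfl <;> push_cast <;> ring
  set C := Nat.card (Subgroup.centralizer ({σ ^ h} : Set G)) with hC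
  have hCeq : C = 4 * h * o := card_C S
  set Ni := (Subgroup.centralizer ({σ ^ h} : Set G)).index with hNi
  have hG : Nat.card G = Ni * C := by rw [hNi, hC, Subgroup.index_mul_card]
  have hCne : (C : ℂ) * o ≠ 0 :=
    mul_ne_zero (subgroup_card_ne_zero _) (Nat.cast_ne_zero.2 Nat.card_pos.ne')
  have k1 : (Ni : ℂ) * CA * CB * E 1 = 8 * (h : ℂ) ^ 2 * (o : ℂ) ^ 2 := by
    have e := hsc (l := 1) hone
    have hc := congrArg (fun n : ℕ => (n : ℂ)) hc1
    rw [hG] at e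
    push_cast at hc e
    apply mul_left_cancel₀ hCne
    rw [hCeq] at e hCne ⊢
    push_cast at e ⊢
    linear_combination (CA : ℂ) * CB * e + (4 * h * o) * (4 * h * o) * hc
  have k2 : (Ni : ℂ) * CA ^ 2 * CB ^ 2 * E 2 =
      4 * (h : ℂ) ^ 2 * (o : ℂ) ^ 2 * ((CA : ℂ) ^ 2 + (CB : ℂ) ^ 2) := by
    have e := hsc (l := 2) htwo
    have hc := congrArg (fun n : ℕ => (n : ℂ)) hc2
    rw [hG] at e
    push_cast at hc e
    apply mul_left_cancel₀ hCne
    rw [hCeq] at e hCne ⊢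
    push_cast at e ⊢
    linear_combination (CA : ℂ) ^ 2 * (CB : ℂ) ^ 2 * e + (4 * h * o) * (4 * h * o) * hc
  rw [hEval.1] at k1
  rw [hEval.2] at k2
  have hne1 : δ * (dX : ℤ) ≠ -1 := fun e => by
    rw [e] at hxmod
    obtain ⟨c, hc⟩ := hxmod
    have := Int.eq_one_or_neg_one_of_mul_eq_neg_one (show (h : ℤ) * c = -1 by linarith)
    omega
  have nU : (a : ℂ) * dA ≠ 0 := mul_ne_zero (by rcases ha with rfl | rfl <;> norm_num)
    (Nat.cast_ne_zero.2 hdA0.ne')
  have nV : (b : ℂ) * dB ≠ 0 := mul_ne_zero (by rcases hb with rfl | rfl <;> norm_num)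
    (Nat.cast_ne_zero.2 hdB0.ne')
  have nX : (δ : ℂ) * dX ≠ 0 := mul_ne_zero (by rcases hδ with rfl | rfl <;> norm_num)
    (Nat.cast_ne_zero.2 hdX0.ne')
  have n1x : 1 + (δ : ℂ) * dX ≠ 0 := fun e => hne1 (by
    apply Int.cast_injective (α := ℂ); push_cast; linear_combination e)
  have hUVc : (a : ℂ) * dA + (b : ℂ) * dB = -(1 + (δ : ℂ) * dX) := by exact_mod_cast hUV
  rintro _ _ _ rfl rfl rfl
  refine ⟨hxmod, hUV, ?_, ?_⟩
  all_goals apply Int.cast_injective (α := ℂ)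
  all_goals push_cast
  all_goals generalize (a : ℂ) * dA = U at *
  all_goals generalize (b : ℂ) * dB = V at *
  all_goals generalize (δ : ℂ) * dX = x at *
  · have hV : V = -(1 + x) - U := by linear_combination hUVc
    subst hV
    have q : x + 1 ≠ 0 := by rwa [add_comm]
    have q' : -1 - x - U ≠ 0 := fun h' => nV (by linear_combination h')
    have e : (1 + 1 / x + 1 / U + 1 / (-(1 + x) - U)) +
        (1 + 1 / x - 1 / U - 1 / (-(1 + x) - U) - 8 / (1 + x)) =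
        2 * (x - 1) ^ 2 / (x * (x + 1)) := by
      field_simp
      ring
    have e' : ((1 + 1 / x + 1 / U + 1 / (-(1 + x) - U)) +
        (1 + 1 / x - 1 / U - 1 / (-(1 + x) - U) - 8 / (1 + x))) * (x * (x + 1)) =
        2 * (x - 1) ^ 2 := by
      rw [e, div_mul_cancel₀ _ (mul_ne_zero nX (by rwa [add_comm]))]
    linear_combination (x * (x + 1) / 2 * (CA : ℂ) * CB) * k1 + (x * (x + 1) / 2) * k2 -
      ((Ni : ℂ) * CA ^ 2 * CB ^ 2 / 2) * e'
  · have hV : V = -(1 + x) - U := by linear_combination hUVc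
    subst hV
    have e' : ((1 + 1 / x - 1 / U - 1 / (-(1 + x) - U) - 8 / (1 + x)) -
        (1 + 1 / x + 1 / U + 1 / (-(1 + x) - U))) * (U * (-(1 + x) - U) * (1 + x)) =
        2 * (U - (-(1 + x) - U)) ^ 2 := by
      field_simp
      ring
    linear_combination -(U * (-(1 + x) - U) * (1 + x) / 2 * (CA : ℂ) * CB) * k1 +
      (U * (-(1 + x) - U) * (1 + x) / 2) * k2 - ((Ni : ℂ) * CA ^ 2 * CB ^ 2 / 2) * e'

end CfsgLib.GW
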