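import Cfsg.Agent.GW.PrincipalDegree
import Cfsg.Agent.GW.OneClassValues
import Cfsg.Agent.GW.KArith
import Cfsg.Agent.Blocks.LocalRing

/-!
# Gorenstein–Walter: the bound on the ratio `k = W₁ / W₂`

For a minimal counterexample with dihedral Sylow 2-subgroup `⟨σ, τ⟩` of order at least eight,
`z = σ ^ h`, `W₁ = |fix z τ|`, `W₂ = |fix z (σ τ)|`: neither is five times as big as the other, and
`W₁ = 3 W₂` forces the degree `X = -15`, which determines the order.
-/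

set_option autoImplicit false
set_option linter.style.haveILetI false
set_option linter.unusedSectionVars false

open Subgroup
open scoped ComplexConjugate

namespace CfsgLib.GW

open Cfsg CfsgLib.Characters CfsgLib.PrincipalBlock CfsgLib.Inv54.DihedralBlock

universe u

namespace Minimal

variable {G : Type u} [Group G] {P : Sylow 2 G} {σ τ : G} {h : ℕ}

/-- The one-class equations with the bounds on the degrees, and the degree bound. -/
theorem principal_bounds [Fintype G] (hG : Minimal G) {M : Ideal AlgInt} (hM : Cfsg.IsPModular 2 M)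
    (S : Setup P σ τ h)
    (hne : Nat.card (fix (σ ^ h) τ) ≠ Nat.card (fix (σ ^ h) (σ * τ))) :
    (∃ x U V : ℤ, 4 ∣ x - 1 ∧ 9 ≤ x.natAbs ∧ 4 ∣ U + 1 ∧ 9 ≤ U.natAbs ∧ 4 ∣ V + 1 ∧
      9 ≤ V.natAbs ∧ U + V = -(1 + x) ∧
      ((centralizer ({σ ^ h} : Set G)).index : ℤ) *
          (Nat.card (fix (σ ^ h) τ) : ℤ) ^ 2 * (Nat.card (fix (σ ^ h) (σ * τ)) : ℤ) ^ 2 *
          (x - 1) ^ 2 =
        2 * (h : ℤ) ^ 2 * (Nat.card S.core : ℤ) ^ 2 *
          ((Nat.card (fix (σ ^ h) τ) : ℤ) + Nat.card (fix (σ ^ h) (σ * τ))) ^ 2 * (x * (x + 1)) ∧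
      ((centralizer ({σ ^ h} : Set G)).index : ℤ) *
          (Nat.card (fix (σ ^ h) τ) : ℤ) ^ 2 * (Nat.card (fix (σ ^ h) (σ * τ)) : ℤ) ^ 2 *
          (U - V) ^ 2 =
        2 * (h : ℤ) ^ 2 * (Nat.card S.core : ℤ) ^ 2 *
          ((Nat.card (fix (σ ^ h) τ) : ℤ) - Nat.card (fix (σ ^ h) (σ * τ))) ^ 2 *
          (U * V * (1 + x))) ∧
    ∀ χ ∈ Cfsg.principalBlock M G, χ ≠ trivChar G → ∀ d : ℕ, (χ : G → ℂ) 1 = d → 9 ≤ d := by
  classical
  haveI : M.IsPrime := Blocks.IsPModular.isPrime hM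
  haveI : NeZero (2 * h) := S.ne_zero
  have h2 := S.two_le
  have hheven : Even h := by
    obtain ⟨k₀, hk₀⟩ := S.pow2
    rcases k₀ with _ | k₀
    · simp at hk₀; omega
    · rw [hk₀, pow_succ]; exact even_two.mul_left _
  have hl : ∀ l : ℕ, 0 < l → l < 2 * h → σ ^ l ≠ 1 := fun l l0 l1 e => by
    have := Nat.le_of_dvd l0 (S.pow_eq_one.1 e); omega
  obtain ⟨ζ, hζ⟩ : ∃ ζ : ℂ, IsPrimitiveRoot ζ (2 * h) :=
    ⟨_, Complex.isPrimitiveRoot_exp (2 * h) (NeZero.ne _)⟩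
  have hζh : ζ ^ h = -1 := by
    have h1 : ζ ^ h * ζ ^ h = 1 := by rw [← pow_add, ← two_mul, hζ.pow_eq_one]
    exact (mul_self_eq_one_iff.1 h1).resolve_left
      (hζ.pow_ne_one_of_pos_of_lt (by omega) (by omega))
  obtain ⟨X, A, B, Y, δ, a, b, hδ, ha, hb, n1, n2, n3, n4, n5, n6, hY, hYinj, hmem, hv, hrel⟩ :=
    S.principal_block hM hζ
  obtain ⟨dX, hdX0, hdX⟩ := exists_degree_pos X.2
  obtain ⟨dA, hdA0, hdA⟩ := exists_degree_pos A.2
  obtain ⟨dB, hdB0, hdB⟩ := exists_degree_pos B.2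
  -- the four-groups
  have hστ2 : orderOf (σ * τ) = 2 := by
    refine Small.orderOf_eq_two_iff_sq.2 ⟨fun e => S.notMem ?_, ?_⟩
    · rw [eq_inv_of_mul_eq_one_right e]; exact inv_mem (mem_zpowers σ)
    · have := S.rel
      rw [Small.inv_eq_self_of_orderOf_two S.ordτ] at this
      calc σ * τ * (σ * τ) = σ * (τ * σ * τ) := by group
        _ = 1 := by rw [this, mul_inv_cancel]
  have hτ := hG.isConj S.J_order S.ordτ
  have hστ := hG.isConj S.J_order hστ2
  have hJτ : σ ^ h ≠ τ := fun e => S.notMem (e ▸ pow_mem (mem_zpowers σ) h)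
  have hJστ : σ ^ h ≠ σ * τ := fun e => S.notMem (by
    rw [show τ = σ⁻¹ * σ ^ h by rw [e, inv_mul_cancel_left]]
    exact mul_mem (inv_mem (mem_zpowers σ)) (pow_mem (mem_zpowers σ) h))
  obtain ⟨E1, E2, E3, E4⟩ := one_class_values hM S hτ hστ hζ hδ ha hb n1 n2 n3 n4 n5 n6 hY hYinj
    hmem hv hrel hdX hdA hdB (δ * dX) (a * dA) (b * dB) rfl rfl rfl
  have efix : ∀ t : G, S.core ⊓ centralizer ({t} : Set G) = fix (σ ^ h) t := fun t => by
    rw [hG.core_eq_setup S]; rfl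
  rw [efix, efix] at E3 E4
  obtain ⟨pJ, qJ, rJ, sJ⟩ := hv h S.J_ne
  rw [hheven.add_one.neg_one_pow, mul_neg_one] at qJ rJ
  obtain ⟨p1, q1, r1, -⟩ := hv 1 (hl 1 one_pos (by omega))
  obtain ⟨p2, q2, r2, -⟩ := hv 2 (hl 2 two_pos (by omega))
  rw [show ((-1 : ℂ)) ^ (1 + 1) = 1 by norm_num, mul_one] at q1 r1
  rw [show ((-1 : ℂ)) ^ (2 + 1) = -1 by norm_num, mul_neg_one] at q2 r2
  have hsign : ∀ {s : ℤ}, s = 1 ∨ s = -1 → (s : ℂ) ≠ 0 ∧ (s : ℂ) ≠ -(s : ℂ) := by
    rintro s (rfl | rfl) <;> norm_num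
  -- the conjugates
  let conjI : IrrCharacter G → IrrCharacter G := fun χ =>
    ⟨fun g => conj ((χ : G → ℂ) g), isIrr_conj χ.2⟩
  have hcc : ∀ χ, conjI (conjI χ) = χ := fun χ =>
    Subtype.ext (funext fun g => Complex.conj_conj _)
  have hcB : ∀ {χ}, χ ∈ Cfsg.principalBlock M G → conjI χ ∈ Cfsg.principalBlock M G := fun hχ =>
    BlocksFrobenius.Klein.conj_mem_principalBlock (fun g => rfl) hχ
  have hcT : conjI (trivChar G) = trivChar G := Subtype.ext (funext fun g => by simp [conjI])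
  have hXB : X ∈ Cfsg.principalBlock M G := (hmem X).2 (Or.inr (Or.inl rfl))
  have hAB : A ∈ Cfsg.principalBlock M G := (hmem A).2 (Or.inr (Or.inr (Or.inl rfl)))
  have hBB : B ∈ Cfsg.principalBlock M G := (hmem B).2 (Or.inr (Or.inr (Or.inr (Or.inl rfl))))
  have hXr : conjI X = X := by
    rcases (hmem _).1 (hcB hXB) with e | e | e | e | ⟨i, i1, i2, e⟩
    · exact absurd (by rw [← hcc X, e, hcT]) n1.symm
    · exact e
    · have f1 := congrFun (congrArg Subtype.val e) (σ ^ 1)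
      have f2 := congrFun (congrArg Subtype.val e) (σ ^ 2)
      simp only [conjI, p1, p2, q1, q2, map_intCast] at f1 f2
      exact absurd (f1.symm.trans f2) (hsign ha).2
    · have f1 := congrFun (congrArg Subtype.val e) (σ ^ 1)
      have f2 := congrFun (congrArg Subtype.val e) (σ ^ 2)
      simp only [conjI, p1, p2, r1, r2, map_intCast] at f1 f2
      exact absurd (f1.symm.trans f2) (hsign hb).2
    · exfalso
      have f := congrFun (congrArg Subtype.val e) (σ ^ h)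
      simp only [conjI, pJ, sJ i i1 i2, map_intCast, mul_comm i h, pow_mul, hζh] at f
      rcases Nat.even_or_odd i with hi | hi <;> rcases hδ with rfl | rfl <;>
        norm_num [hi.neg_one_pow] at f
  have hUV : a * (dA : ℤ) ≠ b * dB := by
    intro e
    rw [e, sub_self, zero_pow two_ne_zero, mul_zero] at E4
    have hne' : ((Nat.card (fix (σ ^ h) τ) : ℤ) - Nat.card (fix (σ ^ h) (σ * τ))) ≠ 0 :=
      sub_ne_zero.2 fun e' => hne (by exact_mod_cast e')
    have hb0 : b * (dB : ℤ) ≠ 0 :=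
      mul_ne_zero (by rcases hb with rfl | rfl <;> norm_num) (by omega)
    have hx0 : 1 + δ * (dX : ℤ) ≠ 0 := by omega
    exact mul_ne_zero (mul_ne_zero (mul_ne_zero (mul_ne_zero two_ne_zero
      (pow_ne_zero 2 (by omega))) (pow_ne_zero 2 (Nat.cast_ne_zero.2 (Nat.card_pos (α := S.core)).ne')))
      (pow_ne_zero 2 hne')) (mul_ne_zero (mul_ne_zero hb0 hb0) hx0) E4.symm
  have hAr : conjI A = A := by
    rcases (hmem _).1 (hcB hAB) with e | e | e | e | ⟨i, i1, i2, e⟩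
    · exact absurd (by rw [← hcc A, e, hcT]) n2.symm
    · exact absurd (by rw [← hcc A, e, hXr]) n4.symm
    · exact e
    · exfalso
      have f1 := congrFun (congrArg Subtype.val e) (σ ^ 1)
      have f0 := congrFun (congrArg Subtype.val e) 1
      simp only [conjI, q1, r1, hdA, hdB, map_intCast, map_natCast] at f1 f0
      exact hUV (by rw [Int.cast_inj.1 f1, Nat.cast_inj.1 f0])
    · exfalso
      have f := congrFun (congrArg Subtype.val e) (σ ^ h)
      simp only [conjI, qJ, sJ i i1 i2, map_neg, map_intCast, mul_comm i h, pow_mul, hζh] at f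
      rcases Nat.even_or_odd i with hi | hi <;> rcases ha with rfl | rfl <;>
        rcases hδ with rfl | rfl <;> norm_num [hi.neg_one_pow] at f
  have hBr : conjI B = B := by
    rcases (hmem _).1 (hcB hBB) with e | e | e | e | ⟨i, i1, i2, e⟩
    · exact absurd (by rw [← hcc B, e, hcT]) n3.symm
    · exact absurd (by rw [← hcc B, e, hXr]) n5.symm
    · exact absurd (by rw [← hcc B, e, hAr]) n6.symm
    · exact e
    · exfalso
      have f := congrFun (congrArg Subtype.val e) (σ ^ h)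
      simp only [conjI, rJ, sJ i i1 i2, map_neg, map_intCast, mul_comm i h, pow_mul, hζh] at f
      rcases Nat.even_or_odd i with hi | hi <;> rcases hb with rfl | rfl <;>
        rcases hδ with rfl | rfl <;> norm_num [hi.neg_one_pow] at f
  -- the degree bound, from the non-trivial one of the two fixed groups
  have hdeg : ∀ χ ∈ Cfsg.principalBlock M G, χ ≠ trivChar G → conjI χ = χ → ∀ d : ℕ, ∀ s : ℤ,
      (χ : G → ℂ) 1 = d → (χ : G → ℂ) (σ ^ h) = s → (s = 1 ∨ s = -1) →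
        9 ≤ d ∧ (4 : ℤ) ∣ (d : ℤ) - s := by
    intro χ hχ hχ1 hr d s hd hs hs1
    have hreal : ∀ g, conj ((χ : G → ℂ) g) = (χ : G → ℂ) g := fun g =>
      congrFun (congrArg Subtype.val hr) g
    obtain ⟨m₀, k, hd', hk, hm⟩ : ∃ m₀ k : ℕ, d = m₀ + 4 * k ∧ 2 ≤ k ∧ (4 : ℤ) ∣ (m₀ : ℤ) - s := by
      by_cases hW : fix (σ ^ h) τ = ⊥
      · refine hG.degree_real hM S.J_order hστ2 hJστ (S.J_central (mul_mem S.memσ S.memτ)).symm
          (fun hW' => hne ?_) hχ hχ1 hreal hd hs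
        rw [hW, hW']
      · exact hG.degree_real hM S.J_order S.ordτ hJτ (S.J_central S.memτ).symm hW hχ hχ1 hreal hd hs
    omega
  obtain ⟨gX, cX⟩ := hdeg X hXB n1.symm hXr dX δ hdX pJ hδ
  obtain ⟨gA, cA⟩ := hdeg A hAB n2.symm hAr dA (-a) hdA (by rw [qJ]; push_cast; rfl) (by omega)
  obtain ⟨gB, cB⟩ := hdeg B hBB n3.symm hBr dB (-b) hdB (by rw [rJ]; push_cast; rfl) (by omega)
  refine ⟨⟨δ * dX, a * dA, b * dB, ?_, ?_, ?_, ?_, ?_, ?_, E2, E3, E4⟩, ?_⟩
  · rcases hδ with rfl | rfl <;> omega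
  · rcases hδ with rfl | rfl <;> omega
  · rcases ha with rfl | rfl <;> omega
  · rcases ha with rfl | rfl <;> omega
  · rcases hb with rfl | rfl <;> omega
  · rcases hb with rfl | rfl <;> omega
  intro χ hχ hχ1 d hd
  rcases (hmem χ).1 hχ with e | e | e | e | ⟨i, i1, i2, e⟩
  · exact absurd e hχ1
  · rw [e, hdX, Nat.cast_inj] at hd; omega
  · rw [e, hdA, Nat.cast_inj] at hd; omega
  · rw [e, hdB, Nat.cast_inj] at hd; omega
  · have e1 := (hrel 1 (by rw [orderOf_one]; exact odd_one) i i1 i2).2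
    rw [hdX, ← e, hd] at e1
    have e2 : 1 + δ * (dX : ℤ) = δ * d := by
      apply Int.cast_injective (α := ℂ); push_cast; exact e1
    rcases hδ with rfl | rfl <;> omega

/-- Every non-trivial character of the principal block has degree at least nine when `W₁ ≠ W₂`. -/
theorem nine_le_degree [Fintype G] (hG : Minimal G) {M : Ideal AlgInt} (hM : Cfsg.IsPModular 2 M)
    (S : Setup P σ τ h)
    (hne : Nat.card (fix (σ ^ h) τ) ≠ Nat.card (fix (σ ^ h) (σ * τ))) {χ : IrrCharacter G}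
    (hχ : χ ∈ Cfsg.principalBlock M G) (hχ1 : χ ≠ trivChar G) {d : ℕ}
    (hd : (χ : G → ℂ) 1 = d) : 9 ≤ d :=
  (hG.principal_bounds hM S hne).2 χ hχ hχ1 d hd

/-- The data entering the arithmetic. -/
theorem ratio_data [Finite G] (hG : Minimal G) (S : Setup P σ τ h)
    (hne : Nat.card (fix (σ ^ h) τ) ≠ Nat.card (fix (σ ^ h) (σ * τ))) :
    ∃ x U V : ℤ, 4 ∣ x - 1 ∧ 9 ≤ x.natAbs ∧ 4 ∣ U + 1 ∧ 9 ≤ U.natAbs ∧ 4 ∣ V + 1 ∧
      9 ≤ V.natAbs ∧ U + V = -(1 + x) ∧
      ((Nat.card (fix (σ ^ h) τ) : ℤ) + Nat.card (fix (σ ^ h) (σ * τ))) ^ 2 * x * (U - V) ^ 2 =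
        ((Nat.card (fix (σ ^ h) τ) : ℤ) - Nat.card (fix (σ ^ h) (σ * τ))) ^ 2 * (x - 1) ^ 2 *
          (U * V) ∧
      8 * (Nat.card G : ℤ) * (x - 1) ^ 2 *
          (Nat.card (fix (σ ^ h) τ) : ℤ) ^ 2 * (Nat.card (fix (σ ^ h) (σ * τ)) : ℤ) ^ 2 =
        x * (x + 1) * (Nat.card (centralizer ({σ ^ h} : Set G)) : ℤ) ^ 3 *
          ((Nat.card (fix (σ ^ h) τ) : ℤ) + Nat.card (fix (σ ^ h) (σ * τ))) ^ 2 := by
  haveI := Fintype.ofFinite G
  obtain ⟨M, hM⟩ := Blocks.exists_isPModular 2 Nat.prime_two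
  obtain ⟨⟨x, U, V, hx, hx9, hU, hU9, hV, hV9, hs, E3, E4⟩, -⟩ := hG.principal_bounds hM S hne
  refine ⟨x, U, V, hx, hx9, hU, hU9, hV, hV9, hs, ?_, ?_⟩
  · set W1 : ℤ := (Nat.card (fix (σ ^ h) τ) : ℤ)
    set W2 : ℤ := (Nat.card (fix (σ ^ h) (σ * τ)) : ℤ)
    have hc : 2 * (h : ℤ) ^ 2 * (Nat.card S.core : ℤ) ^ 2 * (1 + x) ≠ 0 := by
      have h2 := S.two_le
      exact mul_ne_zero (mul_ne_zero (mul_ne_zero two_ne_zero (pow_ne_zero 2 (by omega)))
        (pow_ne_zero 2 (by exact_mod_cast Nat.card_pos.ne'))) (by omega)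
    refine mul_left_cancel₀ hc ?_
    linear_combination (x - 1) ^ 2 * E4 - (U - V) ^ 2 * E3
  · rw [← index_mul_card (centralizer ({σ ^ h} : Set G)),
      SuzukiWong.card_C S]
    push_cast
    linear_combination 32 * (h : ℤ) * (Nat.card S.core : ℤ) * E3

variable [Finite G] (hG : Minimal G) (S : Setup P σ τ h)
include hG S

/-- Neither fixed group is five times as large as the other. -/
theorem not_five_le : ¬ 5 * Nat.card (fix (σ ^ h) (σ * τ)) ≤ Nat.card (fix (σ ^ h) τ) ∧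
    ¬ 5 * Nat.card (fix (σ ^ h) τ) ≤ Nat.card (fix (σ ^ h) (σ * τ)) := by
  have h1 : 0 < Nat.card (fix (σ ^ h) τ) := Nat.card_pos
  have h2 : 0 < Nat.card (fix (σ ^ h) (σ * τ)) := Nat.card_pos
  constructor <;> intro hle <;>
  · obtain ⟨x, U, V, hx, hx9, hU, hU9, hV, hV9, hs, heq, -⟩ := hG.ratio_data S (by omega)
    refine KArith.not_five hx hx9 hU hU9 hV hV9 hs heq (by positivity) ?_
    have hle' := hle
    zify at hle'
    nlinarith [mul_le_mul_of_nonneg_left hle' (show (0 : ℤ) ≤ Nat.card (fix (σ ^ h) τ) by positivity),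
      mul_le_mul_of_nonneg_left hle'
        (show (0 : ℤ) ≤ Nat.card (fix (σ ^ h) (σ * τ)) by positivity)]

/-- Ratio three gives `X = -15`, hence the order. -/
theorem order_of_ratio_three
    (hk : Nat.card (fix (σ ^ h) τ) = 3 * Nat.card (fix (σ ^ h) (σ * τ))) :
    2048 * Nat.card G * Nat.card (fix (σ ^ h) τ) ^ 2 * Nat.card (fix (σ ^ h) (σ * τ)) ^ 2 =
      210 * Nat.card (centralizer ({σ ^ h} : Set G)) ^ 3 *
        (Nat.card (fix (σ ^ h) τ) + Nat.card (fix (σ ^ h) (σ * τ))) ^ 2 := by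
  have h2 : 0 < Nat.card (fix (σ ^ h) (σ * τ)) := Nat.card_pos
  obtain ⟨x, U, V, hx, hx9, hU, hU9, hV, hV9, hs, heq, hord⟩ := hG.ratio_data S (by omega)
  have hk' : (Nat.card (fix (σ ^ h) τ) : ℤ) = 3 * (Nat.card (fix (σ ^ h) (σ * τ)) : ℤ) := by
    exact_mod_cast hk
  obtain rfl := KArith.eq_neg_fifteen hx hx9 hU hU9 hV hV9 hs heq (by positivity)
    (by rw [hk']; ring)
  zify
  linear_combination hord

end Minimal

end CfsgLib.GW
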