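import Cfsg.Agent.OddOrder.BG4.Basic
import Cfsg.Agent.S0126

/-!
# Gorenstein–Walter 4.1: the split on the normal `r`-subgroup

`R` is an `r`-group normalised by `C`, `X ≤ R` a line with normaliser in `N`, `R ∩ N` abelian of
rank two at most, `b ∈ C` an involution whose fixed points of order `r` lie in `X`.  Either some
`E ≅ r²` containing `X` inside `R ∩ N` is normal in `C`, or some `Y ≤ R` normal in `C` is moved by
`X` and is `r²` inverted by `b` or extraspecial of order `r³` with centre inverted by `b`.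
-/

set_option autoImplicit false
set_option linter.style.haveILetI false

open Subgroup
open scoped commutatorElement

namespace CfsgLib.GW

variable {G : Type*} [Group G] [Finite G]

/-- The local hypotheses. -/
structure LineData (C N R X : Subgroup G) (r : ℕ) (b : G) : Prop where
  hr : r.Prime
  hr2 : r ≠ 2
  hRp : IsPGroup r R
  hRC : C ≤ normalizer (R : Set G)
  hX : Nat.card X = r
  hXR : X ≤ R
  hNX : normalizer (X : Set G) ≤ N
  hXC : ¬ C ≤ normalizer (X : Set G)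
  hab : ∀ x ∈ R ⊓ N, ∀ y ∈ R ⊓ N, x * y = y * x
  hrank : Nat.card {x : G // x ∈ R ⊓ N ∧ x ^ r = 1} ≤ r ^ 2
  hbC : b ∈ C
  hb : b * b = 1
  hfix : ∀ x ∈ R, b * x = x * b → x ^ r = 1 → x ∈ X

/-- What is left when no normal plane contains `X`. -/
structure Moved (C R X : Subgroup G) (r : ℕ) (b : G) (Z Y : Subgroup G) : Prop where
  hZY : Z ≤ Y
  hYR : Y ≤ R
  hZC : C ≤ normalizer (Z : Set G)
  hYC : C ≤ normalizer (Y : Set G)
  hZ : Nat.card Z = r
  hexp : ∀ y ∈ Y, y ^ r = 1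
  hbZ : ∀ z ∈ Z, b * z * b⁻¹ = z⁻¹
  hZR : ∀ z ∈ Z, ∀ y ∈ R, z * y = y * z
  hcomm : ∀ x ∈ Y, ∀ y ∈ R, ⁅x, y⁆ ∈ Z
  hmoved : ¬ Y ≤ centralizer (X : Set G)
  shape : (Nat.card Y = r ^ 2 ∧ ∀ y ∈ Y, b * y * b⁻¹ = y⁻¹) ∨ (Nat.card Y = r ^ 3 ∧ X ≤ Y)

omit [Finite G] in
theorem commutatorElement_conj (c x y : G) : c * ⁅x, y⁆ * c⁻¹ = ⁅c * x * c⁻¹, c * y * c⁻¹⁆ := by
  rw [commutatorElement_def, commutatorElement_def]
  group

omit [Finite G] in
theorem le_normalizer_of_forall {C H : Subgroup G} (h : ∀ c ∈ C, ∀ x ∈ H, c * x * c⁻¹ ∈ H) :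
    C ≤ normalizer (H : Set G) := fun c hc => mem_normalizer_iff.2 fun x =>
  ⟨h c hc x, fun hx => by simpa [mul_assoc] using h c⁻¹ (inv_mem hc) _ hx⟩

/-- A subgroup strictly above one of order `r` and of order at most `r²` has order `r²`. -/
theorem card_eq_sq {A B : Subgroup G} {r n : ℕ} (hr : r.Prime) (hB : Nat.card B = r ^ n)
    (hA : Nat.card A = r) (hlt : A < B) (hle : Nat.card B ≤ r ^ 2) : Nat.card B = r ^ 2 := by
  have h1 : Nat.card A < Nat.card B :=
    lt_of_le_of_ne (card_le_of_le hlt.le) fun h => hlt.ne (eq_of_le_of_card_ge hlt.le h.ge)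
  rw [hA, hB] at h1
  rw [hB] at hle ⊢
  have h2 : 1 < n := (Nat.pow_lt_pow_iff_right hr.one_lt).1 (by rwa [pow_one])
  have h3 : n ≤ 2 := (Nat.pow_le_pow_iff_right hr.one_lt).1 hle
  rw [show n = 2 by omega]

namespace LineData

variable {C N R X : Subgroup G} {r : ℕ} {b : G} (h : LineData C N R X r b)
include h

theorem fix_le_N : R ⊓ centralizer (X : Set G) ≤ N :=
  fun _ hx => h.hNX ((centralizer_le_normalizer _) (mem_inf.1 hx).2)

omit [Finite G] in
theorem N_le_fix : R ⊓ N ≤ centralizer (X : Set G) := fun x hx =>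
  mem_centralizer_iff.2 fun y hy => h.hab y ⟨h.hXR hy, h.hNX (le_normalizer hy)⟩ x hx

theorem card_le_sq {E : Subgroup G} (hE : E ≤ R ⊓ N) (he : ∀ x ∈ E, x ^ r = 1) :
    Nat.card E ≤ r ^ 2 := by
  refine le_trans (Nat.card_le_card_of_injective
    (fun x : E => (⟨x.1, hE x.2, he _ x.2⟩ : {x : G // x ∈ R ⊓ N ∧ x ^ r = 1})) ?_) h.hrank
  intro x y hxy
  exact Subtype.ext (congrArg (fun t : {x : G // x ∈ R ⊓ N ∧ x ^ r = 1} => t.1) hxy)

omit [Finite G] in
theorem exponent_sup {A B : Subgroup G} (hA : A ≤ R ⊓ N) (hB : B ≤ R ⊓ N)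
    (ha : ∀ x ∈ A, x ^ r = 1) (hb : ∀ x ∈ B, x ^ r = 1) : ∀ x ∈ A ⊔ B, x ^ r = 1 := by
  intro x hx
  let T : Subgroup G :=
    { carrier := {x | x ∈ R ⊓ N ∧ x ^ r = 1}
      one_mem' := ⟨one_mem _, one_pow _⟩
      mul_mem' := fun {x y} hx hy => ⟨mul_mem hx.1 hy.1, by
        rw [(show Commute x y from h.hab x hx.1 y hy.1).mul_pow, hx.2, hy.2, one_mul]⟩
      inv_mem' := fun {x} hx => ⟨inv_mem hx.1, by rw [inv_pow, hx.2, inv_one]⟩ }
  exact ((sup_le (fun a h' => ⟨hA h', ha a h'⟩) (fun a h' => ⟨hB h', hb a h'⟩) : A ⊔ B ≤ T) hx).2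

omit [Finite G] in
theorem pow_X : ∀ x ∈ X, x ^ r = 1 := fun x hx => by
  rw [← h.hX]; exact orderOf_dvd_iff_pow_eq_one.1 (X.orderOf_dvd_natCard hx)

theorem split : (∃ E : Subgroup G, Nat.card E = r ^ 2 ∧ X ≤ E ∧ E ≤ R ⊓ N ∧
      C ≤ normalizer (E : Set G)) ∨ ∃ Z Y : Subgroup G, Moved C R X r b Z Y := by
  haveI : Fact r.Prime := ⟨h.hr⟩
  have hconjR : ∀ c ∈ C, ∀ x ∈ R, c * x * c⁻¹ ∈ R := fun c hc x hx =>
    (mem_normalizer_iff.1 (h.hRC hc) x).1 hx
  let Z : Subgroup G :=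
    { carrier := {x | x ∈ R ∧ (∀ y ∈ R, x * y = y * x) ∧ x ^ r = 1}
      one_mem' := ⟨one_mem _, fun y _ => by simp, one_pow _⟩
      mul_mem' := fun {x y} hx hy => ⟨mul_mem hx.1 hy.1, fun w hw => by
          rw [mul_assoc, hy.2.1 w hw, ← mul_assoc, hx.2.1 w hw, mul_assoc],
        by rw [(show Commute x y from hx.2.1 y hy.1).mul_pow, hx.2.2, hy.2.2, one_mul]⟩
      inv_mem' := fun {x} hx => ⟨inv_mem hx.1,
        fun w hw => ((show Commute x w from hx.2.1 w hw).inv_left).eq,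
        by rw [inv_pow, hx.2.2, inv_one]⟩ }
  have hZmem : ∀ x, x ∈ Z ↔ x ∈ R ∧ (∀ y ∈ R, x * y = y * x) ∧ x ^ r = 1 := fun _ => Iff.rfl
  have hZR : ∀ z ∈ Z, ∀ y ∈ R, z * y = y * z := fun z hz => hz.2.1
  have hXN : X ≤ R ⊓ N := le_inf h.hXR (le_normalizer.trans h.hNX)
  have hZN : Z ≤ R ⊓ N := fun x hx => ⟨hx.1, h.fix_le_N ⟨hx.1,
    mem_centralizer_iff.2 fun y hy => (hx.2.1 y (h.hXR hy)).symm⟩⟩
  have hZC : C ≤ normalizer (Z : Set G) := le_normalizer_of_forall fun c hc x hx =>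
    ⟨hconjR c hc x hx.1, fun y hy => by
      have e := hx.2.1 (c⁻¹ * y * c) (by simpa using hconjR c⁻¹ (inv_mem hc) y hy)
      calc c * x * c⁻¹ * y = c * (x * (c⁻¹ * y * c)) * c⁻¹ := by group
        _ = c * (c⁻¹ * y * c * x) * c⁻¹ := by rw [e]
        _ = y * (c * x * c⁻¹) := by group,
      by rw [conj_pow, hx.2.2, mul_one, mul_inv_cancel]⟩
  obtain ⟨n0, hn0⟩ := (h.hRp.to_le (show Z ≤ R from fun x hx => hx.1)).exists_card_eq
  have hRne : R ≠ ⊥ := fun e => by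
    have := h.hr.one_lt
    rw [← h.hX, (eq_bot_iff.2 (e ▸ h.hXR) : X = ⊥), card_bot] at this
    omega
  have hZne : Z ≠ ⊥ := by
    obtain ⟨w, -, hwc, hwo⟩ := OddOrder.BG4.exists_central_orderOf_prime h.hRp (N := ⊤) (by
      intro e
      haveI := (nontrivial_iff_ne_bot R).2 hRne
      exact top_ne_bot e)
    intro e
    have hw : (w : G) ∈ Z := ⟨w.2, fun y hy =>
      congrArg Subtype.val (mem_center_iff.1 hwc ⟨y, hy⟩).symm, by
      rw [← SubmonoidClass.coe_pow, ← hwo, pow_orderOf_eq_one, OneMemClass.coe_one]⟩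
    rw [e, mem_bot] at hw
    rw [OneMemClass.coe_eq_one.1 hw, orderOf_one] at hwo
    exact h.hr.one_lt.ne hwo
  have hZsq := h.card_le_sq hZN fun x hx => hx.2.2
  by_cases hXZ : X ≤ Z
  · -- `X` central
    left
    refine ⟨Z, ?_, hXZ, hZN, hZC⟩
    refine card_eq_sq h.hr hn0 h.hX (lt_of_le_of_ne hXZ fun e => h.hXC ?_) hZsq
    rw [e]; exact hZC
  have hXZbot : ∀ x ∈ X, x ∈ Z → x = 1 := fun x hx hxZ => by
    by_contra hx1
    refine hXZ ?_
    have e : zpowers x = X := eq_of_le_of_card_ge (zpowers_le.2 hx) (by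
      rw [Nat.card_zpowers, orderOf_eq_prime (h.pow_X x hx) hx1, h.hX])
    rw [← e]
    exact zpowers_le.2 hxZ
  -- `|Z| = r`
  have hE0N : X ⊔ Z ≤ R ⊓ N := sup_le hXN hZN
  have hE0exp : ∀ x ∈ X ⊔ Z, x ^ r = 1 := h.exponent_sup hXN hZN h.pow_X fun x hx => hx.2.2
  have hE0 := h.card_le_sq hE0N hE0exp
  obtain ⟨nE, hnE⟩ := (h.hRp.to_le (hE0N.trans inf_le_left)).exists_card_eq
  have hE0' : Nat.card (X ⊔ Z : Subgroup G) = r ^ 2 := card_eq_sq h.hr hnE h.hX
    (lt_of_le_of_ne le_sup_left fun e => by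
      refine hZne (eq_bot_iff.2 fun x hx => ?_)
      have hxX : x ∈ X := by rw [e]; exact mem_sup_right hx
      exact hXZbot x hxX hx) hE0
  have hZcard : Nat.card Z = r := by
    by_contra hne
    obtain ⟨x, hx, hx1⟩ : ∃ x ∈ X, x ≠ 1 := by
      by_contra hcon
      push Not at hcon
      have := h.hr.one_lt
      rw [← h.hX, (eq_bot_iff.2 fun x hx => mem_bot.2 (hcon x hx) : X = ⊥), card_bot] at this
      omega
    have hlt : Z < X ⊔ Z := lt_of_le_of_ne le_sup_right fun e =>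
      hx1 (hXZbot x hx (e ▸ mem_sup_left hx))
    have h1 : Nat.card Z < r ^ 2 := hE0' ▸ lt_of_le_of_ne (card_le_of_le hlt.le)
      fun h' => hlt.ne (eq_of_le_of_card_ge hlt.le h'.ge)
    rw [hn0] at h1
    have h2 : n0 < 2 := (Nat.pow_lt_pow_iff_right h.hr.one_lt).1 h1
    have h3 : n0 ≠ 0 := fun e => hZne (card_eq_one.1 (by rw [hn0, e, pow_zero]))
    exact hne (by rw [hn0, show n0 = 1 by omega, pow_one])
  have hbi : b⁻¹ = b := inv_eq_of_mul_eq_one_right h.hb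
  -- `b` inverts an exponent `r` commutative normal part off `X`
  have hinv : ∀ H : Subgroup G, H ≤ R → C ≤ normalizer (H : Set G) →
      (∀ x ∈ H, ∀ y ∈ H, x * y = y * x) → (∀ x ∈ H, x ^ r = 1) → (∀ x ∈ H, x ∈ X → x = 1) →
      ∀ y ∈ H, b * y * b⁻¹ = y⁻¹ := by
    intro H hHR hHC hHab hHexp hHX y hy
    have hy' : b * y * b⁻¹ ∈ H := (mem_normalizer_iff.1 (hHC h.hbC) y).1 hy
    refine eq_inv_of_mul_eq_one_left (hHX _ (mul_mem hy' hy) (h.hfix _ (hHR (mul_mem hy' hy)) ?_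
      (hHexp _ (mul_mem hy' hy))))
    have e := hHab _ hy _ hy'
    rw [hbi] at e ⊢
    calc b * (b * y * b * y) = (b * b) * (y * b * y) := by group
      _ = y * b * y * (b * b) := by rw [h.hb, one_mul, mul_one]
      _ = y * (b * y * b) * b := by group
      _ = b * y * b * y * b := by rw [e]
  have hbZ := hinv Z (fun x hx => hx.1) hZC (fun x hx y hy => hx.2.1 y hy.1) (fun x hx => hx.2.2)
    (fun x hx hxX => hXZbot x hxX hx)
  -- the second part
  have hmul : ∀ {x y : G}, x ∈ R → y ∈ R → x ^ r = 1 → y ^ r = 1 → ⁅y, x⁆ ∈ Z →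
      (x * y) ^ r = 1 := by
    intro x y hx hy hxr hyr hc
    -- work inside `R`
    have e := OddOrder.BG4.mul_pow_eq_one (R := R) (x := ⟨x, hx⟩) (y := ⟨y, hy⟩) h.hr2
      (fun w => Subtype.ext (hc.2.1 w w.2)) (Subtype.ext hxr) (Subtype.ext hyr)
    exact congrArg Subtype.val e
  let Y : Subgroup G :=
    { carrier := {x | x ∈ R ∧ x ^ r = 1 ∧ ∀ y ∈ R, ⁅x, y⁆ ∈ Z}
      one_mem' := ⟨one_mem _, one_pow _, fun y _ => by simp [commutatorElement_one_left]⟩
      mul_mem' := fun {x y} hx hy => ⟨mul_mem hx.1 hy.1,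
        hmul hx.1 hy.1 hx.2.1 hy.2.1 (hy.2.2 x hx.1), fun w hw => by
          rw [show ⁅x * y, w⁆ = x * ⁅y, w⁆ * x⁻¹ * ⁅x, w⁆ by
              rw [commutatorElement_def, commutatorElement_def, commutatorElement_def]; group,
            ← hZR _ (hy.2.2 w hw) x hx.1, mul_inv_cancel_right]
          exact mul_mem (hy.2.2 w hw) (hx.2.2 w hw)⟩
      inv_mem' := fun {x} hx => ⟨inv_mem hx.1, by rw [inv_pow, hx.2.1, inv_one], fun w hw => by
        have e : ⁅x⁻¹, w⁆ = x⁻¹ * ⁅x, w⁆⁻¹ * x := by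
          rw [commutatorElement_def, commutatorElement_def]; group
        rw [e, ← hZR _ (inv_mem (hx.2.2 w hw)) x⁻¹ (inv_mem hx.1), inv_mul_cancel_right]
        exact inv_mem (hx.2.2 w hw)⟩ }
  have hZY : Z ≤ Y := fun x hx => ⟨hx.1, hx.2.2, fun y hy => by
    rw [commutatorElement_eq_one_iff_commute.2 (show Commute x y from hx.2.1 y hy)]
    exact one_mem _⟩
  have hYC : C ≤ normalizer (Y : Set G) := le_normalizer_of_forall fun c hc x hx =>
    ⟨hconjR c hc x hx.1, by rw [conj_pow, hx.2.1, mul_one, mul_inv_cancel], fun y hy => by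
      have h1 := (mem_normalizer_iff.1 (hZC hc) _).1 (hx.2.2 (c⁻¹ * y * c)
        (by simpa using hconjR c⁻¹ (inv_mem hc) y hy))
      rwa [commutatorElement_conj, show c * (c⁻¹ * y * c) * c⁻¹ = y by group] at h1⟩
  -- `Y` is larger than `Z`
  have hYlt : Z < Y := by
    refine lt_of_le_of_ne hZY fun e => ?_
    have hnc : ¬ IsCyclic R := fun hcyc => by
      classical
      haveI : Fintype R := Fintype.ofFinite R
      have h2 := IsCyclic.card_pow_eq_one_le (α := R) (n := r) h.hr.pos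
      have h3 : Nat.card (X ⊔ Z : Subgroup G) ≤ Nat.card {x : R // x ^ r = 1} :=
        Nat.card_le_card_of_injective (fun x => ⟨⟨x.1, (hE0N x.2).1⟩, Subtype.ext (hE0exp _ x.2)⟩)
          fun x y hxy => Subtype.ext
            (congrArg (fun t : {x : R // x ^ r = 1} => ((t.1 : R) : G)) hxy)
      rw [hE0', Nat.card_eq_fintype_card, Fintype.card_subtype] at h3
      have := h3.trans h2
      rw [sq] at this
      exact absurd this (not_le.2 (lt_mul_of_one_lt_left h.hr.pos h.hr.one_lt))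
    obtain ⟨A, hAn, hAe, hAc⟩ := Cfsg.Agent.S0126.result h.hr2 h.hRp hnc
    haveI := hAn
    obtain ⟨M, hMn, hMA, hMc⟩ := OddOrder.BG4.exists_normal_card_le h.hRp A 1 (by
      rw [hAc]; exact Nat.pow_le_pow_right h.hr.pos one_le_two)
    haveI := hMn
    rw [pow_one] at hMc
    have hMcen := OddOrder.BG4.le_center_of_normal_card_prime h.hRp hMc
    have hMZ : ∀ a : R, a ∈ M → (a : G) ∈ Z := fun a ha => ⟨a.2,
      fun y hy => congrArg Subtype.val (mem_center_iff.1 (hMcen ha) ⟨y, hy⟩).symm, by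
        rw [← SubmonoidClass.coe_pow, hAe.2 a (hMA ha), OneMemClass.coe_one]⟩
    haveI : (A.map (QuotientGroup.mk' M)).Normal :=
      hAn.map _ (QuotientGroup.mk'_surjective M)
    have hAq : Nat.card (A.map (QuotientGroup.mk' M)) = r := by
      have h1 := (M.subgroupOf A).card_eq_card_quotient_mul_card_subgroup
      rw [Nat.card_congr (subgroupOfEquivOfLe hMA).toEquiv, hAc, hMc, sq] at h1
      have h2 := Nat.eq_of_mul_eq_mul_right h.hr.pos h1
      rw [h2]
      exact Nat.card_congr ((QuotientGroup.quotientKerEquivRange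
        ((QuotientGroup.mk' M).comp A.subtype)).symm.trans (QuotientGroup.quotientMulEquivOfEq (by
          ext a; simp [mem_subgroupOf])) |> fun e' =>
        ((MulEquiv.subgroupCongr (by rw [MonoidHom.range_comp, range_subtype])).trans e').toEquiv)
    have hAcen := OddOrder.BG4.le_center_of_normal_card_prime (h.hRp.to_quotient M) hAq
    have hAY : ∀ a : R, a ∈ A → (a : G) ∈ Y := fun a ha => ⟨a.2,
      by rw [← SubmonoidClass.coe_pow, hAe.2 a ha, OneMemClass.coe_one], fun y hy => by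
        refine hMZ ⁅a, ⟨y, hy⟩⁆ ?_
        rw [← QuotientGroup.eq_one_iff]
        change QuotientGroup.mk' M ⁅a, ⟨y, hy⟩⁆ = 1
        rw [map_commutatorElement, commutatorElement_eq_one_iff_commute]
        exact (mem_center_iff.1 (hAcen ⟨a, ha, rfl⟩) _).symm⟩
    have hle : Nat.card A ≤ Nat.card Z := Nat.card_le_card_of_injective
      (fun a => (⟨((a : R) : G), e ▸ hAY a a.2⟩ : Z))
      fun a a' ha => Subtype.ext (Subtype.ext (congrArg (fun t : Z => (t : G)) ha))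
    rw [hAc, hZcard, sq] at hle
    exact absurd hle (not_le.2 (lt_mul_of_one_lt_left h.hr.pos h.hr.one_lt))
  -- the part of `Y` fixing `X`
  obtain ⟨x₀, hx₀, hx₀1⟩ : ∃ x ∈ X, x ≠ 1 := by
    by_contra hcon
    push Not at hcon
    have := h.hr.one_lt
    rw [← h.hX, (eq_bot_iff.2 fun x hx => mem_bot.2 (hcon x hx) : X = ⊥), card_bot] at this
    omega
  have hXgen : zpowers x₀ = X := eq_of_le_of_card_ge (zpowers_le.2 hx₀) (by
    rw [Nat.card_zpowers, orderOf_eq_prime (h.pow_X _ hx₀) hx₀1, h.hX])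
  set K := Y ⊓ centralizer (X : Set G)
  have hKN : K ≤ R ⊓ N := fun y hy => ⟨hy.1.1, h.fix_le_N ⟨hy.1.1, hy.2⟩⟩
  have hKexp : ∀ y ∈ X ⊔ K, y ^ r = 1 := h.exponent_sup hXN hKN h.pow_X fun y hy => hy.1.2.1
  have hKsq : Nat.card (X ⊔ K : Subgroup G) ≤ r ^ 2 := h.card_le_sq (sup_le hXN hKN) hKexp
  obtain ⟨nY, hnY⟩ := (h.hRp.to_le (show Y ≤ R from fun y hy => hy.1)).exists_card_eq
  have hindex : Nat.card Y ≤ Nat.card K * r := by
    let φ : Y →* Z :=
      { toFun := fun y => ⟨⁅(y : G), x₀⁆, y.2.2.2 x₀ (h.hXR hx₀)⟩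
        map_one' := Subtype.ext (commutatorElement_one_left _)
        map_mul' := fun y y' => Subtype.ext (by
          show ⁅(y : G) * y', x₀⁆ = ⁅(y : G), x₀⁆ * ⁅(y' : G), x₀⁆
          rw [show ⁅(y : G) * y', x₀⁆ = (y : G) * ⁅(y' : G), x₀⁆ * (y : G)⁻¹ * ⁅(y : G), x₀⁆ by
              rw [commutatorElement_def, commutatorElement_def, commutatorElement_def]; group,
            ← hZR _ (y'.2.2.2 x₀ (h.hXR hx₀)) y y.2.1, mul_inv_cancel_right]
          exact hZR _ (y'.2.2.2 x₀ (h.hXR hx₀)) _ (y.2.2.2 x₀ (h.hXR hx₀)).1) }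
    have h1 : Nat.card φ.ker ≤ Nat.card K := Nat.card_le_card_of_injective
      (fun y => ⟨((y : Y) : G), (y : Y).2, by
        show ((y : Y) : G) ∈ centralizer (X : Set G)
        rw [← hXgen, mem_centralizer_iff]
        rintro _ ⟨k, rfl⟩
        exact (((commutatorElement_eq_one_iff_commute.1
          (congrArg Subtype.val (MonoidHom.mem_ker.1 y.2))).zpow_right k).eq).symm⟩)
      fun y y' hy => Subtype.ext (Subtype.ext (congrArg (fun t : K => (t : G)) hy))
    rw [← φ.ker.card_mul_index, index_ker]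
    exact Nat.mul_le_mul h1 (hZcard ▸ card_le_card_group _)
  have hpack : ¬ Y ≤ centralizer (X : Set G) →
      ((Nat.card Y = r ^ 2 ∧ ∀ y ∈ Y, b * y * b⁻¹ = y⁻¹) ∨ (Nat.card Y = r ^ 3 ∧ X ≤ Y)) →
      ∃ Z Y : Subgroup G, Moved C R X r b Z Y := fun hm hs =>
    ⟨Z, Y, ⟨hZY, fun y hy => hy.1, hZC, hYC, hZcard, fun y hy => hy.2.1, hbZ, hZR,
      fun x hx => hx.2.2, hm, hs⟩⟩
  by_cases hXY : X ≤ Y
  · have hXK : X ≤ K := le_inf hXY fun x hx => mem_centralizer_iff.2 fun y hy =>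
      h.hab y (hXN hy) x (hXN hx)
    have hZK : Z ≤ K := le_inf hZY fun z hz => mem_centralizer_iff.2 fun y hy =>
      (hZR z hz y (h.hXR hy)).symm
    have hKeq : K = X ⊔ Z := by
      refine (eq_of_le_of_card_ge (sup_le hXK hZK) ?_).symm
      rw [hE0']
      exact le_trans (card_le_of_le le_sup_right) hKsq
    by_cases hm : Y ≤ centralizer (X : Set G)
    · left
      refine ⟨X ⊔ Z, hE0', le_sup_left, hE0N, ?_⟩
      rw [← hKeq, show K = Y from inf_eq_left.2 hm]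
      exact hYC
    · right
      refine hpack hm (Or.inr ⟨?_, hXY⟩)
      have hlt : K < Y := lt_of_le_of_ne inf_le_left fun e => hm (e ▸ inf_le_right)
      have h1 : Nat.card K < Nat.card Y := lt_of_le_of_ne (card_le_of_le hlt.le)
        fun h' => hlt.ne (eq_of_le_of_card_ge hlt.le h'.ge)
      rw [hKeq, hE0'] at h1 hindex
      rw [hnY] at h1 hindex ⊢
      rw [← pow_succ] at hindex
      have a1 := (Nat.pow_lt_pow_iff_right h.hr.one_lt).1 h1
      have a2 := (Nat.pow_le_pow_iff_right h.hr.one_lt).1 hindex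
      rw [show nY = 3 by omega]
  · right
    have hXYbot : ∀ x ∈ Y, x ∈ X → x = 1 := fun x hxY hx => by
      by_contra hx1
      refine hXY ?_
      rw [← eq_of_le_of_card_ge (zpowers_le.2 hx : zpowers x ≤ X) (by
        rw [Nat.card_zpowers, orderOf_eq_prime (h.pow_X x hx) hx1, h.hX])]
      exact zpowers_le.2 hxY
    have hKr : Nat.card K ≤ r := by
      by_contra hgt
      have hlt : K < X ⊔ K := lt_of_le_of_ne le_sup_right fun e =>
        hx₀1 (hXYbot x₀ (e ▸ mem_sup_left hx₀ : x₀ ∈ K).1 hx₀)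
      have h1 : Nat.card K < r ^ 2 := lt_of_lt_of_le
        (lt_of_le_of_ne (card_le_of_le hlt.le) fun h' => hlt.ne (eq_of_le_of_card_ge hlt.le h'.ge))
        hKsq
      obtain ⟨nK, hnK⟩ := (h.hRp.to_le (hKN.trans inf_le_left)).exists_card_eq
      rw [hnK] at h1 hgt
      have a1 : nK < 2 := (Nat.pow_lt_pow_iff_right h.hr.one_lt).1 h1
      exact hgt ((Nat.pow_le_pow_right h.hr.pos (show nK ≤ 1 by omega)).trans_eq (pow_one r))
    have hY2 : Nat.card Y = r ^ 2 := card_eq_sq h.hr hnY hZcard hYlt (hindex.trans (by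
      rw [sq]; exact Nat.mul_le_mul_right _ hKr))
    have hYab : ∀ x ∈ Y, ∀ y ∈ Y, x * y = y * x := fun x hx y hy =>
      congrArg Subtype.val (IsPGroup.commutative_of_card_eq_prime_sq hY2 (⟨x, hx⟩ : Y) ⟨y, hy⟩)
    refine hpack (fun hm => ?_) (Or.inl ⟨hY2, hinv Y (fun y hy => hy.1) hYC hYab
      (fun y hy => hy.2.1) hXYbot⟩)
    rw [show K = Y from inf_eq_left.2 hm, hY2, sq] at hKr
    exact absurd hKr (not_le.2 (lt_mul_of_one_lt_left h.hr.pos h.hr.one_lt))

end LineData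

end CfsgLib.GW
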