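import Cfsg.Agent.GW.TwistCount

/-!
# Gorenstein–Walter: no fusion-invariant linear twist

Pairs of conjugates of `z` give the same count for the twist and for the trivial character; large
degrees make the first small and the second close to one.
-/

set_option autoImplicit false
set_option linter.style.haveILetI false
set_option linter.unusedSectionVars false

namespace CfsgLib.GW.Tw

open Subgroup Cfsg CfsgLib.Blocks CfsgLib.PrincipalBlock CfsgLib.Characters
open scoped ComplexConjugate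

universe u

variable {G : Type u} [Group G] [Fintype G] {z : G} {U : Subgroup G}

/-- The count of pairs attached to a twisted function. -/
noncomputable def count [Fintype (centralizer ({z} : Set G))]
    (f : centralizer ({z} : Set G) → ℂ) : ℂ :=
  ∑ χ : IrrCharacter G, classInner (indFun (centralizer ({z} : Set G)) f) (χ : G → ℂ) *
    (χ : G → ℂ) z ^ 2 / (χ : G → ℂ) 1

theorem tw_one (φ : centralizer ({z} : Set G) → ℂ) : tw (1 : Lin z) φ = φ := by
  funext c
  simp [tw]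

theorem fused_one (hF : Frame z U) : Fused U ({1} : Finset (Lin z)) := fun u hu g hg => by
  simp [asum, lv_of_mem _ (hF.le hu), lv_of_mem _ (hF.le hg)]

theorem lv_one {g : G} (hg : g ∈ centralizer ({z} : Set G)) : lv (1 : Lin z) g = 1 := by
  simp [lv_of_mem _ hg]

variable (hF : Frame z U) [Fintype (centralizer ({z} : Set G))]
include hF

/-- A twisted function has small coefficients. -/
theorem Frame.coef_small {φ : centralizer ({z} : Set G) → ℂ} (hφ : Test z U φ)
    (hn : ∃ n : ℤ, n ≤ 4 ∧ classInner φ φ = n) (L : Lin z) (χ : IrrCharacter G) :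
    ∃ κ : ℤ, classInner (indFun _ (tw L φ)) (χ : G → ℂ) = κ ∧ |κ| ≤ 1 := by
  classical
  obtain ⟨n, hn4, hn⟩ := hn
  have hgen := isGen_indFun (centralizer ({z} : Set G)) (hF.test_tw hφ L).1
  refine ⟨_, SuzukiWong.classInner_eq_cof hgen χ, ?_⟩
  set κ := fun ψ : IrrCharacter G => SuzukiWong.cof (indFun _ (tw L φ)) ψ with hκ
  have hsq : ∑ ψ, κ ψ ^ 2 = n := SuzukiWong.sum_cof_sq hgen ((hF.norm_tw hφ L).trans hn)
  choose d hd0 hd using fun ψ : IrrCharacter G => exists_degree_pos ψ.2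
  have hzero : ∑ ψ, κ ψ * (d ψ : ℤ) = 0 := by
    have e := SuzukiWong.eq_sum_cof hgen 1
    rw [indFun_one, (hF.test_tw hφ L).2 1 ?_, mul_zero] at e
    · apply Int.cast_injective (α := ℂ)
      push_cast
      rw [e]
      exact Finset.sum_congr rfl fun ψ _ => by rw [hd ψ]
    · rintro ⟨j, hj⟩
      simp only [OneMemClass.coe_one, one_zpow] at hj
      exact Small.ne_one_of_orderOf_two hF.hz hj.symm
  by_contra hbig
  have h2 : 4 ≤ κ χ ^ 2 := by
    rw [← sq_abs]
    have : 2 ≤ |κ χ| := by simp only [hκ]; omega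
    nlinarith
  have h3 := Finset.add_sum_erase Finset.univ (fun ψ => κ ψ ^ 2) (Finset.mem_univ χ)
  simp only [hsq] at h3
  have h4 : ∑ ψ ∈ Finset.univ.erase χ, κ ψ ^ 2 = 0 :=
    le_antisymm (by omega) (Finset.sum_nonneg fun _ _ => sq_nonneg _)
  have h5 : ∀ ψ ≠ χ, κ ψ = 0 := fun ψ hψ => pow_eq_zero_iff two_ne_zero |>.1
    ((Finset.sum_eq_zero_iff_of_nonneg fun _ _ => sq_nonneg _).1 h4 ψ
      (Finset.mem_erase.2 ⟨hψ, Finset.mem_univ _⟩))
  rw [Finset.sum_eq_single χ (fun ψ _ hψ => by rw [h5 ψ hψ, zero_mul]) (by simp), mul_eq_zero] at hzero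
  rcases hzero with h | h
  · rw [h] at h2; norm_num at h2
  · exact (hd0 χ).ne' (by exact_mod_cast h)

variable {M : Ideal AlgInt} [M.IsPrime]

open Classical in
/-- The nontrivial characters contribute little. -/
theorem Frame.rest_le (hM : Cfsg.IsPModular 2 M) (L : Lin z) (hzL : lv L z = 1)
    (hfus : Fused U ({L} : Finset (Lin z))) {σ : G} {k : ℕ} (hσ : orderOf σ = 2 ^ k)
    (hzσ : z ∈ zpowers σ)
    (hindex : Nat.card (centralizer ({z} : Set G)) = 2 * 2 ^ k * Nat.card U)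
    (P : Subgroup G) [Fintype P] (hPU : P ≤ U) (hPσ : ∀ y ∈ P, y * σ = σ * y) {N : ℕ} (hN : 0 < N)
    (hbig : Big P ({L} : Finset (Lin z)) N) {φ : centralizer ({z} : Set G) → ℂ} (hφ : Test z U φ)
    (hn : ∃ n : ℤ, n ≤ 4 ∧ classInner φ φ = n) :
    ∑ χ ∈ Finset.univ.erase (trivChar G),
      ‖classInner (indFun (centralizer ({z} : Set G)) (tw L φ)) (χ : G → ℂ) *
        (χ : G → ℂ) z ^ 2 / (χ : G → ℂ) 1‖ ≤ 2 / (N : ℝ) := by
  have hdist : ∀ L₁ ∈ ({L} : Finset (Lin z)), ∀ L₂ ∈ ({L} : Finset (Lin z)),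
      (∀ u ∈ U, lv L₁ u = lv L₂ u) → L₁ = L₂ := fun a ha b hb _ => by
    rw [Finset.mem_singleton.1 ha, Finset.mem_singleton.1 hb]
  have hpos : (0 : ℝ) < (2 ^ k : ℕ) * (N : ℝ) := by
    have : (0 : ℝ) < N := Nat.cast_pos.2 hN
    positivity
  have hterm : ∀ χ ∈ Finset.univ.erase (trivChar G),
      ‖classInner (indFun (centralizer ({z} : Set G)) (tw L φ)) (χ : G → ℂ) *
        (χ : G → ℂ) z ^ 2 / (χ : G → ℂ) 1‖ ≤
      ‖mu U L (χ : G → ℂ) z‖ ^ 2 / ((2 ^ k : ℕ) * (N : ℝ)) := by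
    intro χ hχ
    obtain ⟨κ, hκ, hκ1⟩ := hF.coef_small hφ hn L χ
    by_cases h0 : κ = 0
    · rw [hκ, h0]
      simp only [Int.cast_zero, zero_mul, zero_div, norm_zero]
      positivity
    obtain ⟨h₀, hh₀, hne⟩ := hF.exists_mu_ne_zero hφ L χ (by rw [hκ]; exact_mod_cast h0)
    obtain ⟨d, e, c, hd, hzv, hc, -, hdeg⟩ :=
      hF.bound hM hdist hfus hσ hzσ χ (Finset.mem_singleton_self L) hh₀ hne
    have hdN : 2 ^ k * N ≤ d :=
      le_trans (Nat.le_add_right _ _) (hdeg P N hPU hPσ hbig (Finset.ne_of_mem_erase hχ))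
    rw [Finset.sum_singleton] at hzv
    rw [hκ, hzv, hd, (hc L (Finset.mem_singleton_self L)).1, norm_div, norm_mul, norm_pow,
      Complex.norm_natCast, Complex.norm_intCast]
    have hκ' : |(κ : ℝ)| ≤ 1 := by exact_mod_cast hκ1
    calc |(κ : ℝ)| * ‖((c L : ℤ) : ℂ)‖ ^ 2 / (d : ℝ) ≤ 1 * ‖((c L : ℤ) : ℂ)‖ ^ 2 / (d : ℝ) := by
          gcongr
      _ ≤ _ := by
          rw [one_mul]
          refine div_le_div_of_nonneg_left (by positivity) hpos ?_
          exact_mod_cast hdN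
  refine (Finset.sum_le_sum hterm).trans ?_
  rw [← Finset.sum_div, div_le_div_iff₀ hpos (Nat.cast_pos.2 hN)]
  have horth := hF.orth L L hzL hzL
  rw [if_pos fun _ _ => rfl, hindex] at horth
  have hall : ∑ χ : IrrCharacter G, ‖mu U L (χ : G → ℂ) z‖ ^ 2 = 2 * (2 ^ k : ℕ) := by
    apply Complex.ofReal_injective
    rw [Complex.ofReal_sum]
    simp only [Complex.ofReal_pow]
    rw [Finset.sum_congr rfl fun (χ : IrrCharacter G) _ =>
      (Complex.mul_conj' (mu U L (χ : G → ℂ) z)).symm, horth]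
    have hU : (Nat.card U : ℂ) ≠ 0 := subgroup_card_ne_zero U
    push_cast
    field_simp
  have hle : ∑ χ ∈ Finset.univ.erase (trivChar G), ‖mu U L (χ : G → ℂ) z‖ ^ 2 ≤
      2 * (2 ^ k : ℕ) := by
    rw [← hall]
    exact Finset.sum_le_univ_sum_of_nonneg fun _ => by positivity
  nlinarith [Nat.cast_nonneg (α := ℝ) N]

open Classical in
/-- **No fusion-invariant linear twist.** -/
theorem Frame.twist_false (hM : Cfsg.IsPModular 2 M) (L : Lin z)
    (htriv : ∀ c : centralizer ({z} : Set G), c * c = 1 → L c = 1)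
    (hLne : ∃ u ∈ U, lv L u ≠ 1) (hfus : Fused U ({L} : Finset (Lin z))) {σ : G} {k : ℕ}
    (hσ : orderOf σ = 2 ^ k) (hzσ : z ∈ zpowers σ)
    (hindex : Nat.card (centralizer ({z} : Set G)) = 2 * 2 ^ k * Nat.card U)
    (P : Subgroup G) [Fintype P] (hPU : P ≤ U) (hPσ : ∀ y ∈ P, y * σ = σ * y) {N : ℕ} (hN : 5 ≤ N)
    (hbigL : Big P ({L} : Finset (Lin z)) N) (hbig1 : Big P ({1} : Finset (Lin z)) N)
    {φ : centralizer ({z} : Set G) → ℂ} (hφ : Test z U φ)
    (hn : ∃ n : ℤ, n ≤ 4 ∧ classInner φ φ = n) (hφ1 : classInner φ (fun _ => 1) = 1) : False := by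
  have hzC : z ∈ centralizer ({z} : Set G) := mem_centralizer_singleton_iff.2 rfl
  have hzL : lv L z = 1 := by
    rw [lv_of_mem L hzC, htriv _ (Subtype.ext (Small.mul_self_of_orderOf_two hF.hz)), Units.val_one]
  have b1 := hF.rest_le hM L hzL hfus hσ hzσ hindex P hPU hPσ (by omega) hbigL hφ hn
  have b2 := hF.rest_le hM 1 (lv_one hzC) (fused_one hF) hσ hzσ hindex P hPU hPσ (by omega) hbig1
    hφ hn
  have hsplit : ∀ L' : Lin z, ‖count (tw L' φ) -
      classInner (indFun _ (tw L' φ)) ((trivChar G : IrrCharacter G) : G → ℂ)‖ ≤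
      ∑ χ ∈ Finset.univ.erase (trivChar G),
        ‖classInner (indFun (centralizer ({z} : Set G)) (tw L' φ)) (χ : G → ℂ) *
          (χ : G → ℂ) z ^ 2 / (χ : G → ℂ) 1‖ := fun L' => by
    refine le_trans (le_of_eq (congrArg norm ?_)) (norm_sum_le _ _)
    rw [count, ← Finset.add_sum_erase _ _ (Finset.mem_univ (trivChar G))]
    simp
  have t1 : classInner (indFun _ (tw (1 : Lin z) φ)) ((trivChar G : IrrCharacter G) : G → ℂ) = 1 := by
    rw [tw_one, classInner_indFun _ _ (isClassFunction_of_isIrr (trivChar G).2)]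
    simpa using hφ1
  have e : count (tw L φ) = count (tw (1 : Lin z) φ) := by
    rw [tw_one]
    exact hF.pairs_eq hφ L htriv
  have c1 := (hsplit 1).trans b2
  have c2 := (hsplit L).trans b1
  rw [t1] at c1
  rw [hF.inner_triv hφ L hLne, sub_zero, e] at c2
  have h1 : (1 : ℝ) ≤ 2 / N + 2 / N := by
    calc (1 : ℝ) = ‖(count (tw (1 : Lin z) φ)) - (count (tw (1 : Lin z) φ) - 1)‖ := by simp
      _ ≤ _ := (norm_sub_le _ _).trans (add_le_add c2 c1)
  have hN' : (5 : ℝ) ≤ N := by exact_mod_cast hN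
  rw [← add_div, le_div_iff₀ (by linarith)] at h1
  linarith

end CfsgLib.GW.Tw
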