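import Cfsg.Agent.GW.Perfect
import Cfsg.Agent.Linear.Basic
import Cfsg.Agent.S0107
import Cfsg.Agent.S0144
import Cfsg.Agent.S0508
import Cfsg.Agent.S0514
import Cfsg.Agent.S0984
import Cfsg.Agent.ExtremelyClosed.Reduction
import Cfsg.Agent.Inv54.DihedralSetup
import Cfsg.Agent.SuzukiWong.DihedralPSL
import Cfsg.Agent.Small.OrderTools

/-!
# Gorenstein–Walter: the minimal counterexample

`Minimal G`: `G` is simple with dihedral Sylow 2-subgroups, every proper subgroup is `Known` and `G`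
itself is neither `PSL₂(q)` nor `A₇`.  `simple_dihedral_of` reduces the classification to `False`.

`core z` is `O(C(z))`, `fix z b = O(C(z)) ∩ C(b)`.
-/

set_option autoImplicit false
set_option linter.style.haveILetI false
set_option linter.unusedSectionVars false

open Subgroup
open scoped Pointwise

namespace CfsgLib.GW

universe u

variable {G : Type u} [Group G]

/-- The odd core of the centralizer of `z`, as a subgroup of the group. -/
noncomputable def core (z : G) : Subgroup G :=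
  (Cfsg.oddCore (centralizer ({z} : Set G))).map (centralizer ({z} : Set G)).subtype

/-- The common part of the cores of the involutions of the four-group `⟨z, b⟩`. -/
noncomputable def fix (z b : G) : Subgroup G := core z ⊓ centralizer ({b} : Set G)

/-- A minimal counterexample to the Gorenstein–Walter theorem. -/
structure Minimal (G : Type u) [Group G] : Prop where
  simple : IsSimpleGroup G
  dih : ∀ S : Sylow 2 G, ∃ n, 2 ≤ n ∧ Nonempty ((S : Subgroup G) ≃* DihedralGroup n)
  known : ∀ H : Subgroup G, H ≠ ⊤ → Known ↥H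
  not_goal : ¬ IsPSLOrAltSeven G

/-- Sylow 2-subgroups are all dihedral once one is. -/
theorem dihedral_all [Finite G] (S : Sylow 2 G) {n : ℕ}
    (e : (S : Subgroup G) ≃* DihedralGroup n) (T : Sylow 2 G) :
    Nonempty ((T : Subgroup G) ≃* DihedralGroup n) := by
  haveI : Fact (Nat.Prime 2) := ⟨Nat.prime_two⟩
  exact ⟨(Sylow.equiv T S).trans e⟩

/-- The reduction: if there is no minimal counterexample, the classification holds. -/
theorem simpleHyp_of_no_minimal (h : ∀ (G : Type u) [Group G] [Finite G], Minimal G → False) :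
    ∀ m : ℕ, SimpleHyp.{u} m := by
  intro m
  induction m using Nat.strong_induction_on with
  | _ m ih =>
    intro G _ _ hs hm S n hn hS
    by_contra hgoal
    refine h G ⟨hs, fun T => ⟨n, hn, dihedral_all S hS.some T⟩, fun H hH => ?_, hgoal⟩
    have hlt : Nat.card H < Nat.card G := lt_of_le_of_ne (H.card_le_card_group) fun e =>
      hH (Subgroup.eq_top_of_card_eq H e)
    exact known_of_simpleHyp ((dihType_of_sylow S hS.some).subgroup H)
      (ih _ (lt_of_lt_of_le hlt hm))

/-- The classification of the simple groups, from the absence of a minimal counterexample. -/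
theorem simple_dihedral_of (h : ∀ (G : Type u) [Group G] [Finite G], Minimal G → False)
    [Finite G] [IsSimpleGroup G] (S : Sylow 2 G) (n : ℕ) (hn : 2 ≤ n)
    (hS : Nonempty ((S : Subgroup G) ≃* DihedralGroup n)) : IsPSLOrAltSeven G :=
  simpleHyp_of_no_minimal h _ G inferInstance le_rfl S n hn hS

theorem sup_eq_top_of_index {X : Type*} [Group X] (N P : Subgroup X) {k : ℕ}
    (hk : N.index = 2 ^ k) (hodd : ¬ 2 ∣ P.index) : N ⊔ P = ⊤ := by
  refine index_eq_one.1 (Nat.eq_one_of_dvd_coprimes ?_ dvd_rfl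
    (hk ▸ index_dvd_of_le (le_sup_left : N ≤ N ⊔ P)))
  refine Nat.Coprime.pow_right k ?_
  rw [Nat.coprime_comm, Nat.Prime.coprime_iff_not_dvd Nat.prime_two]
  exact fun h => hodd (h.trans (index_dvd_of_le le_sup_right))

/-! ## The core of an involution centralizer -/

section Core

variable [Finite G]

theorem core_le (z : G) : core z ≤ centralizer ({z} : Set G) := map_subtype_le _

theorem commute_of_mem_core {z k : G} (hk : k ∈ core z) : k * z = z * k :=
  mem_centralizer_singleton_iff.1 (core_le z hk)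

theorem odd_core (z : G) : Odd (Nat.card (core z)) := by
  rw [core, card_map_of_injective (centralizer ({z} : Set G)).subtype_injective]
  exact ExtremelyClosed.odd_card_oddCore' _

theorem odd_orderOf_core {z k : G} (hk : k ∈ core z) : Odd (orderOf k) :=
  (odd_core z).of_dvd_nat ((core z).orderOf_dvd_natCard hk)

theorem core_conj {z c k : G} (hc : c ∈ centralizer ({z} : Set G)) (hk : k ∈ core z) :
    c * k * c⁻¹ ∈ core z := by
  obtain ⟨k', hk', rfl⟩ := hk
  exact ⟨⟨c, hc⟩ * k' * ⟨c, hc⟩⁻¹,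
    (inferInstance : (Cfsg.oddCore (centralizer ({z} : Set G))).Normal).conj_mem k' hk' _, rfl⟩

theorem centralizer_le_normalizer_core (z : G) :
    centralizer ({z} : Set G) ≤ normalizer (core z : Set G) := fun c hc =>
  mem_normalizer_iff.2 fun k => ⟨core_conj hc, fun h => by
    simpa [mul_assoc] using core_conj (inv_mem hc) h⟩

theorem fix_le_core (z b : G) : fix z b ≤ core z := inf_le_left

theorem fix_le (z b : G) : fix z b ≤ centralizer ({b} : Set G) := inf_le_right

theorem odd_fix (z b : G) : Odd (Nat.card (fix z b)) :=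
  (odd_core z).of_dvd_nat (card_dvd_of_le (fix_le_core z b))

end Core

namespace Minimal

variable [Finite G] (hG : Minimal G)
include hG

theorem dihType : DihType G := by
  haveI : Fact (Nat.Prime 2) := ⟨Nat.prime_two⟩
  obtain ⟨S⟩ : Nonempty (Sylow 2 G) := inferInstance
  obtain ⟨n, -, hS⟩ := hG.dih S
  exact dihType_of_sylow S hS.some

theorem card_sylow (S : Sylow 2 G) : ∃ k, 2 ≤ k ∧ Nat.card (S : Subgroup G) = 2 ^ k ∧
    Nonempty ((S : Subgroup G) ≃* DihedralGroup (2 ^ (k - 1))) := by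
  haveI : Fact (Nat.Prime 2) := ⟨Nat.prime_two⟩
  obtain ⟨n, hn, ⟨e⟩⟩ := hG.dih S
  haveI : NeZero n := ⟨by omega⟩
  obtain ⟨j, rfl⟩ := DihedralLocal.exists_pow_two e
  refine ⟨j + 1, ?_, ?_, ⟨e⟩⟩
  · rcases j with _ | j
    · norm_num at hn
    · omega
  · rw [Nat.card_congr e.toEquiv, DihedralGroup.nat_card, pow_succ']

theorem four_dvd : 4 ∣ Nat.card G := by
  haveI : Fact (Nat.Prime 2) := ⟨Nat.prime_two⟩
  obtain ⟨S⟩ : Nonempty (Sylow 2 G) := inferInstance
  obtain ⟨k, hk, hc, -⟩ := hG.card_sylow S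
  refine dvd_trans ?_ (S : Subgroup G).card_subgroup_dvd_card
  rw [hc]
  exact pow_dvd_pow 2 hk

theorem not_comm : ¬ IsMulCommutative G := fun h => by
  haveI := hG.simple
  have hp := Small.card_prime_of_simple_comm h
  rcases (Nat.dvd_prime hp).1 hG.four_dvd with h4 | h4
  · omega
  · exact absurd (h4 ▸ hp) (by norm_num)

/-- In the case of a four-group the Sylow subgroup is moved by an element of odd order. -/
theorem exists_moving {S : Sylow 2 G} (hS : IsKleinFour (S : Subgroup G)) :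
    ∃ g ∈ normalizer ((S : Subgroup G) : Set G),
      g ∉ centralizer ((S : Subgroup G) : Set G) ∧ Odd (orderOf g) := by
  haveI : Fact (Nat.Prime 2) := ⟨Nat.prime_two⟩
  haveI := hG.simple
  have hnle : ¬ normalizer ((S : Subgroup G) : Set G) ≤ centralizer ((S : Subgroup G) : Set G) := by
    intro hle
    have hcomp := MonoidHom.ker_transferSylow_isComplement' S hle
    rcases (inferInstance : (MonoidHom.transferSylow S hle).ker.Normal).eq_bot_or_eq_top with h | h
    · rw [h, isComplement'_bot_left] at hcomp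
      refine hG.not_comm ⟨⟨fun x y => ?_⟩⟩
      exact TwoGroups.klein_mul_comm hS (hcomp ▸ mem_top x) (hcomp ▸ mem_top y)
    · rw [h, isComplement'_top_left] at hcomp
      have h4 := hS.card_four
      rw [hcomp, card_bot] at h4
      omega
  obtain ⟨x, hxN, hxC⟩ := SetLike.not_le_iff_exists.1 hnle
  have hSC : (S : Subgroup G) ≤ centralizer ((S : Subgroup G) : Set G) := fun s hs =>
    mem_centralizer_iff.2 fun t ht => TwoGroups.klein_mul_comm hS ht hs
  by_contra hne
  push Not at hne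
  obtain ⟨k, m, hm, hk⟩ := Nat.exists_eq_two_pow_mul_odd (orderOf_pos x).ne'
  -- the odd part centralises, the 2-part lies in the normal Sylow subgroup
  have h1 : x ^ 2 ^ k ∈ centralizer ((S : Subgroup G) : Set G) := by
    by_contra hc
    refine hne _ (pow_mem hxN _) hc ?_
    rw [orderOf_pow, hk, Nat.gcd_eq_right (dvd_mul_right _ _), Nat.mul_div_cancel_left _
      (Nat.two_pow_pos k)]
    exact hm
  have h2 : x ^ m ∈ (S : Subgroup G) := by
    have hp : IsPGroup 2 (zpowers (x ^ m)) := IsPGroup.of_card (n := k) (by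
      rw [Nat.card_zpowers, orderOf_pow, hk, Nat.gcd_eq_right (dvd_mul_left _ _),
        Nat.mul_div_cancel _ hm.pos])
    have hsup : IsPGroup 2 ((zpowers (x ^ m)) ⊔ (S : Subgroup G) : Subgroup G) :=
      hp.to_sup_of_normal_right' S.isPGroup' (zpowers_le.2 (pow_mem hxN _))
    exact (S.is_maximal' hsup le_sup_right).le (mem_sup_left (mem_zpowers _))
  have hcop : Nat.Coprime m (2 ^ k) := (Nat.coprime_two_right.2 hm).pow_right k
  obtain ⟨a, b, hab⟩ : ∃ a b : ℤ, (m : ℤ) * a + ((2 ^ k : ℕ) : ℤ) * b = 1 :=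
    ⟨_, _, (Nat.gcd_eq_gcd_ab m (2 ^ k)).symm.trans (by rw [hcop.gcd_eq_one]; rfl)⟩
  refine hxC ?_
  rw [← zpow_one x, ← hab, zpow_add, zpow_mul, zpow_mul, zpow_natCast, zpow_natCast]
  exact mul_mem (zpow_mem (hSC h2) a) (zpow_mem h1 b)

/-- All involutions are conjugate. -/
theorem isConj {a b : G} (ha : orderOf a = 2) (hb : orderOf b = 2) : IsConj a b := by
  haveI : Fact (Nat.Prime 2) := ⟨Nat.prime_two⟩
  haveI := hG.simple
  obtain ⟨S⟩ : Nonempty (Sylow 2 G) := inferInstance
  obtain ⟨n, hn, ⟨e⟩⟩ := hG.dih S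
  haveI : NeZero n := ⟨by omega⟩
  obtain ⟨j, rfl⟩ := DihedralLocal.exists_pow_two e
  rcases Nat.lt_or_ge j 2 with hj | hj
  · obtain rfl : j = 1 := by
      rcases j with _ | _ | j
      · norm_num at hn
      · rfl
      · omega
    have hS : IsKleinFour (S : Subgroup G) := DihedralLocal.isKleinFour_of_two e rfl
    obtain ⟨g, hgN, hgC, hgo⟩ := hG.exists_moving hS
    obtain ⟨⟨s, hs⟩, -, has⟩ := TwoGroups.exists_isConj_sylow S (k := 1) (by simpa using ha)
    obtain ⟨⟨t, ht⟩, -, hbt⟩ := TwoGroups.exists_isConj_sylow S (k := 1) (by simpa using hb)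
    replace has : IsConj a s := has
    replace hbt : IsConj b t := hbt
    refine has.trans ((DihedralLocal.isConj_of_moved hS hgN hgo hgC hs ht ?_ ?_).trans hbt.symm)
    · intro hs1
      obtain ⟨c, hc⟩ := isConj_iff.1 has
      rw [hs1, conj_eq_one_iff] at hc
      rw [hc, orderOf_one] at ha
      omega
    · intro ht1
      obtain ⟨c, hc⟩ := isConj_iff.1 hbt
      rw [ht1, conj_eq_one_iff] at hc
      rw [hc, orderOf_one] at hb
      omega
  · exact isConj_iff.2 (Cfsg.Agent.S0107.result S j hj ⟨e⟩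
      (SuzukiWong.pResidual_eq_top_simple hG.not_comm) a b ha hb)

/-- A Sylow 2-subgroup in which a given involution is central. -/
theorem exists_sylow {z : G} (hz : orderOf z = 2) :
    ∃ S : Sylow 2 G, z ∈ (S : Subgroup G) ∧ ∀ s ∈ (S : Subgroup G), s * z = z * s := by
  haveI : Fact (Nat.Prime 2) := ⟨Nat.prime_two⟩
  obtain ⟨S⟩ : Nonempty (Sylow 2 G) := inferInstance
  obtain ⟨k, hk, hc, -⟩ := hG.card_sylow S
  haveI : Nontrivial (S : Subgroup G) := by
    rw [← Finite.one_lt_card_iff_nontrivial, hc]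
    exact Nat.one_lt_two_pow (by omega)
  haveI := S.isPGroup'.center_nontrivial
  obtain ⟨w, hw⟩ := exists_prime_orderOf_dvd_card' (G := center (S : Subgroup G)) 2 (by
    obtain ⟨j, hj⟩ := (S.isPGroup'.to_subgroup (center (S : Subgroup G))).exists_card_eq
    rcases j with _ | j
    · exact absurd (pow_zero 2 ▸ hj) (Finite.one_lt_card (α := center (S : Subgroup G))).ne'
    · rw [hj]; exact dvd_pow_self 2 (Nat.succ_ne_zero j))
  obtain ⟨g, hg⟩ := isConj_iff.1 (hG.isConj (a := ((w : (S : Subgroup G)) : G))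
    (by rw [orderOf_coe, orderOf_coe, hw]) hz)
  refine ⟨g • S, ?_, ?_⟩
  · show z ∈ (MulAut.conj g • (S : Subgroup G))
    exact ⟨w.1.1, w.1.2, by simpa using hg⟩
  · rintro s ⟨t, ht, rfl⟩
    have h := congrArg Subtype.val (mem_center_iff.1 w.2 ⟨t, ht⟩)
    subst hg
    show (g * t * g⁻¹) * (g * w.1.1 * g⁻¹) = (g * w.1.1 * g⁻¹) * (g * t * g⁻¹)
    calc (g * t * g⁻¹) * (g * w.1.1 * g⁻¹) = g * (t * w.1.1) * g⁻¹ := by group
      _ = g * (w.1.1 * t) * g⁻¹ := by rw [show t * (w.1.1 : G) = w.1.1 * t from h]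
      _ = _ := by group

/-- A Sylow 2-subgroup with `z` central lies in `C(z)`. -/
theorem sylow_le {z : G} {S : Sylow 2 G} (hS : ∀ s ∈ (S : Subgroup G), s * z = z * s) :
    (S : Subgroup G) ≤ centralizer ({z} : Set G) := fun s hs =>
  mem_centralizer_singleton_iff.2 (hS s hs)

/-- The elements of odd order of `C(z)` lie in the core. -/
theorem mem_core {z g : G} (hz : orderOf z = 2) (hg : g ∈ centralizer ({z} : Set G))
    (ho : Odd (orderOf g)) : g ∈ core z := by
  haveI : Fact (Nat.Prime 2) := ⟨Nat.prime_two⟩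
  obtain ⟨S⟩ : Nonempty (Sylow 2 G) := inferInstance
  obtain ⟨n, hn, hS⟩ := hG.dih S
  obtain ⟨N, hN, hNo, k, hk⟩ := Cfsg.Agent.S0514.result S n hn hS z hz
  haveI := hN
  refine ⟨⟨g, hg⟩, ExtremelyClosed.le_oddCore_of_odd hN hNo ?_, rfl⟩
  rw [← QuotientGroup.eq_one_iff, ← orderOf_eq_one_iff]
  refine Nat.eq_one_of_dvd_coprimes ((Nat.coprime_two_right.2 ho).pow_right k) ?_ ?_
  · rw [← orderOf_mk g hg]
    exact orderOf_map_dvd (QuotientGroup.mk' N) ⟨g, hg⟩
  · rw [← hk, index_eq_card]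
    exact orderOf_dvd_natCard _

/-- `C(z)` is the product of its core and a Sylow 2-subgroup. -/
theorem decomp {z c : G} (hz : orderOf z = 2) {S : Sylow 2 G}
    (hS : ∀ s ∈ (S : Subgroup G), s * z = z * s) (hc : c ∈ centralizer ({z} : Set G)) :
    ∃ k ∈ core z, ∃ s ∈ (S : Subgroup G), c = k * s := by
  haveI : Fact (Nat.Prime 2) := ⟨Nat.prime_two⟩
  obtain ⟨n, hn, hSn⟩ := hG.dih S
  obtain ⟨N, hN, hNo, k, hk⟩ := Cfsg.Agent.S0514.result S n hn hSn z hz
  haveI := hN
  have hle : (S : Subgroup G) ≤ centralizer ({z} : Set G) := hG.sylow_le hS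
  have hodd : ¬ 2 ∣ ((S : Subgroup G).subgroupOf (centralizer ({z} : Set G))).index := fun h =>
    S.not_dvd_index (h.trans (by
      rw [← relIndex_mul_index hle]
      exact dvd_mul_right _ _))
  have htop : (⟨c, hc⟩ : centralizer ({z} : Set G)) ∈
      N ⊔ (S : Subgroup G).subgroupOf (centralizer ({z} : Set G)) := by
    rw [sup_eq_top_of_index N _ hk hodd]
    trivial
  obtain ⟨a, ha, b, hb, hab⟩ := mem_sup_of_normal_left.1 htop
  exact ⟨a, ⟨a, ExtremelyClosed.le_oddCore_of_odd hN hNo ha, rfl⟩, b, hb,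
    (congrArg Subtype.val hab).symm⟩

/-- Membership of `fix z b`. -/
theorem mem_fix {z b g : G} (hz : orderOf z = 2) :
    g ∈ fix z b ↔ g * z = z * g ∧ g * b = b * g ∧ Odd (orderOf g) := by
  constructor
  · rintro ⟨h1, h2⟩
    exact ⟨commute_of_mem_core h1, mem_centralizer_singleton_iff.1 h2, odd_orderOf_core h1⟩
  · rintro ⟨h1, h2, h3⟩
    exact ⟨hG.mem_core hz (mem_centralizer_singleton_iff.2 h1) h3,
      mem_centralizer_singleton_iff.2 h2⟩

theorem fix_comm {z b : G} (hz : orderOf z = 2) (hb : orderOf b = 2) : fix z b = fix b z := by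
  ext g
  rw [hG.mem_fix hz, hG.mem_fix hb]
  tauto

theorem fix_mul {z b : G} (hz : orderOf z = 2) : fix z (z * b) = fix z b := by
  ext g
  rw [hG.mem_fix hz, hG.mem_fix hz]
  refine and_congr_right fun h1 => and_congr_left fun _ => ⟨fun h => ?_, fun h => ?_⟩
  · calc g * b = z⁻¹ * (z * g) * b := by group
      _ = z⁻¹ * (g * z * b) := by rw [h1]; group
      _ = z⁻¹ * (g * (z * b)) := by rw [mul_assoc g]
      _ = z⁻¹ * (z * b * g) := by rw [h]
      _ = b * g := by group
  · calc g * (z * b) = g * z * b := by group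
      _ = z * g * b := by rw [h1]
      _ = z * (b * g) := by rw [mul_assoc, h]
      _ = z * b * g := by group

/-- A 2-subgroup centralising `z` lies in a Sylow 2-subgroup in which `z` is central. -/
theorem exists_sylow_ge {z : G} (hz : orderOf z = 2) {V : Subgroup G} (hV : IsPGroup 2 V)
    (hVC : V ≤ centralizer ({z} : Set G)) :
    ∃ S : Sylow 2 G, V ≤ (S : Subgroup G) ∧ z ∈ (S : Subgroup G) ∧
      ∀ s ∈ (S : Subgroup G), s * z = z * s := by
  haveI : Fact (Nat.Prime 2) := ⟨Nat.prime_two⟩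
  obtain ⟨S, hzS, hS⟩ := hG.exists_sylow hz
  set P : Sylow 2 (centralizer ({z} : Set G)) := S.subtype (hG.sylow_le hS)
  obtain ⟨Q, hQ⟩ := (hV.comap_subtype (K := centralizer ({z} : Set G))).exists_le_sylow
  obtain ⟨c, hc⟩ := MulAction.exists_smul_eq (centralizer ({z} : Set G)) P Q
  have hcz : (c : G) * z = z * c := mem_centralizer_singleton_iff.1 c.2
  have hconj : ∀ s ∈ ((c : G) • S : Sylow 2 G).toSubgroup,
      ∃ t ∈ (S : Subgroup G), (c : G) * t * (c : G)⁻¹ = s := by
    rintro s ⟨t, ht, rfl⟩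
    exact ⟨t, ht, rfl⟩
  refine ⟨(c : G) • S, fun v hv => ?_, ?_, fun s hs => ?_⟩
  · have h1 : (⟨v, hVC hv⟩ : centralizer ({z} : Set G)) ∈ (Q : Subgroup _) := hQ hv
    rw [← hc] at h1
    obtain ⟨t, ht, he⟩ := h1
    exact ⟨(t : G), ht, congrArg Subtype.val he⟩
  · exact ⟨z, hzS, show (c : G) * z * (c : G)⁻¹ = z by rw [hcz, mul_inv_cancel_right]⟩
  · obtain ⟨t, ht, rfl⟩ := hconj s hs
    calc (c : G) * t * (c : G)⁻¹ * z = (c : G) * (t * ((c : G)⁻¹ * z * c)) * (c : G)⁻¹ := by group
      _ = (c : G) * (t * z) * (c : G)⁻¹ := by rw [mul_assoc _ z, ← hcz, inv_mul_cancel_left]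
      _ = (c : G) * (z * t) * (c : G)⁻¹ := by rw [hS t ht]
      _ = z * ((c : G) * t * (c : G)⁻¹) := by rw [← mul_assoc, hcz]; group

/-- The subgroup generated by two commuting involutions. -/
theorem four_spec {z b : G} (hz : orderOf z = 2) (hb : orderOf b = 2) (hne : z ≠ b)
    (hzb : z * b = b * z) :
    IsKleinFour (closure ({z, b} : Set G)) ∧
      ∀ v ∈ closure ({z, b} : Set G), v = 1 ∨ v = z ∨ v = b ∨ v = z * b := by
  have hzz := Small.mul_self_of_orderOf_two hz
  have hbb := Small.mul_self_of_orderOf_two hb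
  have hc : Commute z b := hzb
  let V : Subgroup G :=
    { carrier := {v | v = 1 ∨ v = z ∨ v = b ∨ v = z * b}
      one_mem' := Or.inl rfl
      mul_mem' := by
        have h1 : b * z = z * b := hc.eq.symm
        have h2 : z * (z * b) = b := by rw [← mul_assoc, hzz, one_mul]
        have h3 : b * (z * b) = z := by rw [← mul_assoc, h1, mul_assoc, hbb, mul_one]
        have h4 : z * b * z = b := by rw [mul_assoc, h1, h2]
        have h5 : z * b * b = z := by rw [mul_assoc, hbb, mul_one]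
        have h6 : z * b * (z * b) = 1 := by rw [← mul_assoc, h4, hbb]
        rintro x y (rfl | rfl | rfl | rfl) (rfl | rfl | rfl | rfl) <;>
          simp [hzz, hbb, h1, h2, h3, h4, h5, h6]
      inv_mem' := by
        rintro x (rfl | rfl | rfl | rfl)
        · simp
        · exact Or.inr (Or.inl (inv_eq_of_mul_eq_one_right hzz))
        · exact Or.inr (Or.inr (Or.inl (inv_eq_of_mul_eq_one_right hbb)))
        · refine Or.inr (Or.inr (Or.inr (inv_eq_of_mul_eq_one_right ?_)))
          show z * b * (z * b) = 1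
          rw [← mul_assoc, mul_assoc z b z, hc.eq.symm, ← mul_assoc, hzz, one_mul, hbb] }
  have hV : closure ({z, b} : Set G) = V := by
    refine le_antisymm ((closure_le _).2 ?_) ?_
    · rintro x (rfl | rfl)
      exacts [Or.inr (Or.inl rfl), Or.inr (Or.inr (Or.inl rfl))]
    · rintro x (rfl | rfl | rfl | rfl)
      exacts [one_mem _, subset_closure (by simp), subset_closure (by simp),
        mul_mem (subset_closure (by simp)) (subset_closure (by simp))]
  rw [hV]
  refine ⟨TwoGroups.isKleinFour_iff.2 ⟨?_, ?_⟩, fun v hv => hv⟩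
  · classical
    have he : (V : Set G) = ↑({1, z, b, z * b} : Finset G) := by
      ext x
      simp [V]
    have hb1 : z * b ≠ 1 := fun h => hne (by
      rw [← inv_eq_of_mul_eq_one_left h, inv_eq_of_mul_eq_one_right hbb])
    show Nat.card (V : Set G) = 4
    rw [he, Nat.card_coe_set_eq, Set.ncard_coe_finset, Finset.card_insert_of_notMem,
      Finset.card_insert_of_notMem, Finset.card_insert_of_notMem, Finset.card_singleton]
    · simpa using (Small.ne_one_of_orderOf_two hz)
    · simp [hne, Small.ne_one_of_orderOf_two hb]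
    · simp [(Small.ne_one_of_orderOf_two hz).symm, (Small.ne_one_of_orderOf_two hb).symm, hb1.symm]
  · rintro x (rfl | rfl | rfl | rfl)
    · simp
    · exact hzz
    · exact hbb
    · rw [← mul_assoc, mul_assoc z b z, hc.eq.symm, ← mul_assoc, hzz, one_mul, hbb]

/-- In a Sylow subgroup of order at least eight with `z` central some element maps `b` to `z * b`. -/
theorem exists_swap {z b : G} (hz : orderOf z = 2) (hb : orderOf b = 2) (hne : z ≠ b)
    (hzb : z * b = b * z) (h8 : ∀ S : Sylow 2 G, 4 < Nat.card (S : Subgroup G)) :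
    ∃ s : G, s * z * s⁻¹ = z ∧ s * b * s⁻¹ = z * b := by
  haveI : Fact (Nat.Prime 2) := ⟨Nat.prime_two⟩
  obtain ⟨hV, hcases⟩ := hG.four_spec hz hb hne hzb
  set V := closure ({z, b} : Set G)
  have hzV : z ∈ V := subset_closure (by simp)
  have hbV : b ∈ V := subset_closure (by simp)
  obtain ⟨hV4, hVsq⟩ := TwoGroups.isKleinFour_iff.1 hV
  have hVC : V ≤ centralizer ({z} : Set G) := fun v hv =>
    mem_centralizer_singleton_iff.2 (TwoGroups.klein_mul_comm hV hv hzV)
  obtain ⟨S, hVS, hzS, hS⟩ := hG.exists_sylow_ge hz (IsPGroup.of_card (n := 2) (by rw [hV4]; rfl))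
    hVC
  have hlt : V < (S : Subgroup G) := lt_of_le_of_ne hVS fun e => by
    have := h8 S
    rw [← e, hV4] at this
    omega
  haveI : Group.IsNilpotent (S : Subgroup G) := S.isPGroup'.isNilpotent
  obtain ⟨⟨s, hsS⟩, hsN, hsV⟩ := SetLike.exists_of_lt
    (Group.normalizerCondition_of_isNilpotent (V.subgroupOf (S : Subgroup G))
      (lt_top_iff_ne_top.2 fun e => hlt.not_ge (subgroupOf_eq_top.1 e)))
  have hsz : s * z * s⁻¹ = z := by rw [hS s hsS, mul_inv_cancel_right]
  have hm : s * b * s⁻¹ ∈ V :=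
    mem_subgroupOf.1 ((mem_normalizer_iff.1 hsN ⟨b, hVS hbV⟩).1 (mem_subgroupOf.2 hbV))
  refine ⟨s, hsz, ?_⟩
  rcases hcases _ hm with h | h | h | h
  · exact absurd (conj_eq_one_iff.1 h) (Small.ne_one_of_orderOf_two hb)
  · exact absurd (mul_left_cancel (mul_right_cancel (hsz.trans h.symm))) hne
  · refine absurd (mem_subgroupOf.2 (hG.dihType.mem_four S.isPGroup' hVS hV4 hVsq hsS ?_)) hsV
    intro v hv
    rcases hcases v hv with rfl | rfl | rfl | rfl
    · simp
    · exact hS s hsS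
    · exact mul_inv_eq_iff_eq_mul.1 h
    · rw [← mul_assoc, hS s hsS, mul_assoc, mul_inv_eq_iff_eq_mul.1 h, mul_assoc]
  · exact h

/-- An element cycling the involutions of a four-group. -/
theorem exists_cycle {z b : G} (hz : orderOf z = 2) (hb : orderOf b = 2) (hne : z ≠ b)
    (hzb : z * b = b * z) : ∃ g : G, g * z * g⁻¹ = b ∧ g * b * g⁻¹ = z * b := by
  haveI : Fact (Nat.Prime 2) := ⟨Nat.prime_two⟩
  obtain ⟨hV, hcases⟩ := hG.four_spec hz hb hne hzb
  obtain ⟨hV4, -⟩ := TwoGroups.isKleinFour_iff.1 hV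
  by_cases h8 : ∀ S : Sylow 2 G, 4 < Nat.card (S : Subgroup G)
  · obtain ⟨s, hs1, hs2⟩ := hG.exists_swap hz hb hne hzb h8
    obtain ⟨t, ht1, ht2⟩ := hG.exists_swap hb hz hne.symm hzb.symm h8
    refine ⟨s * t, ?_, ?_⟩
    · rw [show s * t * z * (s * t)⁻¹ = s * (t * z * t⁻¹) * s⁻¹ by group, ht2,
        show s * (b * z) * s⁻¹ = (s * b * s⁻¹) * (s * z * s⁻¹) by group, hs1, hs2, mul_assoc,
        ← hzb, ← mul_assoc, Small.mul_self_of_orderOf_two hz, one_mul]
    · rw [show s * t * b * (s * t)⁻¹ = s * (t * b * t⁻¹) * s⁻¹ by group, ht1, hs2]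
  · simp only [not_forall, not_lt] at h8
    obtain ⟨S₀, hS₀⟩ := h8
    set V := closure ({z, b} : Set G)
    have hzV : z ∈ V := subset_closure (by simp)
    have hbV : b ∈ V := subset_closure (by simp)
    obtain ⟨S, hVS⟩ := (IsPGroup.of_card (n := 2) (by rw [hV4]; rfl) : IsPGroup 2 V).exists_le_sylow
    have hVS' : V = (S : Subgroup G) := eq_of_le_of_card_ge hVS (by
      rw [hV4]
      exact (le_of_eq (Nat.card_congr (Sylow.equiv S S₀).toEquiv)).trans hS₀)
    obtain ⟨g, hgN, hgC, hgo⟩ := hG.exists_moving (S := S) (hVS' ▸ hV)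
    rw [← hVS'] at hgN hgC
    have hgC' : ¬ (g * z * g⁻¹ = z ∧ g * b * g⁻¹ = b) := fun h => hgC (mem_centralizer_iff.2
      fun v hv => by
        rcases hcases v hv with rfl | rfl | rfl | rfl
        · simp
        · exact (mul_inv_eq_iff_eq_mul.1 h.1).symm
        · exact (mul_inv_eq_iff_eq_mul.1 h.2).symm
        · rw [mul_assoc, ← mul_inv_eq_iff_eq_mul.1 h.2, ← mul_assoc,
            ← mul_inv_eq_iff_eq_mul.1 h.1, mul_assoc])
    -- the square has the same fixed points
    have hg2 : ∀ v : G, g * (g * v * g⁻¹) * g⁻¹ = v → g * v * g⁻¹ = v := by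
      intro v h
      obtain ⟨k, hk⟩ := hgo
      have hc : Commute (g ^ 2) v := by
        show g ^ 2 * v = v * g ^ 2
        rw [pow_two]
        calc g * g * v = g * (g * v * g⁻¹) * g⁻¹ * (g * g) := by group
          _ = v * (g * g) := by rw [h]
      have hgp : g = (g ^ 2) ^ (k + 1) := by
        rw [← pow_mul, show 2 * (k + 1) = orderOf g + 1 by omega, pow_succ, pow_orderOf_eq_one,
          one_mul]
      have hcv : Commute g v := hgp ▸ hc.pow_left (k + 1)
      rw [hcv.eq, mul_inv_cancel_right]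
    have hz' := hcases _ ((mem_normalizer_iff.1 hgN z).1 hzV)
    have hb' := hcases _ ((mem_normalizer_iff.1 hgN b).1 hbV)
    have hinj : g * z * g⁻¹ ≠ g * b * g⁻¹ := fun h => hne (mul_left_cancel (mul_right_cancel h))
    have hmul : g * (z * b) * g⁻¹ = g * z * g⁻¹ * (g * b * g⁻¹) := by group
    have hzz := Small.mul_self_of_orderOf_two hz
    rcases hz' with h1 | h1 | h1 | h1
    · exact absurd (conj_eq_one_iff.1 h1) (Small.ne_one_of_orderOf_two hz)
    · exfalso
      rcases hb' with h2 | h2 | h2 | h2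
      · exact Small.ne_one_of_orderOf_two hb (conj_eq_one_iff.1 h2)
      · exact hinj (h1.trans h2.symm)
      · exact hgC' ⟨h1, h2⟩
      · refine hgC' ⟨h1, hg2 b ?_⟩
        rw [h2, hmul, h1, h2, ← mul_assoc, hzz, one_mul]
    · rcases hb' with h2 | h2 | h2 | h2
      · exact absurd (conj_eq_one_iff.1 h2) (Small.ne_one_of_orderOf_two hb)
      · exfalso
        exact hgC' ⟨hg2 z (by rw [h1, h2]), hg2 b (by rw [h2, h1])⟩
      · exact absurd (h1.trans h2.symm) hinj
      · exact ⟨g, h1, h2⟩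
    · rcases hb' with h2 | h2 | h2 | h2
      · exact absurd (conj_eq_one_iff.1 h2) (Small.ne_one_of_orderOf_two hb)
      · have hb2 : g * (z * b) * g⁻¹ = b := by
          rw [hmul, h1, h2, mul_assoc, ← hzb, ← mul_assoc, hzz, one_mul]
        refine ⟨g * g, ?_, ?_⟩
        · rw [show g * g * z * (g * g)⁻¹ = g * (g * z * g⁻¹) * g⁻¹ by group, h1, hb2]
        · rw [show g * g * b * (g * g)⁻¹ = g * (g * b * g⁻¹) * g⁻¹ by group, h2, h1]
      · exfalso
        refine hgC' ⟨hg2 z ?_, h2⟩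
        rw [h1, hmul, h1, h2, mul_assoc, Small.mul_self_of_orderOf_two hb, mul_one]
      · exact absurd (h1.trans h2.symm) hinj

/-- The common fixed part is normalised by the cycling element. -/
theorem conj_mem_fix {z b g w : G} (hz : orderOf z = 2) (h1 : g * z * g⁻¹ = b)
    (h2 : g * b * g⁻¹ = z * b) (hw : w ∈ fix z b) : g * w * g⁻¹ ∈ fix z b := by
  obtain ⟨a1, a2, a3⟩ := (hG.mem_fix hz).1 hw
  have hb : orderOf b = 2 := by
    rw [← h1, Small.orderOf_conj_eq, hz]
  rw [hG.fix_comm hz hb, hG.mem_fix hb]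
  have e : ∀ x, w * x = x * w →
      g * w * g⁻¹ * (g * x * g⁻¹) = g * x * g⁻¹ * (g * w * g⁻¹) := fun x hx => by
    calc g * w * g⁻¹ * (g * x * g⁻¹) = g * (w * x) * g⁻¹ := by group
      _ = g * (x * w) * g⁻¹ := by rw [hx]
      _ = _ := by group
  have e1 := e z a1
  have e2 := e b a2
  rw [h1] at e1
  rw [h2] at e2
  have hzc : g * w * g⁻¹ * z = z * (g * w * g⁻¹) := by
    have hbb := Small.mul_self_of_orderOf_two hb
    calc g * w * g⁻¹ * z = g * w * g⁻¹ * (z * b) * b := by
          rw [mul_assoc (g * w * g⁻¹) (z * b) b, mul_assoc z b b, hbb, mul_one]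
      _ = z * b * (g * w * g⁻¹) * b := by rw [e2]
      _ = z * (b * (g * w * g⁻¹)) * b := by group
      _ = z * (g * w * g⁻¹ * b) * b := by rw [e1]
      _ = z * (g * w * g⁻¹) * (b * b) := by group
      _ = z * (g * w * g⁻¹) := by rw [hbb, mul_one]
  exact ⟨e1, hzc, by rwa [Small.orderOf_conj_eq]⟩

/-- A minimal counterexample is not `A₇`, so its order is not 2520. -/
theorem card_ne (h : Nat.card G = 2520) : False := by
  haveI := hG.simple
  exact hG.not_goal (Or.inr (Cfsg.Agent.S0984.result h))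

/-- The Brauer–Suzuki–Wall conditions fail in a minimal counterexample. -/
theorem false_of_bsw {z : G} (hz : orderOf z = 2) (S : Sylow 2 G) (hzS : z ∈ (S : Subgroup G))
    (hS : ∀ s ∈ (S : Subgroup G), s * z = z * s)
    (ha : core z ≠ ⊥ → IsCyclic ((S : Subgroup G) ⊓ centralizer (core z : Set G) : Subgroup G) ∧
      ((S : Subgroup G) ⊓ centralizer (core z : Set G)).relIndex (S : Subgroup G) = 2)
    (hb : ∀ s ∈ (S : Subgroup G), s ∉ centralizer (core z : Set G) →
      ∀ y ∈ core z, s * y * s⁻¹ = y⁻¹)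
    (hc : ∀ Y : Subgroup G, Y ≤ core z → Y ≠ ⊥ →
      normalizer (Y : Set G) ≤ centralizer ({z} : Set G)) : False := by
  haveI := hG.simple
  obtain ⟨n, hn, hSn⟩ := hG.dih S
  obtain ⟨F, iF, fF, hodd, ⟨e⟩⟩ := Cfsg.Agent.S0508.result S n hn hSn z hz hzS hS (core z) rfl
    ha hb hc
  refine hG.not_goal (Or.inl ⟨F, iF, fF, hodd, ?_, ⟨e⟩⟩)
  by_contra h3
  have h2 := Fintype.one_lt_card (α := F)
  have hF : Fintype.card F = 3 := by
    obtain ⟨k, hk⟩ := hodd
    omega
  have h12 : Nat.card G ∣ 24 := by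
    rw [Nat.card_congr e.toEquiv]
    refine (card_quotient_dvd_card _).trans ?_
    rw [Linear.card_SL_two, hF]
    norm_num
  obtain ⟨i, hi, j, hj, hij⟩ : ∃ i ≤ 3, ∃ j ≤ 1, Nat.card G = 2 ^ i * 3 ^ j := by
    obtain ⟨x, y, hx, hy, hxy⟩ := (Nat.dvd_mul (k := Nat.card G) (m := 2 ^ 3) (n := 3 ^ 1)).1 h12
    obtain ⟨i, hi, rfl⟩ := (Nat.dvd_prime_pow Nat.prime_two).1 hx
    obtain ⟨j, hj, rfl⟩ := (Nat.dvd_prime_pow Nat.prime_three).1 hy
    exact ⟨i, hi, j, hj, hxy.symm⟩
  haveI := Cfsg.Agent.S0144.result 2 3 i j Nat.prime_two Nat.prime_three hij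
  exact hG.not_comm ⟨⟨fun x y => IsSimpleGroup.comm_iff_isSolvable.2 inferInstance x y⟩⟩

/-- The core of the dihedral setup is the core of the centralizer. -/
theorem core_eq_setup {P : Sylow 2 G} {σ τ : G} {h : ℕ}
    (S : Inv54.DihedralBlock.Setup P σ τ h) : S.core = core (σ ^ h) := by
  refine le_antisymm (fun k hk => hG.mem_core S.J_order (S.core_le hk)
    (S.core_odd.of_dvd_nat (S.core.orderOf_dvd_natCard hk))) fun g hg => ?_
  exact SuzukiWong.mem_core_of S (core_le _ hg) (odd_orderOf_core hg)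

/-- A dihedral setup around a commuting pair of involutions, for Sylow orders at least eight. -/
theorem exists_setup {z b : G} (hz : orderOf z = 2) (hb : orderOf b = 2) (hne : z ≠ b)
    (hzb : z * b = b * z) (h8 : ∀ S : Sylow 2 G, 4 < Nat.card (S : Subgroup G)) :
    ∃ (P : Sylow 2 G) (σ τ : G) (h : ℕ), Inv54.DihedralBlock.Setup P σ τ h ∧ σ ^ h = z ∧ τ = b := by
  haveI : Fact (Nat.Prime 2) := ⟨Nat.prime_two⟩
  obtain ⟨hV, -⟩ := hG.four_spec hz hb hne hzb
  obtain ⟨hV4, -⟩ := TwoGroups.isKleinFour_iff.1 hV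
  have hzV : z ∈ closure ({z, b} : Set G) := subset_closure (by simp)
  obtain ⟨P, hVP, hzP, hP⟩ := hG.exists_sylow_ge hz
    (IsPGroup.of_card (n := 2) (by rw [hV4]; rfl)) (fun v hv =>
      mem_centralizer_singleton_iff.2 (TwoGroups.klein_mul_comm hV hv hzV))
  obtain ⟨k, -, hc, ⟨e⟩⟩ := hG.card_sylow P
  have hk : 3 ≤ k := by
    by_contra hk
    have h4 := h8 P
    rw [hc] at h4
    have := Nat.pow_le_pow_right (show 1 ≤ 2 by omega) (show k ≤ 2 by omega)
    omega
  have h2k : 2 ^ (k - 1) = 2 * 2 ^ (k - 2) := by rw [← pow_succ']; congr 1; omega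
  obtain ⟨e'⟩ : Nonempty ((P : Subgroup G) ≃* DihedralGroup (2 * 2 ^ (k - 2))) := ⟨h2k ▸ e⟩
  have h2 : 2 ≤ 2 ^ (k - 2) := by
    calc 2 = 2 ^ 1 := rfl
      _ ≤ _ := Nat.pow_le_pow_right two_pos (by omega)
  obtain ⟨τ₀, S₀⟩ := Inv54.DihedralBlock.setup_of_iso P (σ := ((e'.symm (DihedralGroup.r 1) :
      (P : Subgroup G)) : G)) h2 ⟨k - 2, rfl⟩ e' (e'.symm (DihedralGroup.r 1)).2 (by
    rw [orderOf_coe, MulEquiv.orderOf_eq, DihedralGroup.orderOf_r_one])
  set σ : G := ((e'.symm (DihedralGroup.r 1) : (P : Subgroup G)) : G)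
  set h := 2 ^ (k - 2)
  have hJz : σ ^ h = z := by
    refine (SuzukiWong.eq_J_of_central S₀ hzP ?_ ?_ ?_).symm
    · exact (hP σ S₀.memσ).symm
    · exact Small.mul_self_of_orderOf_two hz
    · exact Small.ne_one_of_orderOf_two hz
  have hbP : b ∈ (P : Subgroup G) := hVP (subset_closure (by simp))
  have hnot : b ∉ zpowers σ := by
    intro hm
    obtain ⟨i, hi⟩ := mem_powers_iff_mem_zpowers.2 hm
    replace hi : σ ^ i = b := hi
    exact hne (hJz ▸ (S₀.J_unique (a := i) (by rw [hi]; exact Small.mul_self_of_orderOf_two hb)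
      (by rw [hi]; exact Small.ne_one_of_orderOf_two hb)).symm.trans hi)
  obtain ⟨i, hi | hi⟩ := S₀.elems b hbP
  · exact absurd (hi ▸ pow_mem (mem_zpowers σ) i) hnot
  have hrel : b * σ * b⁻¹ = σ⁻¹ := by
    rw [hi, show τ₀ * σ ^ i * σ * (τ₀ * σ ^ i)⁻¹ = τ₀ * (σ ^ i * σ * (σ ^ i)⁻¹) * τ₀⁻¹ by group,
      show σ ^ i * σ * (σ ^ i)⁻¹ = σ by group, S₀.rel]
  refine ⟨P, σ, b, h, Inv54.DihedralBlock.setup_of_generators P h2 ⟨k - 2, rfl⟩ S₀.ordσ hb hrel ?_,
    hJz, rfl⟩
  refine le_antisymm ((closure_le _).2 ?_) fun x hx => ?_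
  · rintro x (rfl | rfl)
    exacts [S₀.memσ, hbP]
  · have hσ : σ ∈ closure ({σ, b} : Set G) := subset_closure (by simp)
    have hτ : τ₀ ∈ closure ({σ, b} : Set G) := by
      rw [show τ₀ = b * (σ ^ i)⁻¹ by rw [hi]; group]
      exact mul_mem (subset_closure (by simp)) (inv_mem (pow_mem hσ i))
    obtain ⟨j, rfl | rfl⟩ := S₀.elems x hx
    · exact pow_mem hσ j
    · exact mul_mem hτ (pow_mem hσ j)

end Minimal

end CfsgLib.GW
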