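import Cfsg.Agent.GW.TwistCount
import Cfsg.Agent.GW.Setting
import Cfsg.Agent.OddOrderChar.AbelianInertia
import Cfsg.Agent.Solvable.Factorization

/-!
# Gorenstein–Walter: ingredients for the twist theorem

The frame of an involution, the test function, fusion invariance from cycles of four-groups, and the
degree condition from an inverted abelian subgroup that the core moves.
-/

set_option autoImplicit false
set_option linter.style.haveILetI false
set_option linter.unusedSectionVars false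

namespace CfsgLib.GW.Tw

open Subgroup Cfsg CfsgLib.PrincipalBlock CfsgLib.Characters
open scoped ComplexConjugate Pointwise

universe u

variable {G : Type u} [Group G]

/-- The frame of an involution of a minimal counterexample. -/
theorem frame_core [Finite G] (hG : Minimal G) {z : G} (hz : orderOf z = 2) :
    Frame z (core z) :=
  ⟨hz, core_le z, odd_core z, fun _ hc _ hu => core_conj hc hu, fun _ hc ho => hG.mem_core hz hc ho⟩

/-- A product with a normalised subgroup meeting trivially. -/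
theorem card_sup_normalized [Finite G] {A B : Subgroup G} (hB : B ≤ normalizer (A : Set G))
    (hd : A ⊓ B = ⊥) :
    Nat.card (A ⊔ B : Subgroup G) = Nat.card A * Nat.card B ∧
      ∀ x ∈ A ⊔ B, ∃ a ∈ A, ∃ b ∈ B, x = a * b := by
  have hperm : (A : Set G) * B = (B : Set G) * A := by
    ext x
    simp only [Set.mem_mul, SetLike.mem_coe]
    constructor
    · rintro ⟨a, ha, b, hb, rfl⟩
      refine ⟨b, hb, b⁻¹ * a * b, ?_, by group⟩
      simpa using (mem_normalizer_iff.1 (hB (inv_mem hb)) a).1 ha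
    · rintro ⟨b, hb, a, ha, rfl⟩
      exact ⟨b * a * b⁻¹, (mem_normalizer_iff.1 (hB hb) a).1 ha, b, hb, by group⟩
  refine ⟨Solvable.card_sup_of_permute hperm (disjoint_iff.2 hd), fun x hx => ?_⟩
  have h1 : (x : G) ∈ ((A ⊔ B : Subgroup G) : Set G) := hx
  rw [Solvable.coe_sup_of_permute hperm] at h1
  obtain ⟨a, ha, b, hb, rfl⟩ := h1
  exact ⟨a, ha, b, hb, rfl⟩

variable [Fintype G] {z : G} {U : Subgroup G}

open Classical in
/-- The sign of a subgroup of index two. -/
theorem exists_sign {C H : Subgroup G} (hle : H ≤ C) (hc : Nat.card C = 2 * Nat.card H) :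
    ∃ a : C →* ℂˣ, ∀ c : C, (a c : ℂ) = if (c : G) ∈ H then 1 else -1 := by
  have hi : (H.subgroupOf C).index = 2 := by
    have e := (H.subgroupOf C).card_mul_index
    rw [Nat.card_congr (subgroupOfEquivOfLe hle).toEquiv, hc, mul_comm 2] at e
    exact Nat.eq_of_mul_eq_mul_left Nat.card_pos e
  refine ⟨{ toFun := fun c => if (c : G) ∈ H then 1 else -1,
            map_one' := if_pos H.one_mem,
            map_mul' := fun x y => ?_ }, fun c => ?_⟩
  · have h := mul_mem_iff_of_index_two hi (a := x) (b := y)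
    simp only [mem_subgroupOf, coe_mul] at h
    by_cases hx : (x : G) ∈ H <;> by_cases hy : (y : G) ∈ H <;> simp [h, hx, hy]
  · show (((if (c : G) ∈ H then 1 else -1 : ℂˣ)) : ℂ) = _
    split_ifs <;> simp

variable (hF : Frame z U) [Fintype (centralizer ({z} : Set G))]
include hF

open Classical in
/-- The test function `4` on `H₁ ∖ H₂`. -/
theorem Frame.exists_test {H1 H2 : Subgroup G} (hle1 : H1 ≤ centralizer ({z} : Set G))
    (hle2 : H2 ≤ centralizer ({z} : Set G))
    (hc1 : Nat.card (centralizer ({z} : Set G)) = 2 * Nat.card H1)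
    (hc2 : Nat.card (centralizer ({z} : Set G)) = 2 * Nat.card H2)
    (hU1 : U ≤ H1) (hU2 : U ≤ H2) (hne : ∃ g ∈ H1, g ∉ H2)
    (hD : ∀ g ∈ H1, g ∉ H2 → g ∈ dset z) :
    ∃ φ : centralizer ({z} : Set G) → ℂ, Test z U φ ∧
      (∃ n : ℤ, n ≤ 4 ∧ classInner φ φ = n) ∧ classInner φ (fun _ => 1) = 1 ∧
      ∀ c : centralizer ({z} : Set G), φ c = if (c : G) ∈ H1 ∧ (c : G) ∉ H2 then 4 else 0 := by
  obtain ⟨a, ha⟩ := exists_sign hle1 hc1
  obtain ⟨b, hb⟩ := exists_sign hle2 hc2
  let χ : (centralizer ({z} : Set G) →* ℂˣ) → IrrCharacter (centralizer ({z} : Set G)) :=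
    fun f => ⟨fun c => (f c : ℂ), isIrr_linChar f⟩
  have hinj : ∀ f f', χ f = χ f' → f = f' := fun f f' h => MonoidHom.ext fun c =>
    Units.ext (congrFun (congrArg Subtype.val h) c)
  obtain ⟨g, hg1, hg2⟩ := hne
  have hag := ha ⟨g, hle1 hg1⟩
  have hbg := hb ⟨g, hle1 hg1⟩
  rw [if_pos hg1] at hag
  rw [if_neg hg2] at hbg
  have hb1 : b ≠ 1 := fun h => by
    rw [h, MonoidHom.one_apply, Units.val_one] at hbg; norm_num at hbg
  have ha1 : a ≠ 1 := by
    intro h
    have hlt : H1 < centralizer ({z} : Set G) := lt_of_le_of_ne hle1 fun e => by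
      rw [← e] at hc1
      have := Nat.card_pos (α := H1)
      omega
    obtain ⟨x, hx, hxn⟩ := SetLike.exists_of_lt hlt
    have hax := ha ⟨x, hx⟩
    rw [if_neg hxn, h, MonoidHom.one_apply, Units.val_one] at hax
    norm_num at hax
  have hab : a ≠ b := fun h => by
    rw [h, hbg] at hag; norm_num at hag
  set φ : centralizer ({z} : Set G) → ℂ :=
    fun c => (1 + (a c : ℂ)) * (1 - (b c : ℂ)) with hφ
  have hval : ∀ c : centralizer ({z} : Set G),
      φ c = if (c : G) ∈ H1 ∧ (c : G) ∉ H2 then 4 else 0 := by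
    intro c
    simp only [hφ, ha, hb]
    by_cases h1 : (c : G) ∈ H1 <;> by_cases h2 : (c : G) ∈ H2 <;> (simp [h1, h2]; try norm_num)
  have hexp : φ = (χ 1 : centralizer ({z} : Set G) → ℂ) + (χ a : centralizer ({z} : Set G) → ℂ) +
      (-1 : ℂ) • (χ b : centralizer ({z} : Set G) → ℂ) +
      (-1 : ℂ) • (χ (a * b) : centralizer ({z} : Set G) → ℂ) := by
    funext c
    simp only [hφ, χ, Pi.add_apply, Pi.smul_apply, smul_eq_mul, MonoidHom.one_apply,
      MonoidHom.mul_apply, Units.val_one, Units.val_mul]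
    ring
  have hgen : IsGeneralizedCharacter (centralizer ({z} : Set G)) φ := by
    rw [hexp]
    have h : ∀ f, IsGeneralizedCharacter (centralizer ({z} : Set G))
        ((χ f : IrrCharacter _) : centralizer ({z} : Set G) → ℂ) := fun f => isGen_of_isIrr (χ f).2
    have e : ∀ f, (-1 : ℂ) • ((χ f : IrrCharacter _) : centralizer ({z} : Set G) → ℂ) =
        -((χ f : IrrCharacter _) : centralizer ({z} : Set G) → ℂ) := fun f => by simp
    rw [e, e]
    exact isGen_add (isGen_add (isGen_add (h 1) (h a)) (isGen_neg (h b))) (isGen_neg (h (a * b)))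
  have hdiff : ∀ f f', f ≠ f' → classInner ((χ f : IrrCharacter _) : centralizer ({z} : Set G) → ℂ)
      ((χ f' : IrrCharacter _) : centralizer ({z} : Set G) → ℂ) = 0 := fun f f' h => by
    rw [classInner_irr, if_neg fun e => h (hinj f f' e)]
  have hself : ∀ f, classInner ((χ f : IrrCharacter _) : centralizer ({z} : Set G) → ℂ)
      ((χ f : IrrCharacter _) : centralizer ({z} : Set G) → ℂ) = 1 := fun f => by
    rw [classInner_irr, if_pos rfl]
  have h1ab : (1 : centralizer ({z} : Set G) →* ℂˣ) ≠ a * b := by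
    intro h
    have := congrArg (fun f : centralizer ({z} : Set G) →* ℂˣ => (f ⟨g, hle1 hg1⟩ : ℂ)) h
    simp only [MonoidHom.one_apply, MonoidHom.mul_apply, Units.val_one, Units.val_mul, hag, hbg]
      at this
    norm_num at this
  have haab : a ≠ a * b := fun h => hb1 (MonoidHom.ext fun x => left_eq_mul.1 (DFunLike.congr_fun h x))
  have hbab : b ≠ a * b := fun h => ha1 (MonoidHom.ext fun x => right_eq_mul.1 (DFunLike.congr_fun h x))
  refine ⟨φ, ⟨hgen, fun c hc => ?_, fun c u hu => ?_⟩, ⟨4, le_rfl, ?_⟩, ?_, hval⟩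
  · rw [hval, if_neg fun h => hc (hD _ h.1 h.2)]
  · rw [hval, hval]
    refine if_congr ?_ rfl rfl
    rw [Subgroup.coe_mul, H1.mul_mem_cancel_right (hU1 hu), H2.mul_mem_cancel_right (hU2 hu)]
  · simp only [hexp, classInner_add_left, classInner_add_right, classInner_smul_left,
      classInner_smul_right, hself, hdiff _ _ (Ne.symm ha1), hdiff _ _ (Ne.symm hb1),
      hdiff _ _ h1ab, hdiff _ _ ha1, hdiff _ _ hb1, hdiff _ _ h1ab.symm, hdiff _ _ hab,
      hdiff _ _ hab.symm, hdiff _ _ haab, hdiff _ _ haab.symm, hdiff _ _ hbab, hdiff _ _ hbab.symm]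
    simp
    norm_num
  · rw [show (fun _ : centralizer ({z} : Set G) => (1 : ℂ)) =
      ((χ 1 : IrrCharacter _) : centralizer ({z} : Set G) → ℂ) from funext fun c => by simp [χ]]
    simp only [hexp, classInner_add_left, classInner_smul_left, hself, hdiff _ _ ha1, hdiff _ _ hb1,
      hdiff _ _ h1ab.symm]
    simp

/-- The test function of a dihedral Sylow 2-subgroup, any order. -/
theorem Frame.exists_test_dihedral {S : Subgroup G} {σ τ : G} {k : ℕ}
    (hSC : S ≤ centralizer ({z} : Set G)) (hσS : σ ∈ S) (hτS : τ ∈ S) (hk : 1 ≤ k)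
    (hσ : orderOf σ = 2 ^ k) (hτ : orderOf τ = 2) (hrel : τ * σ * τ⁻¹ = σ⁻¹)
    (hnot : τ ∉ zpowers σ) (hzσ : z ∈ zpowers σ)
    (hdec : ∀ c ∈ centralizer ({z} : Set G), ∃ u ∈ U, ∃ s ∈ S, c = u * s)
    (hcard : Nat.card S = 2 * 2 ^ k) :
    Nat.card (centralizer ({z} : Set G)) = 2 * 2 ^ k * Nat.card U ∧
    ∃ φ : centralizer ({z} : Set G) → ℂ, Test z U φ ∧
      (∃ n : ℤ, n ≤ 4 ∧ classInner φ φ = n) ∧ classInner φ (fun _ => 1) = 1 := by
  haveI : Fact (Nat.Prime 2) := ⟨Nat.prime_two⟩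
  have hSp : IsPGroup 2 S := IsPGroup.of_card (n := k + 1) (by rw [hcard, pow_succ]; ring)
  have hnormU : centralizer ({z} : Set G) ≤ normalizer (U : Set G) := fun c hc =>
    mem_normalizer_iff.2 fun u => ⟨hF.conj_mem c hc u, fun h => by
      simpa [mul_assoc] using hF.conj_mem c⁻¹ (inv_mem hc) _ h⟩
  have hdisj : ∀ K ≤ S, U ⊓ K = ⊥ := fun K hK => (eq_bot_iff_forall _).2 fun x hx => by
    obtain ⟨j, hj⟩ := IsPGroup.iff_card.1 (hSp.to_le hK)
    exact orderOf_eq_one_iff.1 (Nat.eq_one_of_dvd_coprimes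
      ((Nat.coprime_two_right.2 hF.odd).pow_right j) (U.orderOf_dvd_natCard hx.1)
      (hj ▸ K.orderOf_dvd_natCard hx.2))
  have hsup : ∀ K ≤ S, Nat.card (U ⊔ K : Subgroup G) = Nat.card U * Nat.card K ∧
      ∀ x ∈ U ⊔ K, ∃ u ∈ U, ∃ s ∈ K, x = u * s := fun K hK =>
    card_sup_normalized ((hK.trans hSC).trans hnormU) (hdisj K hK)
  have htop : U ⊔ S = centralizer ({z} : Set G) := le_antisymm (sup_le hF.le hSC) fun c hc => by
    obtain ⟨u, hu, s, hs, rfl⟩ := hdec c hc
    exact mul_mem_sup hu hs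
  have hC : Nat.card (centralizer ({z} : Set G)) = 2 * 2 ^ k * Nat.card U := by
    rw [← htop, (hsup S le_rfl).1, hcard]; ring
  refine ⟨hC, ?_⟩
  have hK1 : zpowers σ ≤ S := zpowers_le.2 hσS
  set K2 : Subgroup G := zpowers (σ * σ) ⊔ zpowers τ with hK2d
  have hK2 : K2 ≤ S := sup_le (zpowers_le.2 (mul_mem hσS hσS)) (zpowers_le.2 hτS)
  have hord2 : orderOf (σ * σ) = 2 ^ (k - 1) := by
    rw [← sq, orderOf_pow' _ two_ne_zero, hσ]
    obtain ⟨j, rfl⟩ : ∃ j, k = j + 1 := ⟨k - 1, by omega⟩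
    rw [Nat.add_sub_cancel, pow_succ, Nat.gcd_mul_left_left, Nat.mul_div_cancel _ two_pos]
  have hnorm : zpowers τ ≤ normalizer ((zpowers (σ * σ) : Subgroup G) : Set G) := by
    rw [zpowers_le]
    refine mem_normalizer_iff.2 fun x => ?_
    have e : τ * (σ * σ) * τ⁻¹ = (σ * σ)⁻¹ := by
      rw [show τ * (σ * σ) * τ⁻¹ = τ * σ * τ⁻¹ * (τ * σ * τ⁻¹) by group, hrel, mul_inv_rev]
    constructor
    · rintro ⟨j, rfl⟩
      exact ⟨-j, by simp only [zpow_neg]; rw [← conj_zpow, e, inv_zpow]⟩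
    · rintro ⟨j, hj⟩
      refine ⟨-j, ?_⟩
      simp only [zpow_neg] at hj ⊢
      have h1 : x = τ⁻¹ * (σ * σ) ^ j * τ := by rw [hj]; group
      have e' : τ⁻¹ * (σ * σ) * τ = (σ * σ)⁻¹ := by
        rwa [Small.inv_eq_self_of_orderOf_two hτ] at e ⊢
      rw [h1]
      have := conj_zpow (i := j) (a := τ⁻¹) (b := σ * σ)
      rw [inv_inv] at this
      rw [← this, e', inv_zpow]
  have hd2 : zpowers (σ * σ) ⊓ zpowers τ = ⊥ := (eq_bot_iff_forall _).2 fun x hx => by
    obtain ⟨j, hj⟩ := hx.2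
    rcases Int.even_or_odd j with ⟨i, rfl⟩ | ⟨i, rfl⟩
    · rw [← hj]
      simp only [← two_mul, zpow_mul, zpow_two, Small.mul_self_of_orderOf_two hτ, one_zpow]
    · exfalso
      apply hnot
      have hτx : x = τ := by
        rw [← hj]
        simp only [zpow_add_one, zpow_mul, zpow_two, Small.mul_self_of_orderOf_two hτ, one_zpow,
          one_mul]
      obtain ⟨i', hi'⟩ := hx.1
      exact ⟨2 * i', by
        show σ ^ (2 * i') = τ
        rw [zpow_mul, zpow_two, ← hτx]; exact hi'⟩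
  obtain ⟨hcK2, hmK2⟩ := card_sup_normalized hnorm hd2
  rw [Nat.card_zpowers, Nat.card_zpowers, hord2, hτ, ← pow_succ,
    show k - 1 + 1 = k by omega] at hcK2
  have hσK2 : σ ∉ K2 := fun h => by
    obtain ⟨a, ⟨i, rfl⟩, b, ⟨j, rfl⟩, e⟩ := hmK2 σ h
    rcases Int.even_or_odd j with ⟨j', rfl⟩ | ⟨j', rfl⟩
    · simp only [← two_mul, zpow_mul, zpow_two, Small.mul_self_of_orderOf_two hτ, one_zpow,
        mul_one] at e
      -- `σ` is not an even power of itself
      have h2 : σ ∈ zpowers (σ * σ) := ⟨i, e.symm⟩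
      have h3 := Nat.le_of_dvd Nat.card_pos (card_dvd_of_le (zpowers_le.2 h2))
      rw [Nat.card_zpowers, Nat.card_zpowers, hσ, hord2] at h3
      exact absurd h3 (not_le.2 (Nat.pow_lt_pow_right one_lt_two (by omega)))
    · simp only [zpow_add_one, zpow_mul, zpow_two, Small.mul_self_of_orderOf_two hτ, one_zpow,
        one_mul] at e
      refine hnot ⟨1 - 2 * i, ?_⟩
      show σ ^ (1 - 2 * i) = τ
      have e' : τ = ((σ * σ) ^ i)⁻¹ * σ := by
        rw [eq_inv_mul_iff_mul_eq]
        exact e.symm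
      rw [e', sub_eq_neg_add, zpow_add, zpow_one, zpow_neg, zpow_mul, zpow_two]
  obtain ⟨φ, h1, h2, h3, -⟩ := hF.exists_test (H1 := U ⊔ zpowers σ) (H2 := U ⊔ K2)
    (htop ▸ sup_le_sup_left hK1 U) (htop ▸ sup_le_sup_left hK2 U)
    (by rw [hC, (hsup _ hK1).1, Nat.card_zpowers, hσ]; ring)
    (by rw [hC, (hsup _ hK2).1, hcK2]; ring) le_sup_left le_sup_left
    ⟨σ, mem_sup_right (mem_zpowers σ), fun h => by
      obtain ⟨u, hu, s, hs, e⟩ := (hsup _ hK2).2 σ h
      have h1 : u = 1 := (eq_bot_iff_forall _).1 (hdisj S le_rfl) u ⟨hu, by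
        rw [show u = σ * s⁻¹ by rw [e, mul_inv_cancel_right]]
        exact S.mul_mem hσS (S.inv_mem (hK2 hs))⟩
      rw [h1, one_mul] at e
      exact hσK2 (e ▸ hs)⟩
    (fun g hg hg2 => by
      obtain ⟨u, hu, s, hs, rfl⟩ := (hsup _ hK1).2 g hg
      have hs1 : s ≠ 1 := fun h => hg2 (by rw [h, mul_one]; exact mem_sup_left hu)
      obtain ⟨j, -, hj⟩ := (Nat.dvd_prime_pow Nat.prime_two).1
        (hσ ▸ (Nat.card_zpowers σ ▸ (zpowers σ).orderOf_dvd_natCard hs : orderOf s ∣ orderOf σ))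
      have h2 : 2 ∣ orderOf s := by
        rw [hj]
        refine dvd_pow_self 2 fun h0 => hs1 ?_
        rw [← orderOf_eq_one_iff, hj, h0, pow_zero]
      have hw : orderOf (s ^ (orderOf s / 2)) = 2 := by
        rw [orderOf_pow_of_dvd (Nat.div_pos (Nat.le_of_dvd (orderOf_pos s) h2) two_pos).ne'
          (Nat.div_dvd_of_dvd h2), Nat.div_div_self h2 (orderOf_pos s).ne']
      have hsD : s ∈ dset z := by
        show z ∈ zpowers s
        rw [← invol_unique hw hF.hz (pow_mem hs _) hzσ]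
        exact pow_mem (mem_zpowers s) _
      have e : u * s = s * (s⁻¹ * u * s) := by group
      rw [e]
      refine hF.dset_mul hsD ?_
      simpa using hF.conj_mem s⁻¹ (inv_mem (hSC (hK1 hs))) u hu)
  exact ⟨φ, h1, h2, h3⟩

omit [Fintype (centralizer ({z} : Set G))] in
/-- A class sum that cycles preserve is invariant under fusion. -/
theorem Frame.fused_of_cycles {Θ : Finset (Lin z)}
    (hconj : ∀ x : G, orderOf x = 2 → IsConj x z)
    (hcyc : ∀ b : G, orderOf b = 2 → z ≠ b → z * b = b * z → ∃ g : G, g * z * g⁻¹ = b ∧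
      ∀ w ∈ U, w * b = b * w → asum Θ (g⁻¹ * w * g) = asum Θ w) :
    Fused U Θ := by
  intro u hu g hgu
  have hz2 := Small.mul_self_of_orderOf_two hF.hz
  have huodd : Odd (orderOf u) := hF.odd.of_dvd_nat (U.orderOf_dvd_natCard hu)
  have hinU : ∀ h x : G, h * x * h⁻¹ = z → Commute x u → h * u * h⁻¹ ∈ U := fun h x hx hc => by
    refine hF.mem _ (mem_centralizer_singleton_iff.2 ?_) (by rwa [Small.orderOf_conj_eq])
    rw [← hx]
    calc h * u * h⁻¹ * (h * x * h⁻¹) = h * (u * x) * h⁻¹ := by group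
      _ = h * (x * u) * h⁻¹ := by rw [hc.eq]
      _ = _ := by group
  -- the value seen from an involution commuting with `u`
  let Q : G → Prop := fun x => Commute x u ∧
    ∀ h : G, h * x * h⁻¹ = z → asum Θ (h * u * h⁻¹) = asum Θ u
  have hbase : Q z := ⟨(mem_centralizer_singleton_iff.1 (hF.le hu)).symm, fun h hh =>
    asum_conj (mem_centralizer_singleton_iff.2 (mul_inv_eq_iff_eq_mul.1 hh)) (hF.le hu)⟩
  have hmove : ∀ x m : G, Commute m u → Q x → Q (m * x * m⁻¹) := by
    rintro x m hm ⟨hx, hQ⟩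
    refine ⟨(hm.mul_left hx).mul_left hm.inv_left, fun h hh => ?_⟩
    have e := hQ (h * m) (by rw [← hh]; group)
    rwa [show h * m * u * (h * m)⁻¹ = h * (m * u * m⁻¹) * h⁻¹ by group, hm.eq,
      mul_inv_cancel_right] at e
  have hstep : ∀ x y : G, orderOf x = 2 → orderOf y = 2 → Commute x y → Commute y u → Q x → Q y := by
    rintro x y hx hy hxy hyu ⟨hxu, hQ⟩
    by_cases e : x = y
    · exact e ▸ ⟨hxu, hQ⟩
    refine ⟨hyu, fun h hh => ?_⟩
    obtain ⟨h₀, hh₀⟩ := isConj_iff.1 (hconj x hx)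
    set b := h₀ * y * h₀⁻¹ with hb
    set u₁ := h₀ * u * h₀⁻¹ with hu₁
    have hu₁U : u₁ ∈ U := hinU h₀ x hh₀ hxu
    have hzb : z * b = b * z := by
      rw [hb, ← hh₀]
      calc h₀ * x * h₀⁻¹ * (h₀ * y * h₀⁻¹) = h₀ * (x * y) * h₀⁻¹ := by group
        _ = h₀ * (y * x) * h₀⁻¹ := by rw [hxy.eq]
        _ = _ := by group
    have hne : z ≠ b := fun h' => e (by
      rw [hb, ← hh₀] at h'
      exact mul_left_cancel (mul_right_cancel h'))
    have hub : u₁ * b = b * u₁ := by
      rw [hb, hu₁]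
      calc h₀ * u * h₀⁻¹ * (h₀ * y * h₀⁻¹) = h₀ * (u * y) * h₀⁻¹ := by group
        _ = h₀ * (y * u) * h₀⁻¹ := by rw [hyu.eq]
        _ = _ := by group
    obtain ⟨k, hk, hkw⟩ := hcyc b (by rw [hb, Small.orderOf_conj_eq, hy]) hne hzb
    have hk' : k⁻¹ * h₀ * y * (k⁻¹ * h₀)⁻¹ = z := by
      rw [show k⁻¹ * h₀ * y * (k⁻¹ * h₀)⁻¹ = k⁻¹ * b * k by rw [hb]; group, ← hk]
      group
    have hc : h * (k⁻¹ * h₀)⁻¹ ∈ centralizer ({z} : Set G) := by
      refine mem_centralizer_singleton_iff.2 (mul_inv_eq_iff_eq_mul.1 ?_)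
      calc h * (k⁻¹ * h₀)⁻¹ * z * (h * (k⁻¹ * h₀)⁻¹)⁻¹
          = h * (k⁻¹ * h₀)⁻¹ * (k⁻¹ * h₀ * y * (k⁻¹ * h₀)⁻¹) * (h * (k⁻¹ * h₀)⁻¹)⁻¹ := by
            rw [hk']
        _ = h * y * h⁻¹ := by group
        _ = z := hh
    have hin := hinU (k⁻¹ * h₀) y hk' hyu
    have e2 : k⁻¹ * h₀ * u * (k⁻¹ * h₀)⁻¹ = k⁻¹ * u₁ * k := by rw [hu₁]; group
    rw [show h * u * h⁻¹ = h * (k⁻¹ * h₀)⁻¹ * (k⁻¹ * h₀ * u * (k⁻¹ * h₀)⁻¹) *
        (h * (k⁻¹ * h₀)⁻¹)⁻¹ by group, asum_conj hc (hF.le hin), e2, hkw u₁ hu₁U hub]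
    exact hQ h₀ hh₀
  -- two involutions of the centralizer of `u` are linked
  have hpair : ∀ x y : G, orderOf x = 2 → orderOf y = 2 → Commute y u → Q x → Q y := by
    intro x y hx hy hyu hQx
    have hx2 := Small.mul_self_of_orderOf_two hx
    have hy2 := Small.mul_self_of_orderOf_two hy
    have hxyu : Commute (x * y) u := hQx.1.mul_left hyu
    rcases Nat.even_or_odd (orderOf (x * y)) with ⟨m, hm⟩ | ho
    · have hm0 : 0 < m := by have := orderOf_pos (x * y); omega
      set j := (x * y) ^ m with hj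
      have hjo : orderOf j = 2 := by
        rw [hj, orderOf_pow_of_dvd hm0.ne' ⟨2, by omega⟩, hm, ← two_mul,
          Nat.mul_div_cancel _ hm0]
      have hj2 : j⁻¹ = j := Small.inv_eq_self_of_orderOf_two hjo
      have hix : x * j * x⁻¹ = j := by
        rw [hj, ← conj_pow]
        conv_rhs => rw [← hj, ← hj2, hj, ← inv_pow]
        congr 1
        rw [mul_inv_rev, inv_eq_of_mul_eq_one_right hy2, inv_eq_of_mul_eq_one_right hx2]
        simp [← mul_assoc, hx2]
      have hcx : Commute x j := mul_inv_eq_iff_eq_mul.1 hix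
      have hcy : Commute y j := by
        have e : y = x⁻¹ * (x * y) := by group
        rw [e]
        exact hcx.inv_left.mul_left ((Commute.refl (x * y)).pow_right m)
      exact hstep j y hjo hy hcy.symm hyu (hstep x j hx hjo hcx (hxyu.pow_left m) hQx)
    · obtain ⟨t, ht⟩ := ho
      have hty : (x * y) ^ t * x * ((x * y) ^ t)⁻¹ = y := by
        have hs : SemiconjBy x (x * y)⁻¹ (x * y) := by
          show x * (x * y)⁻¹ = x * y * x
          rw [mul_inv_rev, inv_eq_of_mul_eq_one_right hy2, inv_eq_of_mul_eq_one_right hx2, ← mul_assoc]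
        have h1 : x * ((x * y) ^ t)⁻¹ = (x * y) ^ t * x := by
          have := hs.pow_right t
          rwa [SemiconjBy, inv_pow] at this
        have h2 : (x * y) ^ (t + t) = (x * y)⁻¹ := by
          refine eq_inv_of_mul_eq_one_left ?_
          rw [← pow_succ, show t + t + 1 = orderOf (x * y) by omega, pow_orderOf_eq_one]
        rw [mul_assoc, h1, ← mul_assoc, ← pow_add, h2, mul_inv_rev, inv_eq_of_mul_eq_one_right hy2,
          inv_eq_of_mul_eq_one_right hx2, mul_assoc, hx2, mul_one]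
      exact hty ▸ hmove x _ (hxyu.pow_left t) hQx
  have hgz : Commute (g⁻¹ * z * g) u := by
    have h := mem_centralizer_singleton_iff.1 (hF.le hgu)
    show g⁻¹ * z * g * u = u * (g⁻¹ * z * g)
    calc g⁻¹ * z * g * u = g⁻¹ * (z * (g * u * g⁻¹)) * g := by group
      _ = g⁻¹ * (g * u * g⁻¹ * z) * g := by rw [h]
      _ = _ := by group
  have horder : orderOf (g⁻¹ * z * g) = 2 := by
    have := Small.orderOf_conj_eq g⁻¹ z
    rw [inv_inv] at this
    rw [this, hF.hz]
  exact (hpair z _ hF.hz horder hgz hbase).2 g (by group)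

omit [Fintype (centralizer ({z} : Set G))] in
open Classical in
/-- An inverted abelian subgroup moved by the core. -/
theorem Frame.big_moved [IsSimpleGroup G] {P : Subgroup G} [Fintype P] (hPU : P ≤ U)
    (hcomm : ∀ x ∈ P, ∀ y ∈ P, x * y = y * x) {b : G} (hb : b ∈ centralizer ({z} : Set G))
    (hinv : ∀ y ∈ P, b * y * b⁻¹ = y⁻¹) {w : G} (hwU : w ∈ U)
    (hwP : w ∈ normalizer (P : Set G)) {y₀ : G} (hy₀ : y₀ ∈ P) (hmoved : w * y₀ ≠ y₀ * w)
    (Θ : Finset (Lin z)) : Big P Θ 6 := by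
  intro χ hχ
  have hPodd : Odd (Nat.card P) := hF.odd.of_dvd_nat (card_dvd_of_le hPU)
  have hcl := isClassFunction_of_isIrr χ.2
  let y : P := ⟨y₀, hy₀⟩
  let A : ℕ → P →* P := fun i =>
    { toFun := fun x => ⟨w ^ i * x * (w ^ i)⁻¹, (mem_normalizer_iff.1 (pow_mem hwP i) x).1 x.2⟩
      map_one' := Subtype.ext (by simp)
      map_mul' := fun x x' => Subtype.ext (by simp [mul_assoc]) }
  have hpow : ∀ (i : ℕ) (x : P), ((A i x : P) : G) = w ^ i * x * (w ^ i)⁻¹ := fun _ _ => rfl
  have hA0 : ∀ x, A 0 x = x := fun x => Subtype.ext (by rw [hpow]; simp)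
  have hAadd : ∀ i j x, A (i + j) x = A i (A j x) := fun i j x =>
    Subtype.ext (by rw [hpow, hpow, hpow, pow_add]; group)
  have hP1 : ∀ ν : IrrCharacter P, ∃ f : P →* ℂˣ, (ν : P → ℂ) = fun x => (f x : ℂ) := fun ν => by
    obtain ⟨f, hf⟩ := exists_hom_of_degree_one (isCharacter_of_isIrr ν.2)
      (OddOrderChar.irr_degree_one_of_comm (fun p q => Subtype.ext (hcomm p p.2 q q.2)) ν)
    exact ⟨f, hf⟩
  -- a constituent nontrivial at the commutator
  obtain ⟨ν, hνc, hν⟩ : ∃ ν : IrrCharacter P,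
      classInner (fun x : P => (χ : G → ℂ) x) (ν : P → ℂ) ≠ 0 ∧
        (ν : P → ℂ) (A 1 y * y⁻¹) ≠ 1 := by
    by_contra hcon
    push Not at hcon
    have hexp := character_expansion (isCharacter_restrict P (isCharacter_of_isIrr χ.2))
    have e1 := congrFun hexp (A 1 y * y⁻¹)
    have e0 := congrFun hexp 1
    simp only [Finset.sum_apply, Pi.smul_apply, smul_eq_mul] at e1 e0
    have hker : ((A 1 y * y⁻¹ : P) : G) ∈ charKer χ := by
      rw [mem_charKer, e1, show (χ : G → ℂ) 1 = (χ : G → ℂ) ((1 : P) : G) from rfl, e0]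
      refine Finset.sum_congr rfl fun ν _ => ?_
      by_cases h : classInner (fun x : P => (χ : G → ℂ) x) (ν : P → ℂ) = 0
      · rw [h, zero_mul, zero_mul]
      · rw [hcon ν h, OddOrderChar.irr_degree_one_of_comm
          (fun p q => Subtype.ext (hcomm p p.2 q q.2)) ν]
    rcases (inferInstance : (charKer χ).Normal).eq_bot_or_eq_top with h | h
    · rw [h, mem_bot] at hker
      refine hmoved ?_
      have : w ^ 1 * y₀ * (w ^ 1)⁻¹ * y₀⁻¹ = 1 := hker
      rw [pow_one] at this
      rw [mul_inv_eq_one, mul_inv_eq_iff_eq_mul] at this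
      exact this
    · exact hχ (eq_trivChar_of_charKer_eq_top h)
  obtain ⟨f, hf⟩ := hP1 ν
  let c : ℕ → P →* ℂˣ := fun i => if i < 3 then f.comp (A i) else
    (f.comp (A (i - 3)))⁻¹
  obtain ⟨jw, hjw⟩ : Odd (orderOf w) := hF.odd.of_dvd_nat (U.orderOf_dvd_natCard hwU)
  have hfne : f.comp (A 1) ≠ f := fun e => hν (by
    have e1 := congrArg (fun h : P →* ℂˣ => ((h y : ℂˣ) : ℂ)) e
    rw [hf]
    simp only [MonoidHom.comp_apply] at e1
    simp only [map_mul, map_inv, Units.val_mul, e1, Units.val_inv_eq_inv_val,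
      mul_inv_cancel₀ (Units.ne_zero _)])
  have hsq_fix : f.comp (A 2) = f → f.comp (A 1) = f := by
    intro e
    have h1 : ∀ n, f.comp (A (2 * n)) = f := fun n => by
      induction n with
      | zero => ext x; rw [MonoidHom.comp_apply, hA0]
      | succ n ih =>
        ext x
        have e2 := congrArg (fun h : P →* ℂˣ => h x) ih
        have e3 := congrArg (fun h : P →* ℂˣ => h ((A (2 * n)) x)) e
        simp only [MonoidHom.comp_apply] at e2 e3
        rw [MonoidHom.comp_apply, show 2 * (n + 1) = 2 + 2 * n by ring, hAadd, e3, e2]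
    have h2 : (A (2 * (jw + 1))) = A 1 := MonoidHom.ext fun x => Subtype.ext (by
      rw [hpow, hpow, show 2 * (jw + 1) = orderOf w + 1 by omega, pow_succ, pow_orderOf_eq_one,
        one_mul, pow_one])
    have := h1 (jw + 1)
    rwa [h2] at this
  have hne1 : f ≠ 1 := fun e => hν (by rw [hf, e]; simp)
  have hreal : ∀ h : P →* ℂˣ, h = h⁻¹ → h = 1 := by
    intro h e
    ext x
    obtain ⟨i, hi⟩ := hPodd
    have e1 : h x * h x = 1 := by
      nth_rewrite 2 [e]
      rw [MonoidHom.inv_apply, mul_inv_cancel]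
    have e2 : h x ^ (2 * i + 1) = 1 := by rw [← map_pow, ← hi, pow_card_eq_one', map_one]
    rw [pow_succ, pow_mul, sq, e1, one_pow, one_mul] at e2
    simp [e2]
  -- constituents
  have hcons : ∀ (h : P →* ℂˣ) (m : G) (hm : m ∈ normalizer (P : Set G)),
      classInner (fun x : P => (χ : G → ℂ) x) (fun x => (h x : ℂ)) =
      classInner (fun x : P => (χ : G → ℂ) x)
        (fun x => (h ⟨m * x * m⁻¹, (mem_normalizer_iff.1 hm x).1 x.2⟩ : ℂ)) := by
    intro h m hm
    rw [classInner, classInner]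
    congr 1
    let e : P ≃ P :=
      { toFun := fun x => ⟨m * x * m⁻¹, (mem_normalizer_iff.1 hm x).1 x.2⟩
        invFun := fun x => ⟨m⁻¹ * x * m, by
          simpa using (mem_normalizer_iff.1 (inv_mem hm) x).1 x.2⟩
        left_inv := fun x => Subtype.ext (by simp [mul_assoc])
        right_inv := fun x => Subtype.ext (by simp [mul_assoc]) }
    refine (Fintype.sum_equiv e _ _ fun x => ?_).symm
    show (χ : G → ℂ) (x : G) * _ = (χ : G → ℂ) (m * x * m⁻¹) * _
    rw [hcl]
    rfl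
  have hbP : b ∈ normalizer (P : Set G) := mem_normalizer_iff.2 fun x => ⟨fun hx => by
    rw [hinv x hx]; exact inv_mem hx, fun hx => by
    have h1 := hinv _ hx
    have : x = b⁻¹ * (b * x * b⁻¹) * b := by group
    have h2 : b * (b * x * b⁻¹) * b⁻¹ ∈ P := h1 ▸ inv_mem hx
    -- `b * b` centralises `P`
    have hbb : ∀ y ∈ P, b⁻¹ * y * b = y⁻¹ := fun y hy => by
      have h3 := hinv _ (inv_mem hy)
      rw [inv_inv] at h3
      calc b⁻¹ * y * b = b⁻¹ * (b * y⁻¹ * b⁻¹) * b := by rw [h3]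
        _ = y⁻¹ := by group
    rw [this, hbb _ hx]
    exact inv_mem hx⟩
  have hci : ∀ i < 6, classInner (fun x : P => (χ : G → ℂ) x) (fun x => (c i x : ℂ)) ≠ 0 := by
    intro i _
    have base : ∀ i, classInner (fun x : P => (χ : G → ℂ) x)
        (fun x => (f.comp (A i) x : ℂ)) ≠ 0 := by
      intro i
      have e : (fun x : P => (f.comp (A i) x : ℂ)) = fun x : P =>
          (f ⟨w ^ i * x * (w ^ i)⁻¹, (mem_normalizer_iff.1 (pow_mem hwP i) x).1 x.2⟩ : ℂ) := by
        funext x
        rfl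
      rw [e, ← hcons f _ (pow_mem hwP i)]
      rwa [hf] at hνc
    simp only [c]
    split_ifs
    · exact base i
    · have e : (fun x : P => (((f.comp (A (i - 3)))⁻¹ : P →* ℂˣ) x : ℂ)) =
          fun x : P => ((f.comp (A (i - 3)))
            ⟨b * x * b⁻¹, (mem_normalizer_iff.1 hbP x).1 x.2⟩ : ℂ) := by
        funext x
        rw [MonoidHom.inv_apply, show (⟨b * x * b⁻¹, (mem_normalizer_iff.1 hbP x).1 x.2⟩ : P) = x⁻¹
          from Subtype.ext (hinv x x.2), map_inv]
      rw [e, ← hcons _ b hbP]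
      exact base (i - 3)
  -- distinctness
  have hA : ∀ i, f.comp (A i) = 1 → False := fun i e => hne1 (MonoidHom.ext fun x => by
    have e1 := congrArg (fun h : P →* ℂˣ => h ⟨(w ^ i)⁻¹ * x * w ^ i, by
      simpa using (mem_normalizer_iff.1 (inv_mem (pow_mem hwP i)) x).1 x.2⟩) e
    simp only [MonoidHom.comp_apply, MonoidHom.one_apply] at e1 ⊢
    rw [← e1]
    exact congrArg f (Subtype.ext (by rw [hpow]; group)).symm)
  have hcancel : ∀ i d, f.comp (A (i + d)) = f.comp (A i) →
      f.comp (A d) = f := fun i d e => MonoidHom.ext fun x => by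
    have e1 := congrArg (fun h : P →* ℂˣ => h ⟨(w ^ i)⁻¹ * x * w ^ i, by
      simpa using (mem_normalizer_iff.1 (inv_mem (pow_mem hwP i)) x).1 x.2⟩) e
    simp only [MonoidHom.comp_apply] at e1 ⊢
    refine Eq.trans (congrArg f (Subtype.ext ?_)) (e1.trans (congrArg f (Subtype.ext ?_)))
    · rw [hpow, hpow, add_comm, pow_add]; group
    · rw [hpow]; group
  have hcancel' : ∀ i d, f.comp (A (i + d)) = (f.comp (A i))⁻¹ →
      f.comp (A d) = f⁻¹ := fun i d e => MonoidHom.ext fun x => by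
    have e1 := congrArg (fun h : P →* ℂˣ => h ⟨(w ^ i)⁻¹ * x * w ^ i, by
      simpa using (mem_normalizer_iff.1 (inv_mem (pow_mem hwP i)) x).1 x.2⟩) e
    simp only [MonoidHom.comp_apply, MonoidHom.inv_apply] at e1 ⊢
    refine Eq.trans (congrArg f (Subtype.ext ?_)) (e1.trans (congrArg (fun p => (f p)⁻¹) (Subtype.ext ?_)))
    · rw [hpow, hpow, add_comm, pow_add]; group
    · rw [hpow]; group
  have hmove : ∀ d, 1 ≤ d → d ≤ 2 → f.comp (A d) ≠ f := by
    intro d d1 d2 e
    obtain rfl | rfl : d = 1 ∨ d = 2 := by omega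
    · exact hfne e
    · exact hfne (hsq_fix e)
  have hinvne : ∀ d, d ≤ 2 → f.comp (A d) ≠ f⁻¹ := by
    intro d d2 e
    have h2 : f.comp (A (d + d)) = f := MonoidHom.ext fun x => by
      have e1 := congrArg (fun h : P →* ℂˣ => h ((A d) x)) e
      have e2 := congrArg (fun h : P →* ℂˣ => h x) e
      simp only [MonoidHom.comp_apply, MonoidHom.inv_apply] at e1 e2
      rw [MonoidHom.comp_apply, hAadd, e1, e2, inv_inv]
    obtain rfl | rfl | rfl : d = 0 ∨ d = 1 ∨ d = 2 := by omega
    · exact hne1 (hreal f (by rwa [show f.comp (A 0) = f from MonoidHom.ext fun x => by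
          rw [MonoidHom.comp_apply, hA0]] at e))
    · exact hfne (hsq_fix h2)
    · -- fixed by the fourth power, hence by the square
      have h4 : ∀ n, f.comp (A (4 * n)) = f := fun n => by
        induction n with
        | zero => ext x; rw [MonoidHom.comp_apply, hA0]
        | succ n ih =>
          ext x
          have e2 := congrArg (fun h : P →* ℂˣ => h x) ih
          have e3 := congrArg (fun h : P →* ℂˣ => h ((A (4 * n)) x)) h2
          simp only [MonoidHom.comp_apply] at e2 e3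
          rw [MonoidHom.comp_apply, show 4 * (n + 1) = (2 + 2) + 4 * n by ring, hAadd, e3, e2]
      have h5 : (A (4 * (jw + 1))) = A 2 := MonoidHom.ext fun x => Subtype.ext (by
        rw [hpow, hpow, show 4 * (jw + 1) = orderOf w * 2 + 2 by omega, pow_add, pow_mul,
          pow_orderOf_eq_one, one_pow, one_mul])
      have h6 := h4 (jw + 1)
      rw [h5] at h6
      exact hfne (hsq_fix h6)
  have hcinj : ∀ i < 6, ∀ j < 6, c i = c j → i = j := by
    intro i hi j hj e
    by_contra hij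
    wlog hlt : i < j generalizing i j
    · exact this j hj i hi e.symm (Ne.symm hij) (by omega)
    simp only [c] at e
    split_ifs at e with h1 h2 h2
    · exact hmove (j - i) (by omega) (by omega)
        (hcancel i (j - i) (by rw [show i + (j - i) = j by omega]; exact e.symm))
    · rcases le_total (j - 3) i with h | h
      · exact hinvne (i - (j - 3)) (by omega)
          (hcancel' (j - 3) (i - (j - 3)) (by rw [show j - 3 + (i - (j - 3)) = i by omega]; exact e))
      · exact hinvne (j - 3 - i) (by omega)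
          (hcancel' i (j - 3 - i) (by
            rw [show i + (j - 3 - i) = j - 3 by omega]
            ext x
            simp [e]))
    · omega
    · exact hmove (j - i) (by omega) (by omega) (hcancel (i - 3) (j - i) (by
        rw [show i - 3 + (j - i) = j - 3 by omega]; exact (inv_injective e).symm))
  refine ⟨(Finset.range 6).image fun i => ⟨fun x => (c i x : ℂ), isIrr_linChar (c i)⟩,
    fun μ hμ => ?_, ?_⟩
  · obtain ⟨i, hi, rfl⟩ := Finset.mem_image.1 hμ
    refine ⟨fun L _ he => ?_, hci i (Finset.mem_range.1 hi)⟩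
    have h1 : c i = 1 := by
      refine MonoidHom.ext fun x => Units.ext ?_
      refine (congrFun he x).trans ?_
      have hxU := hPU x.2
      have hLx : lv L (x : G) = lv L (x : G)⁻¹ := by
        rw [← hinv x x.2, lv_conj L hb (hF.le hxU)]
      obtain ⟨t, ht⟩ := hPodd
      rw [lv_of_mem L (hF.le hxU)]
      show ((L ⟨x, hF.le hxU⟩ : ℂˣ) : ℂ) = 1
      rw [lv_of_mem L (hF.le hxU), lv_of_mem L (inv_mem (hF.le hxU))] at hLx
      have hLx' : L ⟨x, hF.le hxU⟩ = (L ⟨x, hF.le hxU⟩)⁻¹ := by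
        rw [← map_inv]; exact Units.ext hLx
      have e1 : L ⟨x, hF.le hxU⟩ * L ⟨x, hF.le hxU⟩ = 1 := by
        nth_rewrite 2 [hLx']
        exact mul_inv_cancel _
      have e2 : L ⟨x, hF.le hxU⟩ ^ (2 * t + 1) = 1 := by
        rw [← map_pow, ← ht, show (⟨(x : G), hF.le hxU⟩ : centralizer ({z} : Set G)) ^ Nat.card P = 1
          from Subtype.ext (by
            simpa only [SubgroupClass.coe_pow, OneMemClass.coe_one] using
              congrArg Subtype.val (pow_card_eq_one' (G := P) (x := x))), map_one]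
      rw [pow_succ, pow_mul, sq, e1, one_pow, one_mul] at e2
      rw [e2, Units.val_one]
    simp only [c] at h1
    split_ifs at h1
    · exact hA _ h1
    · exact hA _ (MonoidHom.ext fun q => inv_eq_one.1 (DFunLike.congr_fun h1 q))
  · rw [Finset.sum_congr rfl (g := fun _ => 1) fun μ hμ => ?_, Finset.sum_const, smul_eq_mul,
      mul_one, Finset.card_image_of_injOn, Finset.card_range]
    · intro i hi j hj e
      simp only [Finset.coe_range, Set.mem_Iio] at hi hj
      exact hcinj i hi j hj (MonoidHom.ext fun x => Units.ext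
        (congrFun (congrArg Subtype.val e) x))
    · apply Nat.cast_injective (R := ℂ)
      rw [← (Codegree.exists_degree μ).2, OddOrderChar.irr_degree_one_of_comm
        (fun p q => Subtype.ext (hcomm p p.2 q q.2)) μ, Nat.cast_one]

end CfsgLib.GW.Tw
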