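import Cfsg.Agent.GW.Scalar
import Cfsg.Agent.GW.KBound
import Cfsg.Agent.GW.LocalSplit
import Cfsg.Agent.GW.TwistTest
import Cfsg.Agent.GW.TwistMain

/-!
# Gorenstein–Walter: the rotation cannot move the core

With `C(z)` maximal and `NoEscape z`, the cyclic part of a dihedral Sylow 2-subgroup of `C(z)`
centralises `O(C(z))`.
-/

set_option autoImplicit false
set_option linter.style.haveILetI false
set_option linter.unusedSectionVars false

open Subgroup

namespace CfsgLib.GW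

open Cfsg CfsgLib.Characters CfsgLib.PrincipalBlock CfsgLib.Inv54.DihedralBlock

universe u

variable {G : Type u} [Group G] [Finite G]

/-- A primary subgroup of the Fitting part lies in the primary part. -/
theorem le_qcore {q : ℕ} (hq : q.Prime) {z : G} {Y : Subgroup G} (hY : Y ≤ fit z)
    (hp : IsPGroup q Y) : Y ≤ qcore q z := by
  haveI := Fact.mk hq
  refine le_trans (OddOrder.nilpotent_le_piCoreOf (OddOrder.isNilpotent_fittingOf _) hY
    (OddOrder.isPiSubgroup_of_isPGroup hp (Set.mem_singleton q))) ?_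
  exact LocalStructure.le_pCoreOf ((OddOrder.piCoreOf_le _ _).trans (OddOrder.fittingOf_le _))
    ((OddOrder.le_normalizer_fittingOf _).trans (OddOrder.normalizer_le_normalizer_piCoreOf _ _))
    (OddOrder.isPGroup_of_isPiSubgroup (OddOrder.isPiSubgroup_piCoreOf _ _))

/-- A subgroup of the Fitting part is generated by its primary parts. -/
theorem le_of_primary {z : G} {Y H : Subgroup G} (hY : Y ≤ fit z)
    (h : ∀ q : ℕ, q.Prime → Y ⊓ qcore q z ≤ H) : Y ≤ H := by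
  have htop := Solvable.iSup_sylow_eq_top (G := Y)
    (fun q => Classical.arbitrary (Sylow (q : ℕ) Y))
  have he := congrArg (Subgroup.map Y.subtype) htop
  rw [← MonoidHom.range_eq_map, range_subtype, Subgroup.map_iSup] at he
  refine he.ge.trans (iSup_le fun q => ?_)
  have hq := Nat.mem_primeFactors.1 q.2
  haveI := Fact.mk hq.1
  exact (le_inf (map_subtype_le _) (le_qcore hq.1 ((map_subtype_le _).trans hY)
    ((Classical.arbitrary (Sylow (q : ℕ) Y)).isPGroup'.map _))).trans (h q hq.1)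

theorem qcore_commute {q r : ℕ} (hq : q.Prime) (hr : r.Prime) (hne : q ≠ r) (z : G) :
    qcore q z ≤ centralizer (qcore r z : Set G) := by
  haveI := Fact.mk hq
  haveI := Fact.mk hr
  exact OddOrder.le_centralizer_of_normalize
    ((qcore_le_core q z).trans (core_le_normalizer_qcore r z))
    ((qcore_le_core r z).trans (core_le_normalizer_qcore q z))
    (IsPGroup.disjoint_of_ne q r hne _ _ (qcore_isPGroup z) (qcore_isPGroup z)).eq_bot

/-- An element of the core equal to its inverse is trivial. -/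
theorem eq_one_of_eq_inv {z x : G} (hx : x ∈ core z) (h : x = x⁻¹) : x = 1 := by
  refine orderOf_eq_one_iff.1 (Nat.eq_one_of_dvd_coprimes
    (Nat.coprime_two_right.2 (odd_orderOf_core hx)) dvd_rfl ?_)
  refine orderOf_dvd_of_pow_eq_one ?_
  rw [pow_two]
  nth_rw 2 [h]
  exact mul_inv_cancel x

/-- An element of the core fixed and inverted by `b` is trivial. -/
theorem eq_one_of_fixed_inverted {z b x : G} (hx : x ∈ core z) (h1 : b * x * b⁻¹ = x)
    (h2 : b * x * b⁻¹ = x⁻¹) : x = 1 := eq_one_of_eq_inv hx (h1.symm.trans h2)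

/-- An element of the core commuting with `z * b` commutes with `b`. -/
theorem commute_of_mul {z b x : G} (hx : x ∈ core z)
    (h : x ∈ centralizer ({z * b} : Set G)) : b * x * b⁻¹ = x := by
  have h1 : Commute x z := commute_of_mem_core hx
  have h2 : Commute x (z * b) := mem_centralizer_singleton_iff.1 h
  have h3 : Commute x b := by simpa [← mul_assoc] using h1.inv_right.mul_right h2
  rw [← h3.eq, mul_inv_cancel_right]

theorem core_conj_fit {z u f : G} (hu : u ∈ core z) (hf : f ∈ fit z) : u * f * u⁻¹ ∈ fit z :=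
  (mem_normalizer_iff.1 (centralizer_le_normalizer_fit z (core_le z hu)) f).1 hf

theorem mul_pow_mem_fit {z a f : G} (ha : a ∈ core z) (hf : f ∈ fit z) (n : ℕ) :
    (a ^ n)⁻¹ * (a * f) ^ n ∈ fit z := by
  induction n with
  | zero => simp
  | succ n ih =>
    have e : (a ^ (n + 1))⁻¹ * (a * f) ^ (n + 1) =
        a⁻¹ * ((a ^ n)⁻¹ * (a * f) ^ n) * a⁻¹⁻¹ * f := by
      rw [pow_succ, pow_succ]
      group
    rw [e]
    exact mul_mem (core_conj_fit (inv_mem ha) ih) hf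

/-- The arithmetic for the ratio three and degrees at least `25`. -/
theorem ratio_three_false {x U V : ℤ} (hx : 25 ≤ x.natAbs) (hU : 25 ≤ U.natAbs)
    (hV : 25 ≤ V.natAbs) (hs : U + V = -(1 + x))
    (he : 4 * x * (U - V) ^ 2 = (x - 1) ^ 2 * (U * V)) : False := by
  wlog hUV : V ≤ U generalizing U V
  · exact this hV hU (by omega) (by linear_combination he) (by omega)
  have he' : U * V * (x ^ 2 + 14 * x + 1) = 4 * x * (1 + x) ^ 2 := by
    linear_combination (4 * x * (U + V - 1 - x)) * hs - he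
  rcases le_or_gt 0 x with hx0 | hx0
  · have hx' : 25 ≤ x := by omega
    have hP : 0 < U * V := by
      by_contra hP
      push Not at hP
      have h1 : U * V * (x ^ 2 + 14 * x + 1) ≤ 0 :=
        mul_nonpos_of_nonpos_of_nonneg hP (by nlinarith)
      nlinarith [mul_pos (show (0 : ℤ) < x by omega) (pow_pos (show (0 : ℤ) < 1 + x by omega) 2)]
    have hUn : U ≤ -25 := by
      by_contra hU'
      have hU'' : 25 ≤ U := by omega
      have hVn : V ≤ -25 := by omega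
      nlinarith
    have hx49 : 49 ≤ x := by omega
    have h1 : 25 * x - 600 ≤ U * V := by
      nlinarith [mul_nonneg (show (0 : ℤ) ≤ -U - 25 by omega) (show (0 : ℤ) ≤ -V - 25 by omega)]
    have h2 := mul_le_mul_of_nonneg_right h1 (show (0 : ℤ) ≤ x ^ 2 + 14 * x + 1 by positivity)
    nlinarith [mul_le_mul_of_nonneg_left hx49 (show (0 : ℤ) ≤ x * x by positivity)]
  · obtain ⟨y, rfl⟩ : ∃ y, x = -y := ⟨-x, by ring⟩
    have hy : 25 ≤ y := by omega
    have hU' : 25 ≤ U := by omega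
    have hV' : V ≤ -25 := by
      by_contra hV'
      have hV'' : 25 ≤ V := by omega
      have hpos : 0 < U * V := mul_pos (by omega) (by omega)
      nlinarith [mul_pos hpos (show (0 : ℤ) < (-y) ^ 2 + 14 * -y + 1 by nlinarith),
        mul_pos (show (0 : ℤ) < y by omega) (pow_pos (show (0 : ℤ) < y - 1 by omega) 2)]
    have h1 : U * V ≤ -25 * (y + 24) := by
      nlinarith [mul_le_mul_of_nonpos_right (show y + 24 ≤ U by omega) (show V ≤ 0 by omega)]
    have h2 := mul_le_mul_of_nonneg_right h1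
      (show (0 : ℤ) ≤ (-y) ^ 2 + 14 * -y + 1 by nlinarith)
    nlinarith [mul_le_mul_of_nonneg_left hy (show (0 : ℤ) ≤ y * y by positivity),
      mul_le_mul_of_nonneg_left hy (show (0 : ℤ) ≤ y by omega)]

namespace Minimal

variable (hG : Minimal G) {z : G} (hz : orderOf z = 2) (hne : NoEscape z)

include hG hz hne

/-- A primary part fixed by `b`, transported to the other side of the four-group. -/
theorem exists_transfer {b s : G} (hb : orderOf b = 2) (hbz : z ≠ b) (hzb : z * b = b * z)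
    (hsC : s ∈ centralizer ({z} : Set G)) (hsb : s * b * s⁻¹ = z * b) {q : ℕ} (hq : q.Prime)
    (hX : qcore q z ≠ ⊥) (hfix : ∀ x ∈ qcore q z, b * x * b⁻¹ = x) :
    ∃ X : Subgroup G, IsPGroup q X ∧ X ≤ fix z b ∧ fix z b ≤ normalizer (X : Set G) ∧
      centralizer (X : Set G) ≤ centralizer ({z * b} : Set G) ∧
      (∃ x ∈ X, s * x * s⁻¹ ≠ x) ∧
      ∀ r : ℕ, r.Prime → qcore r z ≠ ⊥ → (∀ x ∈ qcore r z, b * x * b⁻¹ = x⁻¹) →
        X ⊓ fit z = ⊥ := by
  haveI := Fact.mk hq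
  have hzz := Small.mul_self_of_orderOf_two hz
  have hbb := Small.mul_self_of_orderOf_two hb
  obtain ⟨g, hg1, hg2⟩ := hG.exists_cycle hz hb hbz hzb
  have hsz : s * z * s⁻¹ = z := by
    rw [mem_centralizer_singleton_iff.1 hsC, mul_inv_cancel_right]
  have hg3 : g * (z * b) * g⁻¹ = z := by
    rw [show g * (z * b) * g⁻¹ = g * z * g⁻¹ * (g * b * g⁻¹) by group, hg1, hg2, hzb,
      ← mul_assoc, hbb, one_mul]
  have e1 : g⁻¹ * b * g = z := by rw [← hg1]; group
  have e2 : g⁻¹ * z * g = z * b := by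
    conv_lhs => rw [← hg3]
    group
  have hszb : s * (z * b) * s⁻¹ = b := by
    rw [show s * (z * b) * s⁻¹ = s * z * s⁻¹ * (s * b * s⁻¹) by group, hsz, hsb, ← mul_assoc, hzz,
      one_mul]
  set t := g * s * g⁻¹ with ht
  have htb : t * b * t⁻¹ = b := by
    rw [ht, show g * s * g⁻¹ * b * (g * s * g⁻¹)⁻¹ = g * (s * (g⁻¹ * b * g) * s⁻¹) * g⁻¹ by group,
      e1, hsz, hg1]
  have htz : t * z * t⁻¹ = z * b := by
    rw [ht, show g * s * g⁻¹ * z * (g * s * g⁻¹)⁻¹ = g * (s * (g⁻¹ * z * g) * s⁻¹) * g⁻¹ by group,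
      e2, hszb, hg2]
  have htW : t ∈ normalizer (fix z b : Set G) := by
    rw [mem_normalizer_iff_map_conj_eq]
    refine eq_of_le_of_card_ge ?_ (le_of_eq ?_)
    · rintro x ⟨w, hw, rfl⟩
      obtain ⟨a1, a2, a3⟩ := (hG.mem_fix hz).1 hw
      have hzb2 : orderOf (z * b) = 2 := by rw [← htz, Small.orderOf_conj_eq, hz]
      show t * w * t⁻¹ ∈ fix z b
      have e : ∀ v, w * v = v * w →
          t * w * t⁻¹ * (t * v * t⁻¹) = t * v * t⁻¹ * (t * w * t⁻¹) := fun v hv => by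
        calc t * w * t⁻¹ * (t * v * t⁻¹) = t * (w * v) * t⁻¹ := by group
          _ = t * (v * w) * t⁻¹ := by rw [hv]
          _ = _ := by group
      have f1 := e z a1
      have f2 := e b a2
      rw [htz] at f1
      rw [htb] at f2
      refine (hG.mem_fix hz).2 ⟨?_, f2, by rwa [Small.orderOf_conj_eq]⟩
      have h : Commute (t * w * t⁻¹) (z * b * b) := Commute.mul_right f1 f2
      rwa [mul_assoc z b b, hbb, mul_one] at h
    · rw [card_map_of_injective (MulEquiv.injective _)]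
  have hX0W : qcore q z ≤ fix z b := le_inf (qcore_le_core q z) fun x hx =>
    mem_centralizer_singleton_iff.2 (mul_inv_eq_iff_eq_mul.1 (hfix x hx)).symm
  have hWX0 : fix z b ≤ normalizer (qcore q z : Set G) :=
    (fix_le_core z b).trans (core_le_normalizer_qcore q z)
  have hcX0 : centralizer (qcore q z : Set G) ≤ centralizer ({z} : Set G) :=
    hne b hb hbz hzb q hq _ (qcore_isPGroup z) hX hX0W (qcore_le_fit hq z) hWX0
  have hWt : ∀ w ∈ fix z b, t * w * t⁻¹ ∈ fix z b := fun w hw =>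
    (mem_normalizer_iff.1 htW w).1 hw
  have hWt' : ∀ w ∈ fix z b, t⁻¹ * w * t ∈ fix z b := fun w hw => by
    simpa using (mem_normalizer_iff.1 (inv_mem htW) w).1 hw
  -- centralizers transported by `t`
  have htrans : ∀ {A B : Subgroup G}, (∀ a ∈ A, t * a * t⁻¹ ∈ B) →
      centralizer (A : Set G) ≤ centralizer ({z} : Set G) →
      centralizer (B : Set G) ≤ centralizer ({z * b} : Set G) := by
    intro A B hAB hA x hx
    have h1 : t⁻¹ * x * t ∈ centralizer (A : Set G) := mem_centralizer_iff.2 fun a ha => by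
      calc a * (t⁻¹ * x * t) = t⁻¹ * (t * a * t⁻¹ * x) * t := by group
        _ = t⁻¹ * (x * (t * a * t⁻¹)) * t := by rw [mem_centralizer_iff.1 hx _ (hAB a ha)]
        _ = t⁻¹ * x * t * a := by group
    refine mem_centralizer_singleton_iff.2 ?_
    rw [← htz]
    calc x * (t * z * t⁻¹) = t * (t⁻¹ * x * t * z) * t⁻¹ := by group
      _ = t * (z * (t⁻¹ * x * t)) * t⁻¹ := by rw [mem_centralizer_singleton_iff.1 (hA h1)]
      _ = t * z * t⁻¹ * x := by group
  set X := (qcore q z).map (MulAut.conj t).toMonoidHom with hXd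
  have hXmem : ∀ {x}, x ∈ X ↔ t⁻¹ * x * t ∈ qcore q z := by
    intro x
    constructor
    · rintro ⟨a, ha, rfl⟩
      simpa [mul_assoc] using ha
    · exact fun h => ⟨_, h, by simp [mul_assoc]⟩
  have hXp : IsPGroup q X := (qcore_isPGroup z).map _
  have hXW : X ≤ fix z b := by
    rintro x ⟨a, ha, rfl⟩
    exact hWt a (hX0W ha)
  have hWX : fix z b ≤ normalizer (X : Set G) := fun w hw => by
    refine mem_normalizer_iff.2 fun x => ?_
    rw [hXmem, hXmem, mem_normalizer_iff.1 (hWX0 (hWt' w hw)) (t⁻¹ * x * t)]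
    simp [mul_assoc]
  have hcX : centralizer (X : Set G) ≤ centralizer ({z * b} : Set G) :=
    htrans (fun a ha => ⟨a, ha, rfl⟩) hcX0
  refine ⟨X, hXp, hXW, hWX, hcX, ?_, fun r hr hY hinv => ?_⟩
  · by_contra hcon
    push Not at hcon
    have h := mem_centralizer_singleton_iff.1 (hcX (mem_centralizer_iff.2 fun x hx =>
      (mul_inv_eq_iff_eq_mul.1 (hcon x hx)).symm))
    rw [h, mul_inv_cancel_right] at hszb
    exact Small.ne_one_of_orderOf_two hz (mul_eq_right.1 hszb)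
  · by_contra hbot
    have hD : qcore q z ⊓ X ≠ ⊥ := fun h => hbot (le_bot_iff.1 (h ▸ le_inf
      (le_qcore hq inf_le_right (hXp.to_le inf_le_left)) inf_le_left))
    have hWD : ∀ w ∈ fix z b, ∀ x, x ∈ qcore q z ⊓ X → w * x * w⁻¹ ∈ qcore q z ⊓ X :=
      fun w hw x hx => ⟨(mem_normalizer_iff.1 (hWX0 hw) x).1 hx.1,
        (mem_normalizer_iff.1 (hWX hw) x).1 hx.2⟩
    have hWDn : fix z b ≤ normalizer ((qcore q z ⊓ X : Subgroup G) : Set G) :=
      le_normalizer_of_forall hWD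
    have hc1 := hne b hb hbz hzb q hq _ ((qcore_isPGroup z).to_le inf_le_left) hD
      (inf_le_right.trans hXW) (inf_le_left.trans (qcore_le_fit hq z)) hWDn
    set D' := (qcore q z ⊓ X).map (MulAut.conj t⁻¹).toMonoidHom with hD'
    have hD'le : D' ≤ qcore q z := by
      rintro x ⟨a, ha, rfl⟩
      simpa [mul_assoc] using hXmem.1 ha.2
    have hWD' : fix z b ≤ normalizer (D' : Set G) := by
      refine le_normalizer_of_forall ?_
      rintro w hw x ⟨a, ha, rfl⟩
      exact ⟨_, hWD _ (hWt w hw) a ha, by simp [mul_assoc]⟩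
    have hc2 := hne b hb hbz hzb q hq D' ((qcore_isPGroup z).to_le hD'le)
      (fun h => hD ((map_eq_bot_iff_of_injective _ (MulAut.conj t⁻¹).injective).1 h))
      (hD'le.trans hX0W) (hD'le.trans (qcore_le_fit hq z)) hWD'
    have hc2' := htrans (B := qcore q z ⊓ X) (fun a ha => by
      obtain ⟨a', ha', rfl⟩ := ha
      simpa [mul_assoc] using ha') hc2
    have hqr : q ≠ r := by
      rintro rfl
      exact hX ((eq_bot_iff_forall _).2 fun x hx =>
        eq_one_of_fixed_inverted (qcore_le_core q z hx) (hfix x hx) (hinv x hx))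
    refine hY ((eq_bot_iff_forall _).2 fun y hy => ?_)
    have hyc : y ∈ centralizer ((qcore q z ⊓ X : Subgroup G) : Set G) :=
      centralizer_le (show ((qcore q z ⊓ X : Subgroup G) : Set G) ⊆ qcore q z from inf_le_left)
        (qcore_commute hr hq hqr.symm z hy)
    exact eq_one_of_fixed_inverted (qcore_le_core r z hy)
      (commute_of_mul (qcore_le_core r z hy) (hc2' hyc)) (hinv y hy)

/-- `O(C(z)) = fix z b · F`. -/
theorem exists_fixed_rep {b : G} (hb : orderOf b = 2) (hzb : z * b = b * z) {u : G}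
    (hu : u ∈ core z) : ∃ w ∈ fix z b, ∃ f ∈ fit z, u = w * f := by
  have hbC : b ∈ centralizer ({z} : Set G) := mem_centralizer_singleton_iff.2 hzb.symm
  have hbb := Small.mul_self_of_orderOf_two hb
  have hbi := Small.inv_eq_self_of_orderOf_two hb
  have hodd : Odd (Nat.card (fit z)) := (odd_core z).of_dvd_nat (card_dvd_of_le (fit_le_core z))
  have hf : u⁻¹ * (b * u * b⁻¹) ∈ fit z := by
    have := core_conj_fit (inv_mem hu) ((hG.scalar_invol hz hne hb hzb).commutator_mem_fit hbC hu)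
    simpa [mul_assoc] using this
  have hfi : b * (u⁻¹ * (b * u * b⁻¹)) * b⁻¹ = (u⁻¹ * (b * u * b⁻¹))⁻¹ := by
    rw [hbi]
    calc b * (u⁻¹ * (b * u * b)) * b = b * u⁻¹ * b * u * (b * b) := by group
      _ = b * u⁻¹ * b * u := by rw [hbb, mul_one]
      _ = _ := by
        rw [show (u⁻¹ * (b * u * b))⁻¹ = b⁻¹ * u⁻¹ * b⁻¹ * u by group, hbi]
  generalize hfd : u⁻¹ * (b * u * b⁻¹) = f at hf hfi
  have hbub : b * u * b⁻¹ = u * f := by rw [← hfd]; group
  set r := FourFixed.root (fit z) f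
  have hr := FourFixed.root_mem hodd hf
  have hrr := FourFixed.root_mul_self hodd hf
  have hbr : b * r * b⁻¹ = r⁻¹ := by
    have h := FourFixed.map_root (O := fit z) (MulAut.conj b) f
    rw [MulAut.conj_apply, MulAut.conj_apply, hfi, FourFixed.root_inv] at h
    exact h
  refine ⟨u * r, ⟨mul_mem hu (fit_le_core z hr), mem_centralizer_singleton_iff.2 ?_⟩, r⁻¹,
    inv_mem hr, by group⟩
  refine (mul_inv_eq_iff_eq_mul.1 ?_).symm
  calc b * (u * r) * b⁻¹ = (b * u * b⁻¹) * (b * r * b⁻¹) := by group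
    _ = u * f * r⁻¹ := by rw [hbub, hbr]
    _ = u * r := by rw [← hrr]; simp only [r]; group

/-- `|U| |F ∩ W| = |W| |F|`. -/
theorem card_core_mul {b : G} (hb : orderOf b = 2) (hzb : z * b = b * z) :
    Nat.card (core z) * Nat.card (fit z ⊓ fix z b : Subgroup G) =
      Nat.card (fix z b) * Nat.card (fit z) := by
  have hbC : b ∈ centralizer ({z} : Set G) := mem_centralizer_singleton_iff.2 hzb.symm
  have hbb := Small.mul_self_of_orderOf_two hb
  have hinv : ∀ x, MulAut.conj b (MulAut.conj b x) = x := fun x => by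
    rw [← MulAut.mul_apply, ← map_mul, hbb, map_one, MulAut.one_apply]
  have hfit : Odd (Nat.card (fit z)) := (odd_core z).of_dvd_nat (card_dvd_of_le (fit_le_core z))
  have h1 := FourFixed.card_mul_fixed (odd_core z) (MulAut.conj b) hinv
    (fun x hx => core_conj hbC hx)
  have h2 := FourFixed.card_mul_fixed hfit (MulAut.conj b) hinv
    (fun x hx => (mem_normalizer_iff.1 (centralizer_le_normalizer_fit z hbC) x).1 hx)
  have hc : ∀ x : G, MulAut.conj b x = x ↔ x ∈ centralizer ({b} : Set G) := fun x => by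
    rw [mem_centralizer_singleton_iff, MulAut.conj_apply, mul_inv_eq_iff_eq_mul]
    exact eq_comm
  have e1 : Nat.card (FourFixed.fixed (core z) (MulAut.conj b)) = Nat.card (fix z b) :=
    Nat.card_congr (Equiv.subtypeEquivRight fun x => and_congr_right fun _ => hc x)
  have e2 : Nat.card (FourFixed.fixed (fit z) (MulAut.conj b)) =
      Nat.card (fit z ⊓ fix z b : Subgroup G) :=
    Nat.card_congr (Equiv.subtypeEquivRight fun x =>
      ⟨fun h => ⟨h.1, fit_le_core z h.1, (hc x).1 h.2⟩, fun h => ⟨h.1, (hc x).2 h.2.2⟩⟩)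
  have e3 : FourFixed.inv' (core z) (MulAut.conj b) = FourFixed.inv' (fit z) (MulAut.conj b) := by
    ext x
    refine ⟨fun ⟨hx, hx'⟩ => ⟨?_, hx'⟩, fun ⟨hx, hx'⟩ => ⟨fit_le_core z hx, hx'⟩⟩
    have h := (hG.scalar_invol hz hne hb hzb).commutator_mem_fit hbC hx
    rw [show b * x * b⁻¹ = x⁻¹ from hx', ← mul_inv_rev] at h
    have h' : x * x ∈ fit z := inv_mem_iff.1 h
    rw [← FourFixed.root_eq (odd_core z) hx rfl]
    exact pow_mem h' _
  rw [h1, h2, e1, e2, e3]
  ring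

/-- Both sorts of moved primary parts cannot occur. -/
theorem false_of_two_types {σ τ : G} (hσC : σ ∈ centralizer ({z} : Set G)) (hσσ : σ * σ = z)
    (hσsc : Scalar z σ) (hτ : orderOf τ = 2) (hτz : z ≠ τ) (hzτ : z * τ = τ * z)
    (hστ : σ * τ * σ⁻¹ = z * τ) (hρ : orderOf (σ * τ) = 2) (hρz : z ≠ σ * τ)
    (hzρ : z * (σ * τ) = σ * τ * z) {q r : ℕ} (hq : q.Prime) (hr : r.Prime)
    (hX : qcore q z ≠ ⊥) (hY : qcore r z ≠ ⊥)
    (hq1 : ∀ x ∈ qcore q z, τ * x * τ⁻¹ = x)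
    (hq2 : ∀ x ∈ qcore q z, σ * τ * x * (σ * τ)⁻¹ = x⁻¹)
    (hr1 : ∀ x ∈ qcore r z, τ * x * τ⁻¹ = x⁻¹)
    (hr2 : ∀ x ∈ qcore r z, σ * τ * x * (σ * τ)⁻¹ = x) : False := by
  have hσρ : σ * (σ * τ) * σ⁻¹ = z * (σ * τ) := by
    calc σ * (σ * τ) * σ⁻¹ = σ * (σ * τ * σ⁻¹) := by group
      _ = σ * z * τ := by rw [hστ, mul_assoc]
      _ = z * (σ * τ) := by rw [mem_centralizer_singleton_iff.1 hσC, mul_assoc]
  obtain ⟨X, hXp, hXW, hWX, -, hmov, hXF⟩ :=
    hG.exists_transfer hz hne hτ hτz hzτ hσC hστ hq hX hq1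
  obtain ⟨Y, hYp, hYW, hWY, hcY, -, hYF⟩ :=
    hG.exists_transfer hz hne hρ hρz hzρ hσC hσρ hr hY hr2
  replace hXF := hXF r hr hY hr1
  replace hYF := hYF q hq hX hq2
  have hqr : q ≠ r := by
    rintro rfl
    exact hX ((eq_bot_iff_forall _).2 fun x hx =>
      eq_one_of_fixed_inverted (qcore_le_core q z hx) (hq1 x hx) (hr1 x hx))
  haveI := Fact.mk hq
  haveI := Fact.mk hr
  -- a commutator with one side lies in the Fitting part
  have key : ∀ K : Subgroup G, IsPGroup q K → K ≤ fix z τ → fix z τ ≤ normalizer (K : Set G) →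
      K ⊓ fit z = ⊥ → ∀ x ∈ K, ∀ y ∈ Y, ∀ w ∈ fix z τ, ∀ f ∈ fit z, y = w * f → w * x = x * w := by
    intro K hKp hKW hWK hKF x hx y hy w hw f hf hyw
    have hxU := fix_le_core z τ (hKW hx)
    have hyU := fix_le_core z _ (hYW hy)
    have hwU := fix_le_core z τ hw
    set a := w * x * w⁻¹ * x⁻¹ with ha
    have haK : a ∈ K := mul_mem ((mem_normalizer_iff.1 (hWK hw) x).1 hx) (inv_mem hx)
    obtain ⟨v, hv, f', hf', hxv⟩ := hG.exists_fixed_rep hz hne hρ hzρ hxU
    have hvU := fix_le_core z _ hv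
    set c := y * x * y⁻¹ * x⁻¹ with hc
    have h1 : a⁻¹ * c ∈ fit z := by
      have e : a⁻¹ * c = x * w * x⁻¹ * (f * (x * f⁻¹ * x⁻¹)) * (x * w * x⁻¹)⁻¹ := by
        rw [ha, hc, hyw]; group
      rw [e]
      exact core_conj_fit (mul_mem (mul_mem hxU hwU) (inv_mem hxU))
        (mul_mem hf (core_conj_fit hxU (inv_mem hf)))
    set b' := y * v * y⁻¹ * v⁻¹ with hb'
    have hbY : b' ∈ Y := by
      rw [hb', show y * v * y⁻¹ * v⁻¹ = y * (v * y⁻¹ * v⁻¹) by group]
      exact mul_mem hy ((mem_normalizer_iff.1 (hWY hv) _).1 (inv_mem hy))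
    have h2 : c⁻¹ * b' ∈ fit z := by
      have e : c⁻¹ * b' = v * (f' * (y * f'⁻¹ * y⁻¹)) * v⁻¹ := by
        rw [hc, hb', hxv]; group
      rw [e]
      exact core_conj_fit hvU (mul_mem hf' (core_conj_fit hyU (inv_mem hf')))
    have h3 : a⁻¹ * b' ∈ fit z := by simpa [mul_assoc] using mul_mem h1 h2
    obtain ⟨n, hn⟩ := hKp ⟨a, haK⟩
    replace hn : a ^ q ^ n = 1 := congrArg Subtype.val hn
    obtain ⟨m, hm⟩ := hYp ⟨b', hbY⟩
    replace hm : b' ^ r ^ m = 1 := congrArg Subtype.val hm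
    have h4 : b' ^ q ^ n ∈ fit z := by
      have := mul_pow_mem_fit (fix_le_core z τ (hKW haK)) h3 (q ^ n)
      rwa [mul_inv_cancel_left, hn, inv_one, one_mul] at this
    have h5 : b' ^ q ^ n = 1 := by
      have : b' ^ q ^ n ∈ Y ⊓ fit z := ⟨pow_mem hbY _, h4⟩
      rwa [hYF, mem_bot] at this
    have h6 : b' = 1 := orderOf_eq_one_iff.1 (Nat.eq_one_of_dvd_coprimes
      (((Nat.coprime_primes hq hr).2 hqr).pow n m) (orderOf_dvd_of_pow_eq_one h5)
      (orderOf_dvd_of_pow_eq_one hm))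
    rw [h6, mul_one, inv_mem_iff] at h3
    have h7 : a ∈ K ⊓ fit z := ⟨haK, h3⟩
    rw [hKF, mem_bot] at h7
    rw [ha] at h7
    exact mul_inv_eq_iff_eq_mul.1 (mul_inv_eq_one.1 h7)
  -- the conjugate by `σ`
  have hσW : ∀ w ∈ fix z τ, σ * w * σ⁻¹ ∈ fix z τ := by
    intro w hw
    rw [← hG.fix_mul hz]
    refine ⟨core_conj hσC hw.1, mem_centralizer_singleton_iff.2 ?_⟩
    rw [← hστ]
    have := mem_centralizer_singleton_iff.1 hw.2
    calc σ * w * σ⁻¹ * (σ * τ * σ⁻¹) = σ * (w * τ) * σ⁻¹ := by group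
      _ = σ * (τ * w) * σ⁻¹ := by rw [this]
      _ = _ := by group
  have hσn : σ ∈ normalizer (fix z τ : Set G) := by
    rw [mem_normalizer_iff_map_conj_eq]
    refine eq_of_le_of_card_ge ?_ (le_of_eq ?_)
    · rintro x ⟨w, hw, rfl⟩
      exact hσW w hw
    · rw [card_map_of_injective (MulEquiv.injective _)]
  set K := X.map (MulAut.conj σ).toMonoidHom with hK
  have hKW : K ≤ fix z τ := by
    rintro x ⟨a, ha, rfl⟩
    exact hσW a (hXW ha)
  have hWK : fix z τ ≤ normalizer (K : Set G) := by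
    refine le_normalizer_of_forall ?_
    rintro w hw x ⟨a, ha, rfl⟩
    have hw' : σ⁻¹ * w * σ ∈ fix z τ := by
      simpa using (mem_normalizer_iff.1 (inv_mem hσn) w).1 hw
    exact ⟨_, (mem_normalizer_iff.1 (hWX hw') a).1 ha, by simp [mul_assoc]⟩
  have hKF : K ⊓ fit z = ⊥ := (eq_bot_iff_forall _).2 fun x hx => by
    obtain ⟨a, ha, rfl⟩ := hx.1
    have : a ∈ X ⊓ fit z :=
      ⟨ha, (mem_normalizer_iff.1 (centralizer_le_normalizer_fit z hσC) a).2 hx.2⟩
    rw [hXF, mem_bot] at this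
    simp [this]
  -- a primary component of `[σ, x]`
  obtain ⟨x, hx, hxs⟩ := hmov
  have hxU := fix_le_core z τ (hXW hx)
  set d := σ * x * σ⁻¹ * x⁻¹ with hd
  have hdF : d ∈ fit z := hσsc.commutator_mem_fit hσC hxU
  have hdW : d ∈ fix z τ := mul_mem (hσW x (hXW hx)) (inv_mem (hXW hx))
  have hd1 : d ≠ 1 := fun e => hxs (mul_inv_eq_one.1 e)
  have hdi : σ * d * σ⁻¹ = d⁻¹ := by
    have h1 : σ * σ * x * (σ * σ)⁻¹ = x := by
      rw [hσσ, ← commute_of_mem_core hxU, mul_inv_cancel_right]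
    calc σ * d * σ⁻¹ = (σ * σ * x * (σ * σ)⁻¹) * (σ * x * σ⁻¹)⁻¹ := by rw [hd]; group
      _ = d⁻¹ := by rw [h1, hd]; group
  obtain ⟨q1, k, hq1p, hdq, hdk⟩ := exists_pow_mem_qcore hdF hd1
  have hdkU := qcore_le_core q1 z hdq
  have hdki : σ * d ^ k * σ⁻¹ = (d ^ k)⁻¹ := by rw [← conj_pow, hdi, inv_pow]
  have hdkτ : τ * d ^ k * τ⁻¹ = d ^ k := by
    rw [← mem_centralizer_singleton_iff.1 (pow_mem hdW k).2, mul_inv_cancel_right]
  have hdρ : σ * τ * d ^ k * (σ * τ)⁻¹ = (d ^ k)⁻¹ := by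
    rw [show σ * τ * d ^ k * (σ * τ)⁻¹ = σ * (τ * d ^ k * τ⁻¹) * σ⁻¹ by group, hdkτ, hdki]
  have hinv1 : ∀ x ∈ qcore q1 z, σ * τ * x * (σ * τ)⁻¹ = x⁻¹ :=
    (hG.scalar_invol hz hne hρ hzρ q1 hq1p).resolve_left fun h =>
      hdk (eq_one_of_fixed_inverted hdkU (h _ hdq) hdρ)
  have habel : qcore q1 z ≤ centralizer (qcore q1 z : Set G) := fun a ha =>
    mem_centralizer_iff.2 fun c hc => by
      have e : σ * τ * (a * c) * (σ * τ)⁻¹ =
          σ * τ * a * (σ * τ)⁻¹ * (σ * τ * c * (σ * τ)⁻¹) := by group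
      rw [hinv1 a ha, hinv1 c hc, hinv1 _ (mul_mem ha hc), ← mul_inv_rev, inv_inj] at e
      exact e.symm
  have hFc : fit z ≤ centralizer (qcore q1 z : Set G) := fit_le_of_qcores fun s hs => by
    rcases eq_or_ne s q1 with rfl | hne'
    · exact habel
    · exact qcore_commute hs hq1p hne' z
  have hdY : d ^ k ∈ centralizer (Y : Set G) := mem_centralizer_iff.2 fun y hy => by
    obtain ⟨w, hw, f, hf, hyw⟩ := hG.exists_fixed_rep hz hne hτ hzτ (fix_le_core z _ (hYW hy))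
    have w1 : Commute w x := key X hXp hXW hWX hXF x hx y hy w hw f hf hyw
    have w2 : Commute w (σ * x * σ⁻¹) :=
      key K (hXp.map _) hKW hWK hKF _ ⟨x, hx, rfl⟩ y hy w hw f hf hyw
    have w3 : Commute w (d ^ k) := (w2.mul_right w1.inv_right).pow_right k
    have f3 : Commute f (d ^ k) := (mem_centralizer_iff.1 (hFc hf) _ hdq).symm
    rw [hyw]
    exact (w3.mul_left f3).eq
  exact hdk (eq_one_of_fixed_inverted hdkU (commute_of_mul hdkU (hcY hdY)) hdρ)

end Minimal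

namespace Minimal

variable (hG : Minimal G) {z : G}
include hG

open Classical in
/-- A principal character not vanishing at `z` has degree at least `25` when the core moves an
inverted abelian subgroup centralised by an element of order four. -/
theorem twist_degree [Fintype G] {M : Ideal AlgInt} [M.IsPrime] (hM : Cfsg.IsPModular 2 M)
    (hz : orderOf z = 2) {σ b : G} (hσ : orderOf σ = 2 ^ 2) (hzσ : z ∈ zpowers σ)
    {χ : IrrCharacter G} (hχ : χ ∈ Cfsg.principalBlock M G) (hχ1 : χ ≠ trivChar G)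
    (hχz : (χ : G → ℂ) z ≠ 0) {Y : Subgroup G} (hYU : Y ≤ core z)
    (hYσ : ∀ y ∈ Y, y * σ = σ * y) (hb : b ∈ centralizer ({z} : Set G))
    (hinv : ∀ y ∈ Y, b * y * b⁻¹ = y⁻¹) {w y₀ : G} (hw : w ∈ core z)
    (hwY : w ∈ normalizer (Y : Set G)) (hy₀ : y₀ ∈ Y) (hmoved : w * y₀ ≠ y₀ * w)
    {d : ℕ} (hd : (χ : G → ℂ) 1 = d) : 25 ≤ d := by
  haveI := hG.simple
  haveI := Fintype.ofFinite (centralizer ({z} : Set G))
  haveI := Fintype.ofFinite Y
  have hF := Tw.frame_core hG hz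
  have hcomm : ∀ x ∈ Y, ∀ y ∈ Y, x * y = y * x := by
    intro x hx y hy
    have e : b * (x * y) * b⁻¹ = b * x * b⁻¹ * (b * y * b⁻¹) := by group
    rw [hinv x hx, hinv y hy, hinv _ (mul_mem hx hy), ← mul_inv_rev, inv_inj] at e
    exact e
  have hbig := hF.big_moved hYU hcomm hb hinv hw hwY hy₀ hmoved ({1} : Finset (Tw.Lin z))
  have hmu : Tw.mu (core z) (1 : Tw.Lin z) (χ : G → ℂ) z = (χ : G → ℂ) z := by
    rw [Tw.mu, Finset.sum_congr rfl (g := fun _ => (χ : G → ℂ) z) fun u hu => ?_, Finset.sum_const,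
      nsmul_eq_mul, ← mul_assoc,
      show (Finset.univ.filter (· ∈ core z)).card = Nat.card (core z) by
        rw [Nat.card_eq_fintype_card, Fintype.card_subtype],
      inv_mul_cancel₀ (Nat.cast_ne_zero.2 Nat.card_pos.ne'), one_mul]
    have hu' : u ∈ core z := (Finset.mem_filter.1 hu).2
    rw [Tw.lv_one (core_le z hu'), map_one, mul_one,
      hG.apply_invol_mul hM hχ hz (commute_of_mem_core hu') (odd_orderOf_core hu')]
  obtain ⟨d', e, c, hd', hzv, hc, -, hdeg⟩ := hF.bound hM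
    (fun L hL L' hL' _ => by rw [Finset.mem_singleton.1 hL, Finset.mem_singleton.1 hL'])
    (Tw.fused_one hF) hσ hzσ χ (Finset.mem_singleton_self _) (h₀ := z) (mem_zpowers z)
    (by rw [hmu]; exact hχz)
  obtain rfl : d' = d := Nat.cast_injective (R := ℂ) (hd'.symm.trans hd)
  obtain ⟨-, hce, -⟩ := hc 1 (Finset.mem_singleton_self _)
  have h1 := hdeg Y 6 hYU hYσ hbig hχ1
  rw [Finset.sum_singleton] at h1 hzv
  have hc0 : c (1 : Tw.Lin z) ≠ 0 := fun e0 => hχz (by rw [hzv, e0, Int.cast_zero])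
  have := abs_pos.2 hc0
  omega

/-- Order four: no moved primary part fixed by a reflection. -/
theorem false_of_order_four {P : Sylow 2 G} {σ τ : G} (S : Setup P σ τ 2)
    (hz : orderOf z = 2) (hSz : σ ^ 2 = z) (hmax : IsCoatom (centralizer ({z} : Set G)))
    (hne : NoEscape z) {q : ℕ} (hq : q.Prime) (hX : qcore q z ≠ ⊥)
    (hq1 : ∀ x ∈ qcore q z, τ * x * τ⁻¹ = x)
    (hq2 : ∀ x ∈ qcore q z, σ * τ * x * (σ * τ)⁻¹ = x⁻¹) : False := by
  subst hSz
  haveI : Fact (Nat.Prime 2) := ⟨Nat.prime_two⟩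
  have hττ := Small.mul_self_of_orderOf_two S.ordτ
  have hρ : orderOf (σ * τ) = 2 := by
    refine Small.orderOf_eq_two_iff_sq.2 ⟨fun e => S.notMem ?_, ?_⟩
    · rw [eq_inv_of_mul_eq_one_right e]; exact inv_mem (mem_zpowers σ)
    · have := S.rel
      rw [Small.inv_eq_self_of_orderOf_two S.ordτ] at this
      calc σ * τ * (σ * τ) = σ * (τ * σ * τ) := by group
        _ = 1 := by rw [this, mul_inv_cancel]
  have hτz : σ ^ 2 ≠ τ := fun e => S.notMem (e ▸ pow_mem (mem_zpowers σ) 2)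
  have hρz : σ ^ 2 ≠ σ * τ := fun e => S.notMem (by
    rw [show τ = σ⁻¹ * σ ^ 2 by rw [e, inv_mul_cancel_left]]
    exact mul_mem (inv_mem (mem_zpowers σ)) (pow_mem (mem_zpowers σ) 2))
  have hzτ : σ ^ 2 * τ = τ * σ ^ 2 := (S.J_central S.memτ).symm
  have hzρ : σ ^ 2 * (σ * τ) = σ * τ * σ ^ 2 := (S.J_central (mul_mem S.memσ S.memτ)).symm
  have hσC : σ ∈ centralizer ({σ ^ 2} : Set G) := S.P_le_C S.memσ
  have hτC : τ ∈ centralizer ({σ ^ 2} : Set G) := S.P_le_C S.memτ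
  have hστ : σ * τ * σ⁻¹ = σ ^ 2 * τ := by
    have h1 : τ * σ⁻¹ = σ * τ := by
      have := S.rel
      rw [mul_inv_eq_iff_eq_mul] at this
      calc τ * σ⁻¹ = σ * (σ⁻¹ * τ) * σ⁻¹ := by group
        _ = σ * (τ * σ) * σ⁻¹ := by rw [this]
        _ = σ * τ := by group
    rw [mul_assoc, h1, sq, mul_assoc]
  -- the second sort
  by_cases hT2 : ∃ r : ℕ, r.Prime ∧ qcore r (σ ^ 2) ≠ ⊥ ∧
      (∀ x ∈ qcore r (σ ^ 2), τ * x * τ⁻¹ = x⁻¹) ∧
      (∀ x ∈ qcore r (σ ^ 2), σ * τ * x * (σ * τ)⁻¹ = x)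
  · obtain ⟨r, hr, hY, hr1, hr2⟩ := hT2
    exact hG.false_of_two_types hz hne hσC (by rw [sq])
      (hG.scalar_of_mem hz hne (fun s hs => S.J_central hs) S.memσ)
      S.ordτ hτz hzτ hστ hρ hρz hzρ hq hr hX hY hq1 hq2 hr1 hr2
  push Not at hT2
  have hnoT2 : ∀ r : ℕ, r.Prime → qcore r (σ ^ 2) ≠ ⊥ →
      (∀ x ∈ qcore r (σ ^ 2), τ * x * τ⁻¹ = x⁻¹) →
      ∀ x ∈ qcore r (σ ^ 2), σ * τ * x * (σ * τ)⁻¹ = x⁻¹ := by
    intro r hr hY h1
    rcases hG.scalar_invol hz hne hρ hzρ r hr with h | h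
    · obtain ⟨x, hx, hx'⟩ := hT2 r hr hY h1
      exact absurd (h x hx) hx'
    · exact h
  -- the fixed subgroups of the Fitting part
  have hle : fit (σ ^ 2) ⊓ fix (σ ^ 2) (σ * τ) ≤ fit (σ ^ 2) ⊓ fix (σ ^ 2) τ := by
    refine le_inf inf_le_left (le_inf (inf_le_right.trans (fix_le_core _ _))
      (le_of_primary (z := σ ^ 2) inf_le_left fun r hr x hx => mem_centralizer_singleton_iff.2 ?_))
    refine (mul_inv_eq_iff_eq_mul.1 ?_).symm
    by_cases hY : qcore r (σ ^ 2) = ⊥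
    · have h1 := hx.2
      rw [hY] at h1
      rw [mem_bot.1 h1]; group
    rcases hG.scalar_invol hz hne S.ordτ hzτ r hr with h | h
    · exact h x hx.2
    · have h1 : σ * τ * x * (σ * τ)⁻¹ = x := by
        rw [← mem_centralizer_singleton_iff.1 hx.1.2.2, mul_inv_cancel_right]
      rw [eq_one_of_fixed_inverted (qcore_le_core r _ hx.2) h1 (hnoT2 r hr hY h x hx.2)]
      group
  have hlt : fit (σ ^ 2) ⊓ fix (σ ^ 2) (σ * τ) ≠ fit (σ ^ 2) ⊓ fix (σ ^ 2) τ := by
    intro e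
    obtain ⟨x, hx, hx1⟩ := SetLike.exists_of_lt (bot_lt_iff_ne_bot.2 hX)
    have hxm : x ∈ fit (σ ^ 2) ⊓ fix (σ ^ 2) τ := ⟨qcore_le_fit hq _ hx, qcore_le_core q _ hx,
      mem_centralizer_singleton_iff.2 (mul_inv_eq_iff_eq_mul.1 (hq1 x hx)).symm⟩
    rw [← e] at hxm
    refine hx1 (mem_bot.2 (eq_one_of_fixed_inverted (qcore_le_core q _ hx) ?_ (hq2 x hx)))
    rw [← mem_centralizer_singleton_iff.1 hxm.2.2, mul_inv_cancel_right]
  obtain ⟨n, hn⟩ := card_dvd_of_le hle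
  have hnodd : Odd n := ((odd_core (σ ^ 2)).of_dvd_nat
    (card_dvd_of_le (inf_le_left.trans (fit_le_core _)))).of_dvd_nat (hn ▸ dvd_mul_left n _)
  have hn1 : n ≠ 1 := fun e => hlt (eq_of_le_of_card_ge hle (by rw [hn, e, mul_one]))
  have c1 := hG.card_core_mul hz hne S.ordτ hzτ
  have c2 := hG.card_core_mul hz hne hρ hzρ
  have hW : Nat.card (fix (σ ^ 2) τ) = n * Nat.card (fix (σ ^ 2) (σ * τ)) := by
    rw [hn] at c1
    refine Nat.eq_of_mul_eq_mul_right (Nat.card_pos (α := fit (σ ^ 2))) ?_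
    rw [← c1, mul_assoc n, ← c2]
    ring
  have hW2 : 0 < Nat.card (fix (σ ^ 2) (σ * τ)) := Nat.card_pos
  have hn3 : n = 3 := by
    have h5 := (hG.not_five_le S).1
    rw [hW] at h5
    have : n < 5 := by
      by_contra h
      exact h5 (Nat.mul_le_mul_right _ (by omega))
    obtain ⟨j, rfl⟩ := hnodd
    omega
  subst hn3
  -- the subgroup inverted by both reflections
  have hU : core (σ ^ 2) ≠ ⊥ := fun e => hX (le_bot_iff.1 (e ▸ qcore_le_core q _))
  obtain ⟨r, hr, hY, hr1⟩ := hG.exists_inverted hz hmax hne hU S.ordτ hτz hzτ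
  have hr2 := hnoT2 r hr hY hr1
  have hσY : ∀ y ∈ qcore r (σ ^ 2), y * σ = σ * y := by
    intro y hy
    refine (mul_inv_eq_iff_eq_mul.1 ?_).symm
    calc σ * y * σ⁻¹ = σ * (τ * τ) * y * ((τ * τ)⁻¹) * σ⁻¹ := by rw [hττ]; group
      _ = σ * τ * (τ * y * τ⁻¹) * (σ * τ)⁻¹ := by group
      _ = σ * τ * y⁻¹ * (σ * τ)⁻¹ := by rw [hr1 y hy]
      _ = y := by rw [hr2 _ (inv_mem hy), inv_inv]
  obtain ⟨w, hw, y₀, hy₀, hmoved⟩ : ∃ w ∈ core (σ ^ 2), ∃ y₀ ∈ qcore r (σ ^ 2),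
      w * y₀ ≠ y₀ * w := by
    by_contra hcon
    push Not at hcon
    obtain ⟨X, -, hXW, -, hcX, -, -⟩ :=
      hG.exists_transfer hz hne S.ordτ hτz hzτ hσC hστ hq hX hq1
    obtain ⟨y, hy, hy1⟩ := SetLike.exists_of_lt (bot_lt_iff_ne_bot.2 hY)
    exact hy1 (mem_bot.2 (eq_one_of_fixed_inverted (qcore_le_core r _ hy)
      (commute_of_mul (qcore_le_core r _ hy) (hcX (mem_centralizer_iff.2 fun x hx =>
        hcon x (fix_le_core _ _ (hXW hx)) y hy))) (hr1 y hy)))
  -- the characters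
  haveI := Fintype.ofFinite G
  obtain ⟨M, hM⟩ := Blocks.exists_isPModular 2 Nat.prime_two
  haveI : M.IsPrime := Blocks.IsPModular.isPrime hM
  haveI : NeZero (2 * 2) := ⟨by norm_num⟩
  obtain ⟨ζ, hζ⟩ : ∃ ζ : ℂ, IsPrimitiveRoot ζ (2 * 2) :=
    ⟨_, Complex.isPrimitiveRoot_exp (2 * 2) (by norm_num)⟩
  obtain ⟨X, A, B, Y, δ, a, b, hδ, ha, hb, n1, n2, n3, n4, n5, n6, hY', hYinj, hmem, hv, hrel⟩ :=
    S.principal_block hM hζ
  obtain ⟨dX, hdX0, hdX⟩ := Characters.exists_degree_pos X.2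
  obtain ⟨dA, hdA0, hdA⟩ := Characters.exists_degree_pos A.2
  obtain ⟨dB, hdB0, hdB⟩ := Characters.exists_degree_pos B.2
  obtain ⟨pJ, qJ, rJ, -⟩ := hv 2 S.J_ne
  have hord : orderOf σ = 2 ^ 2 := by rw [S.ordσ]; norm_num
  have hbound : ∀ (χ : IrrCharacter G) (d : ℕ), χ ∈ Cfsg.principalBlock M G → χ ≠ trivChar G →
      (χ : G → ℂ) (σ ^ 2) ≠ 0 → (χ : G → ℂ) 1 = d → 25 ≤ d := fun χ d hχ hχ1 hχz hd =>
    hG.twist_degree hM hz hord (pow_mem (mem_zpowers σ) 2) hχ hχ1 hχz (qcore_le_core r _) hσY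
      hτC hr1 hw (core_le_normalizer_qcore r _ hw) hy₀ hmoved hd
  have hsign : ∀ {s : ℤ}, s = 1 ∨ s = -1 → (s : ℂ) ≠ 0 := by
    rintro s (rfl | rfl) <;> norm_num
  have gX := hbound X dX ((hmem X).2 (Or.inr (Or.inl rfl))) n1.symm
    (by rw [pJ]; exact hsign hδ) hdX
  have gA := hbound A dA ((hmem A).2 (Or.inr (Or.inr (Or.inl rfl)))) n2.symm
    (by rw [qJ]; norm_num; exact_mod_cast hsign ha) hdA
  have gB := hbound B dB ((hmem B).2 (Or.inr (Or.inr (Or.inr (Or.inl rfl))))) n3.symm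
    (by rw [rJ]; norm_num; exact_mod_cast hsign hb) hdB
  obtain ⟨-, hsum, E3, E4⟩ := one_class_values hM S (hG.isConj S.J_order S.ordτ)
    (hG.isConj S.J_order hρ) hζ hδ ha hb n1 n2 n3 n4 n5 n6 hY' hYinj hmem hv hrel hdX hdA hdB
    (δ * dX) (a * dA) (b * dB) rfl rfl rfl
  have efix : ∀ t : G, S.core ⊓ centralizer ({t} : Set G) = fix (σ ^ 2) t := fun t => by
    rw [hG.core_eq_setup S]; rfl
  rw [efix, efix] at E3 E4
  have hx0 : 1 + δ * (dX : ℤ) ≠ 0 := by rcases hδ with rfl | rfl <;> omega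
  refine ratio_three_false (x := δ * dX) (U := a * dA) (V := b * dB)
    (by rcases hδ with rfl | rfl <;> omega) (by rcases ha with rfl | rfl <;> omega)
    (by rcases hb with rfl | rfl <;> omega) hsum ?_
  have hW' : (Nat.card (fix (σ ^ 2) τ) : ℤ) = 3 * (Nat.card (fix (σ ^ 2) (σ * τ)) : ℤ) := by
    exact_mod_cast hW
  rw [hW'] at E3 E4
  have hc : 2 * (2 : ℤ) ^ 2 * (Nat.card S.core : ℤ) ^ 2 * (1 + δ * dX) *
      (4 * (Nat.card (fix (σ ^ 2) (σ * τ)) : ℤ) ^ 2) ≠ 0 :=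
    mul_ne_zero (mul_ne_zero (mul_ne_zero (by norm_num)
      (pow_ne_zero 2 (Nat.cast_ne_zero.2 Nat.card_pos.ne'))) hx0)
      (mul_ne_zero (by norm_num) (pow_ne_zero 2 (Nat.cast_ne_zero.2 Nat.card_pos.ne')))
  refine mul_left_cancel₀ hc ?_
  push_cast at E3 E4
  linear_combination (δ * dX - 1) ^ 2 * E4 - (a * dA - b * dB) ^ 2 * E3

/-- **The rotation centralises the core.** -/
theorem false_of_moving_sigma (hz : orderOf z = 2) (hmax : IsCoatom (centralizer ({z} : Set G)))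
    (hne : NoEscape z) {P : Sylow 2 G} {σ τ : G} {h : ℕ} (S : Setup P σ τ h) (hSz : σ ^ h = z)
    (hσ : σ ∉ centralizer (core z : Set G)) : False := by
  subst hSz
  haveI : Fact (Nat.Prime 2) := ⟨Nat.prime_two⟩
  obtain ⟨k, rfl⟩ := S.pow2
  have hsc : ∀ {s}, s ∈ (P : Subgroup G) → Scalar (σ ^ 2 ^ k) s := fun hs =>
    hG.scalar_of_mem hz hne (fun s hs => S.J_central hs) hs
  have hσC : σ ∈ centralizer ({σ ^ 2 ^ k} : Set G) := S.P_le_C S.memσ
  have hσ2 : ∃ j : ℕ, orderOf σ = 2 ^ j := ⟨k + 1, by rw [S.ordσ, pow_succ']⟩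
  have hσσ := (hsc S.memσ).sq_centralizes hσC hσ2
  have hττ := Small.mul_self_of_orderOf_two S.ordτ
  have hρ : orderOf (σ * τ) = 2 := by
    refine Small.orderOf_eq_two_iff_sq.2 ⟨fun e => S.notMem ?_, ?_⟩
    · rw [eq_inv_of_mul_eq_one_right e]; exact inv_mem (mem_zpowers σ)
    · have := S.rel
      rw [Small.inv_eq_self_of_orderOf_two S.ordτ] at this
      calc σ * τ * (σ * τ) = σ * (τ * σ * τ) := by group
        _ = 1 := by rw [this, mul_inv_cancel]
  have hτz : σ ^ 2 ^ k ≠ τ := fun e => S.notMem (e ▸ pow_mem (mem_zpowers σ) _)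
  have hρz : σ ^ 2 ^ k ≠ σ * τ := fun e => S.notMem (by
    rw [show τ = σ⁻¹ * σ ^ 2 ^ k by rw [e, inv_mul_cancel_left]]
    exact mul_mem (inv_mem (mem_zpowers σ)) (pow_mem (mem_zpowers σ) _))
  have hzτ : σ ^ 2 ^ k * τ = τ * σ ^ 2 ^ k := (S.J_central S.memτ).symm
  have hzρ : σ ^ 2 ^ k * (σ * τ) = σ * τ * σ ^ 2 ^ k :=
    (S.J_central (mul_mem S.memσ S.memτ)).symm
  have hdec : ∀ x : G, σ * x * σ⁻¹ = σ * τ * (τ * x * τ⁻¹) * (σ * τ)⁻¹ := fun x => by
    calc σ * x * σ⁻¹ = σ * (τ * τ) * x * (τ * τ)⁻¹ * σ⁻¹ := by rw [hττ]; group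
      _ = _ := by group
  rcases Nat.lt_or_ge k 2 with hk | hk
  · obtain rfl : k = 1 := by
      rcases k with _ | _ | k
      · have := S.two_le; simp at this
      · rfl
      · omega
    -- a moved primary part
    obtain ⟨q, hq, x, hx, hxσ⟩ : ∃ q : ℕ, q.Prime ∧
        ∃ x ∈ qcore q (σ ^ 2 ^ 1), σ * x * σ⁻¹ ≠ x := by
      by_contra hcon
      push Not at hcon
      exact hσ (centralizes_core_of_fixes hσC hσ2 hcon)
    have hX : qcore q (σ ^ 2 ^ 1) ≠ ⊥ := fun e => hxσ (by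
      rw [e, mem_bot] at hx
      rw [hx]; group)
    rw [hdec] at hxσ
    rcases hG.scalar_invol hz hne S.ordτ hzτ q hq with h1 | h1 <;>
      rcases hG.scalar_invol hz hne hρ hzρ q hq with h2 | h2
    · exact hxσ (by rw [h1 x hx, h2 x hx])
    · exact hG.false_of_order_four S hz rfl hmax hne hq hX h1 h2
    · have hρP : σ * τ ∈ (P : Subgroup G) := mul_mem S.memσ S.memτ
      have hrel : σ * τ * σ * (σ * τ)⁻¹ = σ⁻¹ := by
        calc σ * τ * σ * (σ * τ)⁻¹ = σ * (τ * σ * τ⁻¹) * σ⁻¹ := by group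
          _ = _ := by rw [S.rel]; group
      have S' : Setup P σ (σ * τ) (2 ^ 1) := by
        refine setup_of_generators P S.two_le S.pow2 S.ordσ hρ hrel ?_
        refine le_antisymm ((closure_le _).2 ?_) fun y hy => ?_
        · rintro y (rfl | rfl)
          exacts [S.memσ, hρP]
        · have hσm : σ ∈ closure ({σ, σ * τ} : Set G) := subset_closure (by simp)
          have hτm : τ ∈ closure ({σ, σ * τ} : Set G) := by
            have h3 := mul_mem (inv_mem hσm)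
              (show σ * τ ∈ closure ({σ, σ * τ} : Set G) from subset_closure (by simp))
            rwa [inv_mul_cancel_left] at h3
          obtain ⟨j, rfl | rfl⟩ := S.elems y hy
          · exact pow_mem hσm j
          · exact mul_mem hτm (pow_mem hσm j)
      refine hG.false_of_order_four S' hz rfl hmax hne hq hX h2 fun y hy => ?_
      have hzy : σ * σ * (τ * y * τ⁻¹) * (σ * σ)⁻¹ = τ * y * τ⁻¹ := by
        rw [← mem_centralizer_iff.1 hσσ _ (core_conj (S.P_le_C S.memτ) (qcore_le_core q _ hy)),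
          mul_inv_cancel_right]
      rw [show σ * (σ * τ) * y * (σ * (σ * τ))⁻¹ = σ * σ * (τ * y * τ⁻¹) * (σ * σ)⁻¹ by group,
        hzy, h1 y hy]
    · exact hxσ (by rw [h1 x hx, h2 _ (inv_mem hx), inv_inv])
  · obtain ⟨j, rfl⟩ : ∃ j, k = j + 2 := ⟨k - 2, by omega⟩
    set s := σ ^ 2 ^ (j + 1) with hs
    have hsC : s ∈ centralizer ({σ ^ 2 ^ (j + 2)} : Set G) := pow_mem hσC _
    have hsU : s ∈ centralizer (core (σ ^ 2 ^ (j + 2)) : Set G) := by
      rw [hs, pow_succ' 2 j, pow_mul, sq]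
      exact pow_mem hσσ _
    have hss : s * s = σ ^ 2 ^ (j + 2) := by rw [hs, ← pow_add, ← mul_two, ← pow_succ]
    have hsτ : s * τ * s⁻¹ = σ ^ 2 ^ (j + 2) * τ := by
      have h1 : τ * s⁻¹ * τ⁻¹ = s := by
        calc τ * s⁻¹ * τ⁻¹ = (τ * s * τ⁻¹)⁻¹ := by simp [mul_assoc]
          _ = s := by rw [hs, S.inverts, inv_inv]
      calc s * τ * s⁻¹ = s * ((τ * s⁻¹ * τ⁻¹) * τ) := by simp [mul_assoc]
        _ = σ ^ 2 ^ (j + 2) * τ := by rw [h1, ← mul_assoc, hss]
    have hsρ : s * (σ * τ) * s⁻¹ = σ ^ 2 ^ (j + 2) * (σ * τ) := by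
      calc s * (σ * τ) * s⁻¹ = (s * σ) * τ * s⁻¹ := by simp only [mul_assoc]
        _ = σ * (s * τ * s⁻¹) := by
          rw [((Commute.refl σ).pow_left (2 ^ (j + 1))).eq]
          simp only [mul_assoc, hs]
        _ = σ ^ 2 ^ (j + 2) * (σ * τ) := by
          rw [hsτ, ← mul_assoc, ← mul_assoc, ← pow_succ', pow_succ]
    have hsW : ∀ b, ∀ w ∈ fix (σ ^ 2 ^ (j + 2)) b, s * w * s⁻¹ = w := fun b w hw => by
      rw [← mem_centralizer_iff.1 hsU w (fix_le_core _ _ hw), mul_inv_cancel_right]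
    have i1 := hG.inverts_of_swap hz hne S.ordτ hτz hzτ hsC hsτ (hsW _)
    have i2 := hG.inverts_of_swap hz hne hρ hρz hzρ hsC hsρ (hsW _)
    refine hσ (centralizes_core_of_fixes hσC hσ2 fun q hq x hx => ?_)
    rw [hdec, i1 q hq x hx, i2 q hq _ (inv_mem hx), inv_inv]

end Minimal

end CfsgLib.GW
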