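import Cfsg.Agent.GW.NoEscapeMain
import Cfsg.Agent.GW.ScalarMoving

/-!
# Gorenstein–Walter 4.2: `C(z)` is not maximal without an escaping fixed subgroup
-/

set_option autoImplicit false

open Subgroup

namespace CfsgLib.GW.Minimal

universe u

variable {G : Type u} [Group G] [Finite G]

/-- **4.2.** With `C(z)` maximal some fixed subgroup escapes from it. -/
theorem false_of_noEscape (hG : Minimal G) {z : G} (hz : orderOf z = 2)
    (hmax : IsCoatom (centralizer ({z} : Set G))) (hne : NoEscape z) : False :=
  hG.false_of_noEscape_centralizing hz hmax hne fun _ _ _ _ hSet hσz => by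
    by_contra hs
    exact hG.false_of_moving_sigma hz hmax hne hSet hσz hs

end CfsgLib.GW.Minimal
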