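import Cfsg.Agent.GW.LocalEscape
import Cfsg.Agent.GW.NoEscapeFinish
import Cfsg.Agent.GW.FusionTwo
import Cfsg.Agent.GW.OSType.Main

/-!
# The Gorenstein–Walter theorem

A simple group with dihedral Sylow 2-subgroups is `PSL₂(q)`, `q > 3` odd, or `A₇`.
-/

set_option autoImplicit false

open Subgroup

namespace CfsgLib.GW

universe u

/-- There is no minimal counterexample to the Gorenstein–Walter theorem. -/
theorem no_minimal {G : Type u} [Group G] [Finite G] (hG : Minimal G) : False := by
  haveI : Fact (Nat.Prime 2) := ⟨Nat.prime_two⟩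
  obtain ⟨z, hz⟩ := exists_prime_orderOf_dvd_card' (G := G) 2
    (dvd_trans (by norm_num) hG.four_dvd)
  have hmax : IsCoatom (centralizer ({z} : Set G)) :=
    hG.isCoatom_centralizer (fun w hw M hM hlt => hG.two_quotient hw hM hlt) hz
  exact hG.false_of_noEscape hz hmax (hG.noEscape hz hmax)

/-- The Gorenstein–Walter theorem for simple groups of every order. -/
theorem simpleHyp (m : ℕ) : SimpleHyp.{u} m :=
  simpleHyp_of_no_minimal (fun _ _ _ hG => no_minimal hG) m

/-- The Gorenstein–Walter theorem for simple groups. -/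
theorem simple_dihedral {G : Type u} [Group G] [Finite G] [IsSimpleGroup G] (S : Sylow 2 G)
    (n : ℕ) (hn : 2 ≤ n) (hS : Nonempty ((S : Subgroup G) ≃* DihedralGroup n)) :
    IsPSLOrAltSeven G :=
  simple_dihedral_of (fun _ _ _ hG => no_minimal hG) S n hn hS

/-- Every group of dihedral type is known. -/
theorem known_of_dihType {X : Type u} [Group X] [Finite X] (hX : DihType X) : Known X :=
  known_of_simpleHyp hX (simpleHyp _)

end CfsgLib.GW
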