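import Cfsg.Agent.Forms.KleinPSL
import Cfsg.Agent.Linear.SL2Sylow

/-!
# Four-groups of `PSL(2,q)`: cycling element and centralizer
-/

set_option autoImplicit false

namespace CfsgLib.GW

open Matrix Subgroup
open scoped MatrixGroups

variable {F : Type*} [Field F] [Fintype F]

/-- An element cycling a four-group of `PSL(2,q)`. -/
theorem exists_cycle_psl (hF : Odd (Fintype.card F))
    {a b : Matrix.ProjectiveSpecialLinearGroup (Fin 2) F} (ha : orderOf a = 2) (hb : orderOf b = 2)
    (hne : a ≠ b) (hab : a * b = b * a) :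
    ∃ g, g * a * g⁻¹ = b ∧ g * b * g⁻¹ = a * b := by
  have h2 : (2 : F) ≠ 0 := SL2Tori.two_ne_zero_of_odd hF
  have hsq : ∀ {c : Matrix.ProjectiveSpecialLinearGroup (Fin 2) F}, orderOf c = 2 →
      c ≠ 1 ∧ c * c = 1 := fun {c} hc =>
    ⟨fun e => by rw [e, orderOf_one] at hc; omega,
      by rw [← pow_two, orderOf_dvd_iff_pow_eq_one.1 hc.dvd]⟩
  obtain ⟨x, rfl, hx⟩ := Forms.KleinPSL.exists_lift_of_orderOf_two h2 (hsq ha).1 (hsq ha).2
  obtain ⟨y, rfl, hy⟩ := Forms.KleinPSL.exists_lift_of_orderOf_two h2 (hsq hb).1 (hsq hb).2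
  have hyx := Forms.KleinPSL.anticomm_of_proj_comm h2 hx hy hne hab
  have hxy2 : x * y * (x * y) = -1 := by
    calc x * y * (x * y) = x * (y * x) * y := by group
      _ = -(x * x * (y * y)) := by rw [hyx, mul_neg, neg_mul, ← mul_assoc, ← mul_assoc]
      _ = -1 := by rw [hx, hy, neg_mul_neg, one_mul]
  set A : Matrix (Fin 2) (Fin 2) F := (x : SL(2, F)).1
  set B : Matrix (Fin 2) (Fin 2) F := (y : SL(2, F)).1
  have hA : A * A = -1 := by
    have h := congrArg (fun g : SL(2, F) => g.1) hx
    simpa using h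
  have hB : B * B = -1 := by
    have h := congrArg (fun g : SL(2, F) => g.1) hy
    simpa using h
  have hBA : B * A = -(A * B) := by
    have h := congrArg (fun g : SL(2, F) => g.1) hyx
    simpa using h
  have tA : A.trace = 0 := Forms.KleinPSL.tr_eq_zero h2 hx
  have tB : B.trace = 0 := Forms.KleinPSL.tr_eq_zero h2 hy
  have tAB : (A * B).trace = 0 := by
    have h := Forms.KleinPSL.tr_eq_zero h2 hxy2
    simpa [SL2Tori.tr] using h
  set M : Matrix (Fin 2) (Fin 2) F := 1 + A + B + A * B with hM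
  have hMA : M * A = B * M := by
    have e1 : A * B * A = B := by
      rw [mul_assoc, hBA, mul_neg, ← mul_assoc, hA, neg_mul, one_mul, neg_neg]
    have e2 : B * (A * B) = A := by
      rw [← mul_assoc, hBA, neg_mul, mul_assoc, hB, mul_neg, mul_one, neg_neg]
    rw [hM, add_mul, add_mul, add_mul, one_mul, hA, hBA, e1, mul_add, mul_add, mul_add, mul_one,
      hB, e2, hBA]
    abel
  have hMB : M * B = A * B * M := by
    have e1 : A * B * A = B := by
      rw [mul_assoc, hBA, mul_neg, ← mul_assoc, hA, neg_mul, one_mul, neg_neg]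
    have e2 : A * B * B = -A := by rw [mul_assoc, hB, mul_neg, mul_one]
    have e3 : A * B * (A * B) = -1 := by rw [← mul_assoc, e1, hB]
    rw [hM, add_mul, add_mul, add_mul, one_mul, hB, e2, mul_add, mul_add, mul_add, mul_one, e1, e2,
      e3]
    abel
  have htr : M.trace = 2 := by
    rw [hM, trace_add, trace_add, trace_add, tA, tB, tAB, trace_one, Fintype.card_fin]
    norm_num
  have hsum : M * ((2 : F) • 1 - M) = (4 : F) • 1 := by
    have e0 : (2 : F) • (1 : Matrix (Fin 2) (Fin 2) F) - M = 1 - A - B - A * B := by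
      rw [hM, two_smul]; abel
    rw [e0, hM]
    have e1 : A * B * A = B := by
      rw [mul_assoc, hBA, mul_neg, ← mul_assoc, hA, neg_mul, one_mul, neg_neg]
    have e2 : A * B * B = -A := by rw [mul_assoc, hB, mul_neg, mul_one]
    have e3 : A * B * (A * B) = -1 := by rw [← mul_assoc, e1, hB]
    have e4 : A * (A * B) = -B := by rw [← mul_assoc, hA, neg_mul, one_mul]
    have e5 : B * (A * B) = A := by
      rw [← mul_assoc, hBA, neg_mul, mul_assoc, hB, mul_neg, mul_one, neg_neg]
    rw [show (4 : F) • (1 : Matrix (Fin 2) (Fin 2) F) = 1 + 1 + 1 + 1 by module]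
    simp only [add_mul, mul_sub, one_mul, mul_one, hA, hB, hBA, e1, e2, e3, e4, e5]
    abel
  have hdet : M.det = 4 := by
    have h := congrFun (congrFun hsum 0) 0
    rw [Matrix.det_fin_two]
    rw [Matrix.trace_fin_two] at htr
    simp [Matrix.mul_apply, Fin.sum_univ_two] at h
    linear_combination h + M 0 0 * htr
  set c : F := (2 : F)⁻¹
  have hc : (c • M).det = 1 := by
    rw [Matrix.det_smul, Fintype.card_fin, hdet]
    simp only [c]
    field_simp
    norm_num
  let h : SL(2, F) := ⟨c • M, hc⟩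
  have ha' : h * x = y * h := Subtype.ext (by
    show c • M * A = B * (c • M)
    rw [smul_mul_assoc, mul_smul_comm, hMA])
  have hb' : h * y = x * y * h := Subtype.ext (by
    show c • M * B = A * B * (c • M)
    rw [smul_mul_assoc, mul_smul_comm, hMB])
  refine ⟨Forms.KleinPSL.projHom h, ?_, ?_⟩
  · rw [← map_mul, ha', map_mul, mul_inv_cancel_right]
  · rw [← map_mul, ← map_mul, hb', map_mul, mul_inv_cancel_right]

/-- An element of odd order commuting with a four-group of `PSL(2,q)` is trivial. -/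
theorem eq_one_of_commute_four_psl (hF : Odd (Fintype.card F))
    {a b k : Matrix.ProjectiveSpecialLinearGroup (Fin 2) F} (ha : orderOf a = 2) (hb : orderOf b = 2)
    (hne : a ≠ b) (hab : a * b = b * a) (hk : Odd (orderOf k)) (hka : k * a = a * k)
    (hkb : k * b = b * k) : k = 1 := by
  have h2 : (2 : F) ≠ 0 := SL2Tori.two_ne_zero_of_odd hF
  have hn1 := Forms.KleinPSL.neg_one_ne_one h2
  have hsq : ∀ {c : Matrix.ProjectiveSpecialLinearGroup (Fin 2) F}, orderOf c = 2 →
      c ≠ 1 ∧ c * c = 1 := fun {c} hc =>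
    ⟨fun e => by rw [e, orderOf_one] at hc; omega,
      by rw [← pow_two, orderOf_dvd_iff_pow_eq_one.1 hc.dvd]⟩
  obtain ⟨x, rfl, hx⟩ := Forms.KleinPSL.exists_lift_of_orderOf_two h2 (hsq ha).1 (hsq ha).2
  obtain ⟨y, rfl, hy⟩ := Forms.KleinPSL.exists_lift_of_orderOf_two h2 (hsq hb).1 (hsq hb).2
  have hyx := Forms.KleinPSL.anticomm_of_proj_comm h2 hx hy hne hab
  obtain ⟨h0, rfl⟩ := QuotientGroup.mk'_surjective _ k
  set n := orderOf ((QuotientGroup.mk' (center SL(2, F))) h0) with hn
  obtain ⟨j, hj⟩ := hk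
  -- a lift of odd order
  obtain ⟨h, hh, hhn⟩ : ∃ h : SL(2, F), Forms.KleinPSL.projHom h = Forms.KleinPSL.projHom h0 ∧
      h ^ n = 1 := by
    have h1 : Forms.KleinPSL.projHom (h0 ^ n) = 1 := by
      rw [map_pow, hn]
      exact pow_orderOf_eq_one _
    rcases Forms.KleinPSL.proj_eq_one_iff'.1 h1 with e | e
    · exact ⟨h0, rfl, e⟩
    · refine ⟨-h0, Forms.KleinPSL.projHom_neg h0, ?_⟩
      rw [hj, Odd.neg_pow ⟨j, rfl⟩, ← hj, e, neg_neg]
  have hcomm : ∀ {w : SL(2, F)}, w * w = -1 →
      Forms.KleinPSL.projHom h * Forms.KleinPSL.projHom w =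
        Forms.KleinPSL.projHom w * Forms.KleinPSL.projHom h → h * w = w * h := by
    intro w hw e
    rw [← map_mul, ← map_mul, Forms.KleinPSL.proj_eq_proj_iff] at e
    rcases e with e | e
    · exact e.symm
    · exfalso
      have e1 : SemiconjBy h w (-w) := by
        show h * w = -w * h
        rw [neg_mul, e, neg_neg]
      have e3 : h * (-w) = w * h := by rw [mul_neg, e1.eq, neg_mul, neg_neg]
      have e6 : Commute (h * h) w := by
        show h * h * w = w * (h * h)
        rw [mul_assoc, e1.eq, ← mul_assoc, e3, mul_assoc]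
      have e2 : ∀ i : ℕ, h ^ (2 * i + 1) * w = -w * h ^ (2 * i + 1) := fun i => by
        rw [pow_succ', pow_mul, pow_two, mul_assoc, (e6.pow_left i).eq, ← mul_assoc, e1.eq, mul_assoc]
      have e4 := e2 j
      rw [← hj, hhn, one_mul, mul_one] at e4
      have e5 : w * 1 = w * -1 := by rw [mul_one, mul_neg, mul_one]; exact e4
      exact hn1 (mul_left_cancel e5).symm
  have hx' := hcomm hx (by rw [hh]; exact hka)
  have hy' := hcomm hy (by rw [hh]; exact hkb)
  -- `h` is scalar
  have ht := Forms.KleinPSL.tr_sq_ne_four h2 hx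
  obtain ⟨s, t, hst⟩ := Linear.exists_coord (Linear.nonScalar_of_trace ht)
    (congrArg (fun g : SL(2, F) => g.1) hx').symm
  set A : Matrix (Fin 2) (Fin 2) F := (x : SL(2, F)).1
  set B : Matrix (Fin 2) (Fin 2) F := (y : SL(2, F)).1
  have hBA : B * A = -(A * B) := by
    have e := congrArg (fun g : SL(2, F) => g.1) hyx
    simpa using e
  have hhB : h.1 * B = B * h.1 := congrArg (fun g : SL(2, F) => g.1) hy'
  rw [hst, add_mul, mul_add, smul_mul_assoc, smul_mul_assoc, mul_smul_comm, mul_smul_comm, one_mul,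
    mul_one, hBA, smul_neg] at hhB
  have h3 : (2 * t) • (A * B) = 0 := by
    rw [mul_smul, two_smul]
    linear_combination (norm := abel) hhB
  have ht0 : t = 0 := by
    rcases smul_eq_zero.1 h3 with e | e
    · exact (mul_eq_zero.1 e).resolve_left h2
    · exfalso
      have hd : (A * B).det = 1 := by rw [Matrix.det_mul]; simp [A, B, x.2, y.2]
      rw [e, Matrix.det_zero] at hd
      · exact zero_ne_one hd
  rw [ht0, zero_smul, add_zero] at hst
  have hs : s ^ 2 = 1 := by
    have e := h.2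
    rw [hst, Matrix.det_smul, Matrix.det_one, Fintype.card_fin, mul_one] at e
    exact e
  have hpm : h = 1 ∨ h = -1 := by
    rcases eq_or_eq_neg_of_sq_eq_sq s 1 (by rw [hs, one_pow]) with e | e
    · left; apply Subtype.ext; rw [hst, e, one_smul]; rfl
    · right; apply Subtype.ext; rw [hst, e]; simp
  show Forms.KleinPSL.projHom h0 = 1
  rw [← hh, Forms.KleinPSL.proj_eq_one_iff']
  exact hpm

end CfsgLib.GW
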