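import Cfsg.Agent.Linear.SL2Sylow
import Cfsg.Agent.SL2Trace.Basic
import Cfsg.Agent.Forms.KleinPSL

/-!
# Centralisers of torus elements of `PSL(2,q)`

An element of odd prime order `r`, `r ∤ q`, has cyclic centraliser in `PSL(2,q)`, so it commutes
with at most one involution.
-/

set_option autoImplicit false

namespace CfsgLib.GW

open Subgroup CfsgLib.SL2Trace
open scoped MatrixGroups

variable {F : Type*} [Field F] [Fintype F]

/-- The centraliser of an element of odd prime order prime to `q` is cyclic. -/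
theorem isCyclic_centralizer_psl (hF : Odd (Fintype.card F)) {r : ℕ} (hr : r.Prime) (hr2 : r ≠ 2)
    (hrq : ¬ r ∣ Fintype.card F) (y : Matrix.ProjectiveSpecialLinearGroup (Fin 2) F)
    (hy : orderOf y = r) :
    IsCyclic (centralizer ({y} : Set (Matrix.ProjectiveSpecialLinearGroup (Fin 2) F))) := by
  haveI : Fact r.Prime := ⟨hr⟩
  obtain ⟨k, hp, hk⟩ := FiniteField.card F (ringChar F)
  haveI : Fact (ringChar F).Prime := ⟨hp⟩
  have hp2 : ringChar F ≠ 2 := fun h => by
    rw [hk, h] at hF
    exact absurd hF (Nat.not_odd_iff_even.2 (Nat.even_pow.2 ⟨even_two, k.pos.ne'⟩))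
  have hrp : r ≠ ringChar F := fun h => hrq (by rw [hk, ← h]; exact dvd_pow_self r k.pos.ne')
  let π : SL(2, F) →* Matrix.ProjectiveSpecialLinearGroup (Fin 2) F :=
    QuotientGroup.mk' (center SL(2, F))
  have hπ : ∀ g, proj g = π g := fun _ => rfl
  have hne : (-1 : SL(2, F)) ≠ 1 := fun h => Ring.neg_one_ne_one_of_char_ne_two hp2 (by
    simpa using congrArg (fun g : SL(2, F) => g.1 0 0) h)
  have hro : Odd r := hr.odd_of_ne_two hr2
  obtain ⟨g, hgy, hg⟩ : ∃ g : SL(2, F), proj g = y ∧ g ^ r = 1 := by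
    obtain ⟨g, hg⟩ := proj_surjective (F := F) y
    have h1 : proj (g ^ r) = 1 := by rw [hπ, map_pow, ← hπ, hg, ← hy, pow_orderOf_eq_one]
    rcases (proj_eq_one_iff _).1 h1 with h | h
    · exact ⟨g, hg, h⟩
    · exact ⟨-g, (proj_neg g).trans hg, by rw [hro.neg_pow, h, neg_neg]⟩
  have hgo : orderOf g = r := by
    refine orderOf_eq_prime hg fun h => hr.one_lt.ne' ?_
    rw [← hy, ← hgy, h, hπ, map_one, orderOf_one]
  haveI : IsCyclic (centralizer ({g} : Set SL(2, F))) :=
    Linear.isCyclic_centralizer g (Linear.trace_sq_ne_four (ringChar F) hr2 hrp g hgo)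
  -- the centraliser of `y` is the image of the centraliser of `g`
  have hle : centralizer ({y} : Set _) ≤ (centralizer ({g} : Set SL(2, F))).map π := by
    intro w hw
    obtain ⟨h, rfl⟩ := proj_surjective (F := F) w
    refine ⟨h, mem_centralizer_singleton_iff.2 (mul_inv_eq_iff_eq_mul.1 ?_), rfl⟩
    have h1 : proj (h * g * h⁻¹ * g⁻¹) = 1 := by
      rw [hπ, map_mul, map_mul, map_mul, map_inv, map_inv, ← hπ, ← hπ, hgy, mem_centralizer_singleton_iff.1 hw,
        mul_inv_cancel_right, mul_inv_cancel]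
    rcases (proj_eq_one_iff _).1 h1 with h2 | h2
    · exact mul_inv_eq_one.1 h2
    · exfalso
      refine hne ?_
      have h3 : h * g * h⁻¹ = -g := by rw [mul_inv_eq_iff_eq_mul.1 h2, neg_one_mul]
      have h4 : (h * g * h⁻¹) ^ r = 1 := by rw [conj_pow, hg, mul_one, mul_inv_cancel]
      rw [h3, hro.neg_pow, hg] at h4
      exact h4
  haveI : IsCyclic ((centralizer ({g} : Set SL(2, F))).map π) :=
    isCyclic_of_surjective (π.subgroupMap (centralizer ({g} : Set SL(2, F))))
      (MonoidHom.subgroupMap_surjective π _)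
  exact isCyclic_of_injective (Subgroup.inclusion hle) (Subgroup.inclusion_injective hle)

/-- Two involutions commuting with the same torus element of a group `PSL(2,q)` are equal. -/
theorem eq_of_commute_torus {L : Type*} [Group L]
    (e : L ≃* Matrix.ProjectiveSpecialLinearGroup (Fin 2) F) (hF : Odd (Fintype.card F)) {r : ℕ}
    (hr : r.Prime) (hr2 : r ≠ 2) (hrq : ¬ r ∣ Fintype.card F) {y w w' : L} (hy : orderOf y = r)
    (hw : orderOf w = 2) (hw' : orderOf w' = 2) (h : w * y = y * w) (h' : w' * y = y * w') :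
    w = w' := by
  classical
  haveI := isCyclic_centralizer_psl hF hr hr2 hrq (e y) (by rw [MulEquiv.orderOf_eq, hy])
  set C := centralizer ({e y} : Set (Matrix.ProjectiveSpecialLinearGroup (Fin 2) F))
  haveI : Fintype C := Fintype.ofFinite C
  have hm : ∀ v : L, v * y = y * v → e v ∈ C := fun v hv =>
    mem_centralizer_singleton_iff.2 (by rw [← map_mul, hv, map_mul])
  by_contra hne
  have hs : ({1, ⟨e w, hm w h⟩, ⟨e w', hm w' h'⟩} : Finset C) ⊆
      Finset.univ.filter fun a => a ^ 2 = 1 := by
    intro a ha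
    simp only [Finset.mem_insert, Finset.mem_singleton] at ha
    simp only [Finset.mem_filter, Finset.mem_univ, true_and]
    rcases ha with rfl | rfl | rfl
    · exact one_pow 2
    · exact Subtype.ext (by
        rw [SubmonoidClass.coe_pow, ← map_pow, orderOf_dvd_iff_pow_eq_one.1 hw.dvd, map_one,
          OneMemClass.coe_one])
    · exact Subtype.ext (by
        rw [SubmonoidClass.coe_pow, ← map_pow, orderOf_dvd_iff_pow_eq_one.1 hw'.dvd, map_one,
          OneMemClass.coe_one])
  have h3 := (Finset.card_le_card hs).trans (IsCyclic.card_pow_eq_one_le two_pos)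
  rw [Finset.card_insert_of_notMem, Finset.card_pair] at h3
  · omega
  · intro he
    exact hne (e.injective (congrArg Subtype.val he))
  · simp only [Finset.mem_insert, Finset.mem_singleton, not_or]
    constructor
    · intro he
      have : w = 1 := e.injective (by rw [map_one]; exact (congrArg Subtype.val he).symm)
      rw [this, orderOf_one] at hw
      omega
    · intro he
      have : w' = 1 := e.injective (by rw [map_one]; exact (congrArg Subtype.val he).symm)
      rw [this, orderOf_one] at hw'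
      omega

/-- The centraliser of an involution of `PSL(2,q)` has order `q - ε`, `q ≡ ε mod 4`. -/
theorem card_centralizer_involution_psl (hF : Odd (Fintype.card F))
    {a : Matrix.ProjectiveSpecialLinearGroup (Fin 2) F} (ha : orderOf a = 2) :
    (Fintype.card F % 4 = 1 ∧ Nat.card (centralizer ({a} : Set _)) = Fintype.card F - 1) ∨
      (Fintype.card F % 4 = 3 ∧ Nat.card (centralizer ({a} : Set _)) = Fintype.card F + 1) := by
  classical
  have h2 : (2 : F) ≠ 0 := fun h => by
    obtain ⟨k, hk⟩ := hF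
    have h0 := Nat.cast_card_eq_zero F
    rw [hk, Nat.cast_add, Nat.cast_mul, Nat.cast_ofNat, h, zero_mul, zero_add, Nat.cast_one] at h0
    exact one_ne_zero h0
  have ha1 : a ≠ 1 := fun h => by rw [h, orderOf_one] at ha; omega
  have haa : a * a = 1 := by rw [← pow_two, orderOf_dvd_iff_pow_eq_one.1 ha.dvd]
  obtain ⟨x, rfl, hx⟩ := Forms.KleinPSL.exists_lift_of_orderOf_two h2 ha1 haa
  set π : SL(2, F) →* Matrix.ProjectiveSpecialLinearGroup (Fin 2) F := Forms.KleinPSL.projHom
  have hπ : Function.Surjective π := QuotientGroup.mk'_surjective _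
  set C := centralizer ({π x} : Set (Matrix.ProjectiveSpecialLinearGroup (Fin 2) F))
  set P := C.comap π
  have hmemP : ∀ y, y ∈ P ↔ y * x = x * y ∨ y * x = -(x * y) := fun y => by
    rw [mem_comap, mem_centralizer_singleton_iff, ← map_mul, ← map_mul]
    exact (Forms.KleinPSL.proj_eq_proj_iff).trans
      (or_congr eq_comm ⟨fun h => by rw [h, neg_neg], fun h => by rw [h, neg_neg]⟩)
  -- `|P| = 2 |C|`
  have hP : Nat.card P = 2 * Nat.card C := by
    have h1 := P.card_mul_index
    have h2' := C.card_mul_index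
    rw [index_comap_of_surjective C hπ] at h1
    have h3 : 2 * Nat.card (Matrix.ProjectiveSpecialLinearGroup (Fin 2) F) = Nat.card SL(2, F) := by
      rw [Linear.card_PSL_two_odd hF, Linear.card_SL_two]
    rw [← h1, ← h2', ← mul_assoc] at h3
    exact (Nat.eq_of_mul_eq_mul_right (Nat.pos_of_ne_zero index_ne_zero_of_finite) h3).symm
  -- `C_SL(x)` has index two in `P`
  set C1 := centralizer ({x} : Set SL(2, F))
  have hC1 : C1 ≤ P := fun y hy => (hmemP y).2 (Or.inl (mem_centralizer_singleton_iff.1 hy))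
  have hi : (C1.subgroupOf P).index = 2 := by
    obtain ⟨u, -, hu⟩ := Inv53.sl2_exists_invert h2 hx
    have hux : u * x = -(x * u) := by
      rw [mul_inv_eq_iff_eq_mul.1 hu, Forms.KleinPSL.inv_eq_neg hx, neg_mul]
    have hne : ∀ v : SL(2, F), v ≠ -v := fun v h => by
      have h1 : v * 1 = v * -1 := by rw [mul_one, mul_neg, mul_one]; exact h
      exact Forms.KleinPSL.neg_one_ne_one h2 (mul_left_cancel h1).symm
    refine index_eq_two_iff.2 ⟨⟨u, (hmemP u).2 (Or.inr hux)⟩, fun b => ?_⟩
    simp only [mem_subgroupOf, C1, mem_centralizer_singleton_iff, Subgroup.coe_mul]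
    rcases (hmemP b).1 b.2 with hb | hb
    · refine Or.inr ⟨hb, fun h => hne (x * ((b : SL(2, F)) * u)) ?_⟩
      calc x * ((b : SL(2, F)) * u) = (b : SL(2, F)) * u * x := h.symm
        _ = -(x * ((b : SL(2, F)) * u)) := by
            rw [mul_assoc, hux, mul_neg, ← mul_assoc, hb, mul_assoc]
    · refine Or.inl ⟨?_, fun h => hne (x * (b : SL(2, F))) (h.symm.trans hb)⟩
      rw [mul_assoc, hux, mul_neg, ← mul_assoc, hb, neg_mul, neg_neg, mul_assoc]
  have hcard : Nat.card C = Nat.card C1 := by
    have h := (C1.subgroupOf P).card_mul_index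
    rw [hi, hP, Nat.card_congr (subgroupOfEquivOfLe hC1).toEquiv] at h
    omega
  obtain ⟨k, hk⟩ := hF
  rcases (show Fintype.card F % 4 = 1 ∨ Fintype.card F % 4 = 3 by omega) with hq | hq
  · exact Or.inl ⟨hq, hcard.trans (Forms.KleinPSL.card_centralizer_one h2 hx hq)⟩
  · exact Or.inr ⟨hq, hcard.trans (Forms.KleinPSL.card_centralizer_three h2 hx hq)⟩

end CfsgLib.GW
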