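import Cfsg.Agent.GW.TwistExists

/-!
# Gorenstein–Walter 4.1: plane, twist, or the extraspecial irreducible case

`case_split`: either a plane containing `X` is normal in `C = C(z)`, or `C` has a linear twist, or
`Y` is of order `r³`, `U` centralises its centre `Z` and no proper `C`-invariant subgroup lies
strictly between `Z` and `Y`.
-/

set_option autoImplicit false

open Subgroup
open scoped commutatorElement

namespace CfsgLib.GW

variable {G : Type*} [Group G] [Finite G]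

/-- The remaining extraspecial case. -/
structure Irred (z : G) (U R X : Subgroup G) (r : ℕ) (b : G) (Z Y : Subgroup G) : Prop
    extends Moved (centralizer ({z} : Set G)) R X r b Z Y where
  cardY : Nat.card Y = r ^ 3
  hXY : X ≤ Y
  hUZ : ∀ u ∈ U, ∀ w ∈ Z, u * w = w * u
  hirr : ∀ L : Subgroup G, Z < L → L < Y → ¬ centralizer ({z} : Set G) ≤ normalizer (L : Set G)

/-- The split of case 4.1. -/
theorem case_split {z b : G} {U N R X : Subgroup G} {r : ℕ}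
    (hF : Tw.Frame z U) (h : LineData (centralizer ({z} : Set G)) N R X r b) (hRU : R ≤ U)
    (T : Sylow 2 G) (hT : (T : Subgroup G) ≤ centralizer ({z} : Set G))
    (hTR : ∀ t ∈ (T : Subgroup G),
      (∀ y ∈ R, t * y = y * t) ∨ ∀ y ∈ R, (b * t) * y = y * (b * t)) :
    (∃ E : Subgroup G, Nat.card E = r ^ 2 ∧ X ≤ E ∧ E ≤ R ⊓ N ∧
        centralizer ({z} : Set G) ≤ normalizer (E : Set G)) ∨
      ((∃ L : Tw.Lin z, (∀ c : centralizer ({z} : Set G), c * c = 1 → L c = 1) ∧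
          ∃ v ∈ U, Tw.lv L v ≠ 1) ∧
        ∃ P : Subgroup G, P ≤ R ∧ centralizer ({z} : Set G) ≤ normalizer (P : Set G) ∧
          (∀ y ∈ P, b * y * b⁻¹ = y⁻¹) ∧ ∃ u ∈ U, ∃ y ∈ P, u * y ≠ y * u) ∨
      ∃ Z Y : Subgroup G, Irred z U R X r b Z Y := by
  classical
  haveI : Fact r.Prime := ⟨h.hr⟩
  have hodd : ∀ S : Subgroup G, S ≤ R → Odd (Nat.card S) := fun S hS =>
    hF.odd.of_dvd_nat (card_dvd_of_le (hS.trans hRU))
  have hTS : ∀ S : Subgroup G, S ≤ R → ∀ t ∈ (T : Subgroup G),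
      (∀ y ∈ S, t * y * t⁻¹ = y) ∨ ∀ y ∈ S, (b * t) * y * (b * t)⁻¹ = y := fun S hS t ht =>
    (hTR t ht).imp (fun e y hy => by rw [e y (hS hy), mul_inv_cancel_right])
      (fun e y hy => by rw [e y (hS hy), mul_inv_cancel_right])
  obtain ⟨x₀, hx₀, hx₀1⟩ : ∃ x ∈ X, x ≠ 1 := by
    by_contra hcon
    push Not at hcon
    have := h.hr.one_lt
    rw [← h.hX, (eq_bot_iff.2 fun x hx => mem_bot.2 (hcon x hx) : X = ⊥), card_bot] at this
    omega
  have hXgen : zpowers x₀ = X := eq_of_le_of_card_ge (zpowers_le.2 hx₀) (by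
    rw [Nat.card_zpowers, orderOf_eq_prime (h.pow_X _ hx₀) hx₀1, h.hX])
  have hmoves : ∀ S : Subgroup G, ¬ S ≤ centralizer (X : Set G) →
      ¬ ∀ y ∈ S, x₀ * y * x₀⁻¹ = y := fun S hS e => hS fun y hy => by
    rw [← hXgen, mem_centralizer_iff]
    rintro _ ⟨k, rfl⟩
    exact ((show Commute x₀ y from mul_inv_eq_iff_eq_mul.1 (e y hy)).zpow_left k).eq
  have hwit : ∀ S : Subgroup G, ¬ S ≤ centralizer (X : Set G) →
      ∃ u ∈ U, ∃ y ∈ S, u * y ≠ y * u := fun S hS => by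
    by_contra hcon
    push Not at hcon
    exact hmoves S hS fun y hy =>
      mul_inv_eq_iff_eq_mul.2 (hcon x₀ (hRU (h.hXR hx₀)) y hy)
  rcases h.split with hE | ⟨Z, Y, hm⟩
  · exact Or.inl hE
  rcases hm.shape with ⟨-, hinv⟩ | ⟨hY3, hXY⟩
  · exact Or.inr (Or.inl ⟨exists_twist hF T hT (hTS Y hm.hYR) hm.hYC (hodd Y hm.hYR) hinv
      (hRU (h.hXR hx₀)) (hmoves Y hm.hmoved), Y, hm.hYR, hm.hYC, hinv,
      hwit Y hm.hmoved⟩)
  by_cases hUZ : ∀ u ∈ U, ∀ w ∈ Z, u * w = w * u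
  swap
  · push Not at hUZ
    obtain ⟨u, hu, w, hw, hne⟩ := hUZ
    exact Or.inr (Or.inl ⟨exists_twist hF T hT (hTS Z (hm.hZY.trans hm.hYR)) hm.hZC
      (hodd Z (hm.hZY.trans hm.hYR)) hm.hbZ hu fun e => hne (mul_inv_eq_iff_eq_mul.1 (e w hw)),
      Z, hm.hZY.trans hm.hYR, hm.hZC, hm.hbZ, u, hu, w, hw, hne⟩)
  by_cases hirr : ∀ L : Subgroup G, Z < L → L < Y →
      ¬ centralizer ({z} : Set G) ≤ normalizer (L : Set G)
  · exact Or.inr (Or.inr ⟨Z, Y, { hm with cardY := hY3, hXY := hXY, hUZ := hUZ, hirr := hirr }⟩)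
  push Not at hirr
  obtain ⟨L, hZL, hLY, hLC⟩ := hirr
  have hLR : L ≤ R := hLY.le.trans hm.hYR
  have hL2 : Nat.card L = r ^ 2 := by
    obtain ⟨n, hn⟩ := (h.hRp.to_le hLR).exists_card_eq
    refine card_eq_sq h.hr hn hm.hZ hZL ?_
    have h1 : Nat.card L < r ^ 3 := hY3 ▸ lt_of_le_of_ne (card_le_of_le hLY.le)
      fun h' => hLY.ne (eq_of_le_of_card_ge hLY.le h'.ge)
    rw [hn] at h1 ⊢
    exact Nat.pow_le_pow_right h.hr.pos (Nat.lt_succ_iff.1 ((Nat.pow_lt_pow_iff_right h.hr.one_lt).1 h1))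
  have hexp : ∀ y ∈ L, y ^ r = 1 := fun y hy => hm.hexp y (hLY.le hy)
  have hXN : X ≤ R ⊓ N := le_inf h.hXR (le_normalizer.trans h.hNX)
  have hZN : Z ≤ R ⊓ N := fun x hx => ⟨hm.hYR (hm.hZY hx), h.fix_le_N ⟨hm.hYR (hm.hZY hx),
    mem_centralizer_iff.2 fun y hy => (hm.hZR x hx y (h.hXR hy)).symm⟩⟩
  have hbr : ∀ y ∈ L, b * y * b⁻¹ ∈ L := fun y hy => (mem_normalizer_iff.1 (hLC h.hbC) y).1 hy
  -- if `L` commutes with `X` it is the plane
  by_cases hLX : L ≤ centralizer (X : Set G)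
  · left
    have hLN : L ≤ R ⊓ N := le_inf hLR fun y hy => h.fix_le_N ⟨hLR hy, hLX hy⟩
    have he : X ⊔ L = L := by
      refine (eq_of_le_of_card_ge le_sup_right ?_).symm
      rw [hL2]
      exact h.card_le_sq (sup_le hXN hLN) (h.exponent_sup hXN hLN h.pow_X hexp)
    exact ⟨L, hL2, he ▸ le_sup_left, hLN, hLC⟩
  right; left
  have hab : ∀ x ∈ L, ∀ y ∈ L, x * y = y * x := fun x hx y hy =>
    congrArg Subtype.val ((IsPGroup.isMulCommutative_of_card_eq_prime_sq hL2).is_comm.comm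
      (⟨x, hx⟩ : L) ⟨y, hy⟩)
  suffices hinvL : ∀ y ∈ L, b * y * b⁻¹ = y⁻¹ from
    ⟨exists_twist hF T hT (hTS L hLR) hLC (hodd L hLR) hinvL (hRU (h.hXR hx₀)) (hmoves L hLX),
      L, hLR, hLC, hinvL, hwit L hLX⟩
  intro y hy
  -- the fixed part `L ∩ X` is trivial
  have hbi : b⁻¹ = b := inv_eq_of_mul_eq_one_right h.hb
  have hy' := hbr y hy
  refine eq_inv_of_mul_eq_one_left ?_
  by_contra hne
  have hwX := h.hfix _ (hLR (mul_mem hy' hy)) (by
    have e := hab _ hy _ hy'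
    rw [hbi] at e ⊢
    calc b * (b * y * b * y) = (b * b) * (y * b * y) := by group
      _ = y * b * y * (b * b) := by rw [h.hb, one_mul, mul_one]
      _ = y * (b * y * b) * b := by group
      _ = b * y * b * y * b := by rw [e]) (hexp _ (mul_mem hy' hy))
  refine hLX fun y' hy'' => ?_
  rw [← eq_of_le_of_card_ge (zpowers_le.2 hwX : zpowers (b * y * b⁻¹ * y) ≤ X) (by
    rw [Nat.card_zpowers, orderOf_eq_prime (hexp _ (mul_mem hy' hy)) hne, h.hX]), mem_centralizer_iff]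
  rintro _ ⟨k, rfl⟩
  exact hab _ (zpow_mem (mul_mem hy' hy) k) y' hy''

end CfsgLib.GW
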