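import Cfsg.Agent.GW.CentralizerCount
import Cfsg.Agent.GW.PSLTorus
import Cfsg.Agent.FusionSub.PSLTwo

/-!
# Gorenstein–Walter 4.1 (I) in the situation of a component

`N` contains `O × K` with `O` odd, `K ≅ PSL₂(q)` and odd index: every involution of `N` lies in `K`,
so the count of `CentralizerCount` applies.
-/

set_option autoImplicit false

open Subgroup
open scoped Pointwise

namespace CfsgLib.GW

universe u

variable {G : Type u} [Group G] [Finite G]

/-- The involutions of `N` lie in `K`. -/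
theorem involution_mem_component {N O K : Subgroup G} (hON : O ≤ N) (hKN : K ≤ N)
    (hOn : N ≤ normalizer (O : Set G)) (hKn : N ≤ normalizer (K : Set G))
    (hOodd : Odd (Nat.card O)) (hcomm : ∀ o ∈ O, ∀ k ∈ K, o * k = k * o)
    (hidx : Odd ((O ⊔ K).relIndex N)) {w : G} (hw : w ∈ N) (hw2 : orderOf w = 2) : w ∈ K := by
  haveI hn : ((O ⊔ K).subgroupOf N).Normal := by
    refine normal_subgroupOf_of_le_normalizer (le_trans ?_ (normalizer_inf_normalizer_le_normalizer_sup
      (H := O) (K := K)))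
    exact le_inf hOn hKn
  have hwM : w ∈ O ⊔ K := by
    have h := pow_index_mem ((O ⊔ K).subgroupOf N) ⟨w, hw⟩
    rw [mem_subgroupOf, SubmonoidClass.coe_pow] at h
    rw [show ((O ⊔ K).subgroupOf N).index = (O ⊔ K).relIndex N from rfl] at h
    obtain ⟨k, hk⟩ := hidx
    rw [hk, pow_succ, pow_mul, orderOf_dvd_iff_pow_eq_one.1 hw2.dvd, one_pow, one_mul] at h
    exact h
  have hle : O ≤ normalizer (K : Set G) := hON.trans hKn
  obtain ⟨o, ho, k, hk, rfl⟩ : ∃ o ∈ O, ∃ k ∈ K, o * k = w := by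
    have h := coe_mul_of_left_le_normalizer_right O K hle
    obtain ⟨o, ho, k, hk, e⟩ := Set.mem_mul.1 (h ▸ hwM : w ∈ (O : Set G) * (K : Set G))
    exact ⟨o, ho, k, hk, e⟩
  have hp : (o * k) ^ Nat.card O = k ^ Nat.card O := by
    rw [(show Commute o k from hcomm o ho k hk).mul_pow,
      orderOf_dvd_iff_pow_eq_one.1 (O.orderOf_dvd_natCard ho), one_mul]
  obtain ⟨j, hj⟩ := hOodd
  rw [hj, pow_succ, pow_mul, orderOf_dvd_iff_pow_eq_one.1 hw2.dvd, one_pow, one_mul] at hp
  rw [hp]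
  exact pow_mem hk _

/-- Case (I) of 4.1 for a component `K ≅ PSL₂(q)`. -/
theorem Minimal.false_of_component_plane {z : G} (hG : Minimal G) (hz : orderOf z = 2)
    {N O K X E : Subgroup G} {F : Type} [Field F] [Fintype F]
    (e : K ≃* Matrix.ProjectiveSpecialLinearGroup (Fin 2) F) (hF : Odd (Fintype.card F))
    (hON : O ≤ N) (hKN : K ≤ N) (hOn : N ≤ normalizer (O : Set G))
    (hKn : N ≤ normalizer (K : Set G)) (hOodd : Odd (Nat.card O))
    (hcomm : ∀ o ∈ O, ∀ k ∈ K, o * k = k * o) (hidx : Odd ((O ⊔ K).relIndex N))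
    (hzK : z ∈ K) (S : Sylow 2 G) (hSN : (S : Subgroup G) ≤ N)
    (hS : ∀ s ∈ (S : Subgroup G), s * z = z * s)
    (hfix : ∀ b : G, orderOf b = 2 → b ≠ z → z * b = b * z →
      Nat.card (fix z b) = K.relIndex N)
    {r : ℕ} (hr : r.Prime) (hr2 : Odd r) (hX : Nat.card X = r) (hE : Nat.card E = r ^ 2)
    (hXO : X ≤ O) (hXE : X ≤ E) (hEz : E ≤ centralizer ({z} : Set G))
    (hy : ∃ o ∈ O, ∃ k ∈ K, o * k ∈ E ∧ orderOf k = r)
    (hCE : centralizer ({z} : Set G) ≤ normalizer (E : Set G))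
    (hNX : normalizer (X : Set G) ≤ N) (hC : ¬ centralizer ({z} : Set G) ≤ N) : False := by
  set C := centralizer ({z} : Set G) with hCdef
  have hinK : ∀ w ∈ N, orderOf w = 2 → w ∈ K := fun w hw hw2 =>
    involution_mem_component hON hKN hOn hKn hOodd hcomm hidx hw hw2
  have hr' : r ≠ 2 := fun h => by rw [h] at hr2; exact absurd hr2 (by decide)
  obtain ⟨o, ho, k, hk, hokE, hko⟩ := hy
  have hkz : z * k = k * z := by
    have h1 := mem_centralizer_singleton_iff.1 (hEz hokE)
    refine mul_left_cancel (a := o) ?_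
    rw [← mul_assoc, ← mul_assoc o k, h1, hcomm o ho z hzK, mul_assoc]
  -- the order of `C_K(z)`
  set zK : K := ⟨z, hzK⟩
  have hzo : orderOf zK = 2 := by rw [← Subgroup.orderOf_coe]; exact hz
  set m := Nat.card (centralizer ({zK} : Set K)) with hm
  set q := Fintype.card F with hq
  have hm' : m = Nat.card (centralizer ({e zK} : Set (Matrix.ProjectiveSpecialLinearGroup (Fin 2) F))) := by
    refine Nat.card_congr (Equiv.subtypeEquiv e.toEquiv fun a => ?_)
    rw [mem_centralizer_singleton_iff, mem_centralizer_singleton_iff]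
    show _ ↔ e a * e zK = e zK * e a
    rw [← map_mul, ← map_mul, e.injective.eq_iff]
  obtain ⟨p, hmp, h4⟩ : ∃ p, ((m = q + 1 ∧ p + 1 = q) ∨ (m + 1 = q ∧ p = q + 1)) ∧ 4 ∣ m := by
    rcases card_centralizer_involution_psl hF (a := e zK) (by rw [MulEquiv.orderOf_eq, hzo]) with
      ⟨h1, h2⟩ | ⟨h1, h2⟩
    · exact ⟨q + 1, Or.inr ⟨by omega, rfl⟩, by omega⟩
    · exact ⟨q - 1, Or.inl ⟨by omega, by omega⟩, by omega⟩
  have hrm : r ∣ m := by
    rw [← hko, hm]
    have := orderOf_dvd_natCard (⟨⟨k, hk⟩, mem_centralizer_singleton_iff.2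
      (Subtype.ext hkz.symm)⟩ : centralizer ({zK} : Set K))
    rwa [← Subgroup.orderOf_coe, ← Subgroup.orderOf_coe] at this
  have hrq : ¬ r ∣ q := fun h => hr.one_lt.ne' (Nat.eq_one_of_dvd_one (by
    rcases hmp with ⟨h1, -⟩ | ⟨h1, -⟩
    · exact (Nat.dvd_add_right h).1 (h1 ▸ hrm)
    · exact (Nat.dvd_add_right hrm).1 (h1 ▸ h)))
  have hm0 : 0 < m := Nat.card_pos
  have h4r : 4 * r ≤ m := Nat.le_of_dvd hm0 (Nat.Coprime.mul_dvd_of_dvd_of_dvd
    (Nat.Coprime.pow_left 2 ((Nat.coprime_primes Nat.prime_two hr).2 hr'.symm)) h4 hrm)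
  -- one class of involutions in `K`
  have hclass : ∀ w : K, orderOf w = 2 → IsConj zK w := fun w hw => by
    obtain ⟨c, hc⟩ := isConj_iff.1 (FusionSub.isConj_involutions_PSL_two hF
      (x := e zK) (y := e w) (by rw [MulEquiv.orderOf_eq, hzo]) (by rw [MulEquiv.orderOf_eq, hw]))
    refine isConj_iff.2 ⟨e.symm c, e.injective ?_⟩
    rw [map_mul, map_mul, map_inv, e.apply_symm_apply, hc]
  have hzN : z ∈ N := hKN hzK
  have hrel : C.relIndex N = (centralizer ({zK} : Set K)).index := by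
    rw [← card_class_eq_relIndex (⟨z, hzN⟩ : N)]
    have h1 : Nat.card {w : K // IsConj zK w} = (centralizer ({zK} : Set K)).index := by
      rw [card_class_eq_relIndex zK]
      refine congrArg Subgroup.index (Subgroup.ext fun a => ?_)
      rw [mem_subgroupOf, mem_centralizer_singleton_iff, mem_centralizer_singleton_iff,
        Subtype.ext_iff]
      rfl
    rw [← h1]
    refine Nat.card_congr
      { toFun := fun w => ⟨⟨w.1, hinK _ w.1.2 ?_⟩, hclass _ ?_⟩
        invFun := fun w => ⟨⟨w.1, hKN w.1.2⟩, ?_⟩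
        left_inv := fun w => rfl
        right_inv := fun w => rfl }
    · obtain ⟨c, hc⟩ := isConj_iff.1 w.2
      rw [← hc]
      simpa [Small.orderOf_conj_eq] using hz
    · rw [← Subgroup.orderOf_coe]
      obtain ⟨c, hc⟩ := isConj_iff.1 w.2
      show orderOf (w.1 : G) = 2
      rw [← hc]
      simpa [Small.orderOf_conj_eq] using hz
    · obtain ⟨c, hc⟩ := isConj_iff.1 w.2
      refine isConj_iff.2 ⟨⟨c, hKN c.2⟩, Subtype.ext ?_⟩
      rw [← hc]
      rfl
  set a := K.relIndex N with ha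
  have hKcard : 2 * Nat.card K = q * m * p := by
    rw [Nat.card_congr e.toEquiv, Linear.card_PSL_two_odd hF, mul_assoc]
    congr 1
    rcases hmp with ⟨h1, h2⟩ | ⟨h1, h2⟩
    · rw [h1, show p = q - 1 by omega, ← Nat.sq_sub_sq, one_pow]
    · rw [h2, show m = q - 1 by omega, mul_comm, ← Nat.sq_sub_sq, one_pow]
  have hNK : Nat.card N = Nat.card K * a := by
    have h := relIndex_mul_relIndex ⊥ K N bot_le hKN
    rw [relIndex_bot_left, relIndex_bot_left] at h
    exact h.symm
  have hCN : Nat.card ↥(C ⊓ N) = a * m := by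
    have h := relIndex_mul_relIndex ⊥ (C ⊓ N) N bot_le inf_le_right
    rw [relIndex_bot_left, relIndex_bot_left, inf_relIndex_right, hrel, hNK,
      ← (centralizer ({zK} : Set K)).card_mul_index, ← hm] at h
    refine Nat.eq_of_mul_eq_mul_right (Nat.pos_of_ne_zero
      (index_ne_zero_of_finite (H := centralizer ({zK} : Set K)))) ?_
    rw [h]; ring
  have hinv : ∀ w ∈ N, orderOf w = 2 → ∀ x ∈ X, w * x = x * w := fun w hw hw2 x hx =>
    (hcomm x (hXO hx) w (hinK w hw hw2)).symm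
  refine false_of_plane hz hzN hr hr2 hX hE hXE hCE hNX hinv ?_
    (odd_relIndex_of_sylow_le S hSN fun s hs => mem_centralizer_singleton_iff.2 (hS s hs)) hC hmp
    (a := a) ?_ hCN h4r (hG.order_bound_of_fix hz hfix)
  · intro w hw hw2 hwE
    have hwK := hinK w hw hw2
    have hwk : w * k = k * w := by
      have h1 := hwE _ hokE
      refine mul_left_cancel (a := o) ?_
      rw [← mul_assoc, hcomm o ho w hwK, mul_assoc, h1, ← mul_assoc]
    exact congrArg Subtype.val (eq_of_commute_torus e hF hr hr' hrq (y := (⟨k, hk⟩ : K))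
      (w := (⟨w, hwK⟩ : K)) (w' := zK) (by rw [← Subgroup.orderOf_coe]; exact hko)
      (by rw [← Subgroup.orderOf_coe]; exact hw2) hzo (Subtype.ext hwk) (Subtype.ext hkz))
  · rw [hNK, ← mul_assoc, hKcard]; ring

end CfsgLib.GW
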