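import Cfsg.Agent.GW.CaseTwo
import Cfsg.Agent.GW.CountComponent
import Cfsg.Agent.GW.TwistMain
import Cfsg.Agent.GW.TwistTest
import Cfsg.Agent.GW.PSLKlein

/-!
# Gorenstein–Walter 4.1 (II): the twist is impossible

In a maximal subgroup `N` with component `K ≅ PSL₂(q)` the cycling element of a four-group can be
taken in `K`; it centralises the fixed part, so every linear twist is fusion invariant and
`case_split` leaves only a plane or the irreducible extraspecial case.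
-/

set_option autoImplicit false
set_option linter.style.haveILetI false

open Subgroup
open scoped commutatorElement

namespace CfsgLib.GW

universe u

variable {G : Type u} [Group G] [Finite G]

omit [Finite G] in
/-- The cycling element taken in `K` centralises the fixed part. -/
theorem exists_centralizing_cycle {z b : G} {N K U : Subgroup G} {F : Type} [Field F] [Fintype F]
    (e : K ≃* Matrix.ProjectiveSpecialLinearGroup (Fin 2) F) (hF : Odd (Fintype.card F))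
    (hz : orderOf z = 2) (hb : orderOf b = 2) (hne : z ≠ b) (hzb : z * b = b * z)
    (hzK : z ∈ K) (hbK : b ∈ K) (hKn : N ≤ normalizer (K : Set G)) (hUodd : Odd (Nat.card U))
    (hUz : U ≤ centralizer ({z} : Set G))
    (hmem : ∀ c ∈ centralizer ({z} : Set G), Odd (orderOf c) → c ∈ U)
    (hWN : U ⊓ centralizer ({b} : Set G) ≤ N) :
    ∃ g ∈ K, g * z * g⁻¹ = b ∧ ∀ w ∈ U, w * b = b * w → g * w = w * g := by
  set zK : K := ⟨z, hzK⟩
  set bK : K := ⟨b, hbK⟩
  have hzo : orderOf (e zK) = 2 := by rw [MulEquiv.orderOf_eq, ← Subgroup.orderOf_coe]; exact hz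
  have hbo : orderOf (e bK) = 2 := by rw [MulEquiv.orderOf_eq, ← Subgroup.orderOf_coe]; exact hb
  have hne' : e zK ≠ e bK := fun h => hne (congrArg Subtype.val (e.injective h))
  have hzb' : e zK * e bK = e bK * e zK := by
    rw [← map_mul, ← map_mul]; exact congrArg e (Subtype.ext hzb)
  obtain ⟨g, hg1, hg2⟩ := exists_cycle_psl hF hzo hbo hne' hzb'
  set gK : K := e.symm g
  have e1 : gK * zK * gK⁻¹ = bK := e.injective (by
    rw [map_mul, map_mul, map_inv, e.apply_symm_apply, hg1])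
  have e2 : gK * bK * gK⁻¹ = zK * bK := e.injective (by
    rw [map_mul, map_mul, map_inv, e.apply_symm_apply, hg2, map_mul])
  have g1 : (gK : G) * z * (gK : G)⁻¹ = b := congrArg Subtype.val e1
  have g2 : (gK : G) * b * (gK : G)⁻¹ = z * b := congrArg Subtype.val e2
  refine ⟨gK, gK.2, g1, fun w hw hwb => ?_⟩
  set g₀ : G := (gK : G)
  have hwz : w * z = z * w := mem_centralizer_singleton_iff.1 (hUz hw)
  have hwzb : w * (z * b) = z * b * w := by rw [← mul_assoc, hwz, mul_assoc, hwb, mul_assoc]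
  -- `g⁻¹ w g` is again in the fixed part
  have a1 : g₀⁻¹ * w * g₀ * z = z * (g₀⁻¹ * w * g₀) := by
    calc g₀⁻¹ * w * g₀ * z = g₀⁻¹ * (w * (g₀ * z * g₀⁻¹)) * g₀ := by group
      _ = g₀⁻¹ * (w * b) * g₀ := by rw [g1]
      _ = g₀⁻¹ * ((g₀ * z * g₀⁻¹) * w) * g₀ := by rw [hwb, g1]
      _ = _ := by group
  have a2 : g₀⁻¹ * w * g₀ * b = b * (g₀⁻¹ * w * g₀) := by
    calc g₀⁻¹ * w * g₀ * b = g₀⁻¹ * (w * (g₀ * b * g₀⁻¹)) * g₀ := by group
      _ = g₀⁻¹ * (w * (z * b)) * g₀ := by rw [g2]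
      _ = g₀⁻¹ * ((g₀ * b * g₀⁻¹) * w) * g₀ := by rw [hwzb, g2]
      _ = _ := by group
  have hvU : g₀⁻¹ * w * g₀ ∈ U := hmem _ (mem_centralizer_singleton_iff.2 a1) (by
    rw [show g₀⁻¹ * w * g₀ = g₀⁻¹ * w * (g₀⁻¹)⁻¹ by group, Small.orderOf_conj_eq]
    exact hUodd.of_dvd_nat (U.orderOf_dvd_natCard hw))
  -- the commutator lies in `K ∩ U` and centralises the four-group
  set k : G := w⁻¹ * (g₀⁻¹ * w * g₀) with hk
  have hwN : w ∈ N := hWN ⟨hw, mem_centralizer_singleton_iff.2 hwb⟩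
  have hkK : k ∈ K := by
    have h1 : w⁻¹ * g₀⁻¹ * (w⁻¹)⁻¹ ∈ K :=
      (mem_normalizer_iff.1 (hKn (inv_mem hwN)) _).1 (inv_mem gK.2)
    have h2 : k = w⁻¹ * g₀⁻¹ * (w⁻¹)⁻¹ * g₀ := by rw [hk]; group
    rw [h2]
    exact mul_mem h1 gK.2
  have hkU : k ∈ U := mul_mem (inv_mem hw) hvU
  have hkz : k * z = z * k :=
    ((show Commute w z from hwz).inv_left.mul_left (show Commute (g₀⁻¹ * w * g₀) z from a1)).eq
  have hkb : k * b = b * k :=
    ((show Commute w b from hwb).inv_left.mul_left (show Commute (g₀⁻¹ * w * g₀) b from a2)).eq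
  have hk1 : e ⟨k, hkK⟩ = 1 := eq_one_of_commute_four_psl hF hzo hbo hne' hzb'
    (by rw [MulEquiv.orderOf_eq, ← Subgroup.orderOf_coe]
        exact hUodd.of_dvd_nat (U.orderOf_dvd_natCard hkU))
    (by rw [← map_mul, ← map_mul]; exact congrArg e (Subtype.ext hkz))
    (by rw [← map_mul, ← map_mul]; exact congrArg e (Subtype.ext hkb))
  have hk2 : k = 1 := congrArg Subtype.val ((MulEquiv.map_eq_one_iff e).1 hk1)
  have hv : g₀⁻¹ * w * g₀ = w := (inv_mul_eq_one.1 (hk ▸ hk2)).symm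
  calc g₀ * w = g₀ * (g₀⁻¹ * w * g₀) := by rw [hv]
    _ = w * g₀ := by group

/-- Case (II): no twist, so a plane or the irreducible extraspecial case. -/
theorem Minimal.caseTwo_split (hG : Minimal G) {z : G} (hz : orderOf z = 2)
    {N O K R X : Subgroup G} {F : Type} [Field F] [Fintype F]
    (e : K ≃* Matrix.ProjectiveSpecialLinearGroup (Fin 2) F) (hF : Odd (Fintype.card F))
    (hON : O ≤ N) (hKN : K ≤ N) (hOn : N ≤ normalizer (O : Set G))
    (hKn : N ≤ normalizer (K : Set G)) (hOodd : Odd (Nat.card O))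
    (hcomm : ∀ o ∈ O, ∀ k ∈ K, o * k = k * o) (hidx : Odd ((O ⊔ K).relIndex N)) (hzK : z ∈ K)
    (S : Sylow 2 G) (hSN : (S : Subgroup G) ≤ N) (hS : ∀ s ∈ (S : Subgroup G), s * z = z * s)
    (hW : ∀ b : G, orderOf b = 2 → b ∈ (S : Subgroup G) → b ≠ z →
      core z ⊓ centralizer ({b} : Set G) ≤ N)
    {σ τ : G} {k : ℕ} (hσS : σ ∈ (S : Subgroup G)) (hτS : τ ∈ (S : Subgroup G)) (hk : 1 ≤ k)
    (hσ : orderOf σ = 2 ^ k) (hτ : orderOf τ = 2) (hrel : τ * σ * τ⁻¹ = σ⁻¹)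
    (hnot : τ ∉ zpowers σ) (hzσ : z ∈ zpowers σ)
    (hcard : Nat.card (S : Subgroup G) = 2 * 2 ^ k)
    {r : ℕ} (h : LineData (centralizer ({z} : Set G)) N R X r τ) (hRU : R ≤ core z)
    (hσR : ∀ y ∈ R, σ * y = y * σ) :
    (∃ E : Subgroup G, Nat.card E = r ^ 2 ∧ X ≤ E ∧ E ≤ R ⊓ N ∧
        centralizer ({z} : Set G) ≤ normalizer (E : Set G)) ∨
      ∃ Z Y : Subgroup G, Irred z (core z) R X r τ Z Y := by
  classical
  haveI := hG.simple
  haveI := Fintype.ofFinite G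
  haveI : Fintype (centralizer ({z} : Set G)) := Fintype.ofFinite _
  haveI : Fact (Nat.Prime 2) := ⟨Nat.prime_two⟩
  set U := core z
  have hFr : Tw.Frame z U := Tw.frame_core hG hz
  have hSC : (S : Subgroup G) ≤ centralizer ({z} : Set G) := fun s hs =>
    mem_centralizer_singleton_iff.2 (hS s hs)
  -- `S = ⟨σ⟩ ∪ τ ⟨σ⟩`
  have helems : ∀ t ∈ (S : Subgroup G), t ∈ zpowers σ ∨ τ * t ∈ zpowers σ := by
    intro t ht
    set H := (zpowers σ).subgroupOf (S : Subgroup G)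
    have hi : H.index = 2 := by
      have h' := H.card_mul_index
      rw [Nat.card_congr (subgroupOfEquivOfLe (zpowers_le.2 hσS)).toEquiv, Nat.card_zpowers, hσ,
        hcard, mul_comm 2] at h'
      exact Nat.eq_of_mul_eq_mul_left (Nat.two_pow_pos k) h'
    obtain ⟨a, ha⟩ := index_eq_two_iff.1 hi
    have hτH : (⟨τ, hτS⟩ : (S : Subgroup G)) ∉ H := fun h' => hnot (mem_subgroupOf.1 h')
    by_cases htH : (⟨t, ht⟩ : (S : Subgroup G)) ∈ H
    · exact Or.inl (mem_subgroupOf.1 htH)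
    · right
      have := mul_mem_iff_of_index_two hi (a := (⟨τ, hτS⟩ : (S : Subgroup G))) (b := ⟨t, ht⟩)
      exact mem_subgroupOf.1 (this.2 (iff_of_false hτH htH))
  have hσpow : ∀ t ∈ zpowers σ, ∀ y ∈ R, t * y = y * t := by
    rintro _ ⟨i, rfl⟩ y hy
    exact ((show Commute σ y from hσR y hy).zpow_left i).eq
  have hTR : ∀ t ∈ (S : Subgroup G),
      (∀ y ∈ R, t * y = y * t) ∨ ∀ y ∈ R, (τ * t) * y = y * (τ * t) := fun t ht =>
    (helems t ht).imp (hσpow t) (hσpow (τ * t))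
  rcases case_split hFr h hRU S hSC hTR with hE | ⟨⟨L, hL1, v, hv, hL2⟩, P, hPR, hPC, hinv, u, hu,
    y, hy, hne⟩ | hI
  · exact Or.inl hE
  swap
  · exact Or.inr hI
  exfalso
  have hconj : ∀ x : G, orderOf x = 2 → IsConj x z := fun x hx => hG.isConj hx hz
  have hfus : Tw.Fused U ({L} : Finset (Tw.Lin z)) := by
    refine hFr.fused_of_cycles hconj ?_
    intro b hb hzb hcomm'
    have hbC : b ∈ centralizer ({z} : Set G) := mem_centralizer_singleton_iff.2 hcomm'.symm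
    obtain ⟨c, hc, hcS⟩ := exists_conj_mem_sylow S hSC hbC ⟨1, by rw [hb, pow_one]⟩
    set b' := c * b * c⁻¹
    have hb' : orderOf b' = 2 := by rw [Small.orderOf_conj_eq, hb]
    have hcz : c * z * c⁻¹ = z := by
      rw [mem_centralizer_singleton_iff.1 hc, mul_inv_cancel_right]
    have hzb' : z ≠ b' := fun e' => hzb (by
      rw [← hcz] at e'
      exact mul_left_cancel (mul_right_cancel e'))
    obtain ⟨g, -, hg, hgw⟩ := exists_centralizing_cycle e hF hz hb' hzb' (hS b' hcS).symm hzK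
      (involution_mem_component hON hKN hOn hKn hOodd hcomm hidx (hSN hcS) hb') hKn hFr.odd hFr.le
      hFr.mem (hW b' hb' hcS hzb'.symm)
    refine ⟨c⁻¹ * g * c, ?_, fun w hw hwb => ?_⟩
    · calc c⁻¹ * g * c * z * (c⁻¹ * g * c)⁻¹ = c⁻¹ * (g * (c * z * c⁻¹) * g⁻¹) * c := by group
        _ = c⁻¹ * b' * c := by rw [hcz, hg]
        _ = b := by simp only [b']; group
    · have hw' : g * (c * w * c⁻¹) = c * w * c⁻¹ * g := hgw _ (hFr.conj_mem c hc w hw) (by
        calc c * w * c⁻¹ * (c * b * c⁻¹) = c * (w * b) * c⁻¹ := by group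
          _ = c * (b * w) * c⁻¹ := by rw [hwb]
          _ = c * b * c⁻¹ * (c * w * c⁻¹) := by group)
      have e' : (c⁻¹ * g * c)⁻¹ * w * (c⁻¹ * g * c) = w := by
        calc (c⁻¹ * g * c)⁻¹ * w * (c⁻¹ * g * c) = c⁻¹ * (g⁻¹ * (c * w * c⁻¹ * g)) * c := by group
          _ = c⁻¹ * (g⁻¹ * (g * (c * w * c⁻¹))) * c := by rw [hw']
          _ = w := by group
      rw [e']
  have hdec : ∀ c ∈ centralizer ({z} : Set G), ∃ u ∈ U, ∃ s ∈ (S : Subgroup G), c = u * s := by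
    intro c hc
    exact hG.decomp hz hS hc
  obtain ⟨hindex, φ, hφ, hn, hφ1⟩ :=
    hFr.exists_test_dihedral hSC hσS hτS hk hσ hτ hrel hnot hzσ hdec hcard
  obtain ⟨M, hM⟩ := exists_modular_two
  haveI : M.IsPrime := hM.2.1.isPrime
  haveI : Fintype P := Fintype.ofFinite P
  have hPU : P ≤ U := hPR.trans hRU
  have hPab : ∀ x ∈ P, ∀ x' ∈ P, x * x' = x' * x := by
    intro x hx x' hx'
    have h1 : τ * (x * x') * τ⁻¹ = (τ * x * τ⁻¹) * (τ * x' * τ⁻¹) := by group
    rw [hinv _ (mul_mem hx hx'), hinv x hx, hinv x' hx'] at h1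
    exact inv_injective (by rw [h1, mul_inv_rev])
  have hbig : ∀ Θ : Finset (Tw.Lin z), Tw.Big P Θ 6 := fun Θ =>
    hFr.big_moved hPU hPab (hSC hτS) hinv hu (hPC (hFr.le hu)) hy hne Θ
  exact Tw.Frame.twist_false hFr hM L hL1 ⟨v, hv, hL2⟩ hfus hσ hzσ hindex P hPU
    (fun y' hy' => (hσR y' (hPR hy')).symm) (N := 6) (by norm_num) (hbig _) (hbig _) hφ hn hφ1

end CfsgLib.GW
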