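import Mathlib.GroupTheory.OrderOfElement
import Mathlib.GroupTheory.Subgroup.Centralizer
import Mathlib.Algebra.Group.Subgroup.Finite
import Mathlib.Tactic.Group
import Mathlib.Tactic.Ring

/-!
# Fixed points of a four-group on a subgroup of odd order

If two commuting involutions `z`, `b` normalise a subgroup `O` of odd order then
`|O| |C_O(z, b)|² = |C_O(z)| |C_O(b)| |C_O(zb)|`.  The proof needs no solubility: unique square
roots give bijections `I_a × F_a → O` and `(I_a ∩ F_b) × (I_a ∩ F_ab) → I_a`.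
-/

set_option autoImplicit false
set_option linter.unusedSectionVars false

open Subgroup

namespace CfsgLib.GW.FourFixed

variable {G : Type*} [Group G]

/-- The elements of `O` sent by `a` to their inverses. -/
def inv' (O : Subgroup G) (a : MulAut G) : Set G := {x | x ∈ O ∧ a x = x⁻¹}

/-- The elements of `O` fixed by `a`. -/
def fixed (O : Subgroup G) (a : MulAut G) : Set G := {x | x ∈ O ∧ a x = x}

/-- The square root. -/
noncomputable def root (O : Subgroup G) (x : G) : G := x ^ ((Nat.card O + 1) / 2)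

variable [Finite G] {O : Subgroup G} (hO : Odd (Nat.card O))
include hO

theorem root_mem {x : G} (hx : x ∈ O) : root O x ∈ O := pow_mem hx _

theorem root_mul_self {x : G} (hx : x ∈ O) : root O x * root O x = x := by
  obtain ⟨k, hk⟩ := hO
  have h1 : x ^ Nat.card O = 1 := orderOf_dvd_iff_pow_eq_one.1 (O.orderOf_dvd_natCard hx)
  rw [root, ← pow_add, show (Nat.card O + 1) / 2 + (Nat.card O + 1) / 2 = Nat.card O + 1 by omega,
    pow_succ, h1, one_mul]

theorem root_eq {x y : G} (hy : y ∈ O) (h : y * y = x) : root O x = y := by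
  obtain ⟨k, hk⟩ := hO
  have h1 : y ^ Nat.card O = 1 := orderOf_dvd_iff_pow_eq_one.1 (O.orderOf_dvd_natCard hy)
  rw [root, ← h, ← sq, ← pow_mul, show 2 * ((Nat.card O + 1) / 2) = Nat.card O + 1 by omega,
    pow_succ, h1, one_mul]

omit hO in
theorem map_root (a : MulAut G) (x : G) : a (root O x) = root O (a x) := map_pow a x _

omit hO in
theorem root_inv (x : G) : root O x⁻¹ = (root O x)⁻¹ := inv_pow x _

/-- The inverted and the fixed elements of an invariant subgroup. -/
theorem card_mul_fixed (a : MulAut G) (ha : ∀ x, a (a x) = x) (haO : ∀ x ∈ O, a x ∈ O) :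
    Nat.card O = Nat.card (inv' O a) * Nat.card (fixed O a) := by
  have hi : ∀ {x}, x ∈ O → x * (a x)⁻¹ ∈ O := fun hx => mul_mem hx (inv_mem (haO _ hx))
  have h1 : ∀ {x}, x ∈ O → root O (x * (a x)⁻¹) ∈ inv' O a := by
    intro x hx
    refine ⟨root_mem hO (hi hx), ?_⟩
    rw [map_root, map_mul, map_inv, ha, ← root_inv, mul_inv_rev, inv_inv]
  have h2 : ∀ {x}, x ∈ O → (root O (x * (a x)⁻¹))⁻¹ * x ∈ fixed O a := by
    intro x hx
    refine ⟨mul_mem (inv_mem (root_mem hO (hi hx))) hx, ?_⟩
    have hr := root_mul_self hO (hi hx)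
    generalize hq : root O (x * (a x)⁻¹) = q at hr
    rw [map_mul, map_inv, ← hq, (h1 hx).2, hq, inv_inv]
    have hax : a x = q⁻¹ * q⁻¹ * x := by rw [← mul_inv_rev, hr]; group
    rw [hax]
    group
  let e : (O : Set G) ≃ inv' O a × fixed O a :=
    { toFun := fun x => (⟨_, h1 x.2⟩, ⟨_, h2 x.2⟩)
      invFun := fun p => ⟨(p.1 : G) * p.2, mul_mem p.1.2.1 p.2.2.1⟩
      left_inv := fun x => Subtype.ext (mul_inv_cancel_left _ _)
      right_inv := by
        rintro ⟨⟨i, hiO, hai⟩, ⟨f, hfO, haf⟩⟩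
        have hr : root O (i * f * (a (i * f))⁻¹) = i := root_eq hO hiO (by
          rw [map_mul, hai, haf]; group)
        refine Prod.ext (Subtype.ext hr) (Subtype.ext ?_)
        show (root O (i * f * (a (i * f))⁻¹))⁻¹ * (i * f) = f
        rw [hr, inv_mul_cancel_left] }
  exact (Nat.card_congr e).trans (Nat.card_prod _ _)

/-- The inverted elements factor over a second involution commuting with the first. -/
theorem card_inv_mul (a b : MulAut G) (ha : ∀ x, a (a x) = x) (hb : ∀ x, b (b x) = x)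
    (hab : ∀ x, a (b x) = b (a x)) (hbO : ∀ x ∈ O, b x ∈ O) :
    Nat.card (inv' O a) =
      Nat.card (inv' O a ∩ fixed O b : Set G) * Nat.card (inv' O a ∩ fixed O (a * b) : Set G) := by
  -- the square of the fixed factor
  set X : G → G := fun u => root O (b u * u⁻¹) * u with hX
  have hXO : ∀ {u}, u ∈ O → X u ∈ O := fun hu =>
    mul_mem (root_mem hO (mul_mem (hbO _ hu) (inv_mem hu))) hu
  have key : ∀ {u}, u ∈ inv' O a →
      root O (X u) ∈ inv' O a ∩ fixed O b ∧
      (root O (X u))⁻¹ * u * (root O (X u))⁻¹ ∈ inv' O a ∩ fixed O (a * b) := by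
    rintro u ⟨hu, hau⟩
    have hbu : b u * u⁻¹ ∈ O := mul_mem (hbO _ hu) (inv_mem hu)
    have hr := root_mul_self hO hbu
    generalize hq : root O (b u * u⁻¹) = q at hr
    have hqO : q ∈ O := hq ▸ root_mem hO hbu
    have hbu' : b u = q * q * u := by rw [hr, inv_mul_cancel_right]
    have hbq : b q = q⁻¹ := by
      rw [← hq, map_root, map_mul, map_inv, hb, ← root_inv, mul_inv_rev, inv_inv]
    have haq : a q = u⁻¹ * q⁻¹ * u := by
      have h3 : a (b u * u⁻¹) = (u⁻¹ * q⁻¹ * u) * (u⁻¹ * q⁻¹ * u) := by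
        rw [map_mul, map_inv, hab, hau, map_inv, hbu']
        group
      rw [← hq, map_root, hq, h3]
      exact root_eq hO (mul_mem (mul_mem (inv_mem hu) (inv_mem hqO)) hu) rfl
    have hXu : X u = q * u := by simp only [hX, hq]
    have hbX : b (X u) = X u := by
      rw [hXu, map_mul, hbq, hbu']
      group
    have haX : a (X u) = (X u)⁻¹ := by
      rw [hXu, map_mul, haq, hau]
      group
    have hxa : a (root O (X u)) = (root O (X u))⁻¹ := by rw [map_root, haX, root_inv]
    have hxb : b (root O (X u)) = root O (X u) := by rw [map_root, hbX]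
    have hxx := root_mul_self hO (hXO hu)
    have hxO : root O (X u) ∈ O := root_mem hO (hXO hu)
    generalize root O (X u) = x at hxa hxb hxx hxO
    refine ⟨⟨⟨hxO, hxa⟩, hxO, hxb⟩, ⟨mul_mem (mul_mem (inv_mem hxO) hu) (inv_mem hxO), ?_⟩,
      mul_mem (mul_mem (inv_mem hxO) hu) (inv_mem hxO), ?_⟩
    · rw [map_mul, map_mul, map_inv, hxa, hau]
      group
    · show a (b (x⁻¹ * u * x⁻¹)) = x⁻¹ * u * x⁻¹
      rw [map_mul b, map_mul b, map_inv b, hxb, map_mul a, map_mul a, map_inv a, hxa, hbu',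
        map_mul a, map_mul a, haq, hau, inv_inv]
      have hqu : q = x * x * u⁻¹ := by rw [hxx, hXu, mul_inv_cancel_right]
      rw [hqu]
      group
  let e : inv' O a ≃
      (inv' O a ∩ fixed O b : Set G) × (inv' O a ∩ fixed O (a * b) : Set G) :=
    { toFun := fun u => (⟨_, (key u.2).1⟩, ⟨_, (key u.2).2⟩)
      invFun := fun p => ⟨(p.1 : G) * p.2 * p.1, mul_mem (mul_mem p.1.2.1.1 p.2.2.1.1) p.1.2.1.1, by
        rw [map_mul, map_mul, p.1.2.1.2, p.2.2.1.2]
        group⟩
      left_inv := fun u => Subtype.ext (by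
        show root O (X u) * ((root O (X u))⁻¹ * (u : G) * (root O (X u))⁻¹) * root O (X u) = u
        group)
      right_inv := by
        rintro ⟨⟨x, ⟨hxO, hxa⟩, -, hxb⟩, ⟨y, ⟨hyO, hya⟩, -, hyc⟩⟩
        have hyb : b y = y⁻¹ := by
          rw [show b y = a (a (b y)) from (ha _).symm, show a (b y) = y from hyc, hya]
        have hq : root O (b (x * y * x) * (x * y * x)⁻¹) = x * y⁻¹ * x⁻¹ := by
          refine root_eq hO (mul_mem (mul_mem hxO (inv_mem hyO)) (inv_mem hxO)) ?_
          rw [map_mul, map_mul, hxb, hyb]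
          group
        have hr : root O (X (x * y * x)) = x := root_eq hO hxO (by
          simp only [hX, hq]
          group)
        refine Prod.ext (Subtype.ext hr) (Subtype.ext ?_)
        show (root O (X (x * y * x)))⁻¹ * (x * y * x) * (root O (X (x * y * x)))⁻¹ = y
        rw [hr]
        group }
  exact (Nat.card_congr e).trans (Nat.card_prod _ _)

/-- **The formula for a four-group of automorphisms.** -/
theorem card_mul_sq (a b : MulAut G) (ha : ∀ x, a (a x) = x) (hb : ∀ x, b (b x) = x)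
    (hab : ∀ x, a (b x) = b (a x)) (haO : ∀ x ∈ O, a x ∈ O) (hbO : ∀ x ∈ O, b x ∈ O) :
    Nat.card O * Nat.card (fixed O a ∩ fixed O b : Set G) ^ 2 =
      Nat.card (fixed O a) * Nat.card (fixed O b) * Nat.card (fixed O (a * b)) := by
  -- restrict to the fixed points of an automorphism commuting with `a`
  have part : ∀ c : MulAut G, (∀ x, a (c x) = c (a x)) →
      Nat.card (fixed O c) = Nat.card (inv' O a ∩ fixed O c : Set G) *
        Nat.card (fixed O a ∩ fixed O c : Set G) := by
    intro c hac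
    let H : Subgroup G := O ⊓ MonoidHom.eqLocus (c : G ≃* G).toMonoidHom (MonoidHom.id G)
    have hHmem : ∀ x, x ∈ H ↔ x ∈ fixed O c := fun x => Iff.rfl
    have hHodd : Odd (Nat.card H) := hO.of_dvd_nat (card_dvd_of_le inf_le_left)
    have h := card_mul_fixed hHodd a ha (fun x hx => ⟨haO x hx.1, by
      show c (a x) = a x
      rw [← hac, show c x = x from hx.2]⟩)
    have e1 : inv' H a = (inv' O a ∩ fixed O c : Set G) := by
      ext x
      exact ⟨fun ⟨⟨h1, h2⟩, h3⟩ => ⟨⟨h1, h3⟩, h1, h2⟩, fun ⟨⟨h1, h3⟩, _, h2⟩ => ⟨⟨h1, h2⟩, h3⟩⟩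
    have e2 : fixed H a = (fixed O a ∩ fixed O c : Set G) := by
      ext x
      exact ⟨fun ⟨⟨h1, h2⟩, h3⟩ => ⟨⟨h1, h3⟩, h1, h2⟩, fun ⟨⟨h1, h3⟩, _, h2⟩ => ⟨⟨h1, h2⟩, h3⟩⟩
    rw [e1, e2] at h
    exact h
  have e3 : (fixed O a ∩ fixed O (a * b) : Set G) = fixed O a ∩ fixed O b := by
    ext x
    refine and_congr_right fun h => and_congr_right fun _ => ?_
    show a (b x) = x ↔ b x = x
    exact ⟨fun e => a.injective (e.trans h.2.symm), fun e => by rw [e, h.2]⟩
  rw [card_mul_fixed hO a ha haO, card_inv_mul hO a b ha hb hab hbO, part b hab,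
    part (a * b) (fun x => by simp only [MulAut.mul_apply]; rw [← hab]), e3]
  ring

/-- **The formula for two commuting involutions.** -/
theorem card_mul_centralizer_sq {z b : G} (hz : z * z = 1) (hb : b * b = 1) (hzb : z * b = b * z)
    (hzO : z ∈ normalizer (O : Set G)) (hbO : b ∈ normalizer (O : Set G)) :
    Nat.card O * Nat.card (O ⊓ centralizer ({z} : Set G) ⊓ centralizer ({b} : Set G) :
        Subgroup G) ^ 2 =
      Nat.card (O ⊓ centralizer ({z} : Set G) : Subgroup G) *
        Nat.card (O ⊓ centralizer ({b} : Set G) : Subgroup G) *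
        Nat.card (O ⊓ centralizer ({z * b} : Set G) : Subgroup G) := by
  have hinv : ∀ v : G, v * v = 1 → ∀ x, MulAut.conj v (MulAut.conj v x) = x := fun v hv x => by
    rw [← MulAut.mul_apply, ← map_mul, hv, map_one, MulAut.one_apply]
  have hmem : ∀ v x : G, x ∈ fixed O (MulAut.conj v) ↔ x ∈ O ⊓ centralizer ({v} : Set G) :=
    fun v x => and_congr_right fun _ => by
      show _ ↔ x ∈ centralizer ({v} : Set G)
      rw [mem_centralizer_singleton_iff, MulAut.conj_apply, mul_inv_eq_iff_eq_mul]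
      exact eq_comm
  have hcard : ∀ v : G, Nat.card (fixed O (MulAut.conj v)) =
      Nat.card (O ⊓ centralizer ({v} : Set G) : Subgroup G) := fun v =>
    Nat.card_congr (Equiv.subtypeEquivRight (hmem v))
  have h := card_mul_sq hO (MulAut.conj z) (MulAut.conj b) (hinv z hz) (hinv b hb)
    (fun x => by
      rw [← MulAut.mul_apply, ← map_mul, hzb, map_mul, MulAut.mul_apply])
    (fun x hx => (mem_normalizer_iff.1 hzO x).1 hx) (fun x hx => (mem_normalizer_iff.1 hbO x).1 hx)
  rw [← map_mul, hcard, hcard, hcard] at h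
  rw [← h]
  congr 2
  refine Nat.card_congr (Equiv.subtypeEquivRight fun x => ?_)
  rw [Set.mem_inter_iff, hmem, hmem, mem_inf, mem_inf, mem_inf]
  tauto

end CfsgLib.GW.FourFixed
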