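import Cfsg.Agent.GW.Setting
import Cfsg.Agent.GW.FourFixed
import Cfsg.Agent.BlocksLocal.KleinOrder
import Cfsg.Agent.SuzukiWong.OneClass
import Cfsg.Agent.SylowPrimeOrder.Simple
import Cfsg.Agent.S0948

/-!
# The order formulas in a minimal counterexample

With `C = C(z)`, `W = |O(C(z)) ∩ C(b)|`.

* Sylow order four: `2 |G| W² (1+a)(1+b)(1+c) = a b c |C|³`, `a + b + c = -1`, all `≡ 1 (mod 4)`.
* Sylow order `4h ≥ 8`: `8 |G| (X-1)² W₁² W₂² = X (X+1) |C|³ (W₁+W₂)²` and the second equation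
  `8 |G| W₁² W₂² (U-V)² = U V (1+X) |C|³ (W₁-W₂)²`.
-/

set_option autoImplicit false
set_option linter.style.haveILetI false
set_option linter.unusedSectionVars false

open Subgroup

namespace CfsgLib.GW

universe u

/-! ## Arithmetic -/

theorem klein_pos_one {a b c : ℤ} (hb : b ≤ -3) (hc : c ≤ -3) (hsum : a + b + c = -1) :
    0 < (1 + a) * (1 + b) * (1 + c) ∧ 8 * (a * b * c) ≤ 15 * ((1 + a) * (1 + b) * (1 + c)) ∧
      (8 * (a * b * c) = 15 * ((1 + a) * (1 + b) * (1 + c)) → a = 5 ∧ b = -3 ∧ c = -3) := by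
  obtain ⟨x, hx, rfl⟩ : ∃ x : ℤ, 0 ≤ x ∧ b = -3 - x := ⟨-3 - b, by omega, by omega⟩
  obtain ⟨y, hy, rfl⟩ : ∃ y : ℤ, 0 ≤ y ∧ c = -3 - y := ⟨-3 - c, by omega, by omega⟩
  obtain rfl : a = 5 + x + y := by omega
  have hxy := mul_nonneg hx hy
  have key : 15 * ((1 + (5 + x + y)) * (1 + (-3 - x)) * (1 + (-3 - y))) -
      8 * ((5 + x + y) * (-3 - x) * (-3 - y)) =
      48 * (x + y) + 6 * (x + y) ^ 2 + 50 * (x * y) + 7 * ((x + y) * (x * y)) := by ring
  have h3 := mul_nonneg (add_nonneg hx hy) hxy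
  have h2 := sq_nonneg (x + y)
  refine ⟨?_, by omega, fun h => ⟨by omega, by omega, by omega⟩⟩
  rw [show (1 + (5 + x + y)) * (1 + (-3 - x)) * (1 + (-3 - y)) =
    (6 + x + y) * ((2 + x) * (2 + y)) by ring]
  exact mul_pos (by omega) (mul_pos (by omega) (by omega))

theorem klein_pos_two {a b c : ℤ} (ha : 5 ≤ a) (hb : 5 ≤ b) (hsum : a + b + c = -1) :
    (1 + a) * (1 + b) * (1 + c) < 0 ∧ 15 * ((1 + a) * (1 + b) * (1 + c)) < 8 * (a * b * c) := by
  obtain ⟨x, hx, rfl⟩ : ∃ x : ℤ, 0 ≤ x ∧ a = 5 + x := ⟨a - 5, by omega, by omega⟩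
  obtain ⟨y, hy, rfl⟩ : ∃ y : ℤ, 0 ≤ y ∧ b = 5 + y := ⟨b - 5, by omega, by omega⟩
  obtain rfl : c = -11 - x - y := by omega
  have hxy := mul_nonneg hx hy
  have h3 := mul_nonneg (add_nonneg hx hy) hxy
  have h2 := sq_nonneg (x + y)
  refine ⟨?_, by nlinarith⟩
  rw [show (1 + (5 + x)) * (1 + (5 + y)) * (1 + (-11 - x - y)) =
    -((6 + x) * (6 + y) * (10 + x + y)) by ring, neg_lt_zero]
  exact mul_pos (mul_pos (by omega) (by omega)) (by omega)

theorem klein_alg {N W C a b c : ℂ} (ha : a ≠ 0) (hb : b ≠ 0) (hc : c ≠ 0)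
    (hs : 1 + a + b + c = 0)
    (hk : 8 * C ^ 3 = N * (4 * W) ^ 2 * (1 + 1 / a + 1 / b + 1 / c)) :
    2 * N * W ^ 2 * ((1 + a) * (1 + b) * (1 + c)) = a * b * c * C ^ 3 := by
  have h : a * b * c * (1 + 1 / a + 1 / b + 1 / c) = a * b * c + b * c + a * c + a * b := by
    field_simp
  linear_combination (2 * N * W ^ 2) * hs - (2 * N * W ^ 2) * h - a * b * c / 8 * hk

/-- The bound `15/8` for three residues `≡ 1 (mod 4)` with sum `-1`. -/
theorem klein_ratio {a b c N D : ℤ} (ha : a % 4 = 1) (hb : b % 4 = 1) (hc : c % 4 = 1)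
    (ha1 : a ≠ 1) (hb1 : b ≠ 1) (hc1 : c ≠ 1) (hsum : a + b + c = -1) (hD : 0 < D)
    (h : 2 * N * ((1 + a) * (1 + b) * (1 + c)) = a * b * c * D) :
    16 * N ≤ 15 * D ∧ (16 * N = 15 * D → ({a, b, c} : Finset ℤ) = {-3, 5}) := by
  have hd : ∀ x : ℤ, x % 4 = 1 → x ≠ 1 → x ≤ -3 ∨ 5 ≤ x := fun x h1 h2 => by omega
  have one : ∀ p q r : ℤ, q ≤ -3 → r ≤ -3 → p + q + r = -1 →
      2 * N * ((1 + p) * (1 + q) * (1 + r)) = p * q * r * D →
      16 * N ≤ 15 * D ∧ (16 * N = 15 * D → p = 5 ∧ q = -3 ∧ r = -3) := by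
    intro p q r hq hr hs he
    obtain ⟨hT, hle, heq⟩ := klein_pos_one hq hr hs
    have hm := mul_le_mul_of_nonneg_right hle hD.le
    refine ⟨le_of_mul_le_mul_right (by linarith) hT, fun e => heq ?_⟩
    exact mul_right_cancel₀ hD.ne' (by rw [← mul_left_inj' hT.ne'] at e; linarith)
  have two : ∀ p q r : ℤ, 5 ≤ p → 5 ≤ q → p + q + r = -1 →
      2 * N * ((1 + p) * (1 + q) * (1 + r)) = p * q * r * D → 16 * N < 15 * D := by
    intro p q r hp hq hs he
    obtain ⟨hT, hlt⟩ := klein_pos_two hp hq hs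
    have hm := mul_lt_mul_of_pos_right hlt hD
    exact lt_of_mul_lt_mul_right
      (a := -((1 + p) * (1 + q) * (1 + r))) (by linarith) (by linarith)
  rcases hd a ha ha1 with h1 | h1 <;> rcases hd b hb hb1 with h2 | h2 <;>
    rcases hd c hc hc1 with h3 | h3
  · omega
  · obtain ⟨r1, r2⟩ := one c a b h1 h2 (by omega) (by linear_combination h)
    exact ⟨r1, fun e => by obtain ⟨rfl, rfl, rfl⟩ := r2 e; decide⟩
  · obtain ⟨r1, r2⟩ := one b a c h1 h3 (by omega) (by linear_combination h)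
    exact ⟨r1, fun e => by obtain ⟨rfl, rfl, rfl⟩ := r2 e; decide⟩
  · have := two b c a h2 h3 (by omega) (by linear_combination h)
    exact ⟨this.le, fun e => absurd e this.ne⟩
  · obtain ⟨r1, r2⟩ := one a b c h2 h3 hsum h
    exact ⟨r1, fun e => by obtain ⟨rfl, rfl, rfl⟩ := r2 e; decide⟩
  · have := two a c b h1 h3 (by omega) (by linear_combination h)
    exact ⟨this.le, fun e => absurd e this.ne⟩
  · have := two a b c h1 h2 hsum h
    exact ⟨this.le, fun e => absurd e this.ne⟩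
  · omega

/-- The bound `15/8` for one residue `≡ 1 (mod 4)`. -/
theorem one_class_ratio {X N D : ℤ} (hX : X % 4 = 1) (hX1 : X ≠ 1) (hD : 0 ≤ D)
    (h : 8 * N * (X - 1) ^ 2 = X * (X + 1) * D) :
    64 * N ≤ 15 * D ∧ (64 * N = 15 * D → 0 < D → X = 5) := by
  have h5 : 0 ≤ (7 * X - 3) * (X - 5) := by
    rcases (show X ≤ -3 ∨ 5 ≤ X by omega) with h1 | h1
    · exact mul_nonneg_of_nonpos_of_nonpos (by omega) (by omega)
    · exact mul_nonneg (by omega) (by omega)
  have hsq : 0 < (X - 1) ^ 2 := by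
    have : X - 1 ≠ 0 := by omega
    positivity
  have hm := mul_nonneg h5 hD
  refine ⟨le_of_mul_le_mul_right (by linarith) hsq, fun e hD0 => ?_⟩
  have h0 : (7 * X - 3) * (X - 5) * D = 0 := by
    linear_combination (X - 1) ^ 2 * (-1) * e + 8 * h
  have h1 := (mul_eq_zero.1 h0).resolve_right hD0.ne'
  rcases mul_eq_zero.1 h1 with h2 | h2 <;> omega

/-! ## The order formulas -/

variable {G : Type u} [Group G] [Finite G]

theorem exists_modular_two : ∃ M : Ideal Cfsg.AlgInt, Cfsg.IsPModular 2 M :=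
  Blocks.exists_isPModular 2 Nat.prime_two

namespace Minimal

variable (hG : Minimal G)
include hG

/-- The centralizer of a self-centralising four-group. -/
theorem card_centralizer_four {z b : G} (hz : orderOf z = 2) (hb : orderOf b = 2) (hne : z ≠ b)
    (hzb : z * b = b * z) (P : Sylow 2 G) (hP : (P : Subgroup G) = closure ({z, b} : Set G)) :
    Nat.card (centralizer ((P : Subgroup G) : Set G)) = 4 * Nat.card (fix z b) := by
  obtain ⟨hV, hcases⟩ := hG.four_spec hz hb hne hzb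
  rw [← hP] at hV hcases
  have hzP : z ∈ (P : Subgroup G) := hP ▸ subset_closure (by simp)
  have hbP : b ∈ (P : Subgroup G) := hP ▸ subset_closure (by simp)
  have hS : ∀ s ∈ (P : Subgroup G), s * z = z * s := fun s hs =>
    TwoGroups.klein_mul_comm hV hs hzP
  have hmem : ∀ g, g ∈ centralizer ((P : Subgroup G) : Set G) ↔ g * z = z * g ∧ g * b = b * g := by
    refine fun g => ⟨fun h => ⟨(mem_centralizer_iff.1 h z hzP).symm,
      (mem_centralizer_iff.1 h b hbP).symm⟩, fun h => mem_centralizer_iff.2 fun v hv => ?_⟩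
    rcases hcases v hv with rfl | rfl | rfl | rfl
    · simp
    · exact h.1.symm
    · exact h.2.symm
    · exact ((show Commute g z from h.1).mul_right (show Commute g b from h.2)).symm.eq
  have hfix : ∀ k ∈ fix z b, k * z = z * k ∧ k * b = b * k ∧ Odd (orderOf k) :=
    fun k hk => (hG.mem_fix hz).1 hk
  have hbij : Function.Bijective (fun p : ↥(P : Subgroup G) × ↥(fix z b) =>
      (⟨(p.2 : G) * (p.1 : G), (hmem _).2 ⟨by
        rw [mul_assoc, hS _ p.1.2, ← mul_assoc, (hfix _ p.2.2).1, mul_assoc], by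
        rw [mul_assoc, TwoGroups.klein_mul_comm hV p.1.2 hbP, ← mul_assoc, (hfix _ p.2.2).2.1,
          mul_assoc]⟩⟩ : centralizer ((P : Subgroup G) : Set G))) := by
    constructor
    · rintro ⟨⟨p, hp⟩, ⟨k, hk⟩⟩ ⟨⟨p', hp'⟩, ⟨k', hk'⟩⟩ he
      have he' : k * p = k' * p' := congrArg Subtype.val he
      have h1 : k'⁻¹ * k = p' * p⁻¹ := by
        rw [eq_mul_inv_iff_mul_eq, mul_assoc, he', inv_mul_cancel_left]
      have h2 : k'⁻¹ * k = 1 := by
        refine orderOf_eq_one_iff.1 (Nat.eq_one_of_dvd_coprimes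
          ((Nat.coprime_two_right.2 (odd_fix z b)).pow_right 2)
          ((fix z b).orderOf_dvd_natCard (mul_mem (inv_mem hk') hk)) ?_)
        have h4 := (P : Subgroup G).orderOf_dvd_natCard (mul_mem hp' (inv_mem hp))
        rw [← h1, hV.card_four] at h4
        exact h4
      obtain rfl := inv_mul_eq_one.1 h2
      obtain rfl := mul_left_cancel he'
      rfl
    · rintro ⟨g, hg⟩
      obtain ⟨k, hk, s, hs, rfl⟩ :=
        hG.decomp hz hS (mem_centralizer_singleton_iff.2 ((hmem g).1 hg).1)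
      refine ⟨(⟨s, hs⟩, ⟨k, hk, mem_centralizer_singleton_iff.2 ?_⟩), rfl⟩
      have h1 := ((hmem _).1 hg).2
      rw [mul_assoc, TwoGroups.klein_mul_comm hV hs hbP, ← mul_assoc, ← mul_assoc] at h1
      exact mul_right_cancel h1
  rw [← Nat.card_congr (Equiv.ofBijective _ hbij), Nat.card_prod, hV.card_four]

/-- The order formula for a Sylow 2-subgroup of order four. -/
theorem klein_order {z b : G} (hz : orderOf z = 2) (hb : orderOf b = 2) (hne : z ≠ b)
    (hzb : z * b = b * z) (h4 : ∀ S : Sylow 2 G, Nat.card (S : Subgroup G) = 4) :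
    ∃ x y w : ℤ, x % 4 = 1 ∧ y % 4 = 1 ∧ w % 4 = 1 ∧ x ≠ 1 ∧ y ≠ 1 ∧ w ≠ 1 ∧ x + y + w = -1 ∧
      2 * (Nat.card G : ℤ) * (Nat.card (fix z b) : ℤ) ^ 2 * ((1 + x) * (1 + y) * (1 + w)) =
        x * y * w * (Nat.card (centralizer ({z} : Set G)) : ℤ) ^ 3 := by
  classical
  haveI : Fact (Nat.Prime 2) := ⟨Nat.prime_two⟩
  haveI := hG.simple
  haveI := Fintype.ofFinite G
  obtain ⟨M, hM⟩ := exists_modular_two
  obtain ⟨hV, -⟩ := hG.four_spec hz hb hne hzb
  obtain ⟨P, hVP⟩ :=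
    (IsPGroup.of_card (n := 2) (by rw [hV.card_four]; rfl) :
      IsPGroup 2 (closure ({z, b} : Set G))).exists_le_sylow
  have hP : closure ({z, b} : Set G) = (P : Subgroup G) :=
    eq_of_le_of_card_ge hVP (by rw [hV.card_four, h4 P])
  have hPk : IsKleinFour (P : Subgroup G) := hP ▸ hV
  have hzP : z ∈ (P : Subgroup G) := hP ▸ subset_closure (by simp)
  have hone : ∀ s t : G, orderOf s = 2 → orderOf t = 2 → IsConj s t := fun s t hs ht =>
    hG.isConj hs ht
  obtain ⟨χ₁, χ₂, χ₃, ε, hε, h1, h2, h12, h13, h23, hB, hval, hd1, hd2, hd3, -⟩ :=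
    Cfsg.Agent.S0948.result M hM P hPk hone
  obtain ⟨v1, v2, v3⟩ := hval z hz
  have h3 : (χ₃ : G → ℂ) ≠ fun _ => 1 := fun e => by
    rw [e] at v3
    norm_num at v3
  have key := BlocksLocal.KleinOrder.eight_mul_card_cube P hM hPk hone hzP hz
  rw [hG.card_centralizer_four hz hb hne hzb P hP.symm,
    BlocksLocal.KleinOrder.sum_four χ₁ χ₂ χ₃ hB h1 h2 h3 h12 h13 h23
      (fun χ => (χ : G → ℂ) z ^ 3 / (χ : G → ℂ) 1)] at key
  have hsum := BlocksLocal.KleinOrder.sum_apply_mul_degree (M := M) hM hz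
  rw [BlocksLocal.KleinOrder.sum_four χ₁ χ₂ χ₃ hB h1 h2 h3 h12 h13 h23
      (fun χ => (χ : G → ℂ) z * (χ : G → ℂ) 1)] at hsum
  have ht : ∀ g, ((PrincipalBlock.trivChar G : Cfsg.IrrCharacter G) : G → ℂ) g = 1 := fun _ => rfl
  simp only [ht, v1, v2, v3, one_mul, one_pow] at key hsum
  have hdeg : ∀ χ : Cfsg.IrrCharacter G, (χ : G → ℂ) ≠ (fun _ => 1) →
      1 < Cfsg.charDegree (χ : G → ℂ) ∧ (χ : G → ℂ) 1 = (Cfsg.charDegree (χ : G → ℂ) : ℂ) := by
    intro χ hχ
    obtain ⟨d, hd0, hd⟩ := Characters.exists_degree_pos χ.2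
    have hc : Cfsg.charDegree (χ : G → ℂ) = d := by simp [Cfsg.charDegree, hd]
    refine ⟨?_, by rw [hc, hd]⟩
    rw [hc]
    by_contra hle
    refine hχ (funext fun g => ?_)
    rw [SylowPrimeOrder.eq_trivChar_of_degree_one hG.not_comm (χ := χ) (by rw [hc]; omega)]
    rfl
  obtain ⟨g1, e1⟩ := hdeg χ₁ h1
  obtain ⟨g2, e2⟩ := hdeg χ₂ h2
  obtain ⟨g3, e3⟩ := hdeg χ₃ h3
  rw [e1, e2, e3] at key hsum
  set n1 := Cfsg.charDegree (χ₁ : G → ℂ)
  set n2 := Cfsg.charDegree (χ₂ : G → ℂ)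
  set n3 := Cfsg.charDegree (χ₃ : G → ℂ)
  refine ⟨n1, ε * n2, -(n3 : ℤ), ?_, ?_, ?_, ?_, ?_, ?_, ?_, ?_⟩
  · omega
  · rcases hε with rfl | rfl <;> omega
  · omega
  · omega
  · rcases hε with rfl | rfl <;> omega
  · omega
  · apply Int.cast_injective (α := ℂ)
    push_cast
    linear_combination hsum
  · have hn1 : (n1 : ℂ) ≠ 0 := Nat.cast_ne_zero.2 (by omega)
    have hn2 : (n2 : ℂ) ≠ 0 := Nat.cast_ne_zero.2 (by omega)
    have hn3 : (n3 : ℂ) ≠ 0 := Nat.cast_ne_zero.2 (by omega)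
    apply Int.cast_injective (α := ℂ)
    push_cast at key ⊢
    rcases hε with rfl | rfl <;> push_cast at key hsum ⊢
    · exact klein_alg hn1 (by simpa using hn2) (neg_ne_zero.2 hn3)
        (by linear_combination hsum) (by linear_combination key)
    · exact klein_alg hn1 (by simpa using hn2) (neg_ne_zero.2 hn3)
        (by linear_combination hsum) (by linear_combination key)

/-- The bound for a Sylow 2-subgroup of order four, with equality only for `{-3, -3, 5}`. -/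
theorem klein_bound {z b : G} (hz : orderOf z = 2) (hb : orderOf b = 2) (hne : z ≠ b)
    (hzb : z * b = b * z) (h4 : ∀ S : Sylow 2 G, Nat.card (S : Subgroup G) = 4) :
    16 * Nat.card G * Nat.card (fix z b) ^ 2 ≤
      15 * Nat.card (centralizer ({z} : Set G)) ^ 3 := by
  obtain ⟨x, y, w, hx, hy, hw, hx1, hy1, hw1, hs, he⟩ := hG.klein_order hz hb hne hzb h4
  have hD : 0 < (Nat.card (centralizer ({z} : Set G)) : ℤ) ^ 3 :=
    pow_pos (Int.natCast_pos.2 Nat.card_pos) 3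
  have := (klein_ratio (N := (Nat.card G : ℤ) * (Nat.card (fix z b) : ℤ) ^ 2) hx hy hw hx1 hy1 hw1
    hs hD (by linear_combination he)).1
  zify
  linarith

/-- The equations for a Sylow 2-subgroup of order at least eight. -/
theorem setup_order {P : Sylow 2 G} {s t : G} {h : ℕ} (S : Inv54.DihedralBlock.Setup P s t h) :
    ∃ X U V : ℤ, X % 4 = 1 ∧ 3 ≤ |X| ∧ (2 * h : ℤ) ∣ X - 1 ∧ U ≠ 0 ∧ V ≠ 0 ∧
      U + V = -(1 + X) ∧
      8 * (Nat.card G : ℤ) * (X - 1) ^ 2 * (Nat.card (fix (s ^ h) t) : ℤ) ^ 2 *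
          (Nat.card (fix (s ^ h) (s * t)) : ℤ) ^ 2 =
        X * (X + 1) * (Nat.card (centralizer ({s ^ h} : Set G)) : ℤ) ^ 3 *
          ((Nat.card (fix (s ^ h) t) : ℤ) + (Nat.card (fix (s ^ h) (s * t)) : ℤ)) ^ 2 ∧
      8 * (Nat.card G : ℤ) * (Nat.card (fix (s ^ h) t) : ℤ) ^ 2 *
          (Nat.card (fix (s ^ h) (s * t)) : ℤ) ^ 2 * (U - V) ^ 2 =
        U * V * (1 + X) * (Nat.card (centralizer ({s ^ h} : Set G)) : ℤ) ^ 3 *
          ((Nat.card (fix (s ^ h) t) : ℤ) - (Nat.card (fix (s ^ h) (s * t)) : ℤ)) ^ 2 := by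
  haveI : Fact (Nat.Prime 2) := ⟨Nat.prime_two⟩
  haveI := Fintype.ofFinite G
  obtain ⟨M, hM⟩ := exists_modular_two
  have hts : orderOf (s * t) = 2 := by
    refine orderOf_eq_prime ?_ fun e => S.notMem ?_
    · rw [sq, mul_assoc, ← mul_assoc t s t,
        show t * s * t = t * s * t⁻¹ by rw [Small.inv_eq_self_of_orderOf_two S.ordτ], S.rel,
        mul_inv_cancel]
    · rw [← inv_eq_of_mul_eq_one_right e]
      exact inv_mem (mem_zpowers s)
  obtain ⟨X, U, V, hX, hX0, hU, hV, hUV, h1, h2⟩ :=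
    SuzukiWong.one_class hM S (hG.isConj S.J_order S.ordτ) (hG.isConj S.J_order hts)
  have hidx := congrArg (Nat.cast : ℕ → ℤ)
    (centralizer ({s ^ h} : Set G)).index_mul_card
  have hcard := congrArg (Nat.cast : ℕ → ℤ) (SuzukiWong.card_C S)
  have hcore : S.core = core (s ^ h) := hG.core_eq_setup S
  rw [hcore] at h1 h2 hcard
  change _ * (Nat.card (fix (s ^ h) t) : ℤ) ^ 2 * (Nat.card (fix (s ^ h) (s * t)) : ℤ) ^ 2 * _ =
    _ * ((Nat.card (fix (s ^ h) t) : ℤ) + (Nat.card (fix (s ^ h) (s * t)) : ℤ)) ^ 2 * _ at h1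
  change _ * (Nat.card (fix (s ^ h) t) : ℤ) ^ 2 * (Nat.card (fix (s ^ h) (s * t)) : ℤ) ^ 2 * _ =
    _ * ((Nat.card (fix (s ^ h) t) : ℤ) - (Nat.card (fix (s ^ h) (s * t)) : ℤ)) ^ 2 * _ at h2
  push_cast at hidx hcard
  set I := ((centralizer ({s ^ h} : Set G)).index : ℤ)
  set W1 := (Nat.card (fix (s ^ h) t) : ℤ)
  set W2 := (Nat.card (fix (s ^ h) (s * t)) : ℤ)
  set o := (Nat.card (core (s ^ h)) : ℤ)
  set C := (Nat.card (centralizer ({s ^ h} : Set G)) : ℤ)
  have h4 : (4 : ℤ) ∣ X - 1 := by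
    obtain ⟨k, hk⟩ := S.pow2
    rcases k with _ | k
    · have := S.two_le
      omega
    · exact dvd_trans ⟨2 ^ k, by rw [hk]; push_cast; ring⟩ hX
  have hX1 : X ≠ 1 := by
    rintro rfl
    have ho : 0 < o := Int.natCast_pos.2 Nat.card_pos
    have hh : (0 : ℤ) < h := by have := S.two_le; omega
    have hW : 0 < W1 + W2 :=
      add_pos (Int.natCast_pos.2 Nat.card_pos) (Int.natCast_pos.2 Nat.card_pos)
    have h0 : 4 * ((h : ℤ) ^ 2 * o ^ 2 * (W1 + W2) ^ 2) = 0 := by linear_combination -h1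
    have : 0 < (h : ℤ) ^ 2 * o ^ 2 * (W1 + W2) ^ 2 := by positivity
    omega
  refine ⟨X, U, V, by omega, ?_, hX, hU, hV, hUV, ?_, ?_⟩
  · rcases le_or_gt 0 X with h5 | h5
    · rw [abs_of_nonneg h5]; omega
    · rw [abs_of_neg h5]; omega
  · linear_combination 8 * C * h1 - 8 * (X - 1) ^ 2 * W1 ^ 2 * W2 ^ 2 * hidx -
      X * (X + 1) * (W1 + W2) ^ 2 * C * (C + 4 * h * o) * hcard
  · linear_combination 8 * C * h2 - 8 * W1 ^ 2 * W2 ^ 2 * (U - V) ^ 2 * hidx -
      U * V * (1 + X) * (W1 - W2) ^ 2 * C * (C + 4 * h * o) * hcard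

/-- The bound for a Sylow 2-subgroup of order at least eight. -/
theorem setup_bound {P : Sylow 2 G} {s t : G} {h : ℕ} (S : Inv54.DihedralBlock.Setup P s t h) :
    64 * Nat.card G * Nat.card (fix (s ^ h) t) ^ 2 * Nat.card (fix (s ^ h) (s * t)) ^ 2 ≤
      15 * Nat.card (centralizer ({s ^ h} : Set G)) ^ 3 *
        (Nat.card (fix (s ^ h) t) + Nat.card (fix (s ^ h) (s * t))) ^ 2 := by
  obtain ⟨X, U, V, hX, hX3, -, -, -, -, he, -⟩ := hG.setup_order S
  have := (one_class_ratio (N := (Nat.card G : ℤ) * (Nat.card (fix (s ^ h) t) : ℤ) ^ 2 *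
      (Nat.card (fix (s ^ h) (s * t)) : ℤ) ^ 2)
    (D := (Nat.card (centralizer ({s ^ h} : Set G)) : ℤ) ^ 3 *
      ((Nat.card (fix (s ^ h) t) : ℤ) + (Nat.card (fix (s ^ h) (s * t)) : ℤ)) ^ 2)
    hX (by rintro rfl; norm_num at hX3) (by positivity) (by linear_combination he)).1
  zify
  linarith

/-- The fixed points of a four-group on a subgroup of odd order that it normalises. -/
theorem card_mul_fixed_four {z b : G} (hz : orderOf z = 2) (hb : orderOf b = 2)
    (hzb : z * b = b * z) {O : Subgroup G} (hO : Odd (Nat.card O))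
    (hzO : z ∈ normalizer (O : Set G)) (hbO : b ∈ normalizer (O : Set G)) :
    Nat.card O * Nat.card (O ⊓ centralizer ({z} : Set G) ⊓ centralizer ({b} : Set G) :
        Subgroup G) ^ 2 =
      Nat.card (O ⊓ centralizer ({z} : Set G) : Subgroup G) *
        Nat.card (O ⊓ centralizer ({b} : Set G) : Subgroup G) *
        Nat.card (O ⊓ centralizer ({z * b} : Set G) : Subgroup G) :=
  FourFixed.card_mul_centralizer_sq hO (Small.mul_self_of_orderOf_two hz)
    (Small.mul_self_of_orderOf_two hb) hzb hzO hbO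

/-- Some four-group at `z` satisfies the bound `15/16`. -/
theorem exists_bound {z : G} (hz : orderOf z = 2) :
    ∃ b : G, orderOf b = 2 ∧ z ≠ b ∧ z * b = b * z ∧
      16 * Nat.card G * Nat.card (fix z b) ^ 2 ≤
        15 * Nat.card (centralizer ({z} : Set G)) ^ 3 := by
  haveI : Fact (Nat.Prime 2) := ⟨Nat.prime_two⟩
  obtain ⟨S, hzS, hS⟩ := hG.exists_sylow hz
  obtain ⟨k, hk, hc, ⟨e⟩⟩ := hG.card_sylow S
  haveI : NeZero (2 ^ (k - 1)) := ⟨(Nat.two_pow_pos _).ne'⟩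
  -- an involution of the Sylow subgroup other than `z`
  obtain ⟨w, hw, hwz⟩ : ∃ w : G, (w ∈ (S : Subgroup G) ∧ orderOf w = 2) ∧ w ≠ z := by
    have h01 : (0 : ZMod (2 ^ (k - 1))) ≠ 1 := by
      haveI : Fact (1 < 2 ^ (k - 1)) := ⟨Nat.one_lt_two_pow (by omega)⟩
      exact zero_ne_one
    have key : ∀ i : ZMod (2 ^ (k - 1)),
        ((e.symm (DihedralGroup.sr i) : (S : Subgroup G)) : G) ∈ (S : Subgroup G) ∧
          orderOf ((e.symm (DihedralGroup.sr i) : (S : Subgroup G)) : G) = 2 := fun i =>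
      ⟨SetLike.coe_mem _, by rw [orderOf_coe, MulEquiv.orderOf_eq, DihedralGroup.orderOf_sr]⟩
    by_cases h0 : ((e.symm (DihedralGroup.sr 0) : (S : Subgroup G)) : G) = z
    · refine ⟨_, key 1, fun h1 => h01 ?_⟩
      exact DihedralGroup.sr.inj (e.symm.injective (Subtype.ext (h0.trans h1.symm)))
    · exact ⟨_, key 0, h0⟩
  have hzw : z * w = w * z := (hS w hw.1).symm
  by_cases h8 : ∀ S : Sylow 2 G, 4 < Nat.card (S : Subgroup G)
  · obtain ⟨P, s, t, h, T, hJ, ht⟩ := hG.exists_setup hz hw.2 hwz.symm hzw h8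
    have hb := hG.setup_bound T
    have hts : orderOf (s * t) = 2 := by
      refine orderOf_eq_prime ?_ fun e => T.notMem ?_
      · rw [sq, mul_assoc, ← mul_assoc t s t,
          show t * s * t = t * s * t⁻¹ by rw [Small.inv_eq_self_of_orderOf_two T.ordτ], T.rel,
          mul_inv_cancel]
      · rw [← inv_eq_of_mul_eq_one_right e]
        exact inv_mem (mem_zpowers s)
    subst hJ ht
    have hne2 : s ^ h ≠ s * t := fun e => T.notMem (by
      rw [show t = s⁻¹ * s ^ h by rw [e, inv_mul_cancel_left]]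
      exact mul_mem (inv_mem (mem_zpowers s)) (pow_mem (mem_zpowers s) h))
    set A := Nat.card (fix (s ^ h) t)
    set B := Nat.card (fix (s ^ h) (s * t))
    set D := Nat.card (centralizer ({s ^ h} : Set G)) ^ 3
    rcases Nat.le_total B A with hBA | hBA
    · refine ⟨s * t, hts, hne2, ?_, le_of_mul_le_mul_right (a := 4 * A ^ 2) ?_
        (by have : 0 < A := Nat.card_pos; positivity)⟩
      · exact (T.J_central (mul_mem T.memσ T.memτ)).symm
      · calc 16 * Nat.card G * B ^ 2 * (4 * A ^ 2) = 64 * Nat.card G * A ^ 2 * B ^ 2 := by ring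
          _ ≤ 15 * D * (A + B) ^ 2 := hb
          _ ≤ 15 * D * (4 * A ^ 2) := by
            gcongr
            calc (A + B) ^ 2 ≤ (A + A) ^ 2 := by gcongr
              _ = 4 * A ^ 2 := by ring
    · refine ⟨t, hw.2, hwz.symm, hzw, le_of_mul_le_mul_right (a := 4 * B ^ 2) ?_
        (by have : 0 < B := Nat.card_pos; positivity)⟩
      calc 16 * Nat.card G * A ^ 2 * (4 * B ^ 2) = 64 * Nat.card G * A ^ 2 * B ^ 2 := by ring
        _ ≤ 15 * D * (A + B) ^ 2 := hb
        _ ≤ 15 * D * (4 * B ^ 2) := by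
          gcongr
          calc (A + B) ^ 2 ≤ (B + B) ^ 2 := by gcongr
            _ = 4 * B ^ 2 := by ring
  · refine ⟨w, hw.2, hwz.symm, hzw, hG.klein_bound hz hw.2 hwz.symm hzw fun P => ?_⟩
    push Not at h8
    obtain ⟨S₀, hS₀⟩ := h8
    obtain ⟨j, hj, hjc, -⟩ := hG.card_sylow S₀
    have : j = 2 := by
      by_contra hne
      have := Nat.pow_le_pow_right (show 1 ≤ 2 by omega) (show 3 ≤ j by omega)
      omega
    rw [Nat.card_congr (Sylow.equiv P S₀).toEquiv, hjc, this]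
    norm_num

end Minimal

end CfsgLib.GW
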