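import Cfsg.Agent.GW.FixedPointCount
import Mathlib.Tactic.Linarith
import Mathlib.Tactic.Ring
import Cfsg.Agent.GW.Setting
import Cfsg.Agent.GW.Orders

/-!
# Gorenstein–Walter 4.1 (I): the count

`N` has component `PSL₂(q)`, `C = C(z)` normalises `E` of order `r²` inside `N`, whose line `X` has
its normaliser in `N`.  The only conjugate of `z` in `N ∩ ^cN` is then `z`, so `|G : N|` is at
least `1 + (λ - 1) |z ^ N|` with `λ = |C : C ∩ N| ≤ r`, against the order formula.
-/

set_option autoImplicit false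

open Subgroup
open scoped Pointwise

namespace CfsgLib.GW

/-- The numeric contradiction of 4.1(I). -/
theorem count_absurd {q m p l D : ℕ} (hmp : (m = q + 1 ∧ p + 1 = q) ∨ (m + 1 = q ∧ p = q + 1))
    (hl : 3 ≤ l) (hlm : 4 * l ≤ m) (hD : 2 + (l - 1) * (q * p) ≤ 2 * D)
    (hord : 8 * D * (q * p) ≤ 15 * l ^ 3 * m ^ 2) : False := by
  have hs : 64 * (q * p) ≥ 39 * m ^ 2 := by
    rcases hmp with ⟨rfl, hp⟩ | ⟨hm, rfl⟩
    · subst hp
      nlinarith
    · subst hm
      nlinarith
  have hl2 : 2 * l ≤ 3 * (l - 1) := by omega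
  have hm0 : 0 < m := by omega
  have h1 : 8 * l * (q * p) ^ 2 < 45 * l ^ 3 * m ^ 2 := by
    have hD' : (l - 1) * (q * p) < 2 * D := by omega
    have hqp : 0 < q * p := by nlinarith
    calc 8 * l * (q * p) ^ 2 = 4 * (2 * l) * (q * p) * (q * p) := by ring
      _ ≤ 4 * (3 * (l - 1)) * (q * p) * (q * p) := by gcongr
      _ = 12 * ((l - 1) * (q * p)) * (q * p) := by ring
      _ < 12 * (2 * D) * (q * p) := by gcongr
      _ = 3 * (8 * D * (q * p)) := by ring
      _ ≤ 3 * (15 * l ^ 3 * m ^ 2) := by gcongr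
      _ = 45 * l ^ 3 * m ^ 2 := by ring
  have h2 : 16 * l ^ 3 * m ^ 2 ≤ l * m ^ 4 := by
    calc 16 * l ^ 3 * m ^ 2 = l * (4 * l) ^ 2 * m ^ 2 := by ring
      _ ≤ l * m ^ 2 * m ^ 2 := by gcongr
      _ = l * m ^ 4 := by ring
  have h3 : l * (39 * m ^ 2) ^ 2 ≤ l * (64 * (q * p)) ^ 2 := by gcongr
  nlinarith [pow_pos hm0 4, mul_pos (show 0 < l by omega) (pow_pos hm0 4)]

variable {G : Type*} [Group G] [Finite G]

/-- Two different subgroups of prime order generate a group of order `r²` containing them. -/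
theorem sup_eq_of_lines {X Y E : Subgroup G} {r : ℕ} (hr : r.Prime) (hX : Nat.card X = r)
    (hY : Nat.card Y = r) (hE : Nat.card E = r ^ 2) (hXE : X ≤ E) (hYE : Y ≤ E) (hne : X ≠ Y) :
    X ⊔ Y = E := by
  refine eq_of_le_of_card_ge (sup_le hXE hYE) ?_
  obtain ⟨i, hi, hc⟩ := (Nat.dvd_prime_pow hr).1 (hE ▸ card_dvd_of_le (sup_le hXE hYE))
  have hlt : r < Nat.card (X ⊔ Y : Subgroup G) := by
    refine lt_of_le_of_ne (hX ▸ card_le_of_le le_sup_left) fun h => hne ?_
    have e1 : X = X ⊔ Y := eq_of_le_of_card_ge le_sup_left (by rw [← h, hX])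
    have e2 : Y = X ⊔ Y := eq_of_le_of_card_ge le_sup_right (by rw [← h, hY])
    exact e1.trans e2.symm
  rw [hE, hc]
  refine Nat.pow_le_pow_right hr.pos ?_
  rw [hc] at hlt
  by_contra hi2
  have : r ^ i ≤ r ^ 1 := Nat.pow_le_pow_right hr.pos (by omega)
  rw [pow_one] at this
  omega

/-- The conjugates of a line under the normaliser of a plane: at most `r + 1`. -/
theorem relIndex_line_le {C X E : Subgroup G} {r : ℕ} (hr : r.Prime) (hX : Nat.card X = r)
    (hE : Nat.card E = r ^ 2) (hXE : X ≤ E) (hCE : C ≤ normalizer (E : Set G)) :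
    (normalizer (X : Set G)).relIndex C ≤ r + 1 := by
  classical
  haveI : Fact r.Prime := ⟨hr⟩
  have hmap : ∀ c : C, Nat.card (X.map (MulAut.conj (c : G)).toMonoidHom) = r ∧
      X.map (MulAut.conj (c : G)).toMonoidHom ≤ E := fun c => by
    refine ⟨by rw [card_map_of_injective (MulAut.conj (c : G)).injective, hX], ?_⟩
    rintro _ ⟨x, hx, rfl⟩
    exact (mem_normalizer_iff.1 (hCE c.2) x).1 (hXE hx)
  -- each coset gives a line of `E`; the lines are pairwise disjoint away from `1`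
  let f : C → Subgroup G := fun c => X.map (MulAut.conj (c : G)).toMonoidHom
  have hf : ∀ c d : C, (c : C ⧸ (normalizer (X : Set G)).subgroupOf C) =
      (d : C ⧸ (normalizer (X : Set G)).subgroupOf C) ↔ f c = f d := fun c d => by
    rw [QuotientGroup.eq, mem_subgroupOf, mem_normalizer_iff]
    constructor
    · intro h
      refine le_antisymm ?_ ?_
      · rintro _ ⟨x, hx, rfl⟩
        refine ⟨(d : G)⁻¹ * c * x * ((d : G)⁻¹ * c)⁻¹, (h _).2 ?_, by simp [mul_assoc]⟩
        simpa [mul_assoc] using hx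
      · rintro _ ⟨x, hx, rfl⟩
        exact ⟨_, (h x).1 hx, by simp [mul_assoc]⟩
    · intro h x
      have key : ∀ y : G, (c : G) * y * (c : G)⁻¹ ∈ f c ↔ y ∈ X := fun y => by
        constructor
        · rintro ⟨w, hw, e⟩
          exact (MulAut.conj (c : G)).injective e ▸ hw
        · exact fun hy => ⟨y, hy, rfl⟩
      have key' : ∀ y : G, (d : G) * y * (d : G)⁻¹ ∈ f d ↔ y ∈ X := fun y => by
        constructor
        · rintro ⟨w, hw, e⟩
          exact (MulAut.conj (d : G)).injective e ▸ hw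
        · exact fun hy => ⟨y, hy, rfl⟩
      rw [← key' x, ← h, ← key]
      simp [mul_assoc]
  obtain ⟨g, hg⟩ : ∃ g : C ⧸ (normalizer (X : Set G)).subgroupOf C → C,
      ∀ a, ((g a : C) : C ⧸ (normalizer (X : Set G)).subgroupOf C) = a :=
    ⟨Quotient.out, fun a => Quotient.out_eq a⟩
  have hinj : Function.Injective (fun p : (C ⧸ (normalizer (X : Set G)).subgroupOf C) ×
      {x : X // x ≠ 1} => (⟨⟨(g p.1 : G) * (p.2.1 : G) * (g p.1 : G)⁻¹,
        (hmap (g p.1)).2 ⟨_, p.2.1.2, rfl⟩⟩, fun h => p.2.2 (by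
          have h' : (g p.1 : G) * (p.2.1 : G) * (g p.1 : G)⁻¹ = 1 := congrArg Subtype.val h
          exact Subtype.ext (conj_eq_one_iff.1 h'))⟩ : {e : E // e ≠ 1})) := by
    rintro ⟨a, ⟨x, hx⟩⟩ ⟨b, ⟨y, hy⟩⟩ h
    replace h : (g a : G) * (x : G) * (g a : G)⁻¹ = (g b : G) * (y : G) * (g b : G)⁻¹ :=
      congrArg (fun e : {e : E // e ≠ 1} => ((e.1 : E) : G)) h
    have hne : (g a : G) * (x : G) * (g a : G)⁻¹ ≠ 1 := fun e =>
      hx (Subtype.ext (conj_eq_one_iff.1 e))
    have hint : f (g a) ⊓ f (g b) ≠ ⊥ := fun e => hne (mem_bot.1 (e ▸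
      mem_inf.2 ⟨⟨_, x.2, rfl⟩, ⟨_, y.2, h.symm⟩⟩))
    have hfe : f (g a) = f (g b) := by
      have hd := card_dvd_of_le (inf_le_left : f (g a) ⊓ f (g b) ≤ f (g a))
      rw [(hmap (g a)).1] at hd
      rcases (Nat.dvd_prime hr).1 hd with h1 | h1
      · exact absurd (card_eq_one.1 h1) hint
      · have e1 := eq_of_le_of_card_ge (inf_le_left : f (g a) ⊓ f (g b) ≤ f (g a))
          (by rw [h1, (hmap (g a)).1])
        have e2 := eq_of_le_of_card_ge (inf_le_right : f (g a) ⊓ f (g b) ≤ f (g b))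
          (by rw [h1, (hmap (g b)).1])
        exact e1.symm.trans e2
    have hab : a = b := by rw [← hg a, ← hg b]; exact (hf _ _).2 hfe
    subst hab
    have : x = y := Subtype.ext (mul_left_cancel (mul_right_cancel h))
    subst this
    rfl
  have h := Nat.card_le_card_of_injective _ hinj
  have hsub : ∀ (H : Subgroup G), Nat.card {x : H // x ≠ 1} + 1 = Nat.card H := fun H => by
    cases nonempty_fintype H
    rw [Nat.card_eq_fintype_card, Nat.card_eq_fintype_card, Fintype.card_subtype_compl,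
      Fintype.card_subtype_eq]
    have := Fintype.card_pos_iff.2 (⟨1⟩ : Nonempty H)
    omega
  have hx1 := hsub X
  have he1 := hsub E
  rw [hX] at hx1
  rw [hE] at he1
  rw [Nat.card_prod] at h
  change (normalizer (X : Set G)).relIndex C * Nat.card {x : X // x ≠ 1} ≤ _ at h
  by_contra hlt
  rw [not_le] at hlt
  have h2 : (r + 2) * Nat.card {x : X // x ≠ 1} ≤ Nat.card {e : E // e ≠ 1} :=
    le_trans (Nat.mul_le_mul_right _ hlt) h
  have := hr.two_le
  nlinarith

/-- Case (I) of 4.1 is impossible. -/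
theorem false_of_plane {z : G} (hz : orderOf z = 2) {N X E : Subgroup G} (hzN : z ∈ N)
    {r : ℕ} (hr : r.Prime) (hr2 : Odd r) (hX : Nat.card X = r) (hE : Nat.card E = r ^ 2)
    (hXE : X ≤ E) (hCE : centralizer ({z} : Set G) ≤ normalizer (E : Set G))
    (hNX : normalizer (X : Set G) ≤ N)
    (hinv : ∀ w ∈ N, orderOf w = 2 → ∀ x ∈ X, w * x = x * w)
    (huniq : ∀ w ∈ N, orderOf w = 2 → (∀ e ∈ E, w * e = e * w) → w = z)
    (hodd : Odd (N.relIndex (centralizer ({z} : Set G))))
    (hC : ¬ centralizer ({z} : Set G) ≤ N)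
    {a q m p : ℕ} (hmp : (m = q + 1 ∧ p + 1 = q) ∨ (m + 1 = q ∧ p = q + 1))
    (hNcard : 2 * Nat.card N = a * (q * m * p))
    (hCN : Nat.card ↥(centralizer ({z} : Set G) ⊓ N) = a * m) (hrm : 4 * r ≤ m)
    (hord : 16 * Nat.card G * a ^ 2 ≤ 15 * Nat.card (centralizer ({z} : Set G)) ^ 3) : False := by
  set C := centralizer ({z} : Set G) with hCdef
  -- the only conjugate of `z` in `N ∩ ^cN` is `z`
  have hkey : ∀ c ∈ C, c ∉ N → ∀ n ∈ N, c⁻¹ * (n * z * n⁻¹) * c ∈ N → n * z * n⁻¹ = z := by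
    intro c hc hcN n hn hmem
    have hw : orderOf (n * z * n⁻¹) = 2 := by
      rw [← hz]
      exact MulEquiv.orderOf_eq (MulAut.conj n) z
    have hw' : orderOf (c⁻¹ * (n * z * n⁻¹) * c) = 2 := by
      have h := MulEquiv.orderOf_eq (MulAut.conj c⁻¹) (n * z * n⁻¹)
      rw [hw, MulAut.conj_apply, inv_inv] at h
      exact h
    have hwN : n * z * n⁻¹ ∈ N := mul_mem (mul_mem hn hzN) (inv_mem hn)
    refine huniq _ hwN hw ?_
    have hXc : ∀ e ∈ X.map (MulAut.conj c).toMonoidHom, n * z * n⁻¹ * e = e * (n * z * n⁻¹) := by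
      rintro _ ⟨x, hx, rfl⟩
      have e := hinv _ hmem hw' x hx
      calc n * z * n⁻¹ * (c * x * c⁻¹) = c * (c⁻¹ * (n * z * n⁻¹) * c * x) * c⁻¹ := by group
        _ = c * (x * (c⁻¹ * (n * z * n⁻¹) * c)) * c⁻¹ := by rw [e]
        _ = c * x * c⁻¹ * (n * z * n⁻¹) := by group
    have hne : X ≠ X.map (MulAut.conj c).toMonoidHom := fun h => hcN (hNX
      (mem_normalizer_iff.2 fun x => by
        constructor
        · intro hx; rw [h]; exact ⟨x, hx, rfl⟩
        · intro hx
          rw [h] at hx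
          obtain ⟨y, hy, e⟩ := hx
          exact (MulAut.conj c).injective e ▸ hy))
    have hle : X.map (MulAut.conj c).toMonoidHom ≤ E := by
      rintro _ ⟨x, hx, rfl⟩
      exact (mem_normalizer_iff.1 (hCE hc) x).1 (hXE hx)
    have hsup := sup_eq_of_lines hr hX
      (by rw [card_map_of_injective (MulAut.conj c).injective, hX]) hE hXE hle hne
    intro e he
    rw [← hsup] at he
    have : X ⊔ X.map (MulAut.conj c).toMonoidHom ≤ centralizer ({n * z * n⁻¹} : Set G) :=
      sup_le (fun x hx => mem_centralizer_singleton_iff.2 (hinv _ hwN hw x hx).symm)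
        (fun x hx => mem_centralizer_singleton_iff.2 (hXc x hx).symm)
    exact (mem_centralizer_singleton_iff.1 (this he)).symm
  have hcount := succ_relIndex_mul_le_index hzN (le_refl C) hkey
  set l := N.relIndex C with hl
  -- `λ` is at least three and at most `r`
  have hl1 : l ≠ 1 := fun h => hC (relIndex_eq_one.1 h)
  have hl3 : 3 ≤ l := by
    obtain ⟨k, hk⟩ := hodd
    omega
  have hlr : l ≤ r := by
    have h1 : l ≤ r + 1 := (Nat.le_of_dvd (Nat.pos_of_ne_zero index_ne_zero_of_finite)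
      (relIndex_dvd_of_le_left _ hNX)).trans (relIndex_line_le hr hX hE hXE hCE)
    obtain ⟨k, hk⟩ := hr2
    obtain ⟨k', hk'⟩ := hodd
    omega
  -- orders
  have hm0 : 0 < m := by have := hr.two_le; omega
  have ha : 0 < a := by
    have h : 0 < Nat.card ↥(C ⊓ N) := Nat.card_pos
    rw [hCN] at h
    exact Nat.pos_of_mul_pos_right h
  have hCcard : Nat.card C = l * (a * m) := by
    have h := relIndex_mul_relIndex ⊥ (C ⊓ N) C bot_le inf_le_left
    rw [relIndex_bot_left, relIndex_bot_left, inf_comm C N, inf_relIndex_right] at h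
    rw [← h, ← hCN, inf_comm C N, mul_comm]
  have hzcl : 2 * C.relIndex N = q * p := by
    have h := relIndex_mul_relIndex ⊥ (C ⊓ N) N bot_le inf_le_right
    rw [relIndex_bot_left, relIndex_bot_left, inf_relIndex_right, hCN] at h
    have h2 : a * m * (2 * C.relIndex N) = a * m * (q * p) := by
      calc a * m * (2 * C.relIndex N) = 2 * (a * m * C.relIndex N) := by ring
        _ = 2 * Nat.card N := by rw [h]
        _ = _ := by rw [hNcard]; ring
    exact Nat.eq_of_mul_eq_mul_left (by positivity) h2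
  refine count_absurd (D := N.index) hmp hl3 ((Nat.mul_le_mul_left 4 hlr).trans hrm) ?_ ?_
  · calc 2 + (l - 1) * (q * p) = 2 * (1 + (l - 1) * C.relIndex N) := by rw [← hzcl]; ring
      _ ≤ 2 * N.index := Nat.mul_le_mul_left 2 hcount
  · have hG : 2 * Nat.card G = N.index * (a * (q * m * p)) := by
      rw [← hNcard, ← N.card_mul_index]; ring
    rw [hCcard] at hord
    have h2 : (8 * N.index * (q * p)) * (a ^ 3 * m) ≤ (15 * l ^ 3 * m ^ 2) * (a ^ 3 * m) := by
      calc (8 * N.index * (q * p)) * (a ^ 3 * m) = 8 * (N.index * (a * (q * m * p))) * a ^ 2 := by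
            ring
        _ = 16 * Nat.card G * a ^ 2 := by rw [← hG]; ring
        _ ≤ 15 * (l * (a * m)) ^ 3 := hord
        _ = _ := by ring
    exact Nat.le_of_mul_le_mul_right h2 (by positivity)

/-- The order bound when all four-groups over `z` have fixed part of order `a`. -/
theorem Minimal.order_bound_of_fix {z : G} (hG : Minimal G) (hz : orderOf z = 2) {a : ℕ}
    (ha : ∀ b : G, orderOf b = 2 → b ≠ z → z * b = b * z → Nat.card (fix z b) = a) :
    16 * Nat.card G * a ^ 2 ≤ 15 * Nat.card (centralizer ({z} : Set G)) ^ 3 := by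
  haveI : Fact (Nat.Prime 2) := ⟨Nat.prime_two⟩
  obtain ⟨P, hzP, hP⟩ := hG.exists_sylow hz
  obtain ⟨n, hn, ⟨e⟩⟩ := hG.dih P
  obtain ⟨u, v, hu, hv, hu1, hv1, huv, -⟩ := exists_four_of_dihedral hn P.isPGroup' e
  obtain ⟨b, hb2, hb1, hbz⟩ : ∃ b : (P : Subgroup G), b * b = 1 ∧ b ≠ 1 ∧ (b : G) ≠ z := by
    by_cases h : (u : G) = z
    · exact ⟨v, hv, hv1, fun h' => huv (Subtype.ext (h.trans h'.symm))⟩
    · exact ⟨u, hu, hu1, h⟩
  have hbo : orderOf (b : G) = 2 := by
    rw [orderOf_coe]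
    exact orderOf_eq_prime (by rw [pow_two]; exact hb2) hb1
  have hzb : z * (b : G) = (b : G) * z := (hP _ b.2).symm
  by_cases h4 : ∀ S : Sylow 2 G, Nat.card (S : Subgroup G) = 4
  · have h := hG.klein_bound hz hbo hbz.symm hzb h4
    rwa [ha _ hbo hbz hzb] at h
  · push Not at h4
    obtain ⟨S₀, hS₀⟩ := h4
    have h8 : ∀ S : Sylow 2 G, 4 < Nat.card (S : Subgroup G) := fun S => by
      rw [Nat.card_congr (Sylow.equiv S S₀).toEquiv]
      obtain ⟨k, hk, hc, -⟩ := hG.card_sylow S₀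
      rw [hc] at hS₀ ⊢
      rcases eq_or_lt_of_le hk with rfl | h3
      · exact absurd rfl hS₀
      · exact lt_of_lt_of_le (by norm_num) (Nat.pow_le_pow_right two_pos (Nat.succ_le_of_lt h3))
    obtain ⟨Q, s, t, h, S, rfl, ht⟩ := hG.exists_setup hz hbo hbz.symm hzb h8
    have hst2 : orderOf (s * t) = 2 := by
      refine orderOf_eq_prime ?_ fun h1 => S.notMem ?_
      · rw [pow_two, show s * t * (s * t) = s * (t * s * t⁻¹) * (t * t) by group, S.rel,
          Small.mul_self_of_orderOf_two S.ordτ, mul_inv_cancel, one_mul]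
      · rw [(eq_inv_of_mul_eq_one_right h1)]
        exact inv_mem (mem_zpowers s)
    have hstne : s * t ≠ s ^ h := fun e1 => S.notMem (by
      rw [← inv_mul_cancel_left s t, e1]
      exact mul_mem (inv_mem (mem_zpowers s)) (pow_mem (mem_zpowers s) h))
    have hzt : s ^ h * t = t * s ^ h := by rw [ht]; exact hzb
    have hstc : s ^ h * (s * t) = s * t * s ^ h := by
      rw [← mul_assoc, ← pow_succ, pow_succ', mul_assoc, hzt, mul_assoc]
    have h := hG.setup_bound S
    rw [ha t S.ordτ (ht ▸ hbz) hzt, ha _ hst2 hstne hstc] at h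
    rcases Nat.eq_zero_or_pos a with rfl | hpos
    · simp
    · refine Nat.le_of_mul_le_mul_right (c := 4 * a ^ 2) ?_ (by positivity)
      calc 16 * Nat.card G * a ^ 2 * (4 * a ^ 2) = 64 * Nat.card G * a ^ 2 * a ^ 2 := by ring
        _ ≤ _ := h
        _ = _ := by ring

/-- Odd index of `N` in `C` when `N ⊓ C` contains a Sylow 2-subgroup. -/
theorem odd_relIndex_of_sylow_le {N C : Subgroup G} (S : Sylow 2 G)
    (hSN : (S : Subgroup G) ≤ N) (hSC : (S : Subgroup G) ≤ C) : Odd (N.relIndex C) := by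
  haveI : Fact (Nat.Prime 2) := ⟨Nat.prime_two⟩
  have hd : N.relIndex C ∣ (S : Subgroup G).index := by
    rw [← inf_relIndex_right]
    have h := relIndex_mul_relIndex (S : Subgroup G) (N ⊓ C) C (le_inf hSN hSC) inf_le_right
    exact (dvd_mul_left _ _).trans (h ▸ relIndex_dvd_index_of_le hSC)
  refine (Nat.not_even_iff_odd.1 ?_)
  intro he
  exact S.not_dvd_index ((even_iff_two_dvd.1 he).trans hd)

end CfsgLib.GW
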