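import Cfsg.Agent.GW.InnerFacts
import Cfsg.Agent.GW.OSType.LinearFacts

/-!
# Gorenstein–Walter 4.1: the component, without a hypothesis on its index

`CompData z N O K F τ`: a component `K ≅ PSL₂(q)` of `N` centralising the odd normal subgroup `O`,
with the facts on `F(O(C(z)))` of case 4.1.  The quotient `N / O` is a `Model`, conjugates of `K`
inside `N` equal `K`, and `F(O(C(z))) ⊓ O` is cyclic.
-/

set_option autoImplicit false
set_option linter.style.haveILetI false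
set_option linter.unusedSectionVars false

open Subgroup
open scoped Pointwise commutatorElement

namespace CfsgLib.GW

universe u

variable {G : Type u} [Group G]

/-- The data of case 4.1 with a component `K`, whatever its index. -/
structure CompData (z : G) (N O K : Subgroup G) (F : Type) [Field F] [Fintype F] (τ : G) :
    Prop where
  iso : Nonempty (K ≃* Matrix.ProjectiveSpecialLinearGroup (Fin 2) F)
  hF : Odd (Fintype.card F)
  hlarge : 3 < Fintype.card F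
  hON : O ≤ N
  hKN : K ≤ N
  hOn : N ≤ normalizer (O : Set G)
  hKn : N ≤ normalizer (K : Set G)
  hOodd : Odd (Nat.card O)
  hcomm : ∀ o ∈ O, ∀ x ∈ K, o * x = x * o
  hcent : N ⊓ centralizer (K : Set G) ≤ O
  hzK : z ∈ K
  hτK : τ ∈ K
  hτ : orderOf τ = 2
  hne : τ ≠ z
  hzτ : z * τ = τ * z
  hCN : ¬ centralizer ({z} : Set G) ≤ N
  hfit : fit z ⊓ centralizer ({τ} : Set G) ≤ O
  hA : fit z ⊓ O ≠ ⊥
  hAX : ∀ X : Subgroup G, X ≠ ⊥ → X ≤ fit z ⊓ O → normalizer (X : Set G) ≤ N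
  hfitN : fit z ⊓ N ≤ O ⊔ K

namespace CompData

variable [Finite G] {z : G} {N O K : Subgroup G} {F : Type} [Field F] [Fintype F] {τ : G}
  (h : CompData z N O K F τ)
include h

theorem tau_C : τ ∈ centralizer ({z} : Set G) := mem_centralizer_singleton_iff.2 h.hzτ.symm

/-- An element of odd order of `K` commuting with `z` and `τ` is trivial. -/
theorem eq_one_of_commute (hz : orderOf z = 2) {x : G} (hx : x ∈ K) (hxo : Odd (orderOf x))
    (h1 : x * z = z * x) (h2 : x * τ = τ * x) : x = 1 := by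
  obtain ⟨e⟩ := h.iso
  have hne : e ⟨z, h.hzK⟩ ≠ e ⟨τ, h.hτK⟩ := fun h' => h.hne (congrArg Subtype.val (e.injective h')).symm
  have hk := eq_one_of_commute_four_psl (a := e ⟨z, h.hzK⟩) (b := e ⟨τ, h.hτK⟩) h.hF
    (by rw [MulEquiv.orderOf_eq, orderOf_mk, hz]) (by rw [MulEquiv.orderOf_eq, orderOf_mk, h.hτ]) hne
    (by rw [← map_mul, ← map_mul]; exact congrArg e (Subtype.ext h.hzτ))
    (k := e ⟨x, hx⟩) (by rwa [MulEquiv.orderOf_eq, orderOf_mk])
    (by rw [← map_mul, ← map_mul]; exact congrArg e (Subtype.ext h1))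
    (by rw [← map_mul, ← map_mul]; exact congrArg e (Subtype.ext h2))
  exact congrArg Subtype.val ((MulEquiv.map_eq_one_iff e).1 hk)

theorem eq_one_of_mem_inf (hz : orderOf z = 2) {x : G} (hxO : x ∈ O) (hxK : x ∈ K) : x = 1 :=
  h.eq_one_of_commute hz hxK (h.hOodd.of_dvd_nat (O.orderOf_dvd_natCard hxO))
    (h.hcomm x hxO z h.hzK) (h.hcomm x hxO τ h.hτK)

/-- An involution of `O ⊔ K` lies in `K`. -/
theorem mem_K_of_sup {w : G} (hw : w ∈ O ⊔ K) (hw2 : orderOf w = 2) : w ∈ K := by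
  have h' := coe_mul_of_left_le_normalizer_right O K (h.hON.trans h.hKn)
  have hm : w ∈ ((O ⊔ K : Subgroup G) : Set G) := hw
  rw [h'] at hm
  obtain ⟨o, ho, x, hx, rfl⟩ := Set.mem_mul.1 hm
  have hp := (show Commute o x from h.hcomm o ho x hx).mul_pow (Nat.card O)
  rw [orderOf_dvd_iff_pow_eq_one.1 (O.orderOf_dvd_natCard ho), one_mul] at hp
  obtain ⟨j, hj⟩ := h.hOodd
  rw [hj, pow_succ, pow_mul, orderOf_dvd_iff_pow_eq_one.1 hw2.dvd, one_pow, one_mul] at hp
  rw [hp]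
  exact pow_mem hx _

/-- `K` is a non-abelian simple group. -/
theorem simple_K : IsSimpleGroup K ∧ ¬ IsMulCommutative K := by
  obtain ⟨e⟩ := h.iso
  haveI := CfsgLib.Linear.isSimpleGroup_PSL_of (F := F) 2 le_rfl (fun _ => h.hlarge)
  haveI : Nontrivial K := e.toEquiv.nontrivial
  refine ⟨IsSimpleGroup.isSimpleGroup_of_surjective e.symm.toMonoidHom e.symm.surjective, fun hc => ?_⟩
  have hKO : K ≤ O := fun x hx => h.hcent ⟨h.hKN hx, mem_centralizer_iff.2 fun y hy =>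
    congrArg Subtype.val (hc.is_comm.comm ⟨y, hy⟩ ⟨x, hx⟩)⟩
  have h2 := h.hOodd.of_dvd_nat (O.orderOf_dvd_natCard (hKO h.hτK))
  rw [h.hτ] at h2
  exact absurd h2 (by decide)

/-- `N / O` has `PSL₂` as a self-centralizing normal subgroup. -/
theorem exists_model (hG : Minimal G) (hz : orderOf z = 2) :
    ∃ (Q : Type u) (_ : Group Q) (_ : Finite Q) (π : N →* Q) (L : Subgroup Q) (_ : L.Normal),
      Function.Surjective π ∧ (∀ n : N, π n = 1 ↔ (n : G) ∈ O) ∧
      (∀ n : N, π n ∈ L ↔ (n : G) ∈ O ⊔ K) ∧ Nonempty (OS.Model L F) := by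
  obtain ⟨e⟩ := h.iso
  haveI : (O.subgroupOf N).Normal := normal_subgroupOf_of_le_normalizer h.hOn
  let π : N →* N ⧸ O.subgroupOf N := QuotientGroup.mk' _
  have hker : ∀ n : N, π n = 1 ↔ (n : G) ∈ O := fun n =>
    (QuotientGroup.eq_one_iff n).trans mem_subgroupOf
  let ι : K →* N ⧸ O.subgroupOf N := π.comp (inclusion h.hKN)
  have hι : Function.Injective ι := (injective_iff_map_eq_one ι).2 fun x hx =>
    Subtype.ext (h.eq_one_of_mem_inf hz ((hker _).1 hx) x.2)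
  haveI hLn : ι.range.Normal := ⟨fun q hq g => by
    obtain ⟨x, rfl⟩ := hq
    obtain ⟨n, rfl⟩ := QuotientGroup.mk'_surjective _ g
    refine ⟨⟨(n : G) * x * (n : G)⁻¹, (mem_normalizer_iff.1 (h.hKn n.2) x).1 x.2⟩, ?_⟩
    show π _ = π n * π (inclusion h.hKN x) * (π n)⁻¹
    rw [← map_inv, ← map_mul, ← map_mul]
    rfl⟩
  have hodd : (Nat.card (O.subgroupOf N)).Coprime 2 := by
    rw [Nat.card_congr (subgroupOfEquivOfLe h.hON).toEquiv]
    exact Nat.coprime_two_right.2 h.hOodd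
  refine ⟨N ⧸ O.subgroupOf N, inferInstance, inferInstance, π, ι.range, hLn,
    QuotientGroup.mk'_surjective _, hker, fun n => ⟨?_, fun hn => ?_⟩,
    ⟨(MonoidHom.ofInjective hι).symm.trans e, ?_, h.hF, h.hlarge,
      (hG.dihType.subgroup N).quotient _ hodd⟩⟩
  · rintro ⟨x, hx⟩
    have h1 : (n : G) * (x : G)⁻¹ ∈ O := (hker (n * (inclusion h.hKN x)⁻¹)).1 (by
      rw [map_mul, map_inv]; exact mul_inv_eq_one.2 hx.symm)
    have h2 := mul_mem (mem_sup_left h1 : (n : G) * (x : G)⁻¹ ∈ O ⊔ K) (mem_sup_right x.2)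
    rwa [inv_mul_cancel_right] at h2
  · have h' := coe_mul_of_left_le_normalizer_right O K (h.hON.trans h.hKn)
    have hm : (n : G) ∈ ((O ⊔ K : Subgroup G) : Set G) := hn
    rw [h'] at hm
    obtain ⟨o, ho, x, hx, he⟩ := Set.mem_mul.1 hm
    refine ⟨⟨x, hx⟩, ?_⟩
    rw [show n = ⟨o, h.hON ho⟩ * ⟨x, h.hKN hx⟩ from Subtype.ext he.symm, map_mul,
      (hker ⟨o, h.hON ho⟩).2 ho, one_mul]
    rfl
  · rw [eq_bot_iff]
    intro q hq
    obtain ⟨n, rfl⟩ := QuotientGroup.mk'_surjective _ q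
    refine (hker n).2 (h.hcent ⟨n.2, mem_centralizer_iff.2 fun x hx => ?_⟩)
    have h1 := mem_centralizer_iff.1 hq _ ⟨⟨x, hx⟩, rfl⟩
    have hmem : (n : G) * x * (n : G)⁻¹ * x⁻¹ ∈ O := (hker (n * ⟨x, h.hKN hx⟩ * n⁻¹ *
      ⟨x, h.hKN hx⟩⁻¹)).1 (by
        simp only [map_mul, map_inv]
        rw [show π n * π ⟨x, h.hKN hx⟩ = π ⟨x, h.hKN hx⟩ * π n from h1.symm]
        group)
    have h2 := h.eq_one_of_mem_inf hz hmem
      (mul_mem ((mem_normalizer_iff.1 (h.hKn n.2) x).1 hx) (inv_mem hx))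
    exact (mul_inv_eq_iff_eq_mul.1 (mul_inv_eq_one.1 h2)).symm

/-- A simple non-abelian subgroup of `N` lies in `O ⊔ K`. -/
theorem simple_le (hG : Minimal G) (hz : orderOf z = 2) {H : Subgroup G} (hHN : H ≤ N)
    (hH : IsSimpleGroup H) (hH' : ¬ IsMulCommutative H) : H ≤ O ⊔ K := by
  obtain ⟨Q, _, _, π, L, _, -, -, hπL, ⟨m⟩⟩ := h.exists_model hG hz
  let φ : H →* Q ⧸ L := (QuotientGroup.mk' L).comp (π.comp (inclusion hHN))
  suffices hall : ∀ x : H, φ x = 1 from fun x hx =>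
    (hπL ⟨x, hHN hx⟩).1 ((QuotientGroup.eq_one_iff (N := L) _).1 (hall ⟨x, hx⟩))
  -- second commutators of `N / O` lie in `L`
  have hd : ∀ {g g' : Q}, g ∈ m.diagPart → g' ∈ m.diagPart → g * g' * g⁻¹ * g'⁻¹ ∈ L := by
    intro g g' hg hg'
    obtain ⟨A, hA⟩ := OS.Model.mem_diagPart.1 hg
    obtain ⟨B, hB⟩ := OS.Model.mem_diagPart.1 hg'
    refine OS.Model.mem_of_det (((hA.mul hB).mul hA.inv).mul hB.inv) ⟨1, ?_⟩
    rw [← Matrix.GeneralLinearGroup.val_det_apply]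
    simp [map_mul, map_inv]
  have hcomm : commutator H = ⊤ := by
    haveI := hH
    rcases IsSimpleGroup.eq_bot_or_eq_top_of_normal (commutator H) inferInstance with e | e
    · refine absurd ⟨⟨fun a b => ?_⟩⟩ hH'
      have : ⁅a, b⁆ ∈ commutator H := commutator_mem_commutator (mem_top a) (mem_top b)
      rw [e, mem_bot] at this
      exact commutatorElement_eq_one_iff_commute.1 this
    · exact e
  let D : Subgroup H := m.diagPart.comap (π.comp (inclusion hHN))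
  have hD : D = ⊤ := by
    rw [eq_top_iff, ← hcomm, commutator_def, commutator_le]
    intro a _ b _
    show π (inclusion hHN ⁅a, b⁆) ∈ m.diagPart
    rw [map_commutatorElement, map_commutatorElement, commutatorElement_def]
    exact OS.Model.commutator_mem _ _
  have hker : φ.ker = ⊤ := by
    rw [eq_top_iff, ← hcomm, commutator_def, commutator_le]
    intro a _ b _
    rw [MonoidHom.mem_ker]
    show QuotientGroup.mk' L (π (inclusion hHN ⁅a, b⁆)) = 1
    refine (QuotientGroup.eq_one_iff (N := L) _).2 ?_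
    rw [map_commutatorElement, map_commutatorElement, commutatorElement_def]
    exact hd (show a ∈ D by rw [hD]; trivial) (show b ∈ D by rw [hD]; trivial)
  exact fun x => MonoidHom.mem_ker.1 (hker ▸ mem_top x)

/-- Conjugates of `K` inside `N` equal `K`. -/
theorem conj_eq (hG : Minimal G) (hz : orderOf z = 2) {d : G}
    (hd : ∀ x ∈ K, d * x * d⁻¹ ∈ N) : ∀ x ∈ K, orderOf x = 2 → d * x * d⁻¹ ∈ K := by
  intro x hx hx2
  set H := K.map (MulAut.conj d).toMonoidHom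
  obtain ⟨hs, hnc⟩ := h.simple_K
  haveI := hs
  have eH := K.equivMapOfInjective (MulAut.conj d).toMonoidHom (MulEquiv.injective _)
  haveI : Nontrivial H := eH.symm.toEquiv.nontrivial
  have hHs : IsSimpleGroup H :=
    IsSimpleGroup.isSimpleGroup_of_surjective eH.toMonoidHom eH.surjective
  have hle := h.simple_le hG hz (H := H) (by rintro _ ⟨y, hy, rfl⟩; exact hd y hy) hHs fun hc =>
    hnc ⟨⟨fun a b => eH.injective (by rw [map_mul, map_mul, hc.is_comm.comm])⟩⟩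
  exact h.mem_K_of_sup (hle ⟨x, hx, rfl⟩) (by rw [Small.orderOf_conj_eq, hx2])

/-- The cyclic torus of `C_K(z)`. -/
theorem exists_torus (hz : orderOf z = 2) : ∃ T : Subgroup G, T ≤ K ∧ IsCyclic T ∧
    (∀ x ∈ K, x * z = z * x → Odd (orderOf x) → x ∈ T) ∧ True ∧
    ∀ x ∈ T, τ * x * τ⁻¹ = x⁻¹ := by
  obtain ⟨e⟩ := h.iso
  set zK : K := ⟨z, h.hzK⟩
  have hzo : orderOf (e zK) = 2 := by rw [MulEquiv.orderOf_eq, orderOf_mk, hz]
  obtain ⟨T, hTc, hzT, hT1, hT2⟩ := exists_torus_psl h.hF hzo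
  set f : Matrix.ProjectiveSpecialLinearGroup (Fin 2) F →* G :=
    K.subtype.comp e.symm.toMonoidHom with hf
  haveI := hTc
  haveI : IsCyclic (T.map f) :=
    isCyclic_of_surjective (f.subgroupMap T) (MonoidHom.subgroupMap_surjective f T)
  have hmemT : ∀ (x : G) (hx : x ∈ K), e ⟨x, hx⟩ ∈ T → x ∈ T.map f := fun x hx hxT =>
    ⟨_, hxT, by simp [hf]⟩
  have hτT : e ⟨τ, h.hτK⟩ ∉ T := fun hm => h.hne (by
    haveI : Fintype T := Fintype.ofFinite T
    classical
    by_contra hne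
    have h1 := IsCyclic.card_pow_eq_one_le (α := T) (n := 2) two_pos
    have h2 : ({1, ⟨e zK, hzT⟩, ⟨e ⟨τ, h.hτK⟩, hm⟩} : Finset T) ⊆
        Finset.univ.filter (fun v : T => v ^ 2 = 1) := by
      intro v hv
      refine Finset.mem_filter.2 ⟨Finset.mem_univ _, Subtype.ext ?_⟩
      simp only [Finset.mem_insert, Finset.mem_singleton] at hv
      rcases hv with rfl | rfl | rfl
      · simp
      · show e zK ^ 2 = 1
        exact orderOf_dvd_iff_pow_eq_one.1 hzo.dvd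
      · show e ⟨τ, h.hτK⟩ ^ 2 = 1
        rw [← map_pow, MulEquiv.map_eq_one_iff]
        exact Subtype.ext (by simp [pow_two, Small.mul_self_of_orderOf_two h.hτ])
    have h3 := (Finset.card_le_card h2).trans h1
    have n1 : e zK ≠ 1 := fun e' => by rw [e', orderOf_one] at hzo; omega
    have n2 : e ⟨τ, h.hτK⟩ ≠ 1 := fun e' => Small.ne_one_of_orderOf_two h.hτ
      (congrArg Subtype.val ((MulEquiv.map_eq_one_iff e).1 e'))
    have n3 : e zK ≠ e ⟨τ, h.hτK⟩ := fun e' => hne (congrArg Subtype.val (e.injective e')).symm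
    rw [Finset.card_insert_of_notMem (by
        simp only [Finset.mem_insert, Finset.mem_singleton, not_or]
        exact ⟨fun e' => n1 (congrArg Subtype.val e').symm,
          fun e' => n2 (congrArg Subtype.val e').symm⟩),
      Finset.card_pair (fun e' => n3 (congrArg Subtype.val e'))] at h3
    omega)
  refine ⟨T.map f, ?_, inferInstance, fun x hx hxz hxo => ?_, ?_, ?_⟩
  · rintro _ ⟨t, -, rfl⟩
    exact (e.symm t).2
  · refine hmemT x hx ((hT1 (e ⟨x, hx⟩) ?_).resolve_right fun h2 => ?_)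
    · rw [← map_mul, ← map_mul]; exact congrArg e (Subtype.ext hxz)
    · rw [MulEquiv.orderOf_eq, orderOf_mk] at h2
      rw [h2] at hxo
      exact absurd hxo (by decide)
  · trivial
  · rintro _ ⟨t, ht, rfl⟩
    have hc : e ⟨τ, h.hτK⟩ * e zK = e zK * e ⟨τ, h.hτK⟩ := by
      rw [← map_mul, ← map_mul]; exact congrArg e (Subtype.ext h.hzτ.symm)
    have := congrArg f (hT2 _ hc hτT t ht)
    simpa [hf] using this

/-- An element of `fit z ⊓ N` is a fixed element times a torus element inside `fit z`. -/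
theorem fit_parts (hz : orderOf z = 2) {w : G} (hw : w ∈ fit z) (hwN : w ∈ N) :
    ∃ o ∈ fit z ⊓ O, ∃ x ∈ K, x ∈ fit z ∧ x * z = z * x ∧ Odd (orderOf x) ∧ w = o * x := by
  obtain ⟨o, ho, x, hx, rfl⟩ : ∃ o ∈ O, ∃ x ∈ K, o * x = w := by
    have h' := coe_mul_of_left_le_normalizer_right O K (h.hON.trans h.hKn)
    have hm : w ∈ ((O ⊔ K : Subgroup G) : Set G) := h.hfitN ⟨hw, hwN⟩
    rw [h'] at hm
    obtain ⟨o, ho, x, hx, e⟩ := Set.mem_mul.1 hm
    exact ⟨o, ho, x, hx, e⟩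
  have hox : Commute o x := h.hcomm o ho x hx
  have hxz : x * z = z * x := by
    have h1 := commute_of_mem_core (fit_le_core z hw)
    refine mul_left_cancel (a := o) ?_
    rw [← mul_assoc, h1, ← mul_assoc o, h.hcomm o ho z h.hzK, mul_assoc]
  have hxo : Odd (orderOf x) := by
    have h1 := pow_orderOf_eq_one (o * x)
    rw [hox.mul_pow] at h1
    have h2 : x ^ orderOf (o * x) = 1 := by
      refine h.eq_one_of_mem_inf hz ?_ (pow_mem hx _)
      rw [eq_inv_of_mul_eq_one_right h1]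
      exact inv_mem (pow_mem ho _)
    exact (odd_orderOf_core (fit_le_core z hw)).of_dvd_nat (orderOf_dvd_of_pow_eq_one h2)
  have hxF : x ∈ fit z := by
    obtain ⟨T, -, -, hT1, -, hT2⟩ := h.exists_torus hz
    have hinv := hT2 x (hT1 x hx hxz hxo)
    have hτw : τ * (o * x) * τ⁻¹ = o * x⁻¹ := by
      rw [show τ * (o * x) * τ⁻¹ = (τ * o * τ⁻¹) * (τ * x * τ⁻¹) by group, hinv,
        ← h.hcomm o ho τ h.hτK, mul_inv_cancel_right]
    have hmem : o * x⁻¹ ∈ fit z := hτw ▸ (mem_normalizer_iff.1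
      (centralizer_le_normalizer_fit z h.tau_C) _).1 hw
    have hx2 : x ^ 2 ∈ fit z := by
      have h3 := mul_mem (inv_mem hmem) hw
      rwa [mul_inv_rev, inv_inv, mul_assoc, inv_mul_cancel_left, ← pow_two] at h3
    obtain ⟨j, hj⟩ := hxo
    have : x = (x ^ 2) ^ (j + 1) := by
      rw [← pow_mul, show 2 * (j + 1) = orderOf x + 1 by omega, pow_succ, pow_orderOf_eq_one, one_mul]
    rw [this]
    exact pow_mem hx2 _
  refine ⟨o, ⟨?_, ho⟩, x, hx, hxF, hxz, hxo, rfl⟩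
  have := mul_mem hw (inv_mem hxF)
  rwa [mul_inv_cancel_right] at this

/-- A fixed element is moved into the fixed part only inside `N`. -/
theorem mem_N_of_conj (hG : Minimal G) (hz : orderOf z = 2) {c x : G} (hc : c ∈ centralizer ({z} : Set G)) (hx : x ∈ fit z ⊓ O)
    (hx1 : x ≠ 1) (hcx : c * x * c⁻¹ ∈ fit z ⊓ O) : c ∈ N := by
  have hfc : ∀ d ∈ centralizer ({z} : Set G), ∀ v ∈ fit z, d * v * d⁻¹ ∈ fit z := fun d hd v hv =>
    (mem_normalizer_iff.1 (centralizer_le_normalizer_fit z hd) v).1 hv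
  -- an element of `O` centralises `K`, so both conjugates of `K` lie in `N`
  have hKc : ∀ d ∈ centralizer ({z} : Set G), ∀ y : G, y ∈ fit z ⊓ O → y ≠ 1 →
      d * y * d⁻¹ ∈ fit z ⊓ O → ∀ w ∈ K, orderOf w = 2 → d⁻¹ * w * d ∈ K := by
    intro d _ y hy hy1 hdy w hw hw2
    have := h.conj_eq hG hz (d := d⁻¹) (fun v hv => ?_) w hw hw2
    · rwa [inv_inv] at this
    refine h.hAX (zpowers y) (by simpa [zpowers_eq_bot] using hy1) (zpowers_le.2 hy)
      (centralizer_le_normalizer _ (mem_centralizer_iff.2 ?_))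
    rintro _ ⟨i, rfl⟩
    have h1 : Commute y (d⁻¹ * v * d⁻¹⁻¹) := by
      show y * (d⁻¹ * v * d⁻¹⁻¹) = d⁻¹ * v * d⁻¹⁻¹ * y
      calc y * (d⁻¹ * v * d⁻¹⁻¹) = d⁻¹ * (d * y * d⁻¹ * v) * d := by group
        _ = d⁻¹ * (v * (d * y * d⁻¹)) * d := by rw [h.hcomm _ hdy.2 v hv]
        _ = d⁻¹ * v * d⁻¹⁻¹ * y := by group
    exact (h1.zpow_left i).eq
  -- the fixed part inside `fit z` of `τ` and its conjugates is `A`
  have hA : ∀ d ∈ centralizer ({z} : Set G), d⁻¹ * τ * d ∈ K → ∀ a ∈ fit z ⊓ O,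
      d * a * d⁻¹ ∈ fit z ⊓ O := by
    intro d hd hdτ a ha
    have hm := hfc d hd a ha.1
    refine ⟨hm, h.hfit ⟨hm, mem_centralizer_singleton_iff.2 ?_⟩⟩
    calc d * a * d⁻¹ * τ = d * (a * (d⁻¹ * τ * d)) * d⁻¹ := by group
      _ = d * (d⁻¹ * τ * d * a) * d⁻¹ := by rw [h.hcomm a ha.2 _ hdτ]
      _ = τ * (d * a * d⁻¹) := by group
  have h1 := hKc c hc x hx hx1 hcx τ h.hτK h.hτ
  have h2 := hKc c⁻¹ (inv_mem hc) (c * x * c⁻¹) hcx
    (fun e => hx1 (conj_eq_one_iff.1 e)) (by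
      rw [show c⁻¹ * (c * x * c⁻¹) * c⁻¹⁻¹ = x by group]; exact hx) τ h.hτK h.hτ
  refine h.hAX (fit z ⊓ O) h.hA le_rfl (mem_normalizer_iff.2 fun a => ⟨hA c hc h1 a, fun ha => ?_⟩)
  have := hA c⁻¹ (inv_mem hc) h2 _ ha
  simpa [mul_assoc] using this

/-- A primary part of `A` is cyclic. -/
theorem isCyclic_qcore_inf (hG : Minimal G) (hz : orderOf z = 2) {r : ℕ} (hr : r.Prime) :
    IsCyclic (qcore r z ⊓ O : Subgroup G) := by
  haveI := Fact.mk hr
  set R := qcore r z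
  set M := R ⊓ N
  rcases eq_or_ne (R ⊓ O) ⊥ with e | hne
  · rw [e]; infer_instance
  obtain ⟨c, hc, hcN, hcM⟩ : ∃ c ∈ centralizer ({z} : Set G), c ∉ N ∧
      ∀ x ∈ R ⊓ O, c * x * c⁻¹ ∈ M := by
    by_cases hRN : R ≤ N
    · obtain ⟨c, hc, hcN⟩ := SetLike.not_le_iff_exists.1 h.hCN
      exact ⟨c, hc, hcN, fun x hx => ⟨qcore_conj hc hx.1, hRN (qcore_conj hc hx.1)⟩⟩
    · obtain ⟨c, hcR, hcn, hcM⟩ : ∃ c ∈ R, c ∈ normalizer (M : Set G) ∧ c ∉ M := by
        have hlt : M.subgroupOf R < ⊤ := lt_top_iff_ne_top.2 fun e =>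
          hRN fun x hx => ((subgroupOf_eq_top.1 e) hx).2
        haveI := (qcore_isPGroup (q := r) z).isNilpotent
        obtain ⟨⟨c, hcR⟩, hcn, hcM⟩ :=
          SetLike.exists_of_lt (Group.normalizerCondition_of_isNilpotent _ hlt)
        refine ⟨c, hcR, mem_normalizer_iff.2 fun x => ?_, fun h' => hcM (mem_subgroupOf.2 h')⟩
        constructor
        · intro hx
          exact mem_subgroupOf.1
            ((mem_normalizer_iff.1 hcn (⟨x, hx.1⟩ : R)).1 (mem_subgroupOf.2 hx))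
        · intro hx
          have hxR : x ∈ R := by
            have := mul_mem (mul_mem (inv_mem hcR) hx.1) hcR
            rwa [show c⁻¹ * (c * x * c⁻¹) * c = x by group] at this
          exact mem_subgroupOf.1
            ((mem_normalizer_iff.1 hcn (⟨x, hxR⟩ : R)).2 (mem_subgroupOf.2 hx))
      exact ⟨c, core_le z (qcore_le_core r z hcR), fun hcN => hcM ⟨hcR, hcN⟩,
        fun x hx => (mem_normalizer_iff.1 hcn x).1 ⟨hx.1, h.hON hx.2⟩⟩
  obtain ⟨T, hTK, hTc, hT1, -, -⟩ := h.exists_torus hz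
  have hdec : ∀ x : (R ⊓ O : Subgroup G), ∃ o ∈ O, ∃ t ∈ T, c * (x : G) * c⁻¹ = o * t := fun x => by
    obtain ⟨o, ho, t, htK, -, htz, hto, e⟩ :=
      h.fit_parts hz (qcore_le_fit hr z (hcM x x.2).1) (hcM x x.2).2
    exact ⟨o, ho.2, t, hT1 t htK htz hto, e⟩
  choose o ho t ht e using hdec
  have huniq : ∀ {o₁ o₂ t₁ t₂ : G}, o₁ ∈ O → o₂ ∈ O → t₁ ∈ K → t₂ ∈ K →
      o₁ * t₁ = o₂ * t₂ → t₁ = t₂ := by
    intro o₁ o₂ t₁ t₂ h1 h2 h3 h4 he
    have h5 : o₂⁻¹ * o₁ = t₂ * t₁⁻¹ := by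
      rw [eq_mul_inv_iff_mul_eq, mul_assoc, he, inv_mul_cancel_left]
    have h6 := h.eq_one_of_mem_inf hz (mul_mem (inv_mem h2) h1) (h5 ▸ mul_mem h4 (inv_mem h3))
    exact (mul_inv_eq_one.1 (h5.symm.trans h6)).symm
  let f : (R ⊓ O : Subgroup G) →* T := MonoidHom.mk' (fun x => ⟨t x, ht x⟩) fun x y => Subtype.ext (by
    show t (x * y) = t x * t y
    refine huniq (ho (x * y)) (mul_mem (ho x) (ho y)) (hTK (ht (x * y)))
      (mul_mem (hTK (ht x)) (hTK (ht y))) ?_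
    rw [← e, show o x * o y * (t x * t y) = o x * (o y * t x) * t y by group,
      h.hcomm _ (ho y) _ (hTK (ht x)),
      show o x * (t x * o y) * t y = (o x * t x) * (o y * t y) by group, ← e, ← e, coe_mul]
    group)
  refine isCyclic_of_injective f ((injective_iff_map_eq_one f).2 fun x hx => Subtype.ext ?_)
  by_contra hx1
  have hx' : t x = 1 := congrArg Subtype.val hx
  have e' := e x
  rw [hx', mul_one] at e'
  exact hcN (h.mem_N_of_conj hG hz hc ⟨qcore_le_fit hr z x.2.1, x.2.2⟩ hx1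
    ⟨qcore_le_fit hr z (hcM x x.2).1, by rw [e']; exact ho x⟩)

/-- `A = fit z ⊓ O` is cyclic. -/
theorem isCyclic_A (hG : Minimal G) (hz : orderOf z = 2) : IsCyclic (fit z ⊓ O : Subgroup G) := by
  haveI : Group.IsNilpotent (fit z) := OddOrder.isNilpotent_fittingOf (core z)
  haveI : Group.IsNilpotent (fit z ⊓ O : Subgroup G) :=
    Group.isNilpotent_congr (subgroupOfEquivOfLe (inf_le_left : fit z ⊓ O ≤ fit z)) |>.1 inferInstance
  haveI : IsZGroup (fit z ⊓ O : Subgroup G) := ⟨fun p hp P => by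
    haveI := Fact.mk hp
    have hle : (P : Subgroup _).map (fit z ⊓ O).subtype ≤ qcore p z ⊓ O :=
      le_inf (le_qcore hp ((map_subtype_le _).trans inf_le_left) (P.isPGroup'.map _))
        ((map_subtype_le _).trans inf_le_right)
    haveI := h.isCyclic_qcore_inf hG hz hp
    haveI : IsCyclic ((P : Subgroup _).map (fit z ⊓ O).subtype) := isCyclic_of_le hle
    exact isCyclic_of_surjective _
      ((P : Subgroup _).equivMapOfInjective _ (fit z ⊓ O).subtype_injective).symm.surjective⟩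
  infer_instance

/-- `fit z ⊓ N` is commutative. -/
theorem fit_comm (hG : Minimal G) (hz : orderOf z = 2) : ∀ v ∈ fit z ⊓ N, ∀ w ∈ fit z ⊓ N, v * w = w * v := by
  intro v hv w hw
  obtain ⟨o₁, ho₁, t₁, ht₁, -, h1z, h1o, rfl⟩ := h.fit_parts hz hv.1 hv.2
  obtain ⟨o₂, ho₂, t₂, ht₂, -, h2z, h2o, rfl⟩ := h.fit_parts hz hw.1 hw.2
  obtain ⟨T, -, hTc, hT1, -, -⟩ := h.exists_torus hz
  haveI := hTc
  haveI := h.isCyclic_A hG hz
  have e1 : Commute o₁ o₂ := commute_of_isCyclic o₁ ho₁ o₂ ho₂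
  have e2 : Commute t₁ t₂ :=
    commute_of_isCyclic t₁ (hT1 t₁ ht₁ h1z h1o) t₂ (hT1 t₂ ht₂ h2z h2o)
  have e3 : Commute o₁ t₂ := h.hcomm o₁ ho₁.2 t₂ ht₂
  have e4 : Commute o₂ t₁ := h.hcomm o₂ ho₂.2 t₁ ht₁
  exact ((e1.mul_right e3).mul_left (e4.symm.mul_right e2)).eq

/-- `fit z ⊓ N` has rank at most two. -/
theorem omega_le (hG : Minimal G) (hz : orderOf z = 2) {r : ℕ} (hr : r.Prime) :
    Nat.card {x : G // x ∈ fit z ⊓ N ∧ x ^ r = 1} ≤ r ^ 2 := by
  classical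
  obtain ⟨T, hTK, hTc, hT1, -, -⟩ := h.exists_torus hz
  haveI := hTc
  haveI := h.isCyclic_A hG hz
  haveI : Fintype T := Fintype.ofFinite T
  haveI : Fintype (fit z ⊓ O : Subgroup G) := Fintype.ofFinite _
  have hA : Nat.card {a : (fit z ⊓ O : Subgroup G) // a ^ r = 1} ≤ r := by
    rw [Nat.card_eq_fintype_card, Fintype.card_subtype]; exact IsCyclic.card_pow_eq_one_le hr.pos
  have hT : Nat.card {a : T // a ^ r = 1} ≤ r := by
    rw [Nat.card_eq_fintype_card, Fintype.card_subtype]; exact IsCyclic.card_pow_eq_one_le hr.pos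
  let g : {a : (fit z ⊓ O : Subgroup G) // a ^ r = 1} × {a : T // a ^ r = 1} → G :=
    fun p => (p.1.1 : G) * (p.2.1 : G)
  have hsub : {x : G | x ∈ fit z ⊓ N ∧ x ^ r = 1} ⊆ Set.range g := by
    rintro x ⟨hx, hxr⟩
    obtain ⟨o, ho, t, htK, -, htz, hto, rfl⟩ := h.fit_parts hz hx.1 hx.2
    have hc : Commute o t := h.hcomm o ho.2 t htK
    rw [hc.mul_pow] at hxr
    have ht1 : t ^ r = 1 := h.eq_one_of_mem_inf hz
      (by rw [eq_inv_of_mul_eq_one_right hxr]; exact inv_mem (pow_mem ho.2 r)) (pow_mem htK r)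
    rw [ht1, mul_one] at hxr
    exact ⟨(⟨⟨o, ho⟩, Subtype.ext hxr⟩, ⟨⟨t, hT1 t htK htz hto⟩, Subtype.ext ht1⟩), rfl⟩
  calc Nat.card {x : G // x ∈ fit z ⊓ N ∧ x ^ r = 1}
      ≤ Nat.card (Set.range g) := Nat.card_mono (Set.toFinite _) hsub
    _ ≤ _ := Finite.card_range_le g
    _ ≤ r ^ 2 := by rw [Nat.card_prod, pow_two]; exact Nat.mul_le_mul hA hT

end CompData

end CfsgLib.GW
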