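import Cfsg.Agent.GW.Scalar
import Cfsg.Agent.GW.OSType.AltSeven
import Cfsg.Agent.OddOrder.BG1Stab
import Cfsg.Agent.GW.ScalarMoving

/-!
# Gorenstein–Walter 4.1: `z` lies in the component, and the component is not `A₇`

`z_mem_component`: a normal subgroup of `N` of order divisible by 4 contains `z` once the elements
mapping `b` to `z * b` lie in `N`.
`false_of_centralized_fit`: an involution `≠ z` centralising `F(O(C(z))) ∩ N`, where `N ⊇ C(X)` for
some `1 ≠ X ≤ F(O(C(z)))` inside `N`, is impossible.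
-/

set_option autoImplicit false
set_option linter.style.haveILetI false
set_option linter.unusedSectionVars false

open Subgroup
open scoped commutatorElement

namespace CfsgLib.GW

universe u

variable {G : Type u} [Group G] [Finite G]

/-- An involution which is a commutator in a 2-subgroup of a group of dihedral type lies in every
normal subgroup of even order. -/
theorem mem_of_commutator_involution {X : Type*} [Group X] [Finite X] (hX : DihType X)
    {L : Subgroup X} [L.Normal] (hL : 2 ∣ Nat.card L) {P : Subgroup X} (hP : IsPGroup 2 P)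
    {x y w : X} (hx : x ∈ P) (hy : y ∈ P) (hw : x * y * x⁻¹ * y⁻¹ = w) (hwo : orderOf w = 2) :
    w ∈ L := by
  haveI : Fact (Nat.Prime 2) := ⟨Nat.prime_two⟩
  obtain ⟨T, hT⟩ := hP.exists_le_sylow
  obtain ⟨n, f, hf⟩ := hX T T.isPGroup'
  -- commutators are rotations
  have hrot : ∀ a b : T, f (a * b * a⁻¹ * b⁻¹) ∈ rot n := by
    intro a b
    simp only [map_mul, map_inv]
    rcases f a with i | i <;> rcases f b with j | j <;>
      simp [DihedralGroup.r_mul_r, DihedralGroup.r_mul_sr, DihedralGroup.sr_mul_r,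
        DihedralGroup.sr_mul_sr, r_mem_rot]
  have hwT : w ∈ (T : Subgroup X) := hw ▸ mul_mem (mul_mem (mul_mem (hT hx) (hT hy))
    (inv_mem (hT hx))) (inv_mem (hT hy))
  have hwr : f ⟨w, hwT⟩ ∈ rot n := by
    rw [show (⟨w, hwT⟩ : T) = ⟨x, hT hx⟩ * ⟨y, hT hy⟩ * ⟨x, hT hx⟩⁻¹ * ⟨y, hT hy⟩⁻¹ from
      Subtype.ext hw.symm]
    exact hrot _ _
  -- a central involution of `T` inside `L`
  set M : Subgroup T := L.subgroupOf (T : Subgroup X)
  haveI : M.Normal := inferInstance
  have hM : M ≠ ⊥ := by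
    intro hM
    obtain ⟨v, hv⟩ := exists_prime_orderOf_dvd_card' (G := L) 2 hL
    obtain ⟨U, hU⟩ := (IsPGroup.of_card (n := 1) (by
      rw [Nat.card_zpowers, orderOf_coe, hv, pow_one]) : IsPGroup 2 (zpowers (v : X))).exists_le_sylow
    obtain ⟨c, hc⟩ := MulAction.exists_smul_eq X T U
    have hvU : (v : X) ∈ ((c • T : Sylow 2 X) : Subgroup X) := hc ▸ hU (mem_zpowers _)
    obtain ⟨t, ht, hte⟩ := hvU
    have hte' : c * t * c⁻¹ = (v : X) := hte
    have htL : t ∈ L := by
      have := (inferInstance : L.Normal).conj_mem (v : X) v.2 c⁻¹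
      rwa [← hte', show c⁻¹ * (c * t * c⁻¹) * c⁻¹⁻¹ = t by group] at this
    have : (⟨t, ht⟩ : T) = 1 := by
      have h : (⟨t, ht⟩ : T) ∈ M := htL
      rwa [hM, mem_bot] at h
    rw [show t = 1 from congrArg Subtype.val this, mul_one, mul_inv_cancel] at hte'
    rw [show v = 1 from Subtype.ext hte'.symm, orderOf_one] at hv
    omega
  obtain ⟨c, hcM, hc1, hcc⟩ := OS.exists_fixed_ne_one (P := M) (Q := (⊤ : Subgroup T))
    (T.isPGroup'.to_subgroup _) (T.isPGroup'.to_subgroup _)
    (fun g _ => (normalizer_eq_top_iff.2 (inferInstance : M.Normal)).symm ▸ mem_top g) hM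
  obtain ⟨k, hk⟩ := (IsPGroup.iff_orderOf (p := 2) (G := T)).1 T.isPGroup' c
  have hk0 : k ≠ 0 := fun e => hc1 (orderOf_eq_one_iff.1 (by rw [hk, e, pow_zero]))
  set e := c ^ 2 ^ (k - 1) with he
  have heo : orderOf e = 2 := by
    rw [he, orderOf_pow_of_dvd (pow_ne_zero _ two_ne_zero) (hk ▸ pow_dvd_pow 2 (Nat.sub_le _ _)), hk,
      Nat.pow_div (Nat.sub_le _ _) two_pos, show k - (k - 1) = 1 by omega, pow_one]
  have hwo' : orderOf (⟨w, hwT⟩ : T) = 2 := by rw [← orderOf_coe]; exact hwo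
  suffices he' : e = ⟨w, hwT⟩ by
    have h : e ∈ M := pow_mem hcM _
    rw [he'] at h
    exact h
  have hw1 : f ⟨w, hwT⟩ ≠ 1 := fun h => Small.ne_one_of_orderOf_two hwo'
    (hf (h.trans (map_one f).symm))
  have he1 : f e ≠ 1 := fun h => Small.ne_one_of_orderOf_two heo (hf (h.trans (map_one f).symm))
  have he2 : f e * f e = 1 := by rw [← map_mul, Small.mul_self_of_orderOf_two heo, map_one]
  have hw2 : f ⟨w, hwT⟩ * f ⟨w, hwT⟩ = 1 := by
    rw [← map_mul, Small.mul_self_of_orderOf_two hwo', map_one]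
  by_cases her : f e ∈ rot n
  · rcases eq_of_mem_rot_of_sq her hwr he2 hw2 with h | h | h
    · exact absurd h he1
    · exact absurd h hw1
    · exact hf h
  · -- all rotations square to one, so commutators are trivial
    exfalso
    have hrot2 : ∀ t : T, f t ∈ rot n → f t * f t = 1 := fun t _ =>
      mul_self_of_commute _ _ her (by
        show f t * f e = f e * f t
        rw [← map_mul, ← map_mul, ((hcc t (mem_top t)).pow_right _).eq])
    have hexp : ∀ t : T, t * t = 1 := fun t => hf (by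
      rw [map_mul, map_one]
      by_cases ht : f t ∈ rot n
      · exact hrot2 t ht
      · exact mul_self_of_notMem_rot _ ht)
    have hinv : ∀ t : T, t⁻¹ = t := fun t => inv_eq_of_mul_eq_one_right (hexp t)
    refine Small.ne_one_of_orderOf_two hwo' ?_
    rw [show (⟨w, hwT⟩ : T) = ⟨x, hT hx⟩ * ⟨y, hT hy⟩ * ⟨x, hT hx⟩⁻¹ * ⟨y, hT hy⟩⁻¹ from
      Subtype.ext hw.symm, hinv, hinv, mul_assoc]
    exact hexp _

namespace Minimal

variable (hG : Minimal G)
include hG

/-- **`z` outer on the component is impossible.** -/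
theorem z_mem_component {z b : G} (hz : orderOf z = 2) (hb : orderOf b = 2) (hne : z ≠ b)
    (hzb : z * b = b * z) {N L : Subgroup G} (hLN : L ≤ N) (hLn : N ≤ normalizer (L : Set G))
    (hL : 4 ∣ Nat.card L) (hzN : z ∈ N) (hbN : b ∈ N)
    (hswap : ∀ s : G, s * z * s⁻¹ = z → s * b * s⁻¹ = z * b → s ∈ N) : z ∈ L := by
  haveI : Fact (Nat.Prime 2) := ⟨Nat.prime_two⟩
  haveI : (L.subgroupOf N).Normal := normal_subgroupOf_of_le_normalizer hLn
  have hzz := Small.mul_self_of_orderOf_two hz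
  have hbb := Small.mul_self_of_orderOf_two hb
  obtain ⟨hV, -⟩ := hG.four_spec hz hb hne hzb
  obtain ⟨hV4, -⟩ := TwoGroups.isKleinFour_iff.1 hV
  set V := closure ({z, b} : Set G) with hVdef
  have hVN : V ≤ N := (closure_le _).2 fun x hx => by
    rcases hx with rfl | rfl <;> assumption
  have hVp : IsPGroup 2 V := IsPGroup.of_card (n := 2) (by rw [hV4]; rfl)
  by_cases h8 : ∀ S : Sylow 2 G, 4 < Nat.card (S : Subgroup G)
  · obtain ⟨s₀, hs1, hs2⟩ := hG.exists_swap hz hb hne hzb h8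
    -- the 2-part of the swapping element
    obtain ⟨k, m, hm, hk⟩ := Nat.exists_eq_two_pow_mul_odd (orderOf_pos s₀).ne'
    have hs0 : ∀ j : ℕ, s₀ ^ (2 * j + 1) * b * (s₀ ^ (2 * j + 1))⁻¹ = z * b ∧
        s₀ ^ (2 * j + 1) * z * (s₀ ^ (2 * j + 1))⁻¹ = z := by
      intro j
      induction j with
      | zero => simpa using ⟨hs2, hs1⟩
      | succ j ih =>
        have e : 2 * (j + 1) + 1 = (2 * j + 1) + 1 + 1 := by ring
        have e1 : s₀ * (z * b) * s₀⁻¹ = b := by
          rw [show s₀ * (z * b) * s₀⁻¹ = s₀ * z * s₀⁻¹ * (s₀ * b * s₀⁻¹) by group, hs1, hs2,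
            ← mul_assoc, hzz, one_mul]
        constructor
        · rw [e, pow_succ', pow_succ', show s₀ * (s₀ * s₀ ^ (2 * j + 1)) * b *
            (s₀ * (s₀ * s₀ ^ (2 * j + 1)))⁻¹ = s₀ * (s₀ * (s₀ ^ (2 * j + 1) * b *
              (s₀ ^ (2 * j + 1))⁻¹) * s₀⁻¹) * s₀⁻¹ by group, ih.1, e1, hs2]
        · rw [e, pow_succ', pow_succ', show s₀ * (s₀ * s₀ ^ (2 * j + 1)) * z *
            (s₀ * (s₀ * s₀ ^ (2 * j + 1)))⁻¹ = s₀ * (s₀ * (s₀ ^ (2 * j + 1) * z *
              (s₀ ^ (2 * j + 1))⁻¹) * s₀⁻¹) * s₀⁻¹ by group, ih.2, hs1, hs1]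
    obtain ⟨j, hj⟩ := hm
    set s := s₀ ^ m with hsdef
    obtain ⟨hsb, hsz⟩ : s * b * s⁻¹ = z * b ∧ s * z * s⁻¹ = z := by rw [hsdef, hj]; exact hs0 j
    have hsp : IsPGroup 2 (zpowers s) := IsPGroup.of_card (n := k) (by
      rw [Nat.card_zpowers, hsdef, orderOf_pow, hk, Nat.gcd_eq_right (dvd_mul_left _ _),
        Nat.mul_div_cancel _ (by omega : 0 < m)])
    have hsV : s ∈ normalizer (V : Set G) := by
      rw [mem_normalizer_iff_map_conj_eq, hVdef, MonoidHom.map_closure, Set.image_pair]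
      show closure ({s * z * s⁻¹, s * b * s⁻¹} : Set G) = closure {z, b}
      rw [hsz, hsb]
      refine le_antisymm ((closure_le _).2 ?_) ((closure_le _).2 ?_)
      · rintro x (rfl | rfl)
        exacts [subset_closure (by simp), mul_mem (subset_closure (by simp)) (subset_closure (by simp))]
      · rintro x (rfl | rfl)
        · exact subset_closure (by simp)
        · have h : z * (z * x) ∈ closure ({z, z * x} : Set G) :=
            mul_mem (subset_closure (by simp)) (subset_closure (by simp))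
          rwa [← mul_assoc, hzz, one_mul] at h
    have hP : IsPGroup 2 (zpowers s ⊔ V : Subgroup G) :=
      hsp.to_sup_of_normal_right' hVp (zpowers_le.2 hsV)
    have hPN : zpowers s ⊔ V ≤ N := sup_le (zpowers_le.2 (hswap s hsz hsb)) hVN
    exact mem_subgroupOf.1 (mem_of_commutator_involution (hG.dihType.subgroup N)
      (L := L.subgroupOf N) (by
        rw [Nat.card_congr (subgroupOfEquivOfLe hLN).toEquiv]
        exact dvd_trans (by norm_num) hL)
      (P := (zpowers s ⊔ V).subgroupOf N) (hP.comap_subtype (K := N))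
      (x := ⟨s, hswap s hsz hsb⟩) (y := ⟨b, hbN⟩) (w := ⟨z, hzN⟩)
      (mem_subgroupOf.2 (mem_sup_left (mem_zpowers s)))
      (mem_subgroupOf.2 (mem_sup_right (subset_closure (by simp))))
      (Subtype.ext (show s * b * s⁻¹ * b⁻¹ = z by rw [hsb, mul_inv_cancel_right]))
      (by rw [← orderOf_coe]; exact hz))
  · -- a four-group Sylow subgroup of `N` lies in `L`
    simp only [not_forall, not_lt] at h8
    obtain ⟨S₀, hS₀⟩ := h8
    obtain ⟨T, hT⟩ := (hVp.comap_subtype (K := N)).exists_le_sylow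
    obtain ⟨T₁, hT₁⟩ := (T.isPGroup'.map N.subtype).exists_le_sylow
    have hTc : Nat.card T ≤ 4 := by
      refine le_trans ?_ ((le_of_eq (Nat.card_congr (Sylow.equiv T₁ S₀).toEquiv)).trans hS₀)
      rw [← card_map_of_injective N.subtype_injective]
      exact card_le_of_le hT₁
    obtain ⟨⟨P, hP, hP4⟩⟩ : Nonempty {P : Subgroup G // P ≤ L ∧ Nat.card P = 4} := by
      obtain ⟨P, hP⟩ := Sylow.exists_subgroup_card_pow_prime (G := L) 2 (n := 2) (by simpa using hL)
      exact ⟨⟨P.map L.subtype, map_subtype_le P, by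
        rw [card_map_of_injective L.subtype_injective, hP]; norm_num⟩⟩
    obtain ⟨U, hU⟩ := ((IsPGroup.of_card (n := 2) (by rw [hP4]; norm_num) :
      IsPGroup 2 P).comap_subtype (K := N)).exists_le_sylow
    have hUP : P.subgroupOf N = (U : Subgroup N) := eq_of_le_of_card_ge hU (by
      rw [Nat.card_congr (Sylow.equiv U T).toEquiv,
        Nat.card_congr (subgroupOfEquivOfLe (hP.trans hLN)).toEquiv, hP4]
      exact hTc)
    obtain ⟨c, hc⟩ := MulAction.exists_smul_eq N U T
    have hzT : (⟨z, hzN⟩ : N) ∈ ((c • U : Sylow 2 N) : Subgroup N) :=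
      hc ▸ hT (show z ∈ V from subset_closure (by simp))
    obtain ⟨t, ht, hte⟩ := hzT
    rw [← hUP] at ht
    have := (inferInstance : (L.subgroupOf N).Normal).conj_mem t (hP ht) c
    rw [show c * t * c⁻¹ = ⟨z, hzN⟩ from hte] at this
    exact this

/-- An involution `b ≠ z` centralising `F(O(C(z))) ∩ N` is impossible, when `N` contains the
centralizer of a non-trivial primary subgroup of `F(O(C(z))) ∩ N`. -/
theorem false_of_centralized_fit {z b : G} (hz : orderOf z = 2)
    (hmax : IsCoatom (centralizer ({z} : Set G))) (hb : orderOf b = 2) (hbz : z ≠ b)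
    (hzb : z * b = b * z) {N X : Subgroup G} {r : ℕ} (hr : r.Prime) (hXp : IsPGroup r X)
    (hX : X ≠ ⊥) (hXF : X ≤ fit z) (hXN : X ≤ N) (hCX : centralizer (X : Set G) ≤ N)
    (hcent : ∀ u ∈ fit z ⊓ N, b * u = u * b) : False := by
  haveI := Fact.mk hr
  have hXq : X ≤ qcore r z := le_qcore hr hXF hXp
  have hr2 : r ≠ 2 := fun e => hX (eq_bot_iff.2 (qcore_two z ▸ e ▸ hXq))
  have hbC : b ∈ centralizer ({z} : Set G) := mem_centralizer_singleton_iff.2 hzb.symm
  have hfix : ∀ q : ℕ, q.Prime → ∀ x ∈ qcore q z, b * x * b⁻¹ = x := by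
    intro q hq x hx
    rw [mul_inv_eq_iff_eq_mul]
    rcases eq_or_ne q r with rfl | hqr
    · haveI := Fact.mk hq
      have hbP : b ∈ centralizer (qcore q z : Set G) := by
        refine CharPLocal.commute_of_axb (qcore_isPGroup z) hXp ?_
          (centralizer_le_normalizer_qcore q z hbC) ?_
          ((hXq.trans (qcore_le_core q z)).trans (core_le_normalizer_qcore q z)) ?_
        · rw [hb]
          exact Nat.coprime_two_left.2 (hq.odd_of_ne_two hr2)
        · exact mem_centralizer_iff.2 fun u hu => (hcent u ⟨hXF hu, hXN hu⟩).symm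
        · intro u hu hu'
          exact (hcent u ⟨qcore_le_fit hq z hu, hCX hu'⟩).symm
      exact (mem_centralizer_iff.1 hbP x hx).symm
    · refine hcent x ⟨qcore_le_fit hq z hx, hCX ?_⟩
      exact centralizer_le (show (X : Set G) ⊆ qcore r z from hXq) (qcore_commute hq hr hqr z hx)
  have hbc := centralizes_core_of_fixes hbC ⟨1, by rw [hb, pow_one]⟩ hfix
  have hW : fix z b = core z := inf_eq_left.2 fun u hu =>
    mem_centralizer_singleton_iff.2 (mem_centralizer_iff.1 hbc u hu)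
  refine hX (eq_bot_iff.2 ?_)
  rw [← hG.fix_eq_bot_of_normalized hz hmax hb hbz hzb
    (hW.symm ▸ centralizer_le_normalizer_core z), hW]
  exact hXF.trans (fit_le_core z)

/-- **The component is not `A₇`.** -/
theorem false_of_altSeven {z : G} (hz : orderOf z = 2)
    (hmax : IsCoatom (centralizer ({z} : Set G))) {N O K X : Subgroup G} (hKN : K ≤ N)
    (hOz : O ≤ core z) (hcomm : ∀ o ∈ O, ∀ k ∈ K, o * k = k * o) (hzK : z ∈ K)
    (f : N →* alternatingGroup (Fin 7)) (hker : ∀ x : N, f x = 1 ↔ (x : G) ∈ O)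
    (hfK : ∀ a, ∃ x : N, (x : G) ∈ K ∧ f x = a)
    {r : ℕ} (hr : r.Prime) (hXp : IsPGroup r X) (hX : X ≠ ⊥) (hXF : X ≤ fit z) (hXN : X ≤ N)
    (hCX : centralizer (X : Set G) ≤ N) : False := by
  classical
  set v₀ : Equiv.Perm (Fin 7) := Equiv.swap 0 1 * Equiv.swap 2 3 with hv₀
  set v₁ : Equiv.Perm (Fin 7) := Equiv.swap 0 2 * Equiv.swap 1 3 with hv₁
  set zN : N := ⟨z, hKN hzK⟩
  have hOodd : Odd (Nat.card O) := (odd_core z).of_dvd_nat (card_dvd_of_le hOz)
  have hodd : ∀ {u : G}, u ∈ O → Odd (orderOf u) := fun {u} hu =>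
    odd_orderOf_core (hOz hu)
  -- the image of `z`
  have hψz : orderOf ((f zN : alternatingGroup (Fin 7)) : Equiv.Perm (Fin 7)) = 2 := by
    rw [orderOf_coe]
    refine orderOf_eq_prime ?_ fun h => ?_
    · rw [← map_pow, show zN ^ 2 = 1 from Subtype.ext (by
        rw [SubmonoidClass.coe_pow, pow_two]; exact Small.mul_self_of_orderOf_two hz), map_one]
    · have h2 := hodd ((hker zN).1 h)
      rw [hz] at h2
      exact absurd h2 (by decide)
  have hct : ((f zN : alternatingGroup (Fin 7)) : Equiv.Perm (Fin 7)).cycleType = v₀.cycleType := by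
    set σ : Equiv.Perm (Fin 7) := ((f zN : alternatingGroup (Fin 7)) : Equiv.Perm (Fin 7)) with hσ
    obtain ⟨n, hn⟩ := Equiv.Perm.cycleType_prime_order (σ := σ) (hψz ▸ Nat.prime_two)
    rw [hψz] at hn
    have hsum : σ.cycleType.sum ≤ 7 := by
      rw [Equiv.Perm.sum_cycleType]
      exact (Finset.card_le_univ _).trans (by simp)
    have hsign : Equiv.Perm.sign σ = 1 := Equiv.Perm.mem_alternatingGroup.1 (SetLike.coe_mem _)
    rw [Equiv.Perm.sign_of_cycleType, hn] at hsign
    rw [hn] at hsum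
    simp at hsum hsign
    have hv : v₀.cycleType = Multiset.replicate 2 2 := by decide
    rw [hn, hv]
    have h3 : n < 3 := by omega
    interval_cases n <;> simp_all <;> (revert hsign; decide)
  obtain ⟨c, hc⟩ := isConj_iff.1 ((Equiv.Perm.isConj_iff_cycleType_eq).2 hct)
  let φ : N →* Equiv.Perm (Fin 7) :=
    (MulAut.conj c).toMonoidHom.comp ((alternatingGroup (Fin 7)).subtype.comp f)
  have hφker : ∀ x : N, φ x = 1 ↔ (x : G) ∈ O := fun x => by
    rw [← hker x]
    show MulAut.conj c ((f x : Equiv.Perm (Fin 7))) = 1 ↔ _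
    rw [MulEquiv.map_eq_one_iff, OneMemClass.coe_eq_one]
  have hφz : φ zN = v₀ := hc
  obtain ⟨x₁, hx₁K, hx₁⟩ := hfK ⟨c⁻¹ * v₁ * c, Equiv.Perm.mem_alternatingGroup.2 (by
    rw [map_mul, map_mul, map_inv, hv₁]; simp [mul_comm])⟩
  have hφx₁ : φ x₁ = v₁ := by
    show c * ((f x₁ : Equiv.Perm (Fin 7))) * c⁻¹ = v₁
    rw [hx₁]; simp [mul_assoc]
  -- the involution
  set d : N := x₁ ^ Nat.card O with hd
  have hφd : φ d = v₁ := by
    obtain ⟨j, hj⟩ := hOodd
    rw [hd, map_pow, hφx₁, hj, pow_succ, pow_mul, show v₁ ^ 2 = 1 by decide, one_pow, one_mul]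
  have hdK : (d : G) ∈ K := by rw [hd, SubmonoidClass.coe_pow]; exact pow_mem hx₁K _
  have hd2 : (d : G) * d = 1 := by
    have hsq : (x₁ : G) * x₁ ∈ O := (hφker (x₁ * x₁)).1 (by rw [map_mul, hφx₁]; decide)
    rw [hd, SubmonoidClass.coe_pow, ← (Commute.refl (x₁ : G)).mul_pow]
    exact orderOf_dvd_iff_pow_eq_one.1 (O.orderOf_dvd_natCard hsq)
  have hd1 : (d : G) ≠ 1 := fun h => by
    rw [show d = 1 from Subtype.ext h, map_one] at hφd
    exact absurd hφd (by decide)
  have hdo : orderOf (d : G) = 2 := Small.orderOf_eq_two_iff_sq.2 ⟨hd1, hd2⟩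
  -- commuting modulo `O` gives commuting
  have hcomm' : ∀ u : N, φ d * φ u = φ u * φ d → (d : G) * u = u * d := by
    intro u hu
    have hw : ((d * u * d⁻¹ * u⁻¹ : N) : G) ∈ O := (hφker _).1 (by
      rw [map_mul, map_mul, map_mul, map_inv, map_inv, hu]; group)
    push_cast at hw
    refine mul_inv_eq_iff_eq_mul.1 (mul_inv_eq_one.1 ?_)
    generalize hwe : (d : G) * u * (d : G)⁻¹ * (u : G)⁻¹ = w at hw ⊢
    have hdw : Commute (d : G) w := (hcomm w hw d hdK).symm
    have h1 : (d : G) * w * (d : G)⁻¹ = w := by rw [hdw.eq, mul_inv_cancel_right]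
    refine orderOf_eq_one_iff.1 (Nat.eq_one_of_dvd_coprimes (Nat.coprime_two_right.2 (hodd hw))
      dvd_rfl (orderOf_dvd_of_pow_eq_one ?_))
    calc w ^ 2 = (d : G) * w * (d : G)⁻¹ * w := by rw [h1, pow_two]
      _ = (d : G) * d * u * ((d : G) * d)⁻¹ * (u : G)⁻¹ := by rw [← hwe]; group
      _ = 1 := by rw [hd2, inv_one, one_mul, mul_one, mul_inv_cancel]
  have hzd : z * (d : G) = d * z := (hcomm' zN (by rw [hφd, hφz]; decide)).symm
  refine hG.false_of_centralized_fit hz hmax hdo (fun h => ?_) hzd hr hXp hX hXF hXN hCX ?_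
  · rw [show d = zN from Subtype.ext h.symm, hφz] at hφd
    exact absurd hφd (by decide)
  · intro u hu
    refine hcomm' ⟨u, hu.2⟩ ?_
    rw [hφd]
    have hcz : Commute v₀ (φ ⟨u, hu.2⟩) := by
      rw [← hφz]
      exact (show Commute zN ⟨u, hu.2⟩ from
        Subtype.ext (commute_of_mem_core (fit_le_core z hu.1)).symm).map φ
    have ho : Odd (orderOf (φ ⟨u, hu.2⟩)) := by
      refine Odd.of_dvd_nat (odd_orderOf_core (fit_le_core z hu.1)) ?_
      rw [← orderOf_mk u hu.2]
      exact orderOf_map_dvd φ _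
    have hfx := OS.alt_odd_fixes _ (Or.inl rfl) (v := v₀) (by decide) (by decide) hcz ho
    have hmove : ∀ i : Fin 7, ((v₁ i : ℕ) < 4 ↔ (i : ℕ) < 4) ∧ (4 ≤ (i : ℕ) → v₁ i = i) := by
      decide
    set σ := φ ⟨u, hu.2⟩
    ext i : 1
    change v₁ (σ i) = σ (v₁ i)
    by_cases hi4 : (i : ℕ) < 4
    · rw [hfx i hi4, hfx _ ((hmove i).1.2 hi4)]
    · have h7 : ¬ (σ i : ℕ) < 4 := fun hlt => hi4 (by
        have := hfx _ hlt
        rw [σ.injective this] at hlt
        exact hlt)
      rw [(hmove i).2 (not_lt.1 hi4), (hmove _).2 (not_lt.1 h7)]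

end Minimal

end CfsgLib.GW
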