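import Cfsg.Agent.GW.NoEscape
import Cfsg.Agent.GW.FourFixed
import Cfsg.Agent.S0205

/-!
# Gorenstein–Walter: scalar action on the Fitting subgroup of the core

In a minimal counterexample with `C(z)` maximal and `NoEscape z`, a Sylow 2-subgroup of `C(z)` acts
by `±1` on every primary part of `F(O(C(z)))`.
-/

set_option autoImplicit false
set_option linter.style.haveILetI false
set_option linter.unusedSectionVars false

open Subgroup

namespace CfsgLib.GW

universe u

variable {G : Type u} [Group G] [Finite G]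

theorem qcore_isPGroup {q : ℕ} [Fact q.Prime] (z : G) : IsPGroup q (qcore q z) :=
  LocalStructure.pCoreOf_isPGroup _

theorem centralizer_le_normalizer_qcore (q : ℕ) (z : G) :
    centralizer ({z} : Set G) ≤ normalizer (qcore q z : Set G) :=
  (centralizer_le_normalizer_core z).trans (LocalStructure.normalizer_le_normalizer_pCoreOf _)

theorem centralizer_le_normalizer_fit (z : G) :
    centralizer ({z} : Set G) ≤ normalizer (fit z : Set G) :=
  (centralizer_le_normalizer_core z).trans (OddOrder.normalizer_le_normalizer_fittingOf _)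

theorem core_le_normalizer_qcore (q : ℕ) (z : G) : core z ≤ normalizer (qcore q z : Set G) :=
  LocalStructure.le_normalizer_pCoreOf _

theorem qcore_le_fit {q : ℕ} (hq : q.Prime) (z : G) : qcore q z ≤ fit z := by
  haveI := Fact.mk hq
  exact OddOrder.le_fittingOf (qcore_le_core q z) (core_le_normalizer_qcore q z)
    (qcore_isPGroup z).isNilpotent

theorem qcore_conj {q : ℕ} {z c x : G} (hc : c ∈ centralizer ({z} : Set G))
    (hx : x ∈ qcore q z) : c * x * c⁻¹ ∈ qcore q z :=
  (mem_normalizer_iff.1 (centralizer_le_normalizer_qcore q z hc) x).1 hx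

theorem qcore_two (z : G) : qcore 2 z = ⊥ := by
  haveI := Fact.mk Nat.prime_two
  obtain ⟨k, hk⟩ := IsPGroup.iff_card.1 (qcore_isPGroup (q := 2) z)
  refine eq_bot_of_card_eq _ ?_
  rcases k with _ | k
  · exact hk
  · exact absurd (((even_iff_two_dvd).2 (hk ▸ dvd_pow_self 2 k.succ_ne_zero)))
      (Nat.not_even_iff_odd.2 ((odd_core z).of_dvd_nat (card_dvd_of_le (qcore_le_core 2 z))))

/-- The Fitting subgroup of the core is generated by its primary parts. -/
theorem fit_le_of_qcores {z : G} {H : Subgroup G} (h : ∀ q : ℕ, q.Prime → qcore q z ≤ H) :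
    fit z ≤ H := by
  have htop := Solvable.iSup_sylow_eq_top (G := fit z)
    (fun q => Classical.arbitrary (Sylow (q : ℕ) (fit z)))
  have he := congrArg (Subgroup.map (fit z).subtype) htop
  rw [← MonoidHom.range_eq_map, range_subtype, Subgroup.map_iSup] at he
  refine he.ge.trans (iSup_le fun q => ?_)
  have hq := Nat.mem_primeFactors.1 q.2
  haveI := Fact.mk hq.1
  refine le_trans (OddOrder.nilpotent_le_piCoreOf (OddOrder.isNilpotent_fittingOf _)
    (map_subtype_le _) (OddOrder.isPiSubgroup_of_isPGroup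
      ((Classical.arbitrary (Sylow (q : ℕ) (fit z))).isPGroup'.map _) (Set.mem_singleton _)))
    (le_trans ?_ (h q hq.1))
  exact LocalStructure.le_pCoreOf ((OddOrder.piCoreOf_le _ _).trans (OddOrder.fittingOf_le _))
    ((OddOrder.le_normalizer_fittingOf _).trans (OddOrder.normalizer_le_normalizer_piCoreOf _ _))
    (OddOrder.isPGroup_of_isPiSubgroup (OddOrder.isPiSubgroup_piCoreOf _ _))

/-- A non-trivial element of the Fitting subgroup has a non-trivial power in a primary part. -/
theorem exists_pow_mem_qcore {z d : G} (hd : d ∈ fit z) (hd1 : d ≠ 1) :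
    ∃ (q k : ℕ), q.Prime ∧ d ^ k ∈ qcore q z ∧ d ^ k ≠ 1 := by
  set q := (orderOf d).minFac with hq'
  have ho1 : orderOf d ≠ 1 := fun e => hd1 (orderOf_eq_one_iff.1 e)
  have hq : q.Prime := Nat.minFac_prime ho1
  haveI := Fact.mk hq
  have hdvd : q ∣ orderOf d := Nat.minFac_dvd _
  have ho : orderOf (d ^ (orderOf d / q)) = q := by
    rw [orderOf_pow_of_dvd (Nat.div_pos (Nat.le_of_dvd (orderOf_pos d) hdvd) hq.pos).ne'
      (Nat.div_dvd_of_dvd hdvd), Nat.div_div_self hdvd (orderOf_pos d).ne']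
  have hle : zpowers (d ^ (orderOf d / q)) ≤ fit z := zpowers_le.2 (pow_mem hd _)
  have hp : IsPGroup q (zpowers (d ^ (orderOf d / q))) :=
    IsPGroup.of_card (n := 1) (by rw [Nat.card_zpowers, ho, pow_one])
  refine ⟨q, orderOf d / q, hq, ?_, fun e => hq.ne_one (by rw [← ho, e, orderOf_one])⟩
  refine LocalStructure.le_pCoreOf ((OddOrder.piCoreOf_le _ _).trans (OddOrder.fittingOf_le _))
    ((OddOrder.le_normalizer_fittingOf _).trans (OddOrder.normalizer_le_normalizer_piCoreOf _ _))
    (OddOrder.isPGroup_of_isPiSubgroup (OddOrder.isPiSubgroup_piCoreOf _ _))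
    (OddOrder.nilpotent_le_piCoreOf (OddOrder.isNilpotent_fittingOf _) hle
      (OddOrder.isPiSubgroup_of_isPGroup hp (Set.mem_singleton q)) (mem_zpowers _))

/-- An involution acting without non-trivial fixed points on an odd subgroup inverts it. -/
theorem inverts_of_fixed_trivial {H : Subgroup G} (hH : Odd (Nat.card H)) {b : G}
    (hb : b * b = 1) (hbH : b ∈ normalizer (H : Set G))
    (hfix : ∀ x ∈ H, b * x * b⁻¹ = x → x = 1) : ∀ x ∈ H, b * x * b⁻¹ = x⁻¹ := by
  have h := FourFixed.card_mul_fixed hH (MulAut.conj b) (fun x => by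
    rw [← MulAut.mul_apply, ← map_mul, hb, map_one, MulAut.one_apply])
    (fun x hx => (mem_normalizer_iff.1 hbH x).1 hx)
  have hf : FourFixed.fixed H (MulAut.conj b) = {1} := by
    ext x
    simp only [FourFixed.fixed, Set.mem_ofPred_eq, MulAut.conj_apply, Set.mem_singleton_iff]
    exact ⟨fun ⟨h1, h2⟩ => hfix x h1 h2, fun e => by simp [e]⟩
  rw [hf, show Nat.card ({1} : Set G) = 1 by simp, mul_one] at h
  have he : FourFixed.inv' H (MulAut.conj b) = (H : Set G) := by
    refine Set.eq_of_subset_of_ncard_le (fun x hx => hx.1) ?_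
    rw [← Nat.card_coe_set_eq, ← Nat.card_coe_set_eq]
    exact h.le
  intro x hx
  exact (he.ge hx).2

/-! ### Scalars -/

theorem Scalar.mul {z s t : G} (hs : Scalar z s) (ht : Scalar z t) : Scalar z (s * t) := by
  intro q hq
  have e : ∀ x : G, s * t * x * (s * t)⁻¹ = s * (t * x * t⁻¹) * s⁻¹ := fun x => by group
  rcases hs q hq with h1 | h1 <;> rcases ht q hq with h2 | h2
  · exact Or.inl fun x hx => by rw [e, h2 x hx, h1 x hx]
  · exact Or.inr fun x hx => by rw [e, h2 x hx, h1 _ (inv_mem hx)]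
  · exact Or.inr fun x hx => by rw [e, h2 x hx, h1 x hx]
  · exact Or.inl fun x hx => by rw [e, h2 x hx, h1 _ (inv_mem hx), inv_inv]

/-- An element fixing every primary part and a scalar modulo it centralises the Fitting part. -/
theorem fix_fit {z s : G} (h : ∀ q : ℕ, q.Prime → ∀ x ∈ qcore q z, s * x * s⁻¹ = x) :
    ∀ x ∈ fit z, s * x * s⁻¹ = x := fun x hx => by
  have := fit_le_of_qcores (z := z) (H := centralizer ({s} : Set G)) (fun q hq y hy =>
    mem_centralizer_singleton_iff.2 (mul_inv_eq_iff_eq_mul.1 (h q hq y hy)).symm) hx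
  rw [← mem_centralizer_singleton_iff.1 this, mul_inv_cancel_right]

/-- Scalars commute with the core modulo the Fitting subgroup. -/
theorem Scalar.commutator_mem_fit {z s : G} (hs : Scalar z s)
    (hsC : s ∈ centralizer ({z} : Set G)) {u : G} (hu : u ∈ core z) :
    s * u * s⁻¹ * u⁻¹ ∈ fit z := by
  have hsol := Cfsg.Agent.S0205.result (odd_core z)
  refine OddOrder.inf_centralizer_fittingOf_le hsol ⟨mul_mem (core_conj hsC hu) ((core z).inv_mem hu),
    mem_centralizer_iff.2 fun x hx => ?_⟩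
  have key : ∀ q : ℕ, q.Prime → ∀ y ∈ qcore q z,
      s * u * s⁻¹ * u⁻¹ * y * (s * u * s⁻¹ * u⁻¹)⁻¹ = y := by
    intro q hq y hy
    have hy' : u⁻¹ * y * u ∈ qcore q z := by
      simpa using qcore_conj (c := u⁻¹)
        ((centralizer ({z} : Set G)).inv_mem (core_le z hu)) hy
    have e : s * u * s⁻¹ * u⁻¹ * y * (s * u * s⁻¹ * u⁻¹)⁻¹ =
        s * (u * (s⁻¹ * (u⁻¹ * y * u) * s) * u⁻¹) * s⁻¹ := by group
    rw [e]
    rcases hs q hq with h | h
    · rw [show s⁻¹ * (u⁻¹ * y * u) * s = u⁻¹ * y * u by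
        nth_rw 1 [← h _ hy']
        group, show u * (u⁻¹ * y * u) * u⁻¹ = y by group, h y hy]
    · rw [show s⁻¹ * (u⁻¹ * y * u) * s = (u⁻¹ * y * u)⁻¹ by
        have := h _ (inv_mem hy')
        rw [inv_inv] at this
        nth_rw 1 [← this]
        group, show u * (u⁻¹ * y * u)⁻¹ * u⁻¹ = y⁻¹ by group, h _ (inv_mem hy), inv_inv]
  have hx' := fit_le_of_qcores (z := z)
    (H := centralizer ({s * u * s⁻¹ * u⁻¹} : Set G)) (fun q hq y hy =>
      mem_centralizer_singleton_iff.2 (mul_inv_eq_iff_eq_mul.1 (key q hq y hy)).symm) hx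
  exact mem_centralizer_singleton_iff.1 hx'

/-- A 2-element fixing every primary part centralises the core. -/
theorem centralizes_core_of_fixes {z s : G} (hsC : s ∈ centralizer ({z} : Set G))
    (hs2 : ∃ k : ℕ, orderOf s = 2 ^ k)
    (h : ∀ q : ℕ, q.Prime → ∀ x ∈ qcore q z, s * x * s⁻¹ = x) :
    s ∈ centralizer (core z : Set G) := by
  refine mem_centralizer_iff.2 fun u hu => ?_
  have hf := Scalar.commutator_mem_fit (z := z) (fun q hq => Or.inl (h q hq)) hsC hu
  have hfu : s * u * s⁻¹ = s * u * s⁻¹ * u⁻¹ * u := by group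
  generalize s * u * s⁻¹ * u⁻¹ = f at hf hfu
  have hit : ∀ n : ℕ, s ^ n * u * (s ^ n)⁻¹ = f ^ n * u := by
    intro n
    induction n with
    | zero => simp
    | succ n ih =>
      rw [pow_succ', pow_succ, show s * s ^ n * u * (s * s ^ n)⁻¹ =
        s * (s ^ n * u * (s ^ n)⁻¹) * s⁻¹ by group, ih,
        show s * (f ^ n * u) * s⁻¹ = (s * f ^ n * s⁻¹) * (s * u * s⁻¹) by group,
        fix_fit h _ (pow_mem hf n), hfu, mul_assoc]
  obtain ⟨k, hk⟩ := hs2
  have h1 := hit (2 ^ k)
  rw [← hk, pow_orderOf_eq_one, one_mul, inv_one, mul_one, hk] at h1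
  have hf1 : f = 1 := by
    refine orderOf_eq_one_iff.1 (Nat.eq_one_of_dvd_coprimes (?_ : (orderOf f).Coprime (2 ^ k))
      dvd_rfl (orderOf_dvd_of_pow_eq_one (mul_eq_right.1 h1.symm)))
    exact (Nat.coprime_two_right.2 (odd_orderOf_core (fit_le_core z hf))).pow_right k
  rw [hf1, one_mul] at hfu
  exact (mul_inv_eq_iff_eq_mul.1 hfu).symm

/-- The square of a scalar 2-element centralises the core. -/
theorem Scalar.sq_centralizes {z s : G} (hs : Scalar z s) (hsC : s ∈ centralizer ({z} : Set G))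
    (hs2 : ∃ k : ℕ, orderOf s = 2 ^ k) : s * s ∈ centralizer (core z : Set G) := by
  obtain ⟨k, hk⟩ := hs2
  obtain ⟨j, -, hj⟩ := (Nat.dvd_prime_pow Nat.prime_two).1
    (hk ▸ orderOf_dvd_of_pow_eq_one (x := s * s) (n := orderOf s) (by
      rw [← pow_two, ← pow_mul, mul_comm, pow_mul, pow_orderOf_eq_one, one_pow]))
  refine centralizes_core_of_fixes (mul_mem hsC hsC) ⟨j, hj⟩ fun q hq x hx => ?_
  rw [show s * s * x * (s * s)⁻¹ = s * (s * x * s⁻¹) * s⁻¹ by group]
  rcases hs q hq with h | h
  · rw [h x hx, h x hx]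
  · rw [h x hx, h _ (inv_mem hx), inv_inv]

namespace Minimal

variable (hG : Minimal G)
include hG

/-- The cycling element normalises the common fixed part. -/
theorem cycle_mem_normalizer_fix {z b g : G} (hz : orderOf z = 2) (h1 : g * z * g⁻¹ = b)
    (h2 : g * b * g⁻¹ = z * b) : g ∈ normalizer (fix z b : Set G) := by
  rw [mem_normalizer_iff_map_conj_eq]
  refine eq_of_le_of_card_ge ?_ (le_of_eq ?_)
  · rintro x ⟨w, hw, rfl⟩
    exact hG.conj_mem_fix hz h1 h2 hw
  · rw [card_map_of_injective (MulEquiv.injective _)]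

variable {z : G} (hz : orderOf z = 2) (hmax : IsCoatom (centralizer ({z} : Set G)))
  (hne : NoEscape z)

include hz hne in
/-- **L1.** An involution commuting with `z` acts as a scalar. -/
theorem scalar_invol {b : G} (hb : orderOf b = 2) (hzb : z * b = b * z) : Scalar z b := by
  intro q hq
  rcases eq_or_ne b z with rfl | hbz
  · exact Or.inl fun x hx => by
      rw [← commute_of_mem_core (qcore_le_core q _ hx), mul_inv_cancel_right]
  by_cases hbot : qcore q z = ⊥
  · exact Or.inl fun x hx => by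
      rw [hbot, mem_bot] at hx
      simp [hx]
  haveI := Fact.mk hq
  have hodd : Odd (Nat.card (qcore q z)) :=
    (odd_core z).of_dvd_nat (card_dvd_of_le (qcore_le_core q z))
  have hq2 : q ≠ 2 := fun e => hbot (e ▸ qcore_two z)
  have hbb := Small.mul_self_of_orderOf_two hb
  have hbC : b ∈ centralizer ({z} : Set G) := mem_centralizer_singleton_iff.2 hzb.symm
  by_cases hQ0 : qcore q z ⊓ centralizer ({b} : Set G) = ⊥
  · refine Or.inr (inverts_of_fixed_trivial hodd hbb (centralizer_le_normalizer_qcore q z hbC)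
      fun x hx hfx => ?_)
    have : x ∈ qcore q z ⊓ centralizer ({b} : Set G) :=
      ⟨hx, mem_centralizer_singleton_iff.2 (mul_inv_eq_iff_eq_mul.1 hfx).symm⟩
    rwa [hQ0, mem_bot] at this
  left
  set Q0 := qcore q z ⊓ centralizer ({b} : Set G) with hQ0def
  have hQ0p : IsPGroup q Q0 := (qcore_isPGroup z).to_le inf_le_left
  have hQ0W : Q0 ≤ fix z b := inf_le_inf_right _ (qcore_le_core q z)
  have hWQ0 : fix z b ≤ normalizer (Q0 : Set G) := by
    intro w hw
    refine mem_normalizer_iff.2 fun x => ⟨fun hx => ⟨?_, ?_⟩, fun hx => ⟨?_, ?_⟩⟩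
    · exact qcore_conj (c := w) (core_le z hw.1) hx.1
    · exact mul_mem (mul_mem hw.2 hx.2) ((centralizer ({b} : Set G)).inv_mem hw.2)
    · simpa [mul_assoc] using qcore_conj (c := w⁻¹)
        ((centralizer ({z} : Set G)).inv_mem (core_le z hw.1)) hx.1
    · simpa [mul_assoc] using mul_mem (mul_mem ((centralizer ({b} : Set G)).inv_mem hw.2) hx.2) hw.2
  have hcQ0 : centralizer (Q0 : Set G) ≤ centralizer ({z} : Set G) :=
    hne b hb hbz.symm hzb q hq Q0 hQ0p hQ0 hQ0W (inf_le_left.trans (qcore_le_fit hq z)) hWQ0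
  set R := Cfsg.pCoreOf q (fix z b) with hR
  have hQR : Q0 ≤ R := LocalStructure.le_pCoreOf hQ0W hWQ0 hQ0p
  obtain ⟨g, hg1, hg2⟩ := hG.exists_cycle hz hb hbz.symm hzb
  have hgR : g ∈ normalizer (R : Set G) :=
    LocalStructure.normalizer_le_normalizer_pCoreOf _ (hG.cycle_mem_normalizer_fix hz hg1 hg2)
  have hcR : centralizer (R : Set G) ≤ centralizer ({b} : Set G) := by
    intro x hx
    have hx' : g⁻¹ * x * g ∈ centralizer (R : Set G) := by
      simpa using (mem_normalizer_iff.1
        (CharPLocal.normalizer_le_normalizer_centralizer R (inv_mem hgR)) x).1 hx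
    have h := mem_centralizer_singleton_iff.1
      ((centralizer_le (show (Q0 : Set G) ⊆ R from hQR)).trans hcQ0 hx')
    refine mem_centralizer_singleton_iff.2 ?_
    calc x * b = g * (g⁻¹ * x * g * z) * g⁻¹ := by rw [← hg1]; group
      _ = g * (z * (g⁻¹ * x * g)) * g⁻¹ := by rw [h]
      _ = b * x := by rw [← hg1]; group
  have hbq : b ∈ centralizer (qcore q z : Set G) := by
    refine CharPLocal.commute_of_axb (qcore_isPGroup z) (LocalStructure.pCoreOf_isPGroup (fix z b))
      ?_ (centralizer_le_normalizer_qcore q z hbC) ?_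
      ((LocalStructure.pCoreOf_le _).trans ((fix_le_core z b).trans (core_le_normalizer_qcore q z)))
      fun u _ hu => mem_centralizer_singleton_iff.1 (hcR hu)
    · rw [hb]
      exact Nat.coprime_two_left.2 (hq.odd_of_ne_two hq2)
    · exact mem_centralizer_iff.2 fun r hr =>
        mem_centralizer_singleton_iff.1 (fix_le z b (LocalStructure.pCoreOf_le _ hr))
  exact fun x hx => by rw [← mem_centralizer_iff.1 hbq x hx, mul_inv_cancel_right]

include hz hne in
/-- Every element of a Sylow 2-subgroup with `z` central acts as a scalar. -/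
theorem scalar_of_mem {S : Sylow 2 G} (hS : ∀ s ∈ (S : Subgroup G), s * z = z * s) {s : G}
    (hs : s ∈ (S : Subgroup G)) : Scalar z s := by
  obtain ⟨n, -, ⟨e⟩⟩ := hG.dih S
  have hsr : ∀ i : ZMod n, Scalar z ((e.symm (DihedralGroup.sr i) : (S : Subgroup G)) : G) :=
    fun i => hG.scalar_invol hz hne (by
      rw [orderOf_coe, MulEquiv.orderOf_eq, DihedralGroup.orderOf_sr])
      (hS _ (e.symm (DihedralGroup.sr i)).2).symm
  have hs' : (⟨s, hs⟩ : (S : Subgroup G)) = e.symm (e ⟨s, hs⟩) := (e.symm_apply_apply _).symm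
  rw [show s = ((e.symm (e ⟨s, hs⟩) : (S : Subgroup G)) : G) from congrArg Subtype.val hs']
  rcases e ⟨s, hs⟩ with i | i
  · rw [show DihedralGroup.r i = DihedralGroup.sr 0 * DihedralGroup.sr i by
      rw [DihedralGroup.sr_mul_sr, sub_zero], map_mul, Subgroup.coe_mul]
    exact (hsr 0).mul (hsr i)
  · exact hsr i

include hz hne in
/-- `[U, S] ≤ F`. -/
theorem commutator_core_le_fit {S : Sylow 2 G} (hS : ∀ s ∈ (S : Subgroup G), s * z = z * s)
    {s u : G} (hs : s ∈ (S : Subgroup G)) (hu : u ∈ core z) : s * u * s⁻¹ * u⁻¹ ∈ fit z :=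
  (hG.scalar_of_mem hz hne hS hs).commutator_mem_fit (hG.sylow_le hS hs) hu

include hmax in
/-- **L2.** A non-trivial subgroup of the core normalised by `C(z)` has normalizer `C(z)`. -/
theorem normalizer_eq_centralizer {N : Subgroup G} (hN : N ≠ ⊥) (hNU : N ≤ core z)
    (hC : centralizer ({z} : Set G) ≤ normalizer (N : Set G)) :
    normalizer (N : Set G) = centralizer ({z} : Set G) := by
  rcases hmax.le_iff.1 hC with h | h
  · exfalso
    haveI : N.Normal := normalizer_eq_top_iff.1 h
    haveI := hG.simple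
    rcases (inferInstance : N.Normal).eq_bot_or_eq_top with hb | ht
    · exact hN hb
    · have h4 := hG.four_dvd
      rw [← card_top, ← ht] at h4
      exact Nat.not_even_iff_odd.2 ((odd_core z).of_dvd_nat (card_dvd_of_le hNU))
        (even_iff_two_dvd.2 (dvd_trans (by norm_num) h4))
  · exact h

include hz hmax in
/-- A common fixed part normalised by `C(z)` is trivial. -/
theorem fix_eq_bot_of_normalized {b : G} (hb : orderOf b = 2) (hbz : z ≠ b)
    (hzb : z * b = b * z) (hC : centralizer ({z} : Set G) ≤ normalizer (fix z b : Set G)) :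
    fix z b = ⊥ := by
  by_contra hW
  obtain ⟨g, hg1, hg2⟩ := hG.exists_cycle hz hb hbz hzb
  have hg := hG.cycle_mem_normalizer_fix hz hg1 hg2
  rw [hG.normalizer_eq_centralizer hmax hW (fix_le_core z b) hC] at hg
  exact hbz (by rw [← hg1, mem_centralizer_singleton_iff.1 hg, mul_inv_cancel_right])

include hz hmax hne in
/-- An involution commuting with `z` inverts a non-trivial primary part. -/
theorem exists_inverted (hU : core z ≠ ⊥) {b : G} (hb : orderOf b = 2) (hbz : z ≠ b)
    (hzb : z * b = b * z) : ∃ q : ℕ, q.Prime ∧ qcore q z ≠ ⊥ ∧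
      ∀ x ∈ qcore q z, b * x * b⁻¹ = x⁻¹ := by
  by_contra hcon
  push Not at hcon
  have hfix : ∀ q : ℕ, q.Prime → ∀ x ∈ qcore q z, b * x * b⁻¹ = x := by
    intro q hq x hx
    rcases hG.scalar_invol hz hne hb hzb q hq with h | h
    · exact h x hx
    · by_cases hbot : qcore q z = ⊥
      · rw [hbot, mem_bot] at hx
        simp [hx]
      · obtain ⟨y, hy, hy'⟩ := hcon q hq hbot
        exact absurd (h y hy) hy'
  have hbC := centralizes_core_of_fixes (mem_centralizer_singleton_iff.2 hzb.symm)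
    ⟨1, by rw [hb, pow_one]⟩ hfix
  have hW : fix z b = core z := inf_eq_left.2 fun u hu =>
    mem_centralizer_singleton_iff.2 (mem_centralizer_iff.1 hbC u hu)
  exact hU (hW ▸ hG.fix_eq_bot_of_normalized hz hmax hb hbz hzb
    (hW.symm ▸ centralizer_le_normalizer_core z))

include hz hne in
/-- **L3.** If an element of `C(z)` maps `b` to `z * b` and centralises the common fixed part, then
`b` inverts every primary part. -/
theorem inverts_of_swap {b s : G} (hb : orderOf b = 2) (hbz : z ≠ b) (hzb : z * b = b * z)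
    (hsC : s ∈ centralizer ({z} : Set G)) (hsb : s * b * s⁻¹ = z * b)
    (hsW : ∀ w ∈ fix z b, s * w * s⁻¹ = w) :
    ∀ q : ℕ, q.Prime → ∀ x ∈ qcore q z, b * x * b⁻¹ = x⁻¹ := by
  intro q hq
  rcases hG.scalar_invol hz hne hb hzb q hq with h | h
  swap
  · exact h
  by_cases hbot : qcore q z = ⊥
  · intro x hx
    rw [hbot, mem_bot] at hx
    simp [hx]
  exfalso
  haveI := Fact.mk hq
  have hXW : qcore q z ≤ fix z b := le_inf (qcore_le_core q z) fun x hx =>
    mem_centralizer_singleton_iff.2 (mul_inv_eq_iff_eq_mul.1 (h x hx)).symm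
  have hcX := hne b hb hbz hzb q hq _ (qcore_isPGroup z) hbot hXW (qcore_le_fit hq z)
    ((fix_le_core z b).trans (core_le_normalizer_qcore q z))
  obtain ⟨g, hg1, hg2⟩ := hG.exists_cycle hz hb hbz hzb
  have hgn := hG.cycle_mem_normalizer_fix hz hg1 hg2
  have ht : g * s * g⁻¹ ∈ centralizer (qcore q z : Set G) := mem_centralizer_iff.2 fun x hx => by
    have hw : g⁻¹ * x * g ∈ fix z b := by
      simpa using (mem_normalizer_iff.1 (inv_mem hgn) x).1 (hXW hx)
    calc x * (g * s * g⁻¹) = g * ((g⁻¹ * x * g) * s) * g⁻¹ := by group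
      _ = g * (s * (g⁻¹ * x * g)) * g⁻¹ := by rw [← mul_inv_eq_iff_eq_mul.1 (hsW _ hw)]
      _ = g * s * g⁻¹ * x := by group
  have htz := mul_inv_eq_iff_eq_mul.2 (mem_centralizer_singleton_iff.1 (hcX ht))
  have hzz := Small.mul_self_of_orderOf_two hz
  have hbb := Small.mul_self_of_orderOf_two hb
  have e : g⁻¹ * z * g = z * b := by
    have h3 : g * (z * b) * g⁻¹ = z := by
      rw [show g * (z * b) * g⁻¹ = g * z * g⁻¹ * (g * b * g⁻¹) by group, hg1, hg2, hzb,
        ← mul_assoc, hbb, one_mul]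
    conv_lhs => rw [← h3]
    group
  have hsz : s * z * s⁻¹ = z := by
    rw [mem_centralizer_singleton_iff.1 hsC, mul_inv_cancel_right]
  have e2 : g * s * g⁻¹ * z * (g * s * g⁻¹)⁻¹ = z * b := by
    rw [show g * s * g⁻¹ * z * (g * s * g⁻¹)⁻¹ = g * (s * (g⁻¹ * z * g) * s⁻¹) * g⁻¹ by group, e,
      show s * (z * b) * s⁻¹ = s * z * s⁻¹ * (s * b * s⁻¹) by group, hsz, hsb,
      show z * (z * b) = b by rw [← mul_assoc, hzz, one_mul], hg2]
  rw [e2] at htz
  exact Small.ne_one_of_orderOf_two hb (mul_eq_left.1 htz)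

end Minimal

end CfsgLib.GW
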