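import Cfsg.Agent.GW.LocalSplit
import Cfsg.Agent.GW.Scalar
import Cfsg.Agent.GW.OSType.Action
import Cfsg.Agent.OddOrder.BG1Stab
import Cfsg.Agent.FusionClosed.Stabilizer

/-!
# Gorenstein–Walter 4.1: orbits on lines of elements inverted by an involution

In the situation of `LineData`, an element `v ∈ C` of odd order prime to `r`, inverted by an element
`τ ∈ C ∩ N(X)`, centralises `R` once it normalises `X`; if no non-trivial power of `v` lies in `N`,
its order is at most `r + 1`.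
-/

set_option autoImplicit false
set_option linter.style.haveILetI false
set_option linter.unusedSectionVars false

open Subgroup
open scoped commutatorElement Pointwise

namespace CfsgLib.GW

variable {G : Type*} [Group G]

/-- An odd element inverted by `τ` fixes every cyclic subgroup normalised by both. -/
theorem commute_of_inverted_cyclic {C : Subgroup G} [IsCyclic C] {τ v : G}
    (hτ : τ ∈ normalizer (C : Set G)) (hv : v ∈ normalizer (C : Set G)) (hi : OS.Inverts τ v)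
    (ho : Odd (orderOf v)) : ∀ x ∈ C, Commute v x := by
  obtain ⟨g, hg⟩ := IsCyclic.exists_generator (α := C)
  obtain ⟨a, ha⟩ := mem_zpowers_iff.1 (hg ⟨v * g * v⁻¹, (mem_normalizer_iff.1 hv (g : G)).1 g.2⟩)
  have ha' : v * (g : G) * v⁻¹ = (g : G) ^ a := by
    have := congrArg (Subtype.val : C → G) ha
    rw [SubgroupClass.coe_zpow] at this
    exact this.symm
  have hpow : ∀ x ∈ C, v * x * v⁻¹ = x ^ a := by
    intro x hx
    obtain ⟨k, hk⟩ := mem_zpowers_iff.1 (hg ⟨x, hx⟩)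
    have hk' : (g : G) ^ k = x := by
      have := congrArg (Subtype.val : C → G) hk
      rwa [SubgroupClass.coe_zpow] at this
    rw [← hk', ← conj_zpow, ha', ← zpow_mul, mul_comm, zpow_mul]
  intro x hx
  refine OS.commute_of_sq_commute ho ?_
  have hx' : τ⁻¹ * x * τ ∈ C := by
    simpa using (mem_normalizer_iff.1 (inv_mem hτ) x).1 hx
  have h1 : v⁻¹ * x * v = x ^ a := by
    calc v⁻¹ * x * v = (τ * v * τ⁻¹) * x * (τ * v * τ⁻¹)⁻¹ := by
          rw [OS.inverts_iff.1 hi, inv_inv]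
      _ = τ * (v * (τ⁻¹ * x * τ) * v⁻¹) * τ⁻¹ := by group
      _ = τ * (τ⁻¹ * x * τ) ^ a * τ⁻¹ := by rw [hpow _ hx']
      _ = x ^ a := by rw [← conj_zpow, show τ * (τ⁻¹ * x * τ) * τ⁻¹ = x by group]
  show v * v * x = x * (v * v)
  calc v * v * x = v * (v * x * v⁻¹) * v := by group
    _ = v * (v⁻¹ * x * v) * v := by rw [hpow x hx, h1]
    _ = x * (v * v) := by group

variable [Finite G]

/-- An odd element inverted by `τ` acts trivially on a cyclic section normalised by both. -/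
theorem commutator_mem_of_inverted {Z Y : Subgroup G} (hYZ : Y ≤ normalizer (Z : Set G)) {r : ℕ}
    [Fact r.Prime] (hidx : Z.relIndex Y = r) (hZY : Z ≤ Y) {τ v : G}
    (hτZ : τ ∈ normalizer (Z : Set G)) (hτY : τ ∈ normalizer (Y : Set G))
    (hvZ : v ∈ normalizer (Z : Set G)) (hvY : v ∈ normalizer (Y : Set G)) (hi : OS.Inverts τ v)
    (ho : Odd (orderOf v)) : ∀ y ∈ Y, ⁅v, y⁆ ∈ Z := by
  set H := normalizer (Z : Set G)
  haveI : (Z.subgroupOf H).Normal := normal_subgroupOf_of_le_normalizer le_rfl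
  let π : H →* H ⧸ Z.subgroupOf H := QuotientGroup.mk' _
  set C := (Y.subgroupOf H).map π with hC
  have hCcard : Nat.card C = r := by
    rw [← hidx, ← relIndex_bot_left, hC,
      show (⊥ : Subgroup (H ⧸ Z.subgroupOf H)) = (Z.subgroupOf H).map π from
        (QuotientGroup.map_mk'_self _).symm, relIndex_map_map, QuotientGroup.ker_mk', sup_idem,
      sup_eq_left.2 (show Z.subgroupOf H ≤ Y.subgroupOf H from fun x hx => hZY hx)]
    exact relIndex_subgroupOf hYZ
  haveI : IsCyclic C := isCyclic_of_prime_card hCcard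
  have hn : ∀ (t : G) (ht : t ∈ H), t ∈ normalizer (Y : Set G) →
      π ⟨t, ht⟩ ∈ normalizer (C : Set (H ⧸ Z.subgroupOf H)) := fun t ht htY =>
    le_normalizer_map π ⟨⟨t, ht⟩, mem_normalizer_iff.2 fun x => by
      simpa [mem_subgroupOf] using mem_normalizer_iff.1 htY (x : G), rfl⟩
  intro y hy
  have h := commute_of_inverted_cyclic (hn τ hτZ hτY) (hn v hvZ hvY)
    ((show OS.Inverts (⟨τ, hτZ⟩ : H) ⟨v, hvZ⟩ from Subtype.ext hi).map π)
    (ho.of_dvd_nat ((orderOf_map_dvd π _).trans (Subgroup.orderOf_mk v hvZ).dvd))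
    (π ⟨y, hYZ hy⟩) ⟨_, hy, rfl⟩
  have h1 : π ⁅(⟨v, hvZ⟩ : H), ⟨y, hYZ hy⟩⁆ = 1 := by
    rw [map_commutatorElement]; exact commutatorElement_eq_one_iff_commute.2 h
  exact mem_subgroupOf.1 ((QuotientGroup.eq_one_iff _).1 h1)

/-- An element prime to `r` fixing the elements of order `r` centralises an `r`-group, `r` odd. -/
theorem mem_centralizer_of_fix_prime {r : ℕ} [Fact r.Prime] (hr2 : r ≠ 2) {P : Subgroup G}
    (hP : IsPGroup r P) {a : G} (ha : a ∈ normalizer (P : Set G)) (hco : (orderOf a).Coprime r)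
    (h : ∀ x ∈ P, x ^ r = 1 → Commute a x) : a ∈ centralizer (P : Set G) := by
  have he := FusionClosed.eq_one_of_fix_prime_order hr2 hP
    (α := Subgroup.normalizerMonoidHom P ⟨a, ha⟩)
    (hco.coprime_dvd_left ((orderOf_map_dvd _ _).trans (Subgroup.orderOf_mk a ha).dvd))
    (fun x hx => Subtype.ext (by
      show a * (x : G) * a⁻¹ = x
      rw [(h x x.2 (by rw [← SubmonoidClass.coe_pow, hx, OneMemClass.coe_one])).eq,
        mul_inv_cancel_right]))
  refine mem_centralizer_iff.2 fun x hx => ?_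
  have := congrArg (fun f : MulAut P => ((f ⟨x, hx⟩ : P) : G)) he
  exact (mul_inv_eq_iff_eq_mul.1 (this : a * x * a⁻¹ = x)).symm

/-- A conjugation orbit of `E` inside `Y`, counted on the elements outside `Z`. -/
theorem orbit_bound {Y Z E : Subgroup G} {v : G} (hEY : E ≤ Y) (hZE : Z ≤ E)
    (hvY : v ∈ normalizer (Y : Set G)) (hvZ : v ∈ normalizer (Z : Set G)) {r : ℕ} (hr : r.Prime)
    (hidx : Z.relIndex E = r) (hstab : ∀ k : ℕ, v ^ k ∈ normalizer (E : Set G) → v ^ k = 1) :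
    orderOf v * (Nat.card E - Nat.card Z) ≤ Nat.card Y - Nat.card Z := by
  classical
  have hZY := hZE.trans hEY
  have hsub : ∀ {A : Subgroup G}, Z ≤ A →
      Nat.card {x : G // x ∈ A ∧ x ∉ Z} = Nat.card A - Nat.card Z := by
    intro A hA
    show Nat.card ((A : Set G) \ (Z : Set G) : Set G) = _
    rw [Nat.card_coe_set_eq, Set.ncard_sdiff hA, ← Nat.card_coe_set_eq, ← Nat.card_coe_set_eq]
    rfl
  rw [← hsub hZE, ← hsub hZY, show orderOf v = Nat.card (Fin (orderOf v)) from (Nat.card_fin _).symm,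
    ← Nat.card_prod]
  refine Nat.card_le_card_of_injective (fun p : Fin (orderOf v) × {x : G // x ∈ E ∧ x ∉ Z} =>
    (⟨v ^ (p.1 : ℕ) * p.2.1 * (v ^ (p.1 : ℕ))⁻¹,
      (mem_normalizer_iff.1 (pow_mem hvY _) _).1 (hEY p.2.2.1),
      fun h => p.2.2.2 ((mem_normalizer_iff.1 (pow_mem hvZ _) _).2 h)⟩ : {x : G // x ∈ Y ∧ x ∉ Z}))
    ?_
  -- an element of `E` outside `Z` determines `E`
  have hgen : ∀ {x : G}, x ∈ E → x ∉ Z → Z ⊔ zpowers x = E := by
    intro x hx hxZ
    refine le_antisymm (sup_le hZE (zpowers_le.2 hx)) ?_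
    have h1 := relIndex_mul_relIndex Z (Z ⊔ zpowers x) E le_sup_left (sup_le hZE (zpowers_le.2 hx))
    rw [hidx] at h1
    rcases hr.eq_one_or_self_of_dvd _ ⟨_, h1.symm⟩ with h | h
    · exact absurd (relIndex_eq_one.1 h (mem_sup_right (mem_zpowers x))) hxZ
    · rw [h] at h1
      exact relIndex_eq_one.1 (Nat.eq_of_mul_eq_mul_left hr.pos (h1.trans (mul_one r).symm))
  rintro ⟨i, x, hx, hxZ⟩ ⟨j, y, hy, hyZ⟩ h
  have h' : v ^ (i : ℕ) * x * (v ^ (i : ℕ))⁻¹ = v ^ (j : ℕ) * y * (v ^ (j : ℕ))⁻¹ :=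
    congrArg Subtype.val h
  wlog hij : (i : ℕ) ≤ (j : ℕ) generalizing i j x y
  · exact (this j y hy hyZ i x hx hxZ h.symm h'.symm (le_of_not_ge hij)).symm
  obtain ⟨k, hk⟩ := Nat.exists_eq_add_of_le hij
  have hxy : v ^ k * y * (v ^ k)⁻¹ = x := by
    rw [hk, pow_add, mul_inv_rev] at h'
    refine mul_left_cancel (a := v ^ (i : ℕ)) (mul_right_cancel (b := (v ^ (i : ℕ))⁻¹) ?_)
    rw [h']; group
  have hk1 : v ^ k = 1 := by
    refine hstab k (mem_normalizer_iff_map_conj_eq.2 ?_)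
    refine eq_of_le_of_card_ge ?_ (le_of_eq ?_)
    · conv_lhs => rw [← hgen hy hyZ]
      rw [Subgroup.map_sup, MonoidHom.map_zpowers]
      refine sup_le ?_ (zpowers_le.2 ?_)
      · rintro _ ⟨w, hw, rfl⟩
        exact hZE ((mem_normalizer_iff.1 (pow_mem hvZ k) w).1 hw)
      · show v ^ k * y * (v ^ k)⁻¹ ∈ E
        rw [hxy]; exact hx
    · rw [card_map_of_injective (MulEquiv.injective _)]
  have hk0 : k = 0 := by
    by_contra h0
    have := Nat.le_of_dvd (by omega) (orderOf_dvd_of_pow_eq_one hk1)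
    have := j.isLt
    omega
  subst hk0
  rw [pow_zero, one_mul, inv_one, mul_one] at hxy
  subst hxy
  have hij' : i = j := Fin.ext (by omega)
  subst hij'
  rfl

namespace LineData

variable {C N R X : Subgroup G} {r : ℕ} {b : G} (h : LineData C N R X r b)
include h

theorem commute_of_plane {E : Subgroup G} (hE : Nat.card E = r ^ 2) (hXE : X ≤ E) (hEN : E ≤ R ⊓ N)
    (hexp : ∀ x ∈ E, x ^ r = 1) {v : G} (hvR : v ∈ normalizer (R : Set G))
    (hco : (orderOf v).Coprime r) (hvE : ∀ x ∈ E, Commute v x) : v ∈ centralizer (R : Set G) := by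
  haveI : Fact r.Prime := ⟨h.hr⟩
  have hEset : ∀ x ∈ R ⊓ N, x ^ r = 1 → x ∈ E := by
    intro x hx hxr
    by_contra hxE
    let g : Option E → {t : G // t ∈ R ⊓ N ∧ t ^ r = 1} := fun o => match o with
      | none => ⟨x, hx, hxr⟩
      | some e => ⟨e, hEN e.2, hexp e e.2⟩
    have hg : Function.Injective g := by
      rintro (_ | e) (_ | e') he
      · rfl
      · exact absurd (Eq.mpr (congrArg (· ∈ _) (congrArg Subtype.val he : x = (e' : G))) e'.2) hxE
      · exact absurd (Eq.mp (congrArg (· ∈ _) (congrArg Subtype.val he : (e : G) = x)) e.2) hxE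
      · have e1 := congrArg (fun t : {t : G // t ∈ R ⊓ N ∧ t ^ r = 1} => t.1) he
        exact congrArg some (Subtype.ext e1)
    have := (Nat.card_le_card_of_injective g hg).trans h.hrank
    rw [Finite.card_option, hE] at this
    omega
  have hvEn : v ∈ normalizer (E : Set G) :=
    centralizer_le_normalizer _ (mem_centralizer_iff.2 fun x hx => (hvE x hx).eq.symm)
  have hvU : v ∈ centralizer ((R ⊓ centralizer (E : Set G) : Subgroup G) : Set G) := by
    refine mem_centralizer_of_fix_prime h.hr2 (h.hRp.to_le inf_le_left) ?_ hco fun x hx hxr => ?_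
    · exact inf_normalizer_le_normalizer_inf
        (mem_inf.2 ⟨hvR, CharPLocal.normalizer_le_normalizer_centralizer E hvEn⟩)
    · exact hvE x (hEset x ⟨hx.1, h.fix_le_N ⟨hx.1,
        centralizer_le (show (X : Set G) ⊆ E from hXE) hx.2⟩⟩ hxr)
  exact CharPLocal.commute_of_axb h.hRp (h.hRp.to_le (hEN.trans inf_le_left)) hco hvR
    (mem_centralizer_iff.2 fun x hx => (hvE x hx).eq.symm)
    ((hEN.trans inf_le_left).trans le_normalizer)
    fun u hu hu' => mem_centralizer_iff.1 hvU u ⟨hu, hu'⟩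

/-- The plane `X ⊔ Z`. -/
theorem plane_sup {Z Y : Subgroup G} (hM : Moved C R X r b Z Y) :
    Nat.card (X ⊔ Z : Subgroup G) = r ^ 2 ∧ X ⊔ Z ≤ R ⊓ N ∧ ∀ x ∈ X ⊔ Z, x ^ r = 1 := by
  haveI : Fact r.Prime := ⟨h.hr⟩
  have hZR' : Z ≤ R := hM.hZY.trans hM.hYR
  have hXN : X ≤ R ⊓ N := le_inf h.hXR (le_normalizer.trans h.hNX)
  have hZN : Z ≤ R ⊓ N := fun x hx => ⟨hZR' hx, h.fix_le_N ⟨hZR' hx,
    mem_centralizer_iff.2 fun y hy => (hM.hZR x hx y (h.hXR hy)).symm⟩⟩
  have he := h.exponent_sup hXN hZN h.pow_X fun x hx => hM.hexp x (hM.hZY hx)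
  refine ⟨?_, sup_le hXN hZN, he⟩
  obtain ⟨n, hn⟩ := (h.hRp.to_le (sup_le h.hXR hZR')).exists_card_eq
  refine card_eq_sq h.hr hn h.hX (lt_of_le_of_ne le_sup_left fun e => hM.hmoved fun y hy => ?_)
    (h.card_le_sq (sup_le hXN hZN) he)
  have hXZ : Z = X := eq_of_le_of_card_ge (e ▸ le_sup_right) (by rw [h.hX, hM.hZ])
  exact mem_centralizer_iff.2 fun x hx => hM.hZR x (hXZ ▸ hx) y (hM.hYR hy)

/-- The case of an inverted plane off `X`. -/
theorem centralizes_of_moved_sq {Z Y : Subgroup G} (hM : Moved C R X r b Z Y)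
    (hY : Nat.card Y = r ^ 2) {τ v : G} (hτC : τ ∈ C) (hvC : v ∈ C) (hi : OS.Inverts τ v)
    (ho : Odd (orderOf v)) (hco : (orderOf v).Coprime r) : v ∈ centralizer (R : Set G) := by
  haveI : Fact r.Prime := ⟨h.hr⟩
  obtain ⟨hE, hEN, hEexp⟩ := h.plane_sup hM
  -- `v` centralises `Y`
  haveI : IsCyclic Z := isCyclic_of_prime_card hM.hZ
  have hvZ := commute_of_inverted_cyclic (hM.hZC hτC) (hM.hZC hvC) hi ho
  have hYZn : Y ≤ normalizer (Z : Set G) := fun y hy =>
    centralizer_le_normalizer _ (mem_centralizer_iff.2 fun z hz => hM.hZR z hz y (hM.hYR hy))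
  have hidx : Z.relIndex Y = r := by
    have := relIndex_mul_relIndex ⊥ Z Y bot_le hM.hZY
    rw [relIndex_bot_left, relIndex_bot_left, hM.hZ, hY, sq] at this
    exact Nat.eq_of_mul_eq_mul_left h.hr.pos this
  have hcoY : ∀ {A : Subgroup G}, A ≤ R → (orderOf v).Coprime (Nat.card A) := fun hA => by
    obtain ⟨n, hn⟩ := (h.hRp.to_le hA).exists_card_eq
    rw [hn]; exact hco.pow_right n
  have hvY : ∀ y ∈ Y, Commute v y := fun y hy => by
    have hm := commutator_mem_of_inverted hYZn hidx hM.hZY (hM.hZC hτC) (hM.hYC hτC) (hM.hZC hvC)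
      (hM.hYC hvC) hi ho y hy
    exact OddOrder.Stab.commute_of_stab_mem (hvZ _ hm) hm (hcoY (hM.hZY.trans hM.hYR))
  set H := R ⊓ centralizer (Y : Set G) with hH
  have hCH : C ≤ normalizer (H : Set G) :=
    (le_inf h.hRC (hM.hYC.trans (CharPLocal.normalizer_le_normalizer_centralizer Y))).trans
      inf_normalizer_le_normalizer_inf
  have hXH : ∀ x ∈ X, x ∈ H → x = 1 := by
    intro x hx hxH
    by_contra hx1
    refine hM.hmoved fun y hy => ?_
    have e : zpowers x = X := eq_of_le_of_card_ge (zpowers_le.2 hx) (by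
      rw [Nat.card_zpowers, orderOf_eq_prime (h.pow_X x hx) hx1, h.hX])
    rw [← e, zpowers_eq_closure, centralizer_closure]
    exact mem_centralizer_singleton_iff.2 (mem_centralizer_iff.1 hxH.2 y hy)
  -- `b` inverts `H`
  have hbH : ∀ x ∈ H, b * x * b⁻¹ = x⁻¹ := by
    refine inverts_of_fixed_trivial ?_ h.hb (hCH h.hbC) fun x hx hbx => ?_
    · obtain ⟨n, hn⟩ := (h.hRp.to_le (inf_le_left : H ≤ R)).exists_card_eq
      rw [hn]
      exact (h.hr.odd_of_ne_two h.hr2).pow
    · by_contra hx1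
      obtain ⟨k, hk⟩ := (IsPGroup.iff_orderOf.1 (h.hRp.to_le (inf_le_left : H ≤ R))) ⟨x, hx⟩
      rw [Subgroup.orderOf_mk] at hk
      have hk0 : k ≠ 0 := fun e => hx1 (orderOf_eq_one_iff.1 (by rw [hk, e, pow_zero]))
      have ho' : orderOf (x ^ r ^ (k - 1)) = r := by
        rw [orderOf_pow_of_dvd (pow_ne_zero _ h.hr.pos.ne')
          (hk ▸ pow_dvd_pow r (Nat.sub_le _ _)), hk, Nat.pow_div (Nat.sub_le _ _) h.hr.pos,
          show k - (k - 1) = 1 by omega, pow_one]
      have h1 := h.hfix _ (pow_mem hx.1 _)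
        ((show Commute b x from mul_inv_eq_iff_eq_mul.1 hbx).pow_right _).eq
        (ho' ▸ pow_orderOf_eq_one _)
      rw [hXH _ h1 (pow_mem hx _), orderOf_one] at ho'
      exact h.hr.one_lt.ne ho'
  have hHab : ∀ x ∈ H, ∀ y ∈ H, Commute x y := fun x hx y hy =>
    OS.commute_of_inverts_all (Y := H) (fun t ht => hbH t ht) hx hy
  have hvH : ∀ x ∈ H, v * x * v⁻¹ ∈ H := fun x hx => (mem_normalizer_iff.1 (hCH hvC) x).1 hx
  have hRY : R ≤ normalizer (Y : Set G) := le_normalizer_of_forall fun p hp y hy => by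
    rw [show p * y * p⁻¹ = ⁅y, p⁆⁻¹ * y by rw [commutatorElement_def]; group]
    exact mul_mem (inv_mem (hM.hZY (hM.hcomm y hy p hp))) hy
  have hRH : R ≤ normalizer (H : Set G) :=
    (le_inf le_normalizer (hRY.trans (CharPLocal.normalizer_le_normalizer_centralizer Y))).trans
      inf_normalizer_le_normalizer_inf
  -- `v` moves `R` inside `H`
  have hvRH : ∀ p ∈ R, ⁅v, p⁆ ∈ H := by
    intro p hp
    have hp' : v * p * v⁻¹ ∈ R := (mem_normalizer_iff.1 (h.hRC hvC) p).1 hp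
    refine ⟨show ⁅v, p⁆ ∈ R by rw [commutatorElement_def]; exact mul_mem hp' (inv_mem hp),
      mem_centralizer_iff.2 fun y hy => ?_⟩
    have hy' : p⁻¹ * y * p ∈ Y := by
      simpa using (mem_normalizer_iff.1 (hRY (inv_mem hp)) y).1 hy
    rw [commutatorElement_def]
    refine (mul_inv_eq_iff_eq_mul.1 ?_).symm
    calc v * p * v⁻¹ * p⁻¹ * y * (v * p * v⁻¹ * p⁻¹)⁻¹
        = v * p * (v⁻¹ * (p⁻¹ * y * p) * v) * p⁻¹ * v⁻¹ := by group
      _ = v * y * v⁻¹ := by
          rw [show v⁻¹ * (p⁻¹ * y * p) * v = p⁻¹ * y * p by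
            rw [(hvY _ hy').inv_left.eq, inv_mul_cancel_right]]
          group
      _ = y := by rw [(hvY y hy).eq, mul_inv_cancel_right]
  let φ : H →* G :=
    { toFun := fun x => ⁅v, (x : G)⁆
      map_one' := commutatorElement_one_right v
      map_mul' := fun x y => by
        have e : ⁅v, ((x * y : H) : G)⁆ = ⁅v, (x : G)⁆ * ((x : G) * ⁅v, (y : G)⁆ * (x : G)⁻¹) := by
          rw [Subgroup.coe_mul, commutatorElement_def, commutatorElement_def, commutatorElement_def]
          group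
        rw [e, (hHab _ x.2 _ (hvRH _ y.2.1)).eq, mul_inv_cancel_right] }
  have hJH : φ.range ≤ H := by
    rintro _ ⟨x, rfl⟩
    exact hvRH _ x.2.1
  -- the image has no fixed point
  have hJfix : ∀ t ∈ φ.range, Commute v t → t = 1 := by
    rintro _ ⟨x, rfl⟩ hc
    exact commutatorElement_eq_one_iff_commute.2 (OddOrder.Stab.commute_of_stab_mem hc
      (hvRH _ x.2.1) (hcoY (inf_le_left : H ≤ R)))
  have hJn : R ≤ normalizer (φ.range : Set G) := le_normalizer_of_forall fun p hp t ht => by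
    obtain ⟨x, rfl⟩ := ht
    have hpx : p * (x : G) * p⁻¹ ∈ H := (mem_normalizer_iff.1 (hRH hp) (x : G)).1 x.2
    refine ⟨⟨_, hpx⟩, ?_⟩
    show ⁅v, p * (x : G) * p⁻¹⁆ = p * ⁅v, (x : G)⁆ * p⁻¹
    have hin : p * (v * x * v⁻¹) * p⁻¹ ∈ H :=
      (mem_normalizer_iff.1 (hRH hp) _).1 (hvH _ x.2)
    have hc : ⁅v, p⁆ * (p * (v * x * v⁻¹) * p⁻¹) * ⁅v, p⁆⁻¹ = p * (v * x * v⁻¹) * p⁻¹ := by
      rw [(hHab _ (hvRH p hp) _ hin).eq, mul_inv_cancel_right]
    calc ⁅v, p * (x : G) * p⁻¹⁆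
        = ⁅v, p⁆ * (p * (v * x * v⁻¹) * p⁻¹) * ⁅v, p⁆⁻¹ * (p * (x : G)⁻¹ * p⁻¹) := by
          simp only [commutatorElement_def]; group
      _ = p * ⁅v, (x : G)⁆ * p⁻¹ := by rw [hc, commutatorElement_def]; group
  have hJ : φ.range = ⊥ := by
    by_contra hne
    obtain ⟨t, htJ, ht1, htc⟩ := OS.exists_fixed_ne_one (h.hRp.to_le (hJH.trans inf_le_left)) h.hRp
      hJn hne
    obtain ⟨k, hk⟩ := (IsPGroup.iff_orderOf.1 (h.hRp.to_le (hJH.trans inf_le_left))) ⟨t, htJ⟩
    rw [Subgroup.orderOf_mk] at hk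
    have hk0 : k ≠ 0 := fun e => ht1 (orderOf_eq_one_iff.1 (by rw [hk, e, pow_zero]))
    set w := t ^ r ^ (k - 1) with hw
    have hwo : orderOf w = r := by
      rw [hw, orderOf_pow_of_dvd (pow_ne_zero _ h.hr.pos.ne') (hk ▸ pow_dvd_pow r (Nat.sub_le _ _)),
        hk, Nat.pow_div (Nat.sub_le _ _) h.hr.pos, show k - (k - 1) = 1 by omega, pow_one]
    have hwJ : w ∈ φ.range := pow_mem htJ _
    have hwR : w ∈ R := (hJH hwJ).1
    have hwN : w ∈ N := h.fix_le_N ⟨hwR, mem_centralizer_iff.2 fun x hx =>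
      ((htc x (h.hXR hx)).pow_right _).eq⟩
    -- all elements of order `r` of `R ⊓ N` lie in `X ⊔ Z`
    have hwE : w ∈ X ⊔ Z := by
      by_contra hxE
      let g : Option (X ⊔ Z : Subgroup G) → {t : G // t ∈ R ⊓ N ∧ t ^ r = 1} := fun o => match o with
        | none => ⟨w, ⟨hwR, hwN⟩, hwo ▸ pow_orderOf_eq_one w⟩
        | some e => ⟨e, hEN e.2, hEexp e e.2⟩
      have hg : Function.Injective g := by
        rintro (_ | e) (_ | e') he
        · rfl
        · exact absurd (Eq.mpr (congrArg (· ∈ _) (congrArg Subtype.val he : w = (e' : G))) e'.2) hxE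
        · exact absurd (Eq.mp (congrArg (· ∈ _) (congrArg Subtype.val he : (e : G) = w)) e.2) hxE
        · have e1 := congrArg (fun t : {t : G // t ∈ R ⊓ N ∧ t ^ r = 1} => t.1) he
          exact congrArg some (Subtype.ext e1)
      have := (Nat.card_le_card_of_injective g hg).trans h.hrank
      rw [Finite.card_option, hE] at this
      omega
    have hXn : X ≤ normalizer (Z : Set G) := fun x hx => centralizer_le_normalizer _
      (mem_centralizer_iff.2 fun z hz => hM.hZR z hz x (h.hXR hx))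
    obtain ⟨x, hx, z, hz, hxz⟩ : ∃ x ∈ X, ∃ z ∈ Z, x * z = w := by
      have h' := coe_mul_of_left_le_normalizer_right X Z hXn
      have hwE' : w ∈ ((X ⊔ Z : Subgroup G) : Set G) := hwE
      rw [h'] at hwE'
      obtain ⟨x, hx, z, hz, e⟩ := Set.mem_mul.1 hwE'
      exact ⟨x, hx, z, hz, e⟩
    have hzH : z ∈ H := ⟨hM.hYR (hM.hZY hz),
      mem_centralizer_iff.2 fun y hy => (hM.hZR z hz y (hM.hYR hy)).symm⟩
    have hx1 : x = 1 := hXH x hx (by
      rw [show x = w * z⁻¹ by rw [← hxz, mul_inv_cancel_right]]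
      exact mul_mem (hJH hwJ) (inv_mem hzH))
    have hw1 : w = 1 := hJfix w hwJ (hvZ w (by rw [← hxz, hx1, one_mul]; exact hz))
    rw [hw1, orderOf_one] at hwo
    exact h.hr.one_lt.ne hwo
  refine mem_centralizer_iff.2 fun p hp => ?_
  have hc : Commute v ⁅v, p⁆ := by
    have : φ ⟨_, hvRH p hp⟩ ∈ φ.range := ⟨_, rfl⟩
    rw [hJ, mem_bot] at this
    exact commutatorElement_eq_one_iff_commute.1 this
  exact (OddOrder.Stab.commute_of_stab_mem hc (hvRH p hp) (hcoY (inf_le_left : H ≤ R))).eq.symm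

/-- An inverted element normalising a flag in a plane through `X` centralises `R`. -/
theorem centralizes_of_flag {E L : Subgroup G} (hL : Nat.card L = r) (hLE : L ≤ E)
    (hE : Nat.card E = r ^ 2) (hXE : X ≤ E) (hEN : E ≤ R ⊓ N) (hexp : ∀ x ∈ E, x ^ r = 1) {τ v : G}
    (hi : OS.Inverts τ v) (ho : Odd (orderOf v)) (hco : (orderOf v).Coprime r)
    (hvR : v ∈ normalizer (R : Set G)) (hτL : τ ∈ normalizer (L : Set G))
    (hvL : v ∈ normalizer (L : Set G)) (hτE : τ ∈ normalizer (E : Set G))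
    (hvE : v ∈ normalizer (E : Set G)) : v ∈ centralizer (R : Set G) := by
  haveI : Fact r.Prime := ⟨h.hr⟩
  haveI : IsCyclic L := isCyclic_of_prime_card hL
  have hL' := commute_of_inverted_cyclic hτL hvL hi ho
  refine h.commute_of_plane hE hXE hEN hexp hvR hco fun y hy => ?_
  have hEL : E ≤ normalizer (L : Set G) := fun e he => centralizer_le_normalizer _
    (mem_centralizer_iff.2 fun x hx => h.hab x (hEN (hLE hx)) e (hEN he))
  have hidx : L.relIndex E = r := by
    have := relIndex_mul_relIndex ⊥ L E bot_le hLE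
    rw [relIndex_bot_left, relIndex_bot_left, hL, hE, sq] at this
    exact Nat.eq_of_mul_eq_mul_left h.hr.pos this
  have hm := commutator_mem_of_inverted hEL hidx hLE hτL hτE hvL hvE hi ho y hy
  exact OddOrder.Stab.commute_of_stab_mem (hL' _ hm) hm (by rw [hL]; exact hco)

/-- A plane through `X` normal in `C` has exponent `r`. -/
theorem plane_exp {E : Subgroup G} (hE : Nat.card E = r ^ 2) (hXE : X ≤ E)
    (hEC : C ≤ normalizer (E : Set G)) : ∀ x ∈ E, x ^ r = 1 := by
  classical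
  haveI : Fact r.Prime := ⟨h.hr⟩
  intro x hx
  by_contra hne
  haveI : IsCyclic E := by
    refine isCyclic_of_orderOf_eq_card (⟨x, hx⟩ : E) ?_
    rw [Subgroup.orderOf_mk, hE]
    obtain ⟨k, hk2, hk⟩ := (Nat.dvd_prime_pow h.hr).1 (hE ▸ E.orderOf_dvd_natCard hx)
    rw [hk]
    congr 1
    by_contra hk'
    exact hne (orderOf_dvd_iff_pow_eq_one.1 (hk ▸ (pow_dvd_pow r (show k ≤ 1 by omega)).trans
      (by rw [pow_one])))
  haveI : Fintype E := Fintype.ofFinite E
  -- `X` is the only subgroup of order `r`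
  have huniq : ∀ y ∈ E, y ^ r = 1 → y ∈ X := by
    intro y hy hyr
    by_contra hyX
    let g : Option X → {t : E // t ^ r = 1} := fun o => match o with
      | none => ⟨⟨y, hy⟩, Subtype.ext hyr⟩
      | some e => ⟨⟨e, hXE e.2⟩, Subtype.ext (h.pow_X e e.2)⟩
    have hg : Function.Injective g := by
      rintro (_ | e) (_ | e') he
      · rfl
      · exact absurd (Eq.mpr (congrArg (· ∈ _) (congrArg (fun t => ((Subtype.val t : E) : G)) he : y = (e' : G))) e'.2) hyX
      · exact absurd (Eq.mp (congrArg (· ∈ _) (congrArg (fun t => ((Subtype.val t : E) : G)) he : (e : G) = y)) e.2) hyX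
      · exact congrArg some (Subtype.ext
          (congrArg (fun t => ((Subtype.val t : E) : G)) he : (e : G) = (e' : G)))
    have := (Nat.card_le_card_of_injective g hg)
    rw [Finite.card_option, h.hX, Nat.card_eq_fintype_card, Fintype.card_subtype] at this
    have := this.trans (IsCyclic.card_pow_eq_one_le h.hr.pos)
    omega
  exact h.hXC (le_normalizer_of_forall fun c hc t ht => huniq _
    ((mem_normalizer_iff.1 (hEC hc) t).1 (hXE ht))
    (by rw [conj_pow, h.pow_X t ht, mul_one, mul_inv_cancel]))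

/-- An inverted element normalising `X` centralises `R`. -/
theorem centralizes_of_fix_line {τ v : G} (hτC : τ ∈ C) (hvC : v ∈ C) (hi : OS.Inverts τ v)
    (ho : Odd (orderOf v)) (hco : (orderOf v).Coprime r) (hτX : τ ∈ normalizer (X : Set G))
    (hvX : v ∈ normalizer (X : Set G)) : v ∈ centralizer (R : Set G) := by
  rcases h.split with ⟨E, hE, hXE, hEN, hEC⟩ | ⟨Z, Y, hM⟩
  · exact h.centralizes_of_flag h.hX hXE hE hXE hEN (h.plane_exp hE hXE hEC) hi ho hco (h.hRC hvC)
      hτX hvX (hEC hτC) (hEC hvC)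
  · rcases hM.shape with ⟨hY, -⟩ | ⟨-, -⟩
    · exact h.centralizes_of_moved_sq hM hY hτC hvC hi ho hco
    · obtain ⟨hE, hEN, hexp⟩ := h.plane_sup hM
      exact h.centralizes_of_flag hM.hZ le_sup_right hE le_sup_left hEN hexp hi ho hco (h.hRC hvC)
        (hM.hZC hτC) (hM.hZC hvC)
        (normalizer_inf_normalizer_le_normalizer_sup _ _ (mem_inf.2 ⟨hτX, hM.hZC hτC⟩))
        (normalizer_inf_normalizer_le_normalizer_sup _ _ (mem_inf.2 ⟨hvX, hM.hZC hvC⟩))

/-- A regular orbit of lines is short. -/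
theorem orderOf_le {τ v : G} (hτC : τ ∈ C) (hvC : v ∈ C) (hi : OS.Inverts τ v)
    (ho : Odd (orderOf v)) (hco : (orderOf v).Coprime r) (hτX : τ ∈ normalizer (X : Set G))
    (hN : ∀ k : ℕ, v ^ k ∈ N → v ^ k = 1) : orderOf v ≤ r + 1 := by
  have hr1 := h.hr.one_lt
  have hcen : ∀ {w : G}, w ∈ centralizer (R : Set G) → w ∈ N := fun hw =>
    h.hNX (centralizer_le_normalizer _ (centralizer_le (show (X : Set G) ⊆ R from h.hXR) hw))
  have hio : ∀ k : ℕ, Odd (orderOf (v ^ k)) ∧ (orderOf (v ^ k)).Coprime r := fun k =>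
    ⟨ho.of_dvd_nat (orderOf_pow_dvd k), hco.coprime_dvd_left (orderOf_pow_dvd k)⟩
  rcases h.split with ⟨E, hE, hXE, hEN, hEC⟩ | ⟨Z, Y, hM⟩
  · have hb := orbit_bound (Y := E) (Z := ⊥) (E := X) (v := v) hXE bot_le (hEC hvC)
      (by rw [normalizer_eq_top_iff.2 inferInstance]; trivial) h.hr
      (by rw [relIndex_bot_left, h.hX]) fun k hk => hN k (h.hNX hk)
    rw [card_bot, h.hX, hE, show r ^ 2 - 1 = (r + 1) * (r - 1) by
      rw [← Nat.sq_sub_sq, one_pow]] at hb
    exact Nat.le_of_mul_le_mul_right hb (by omega)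
  · rcases hM.shape with ⟨hY, -⟩ | ⟨hY, hXY⟩
    · have h1 : v ^ 1 = 1 := hN 1 (by
        rw [pow_one]; exact hcen (h.centralizes_of_moved_sq hM hY hτC hvC hi ho hco))
      rw [pow_one] at h1
      rw [h1, orderOf_one]; omega
    · obtain ⟨hE, hEN, hexp⟩ := h.plane_sup hM
      have hidx : Z.relIndex (X ⊔ Z) = r := by
        have := relIndex_mul_relIndex ⊥ Z (X ⊔ Z) bot_le le_sup_right
        rw [relIndex_bot_left, relIndex_bot_left, hM.hZ, hE, sq] at this
        exact Nat.eq_of_mul_eq_mul_left h.hr.pos this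
      have hb := orbit_bound (sup_le hXY hM.hZY) le_sup_right (hM.hYC hvC) (hM.hZC hvC) h.hr hidx
        fun k hk => hN k (hcen (h.centralizes_of_flag hM.hZ le_sup_right hE le_sup_left hEN hexp
          (hi.pow k) (hio k).1 (hio k).2 (h.hRC (pow_mem hvC k)) (hM.hZC hτC)
          (hM.hZC (pow_mem hvC k))
          (normalizer_inf_normalizer_le_normalizer_sup _ _ (mem_inf.2 ⟨hτX, hM.hZC hτC⟩)) hk))
      rw [hE, hM.hZ, hY] at hb
      have e1 : r ^ 2 - r = r * (r - 1) := by rw [Nat.mul_sub, mul_one, sq]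
      have e2 : r ^ 3 - r = (r + 1) * (r * (r - 1)) := by
        obtain ⟨t, rfl⟩ : ∃ t, r = t + 1 := ⟨r - 1, by omega⟩
        rw [Nat.add_sub_cancel, Nat.sub_eq_iff_eq_add (Nat.le_self_pow (by omega) _)]
        ring
      rw [e1, e2] at hb
      exact Nat.le_of_mul_le_mul_right hb (Nat.mul_pos (by omega) (by omega))

end LineData

end CfsgLib.GW
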