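import Cfsg.Agent.GW.OSType.LinearInner
import Mathlib.Algebra.QuadraticAlgebra.Basic
import Mathlib.RingTheory.IntegralDomain
import Mathlib.FieldTheory.Finite.Basic

/-!
# The torus of an outer involution of `PGL₂(q)`

For a self-centralizing normal `L ≅ PSL₂(q)`, `q ≡ ε mod 4`, an involution `σ ∉ L` and an involution
`z ∈ L` commuting with it, some `y ∈ L` of order `(q + ε) / 2` commutes with `σ` and is inverted
by `z`.
-/

set_option autoImplicit false
set_option linter.style.haveILetI false
set_option linter.unusedSectionVars false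

open Subgroup
open scoped MatrixGroups

namespace CfsgLib.GW.OS

/-- A nonsquare gives an element of order `q + 1` and norm `1` in the quadratic algebra. -/
theorem exists_norm_one_generator {F : Type} [Field F] [Fintype F] {α : F} (hα : ¬ IsSquare α) :
    ∃ w : QuadraticAlgebra F α 0, orderOf w = Fintype.card F + 1 := by
  classical
  haveI : Fact (∀ r : F, r ^ 2 ≠ α + 0 * r) :=
    ⟨fun r h => hα ⟨r, by rw [← pow_two, h, zero_mul, add_zero]⟩⟩
  haveI : Finite (QuadraticAlgebra F α 0) := Finite.of_equiv _ (QuadraticAlgebra.equivProd α 0).symm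
  have hcard : Nat.card (QuadraticAlgebra F α 0) = Fintype.card F * Fintype.card F := by
    rw [Nat.card_congr (QuadraticAlgebra.equivProd α 0), Nat.card_prod, Nat.card_eq_fintype_card]
  obtain ⟨η, hη⟩ := IsCyclic.exists_generator (α := (QuadraticAlgebra F α 0)ˣ)
  have ho : orderOf η = Fintype.card F * Fintype.card F - 1 := by
    rw [orderOf_eq_card_of_forall_mem_zpowers hη, Nat.card_units, hcard]
  set q := Fintype.card F
  have hq : 1 < q := Fintype.one_lt_card
  have he : q * q - 1 = (q - 1) * (q + 1) := by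
    obtain ⟨k, hk⟩ : ∃ k, q = k + 1 := ⟨q - 1, by omega⟩
    rw [hk]
    simp only [Nat.add_sub_cancel]
    rw [Nat.sub_eq_iff_eq_add (by nlinarith)]
    ring
  refine ⟨((η ^ (q - 1) : (QuadraticAlgebra F α 0)ˣ) : QuadraticAlgebra F α 0), ?_⟩
  rw [orderOf_units, orderOf_pow_of_dvd (by omega) (by rw [ho, he]; exact dvd_mul_right _ _), ho, he,
    Nat.mul_div_cancel_left _ (by omega)]

namespace Model

variable {Q : Type*} [Group Q] [Finite Q] {L : Subgroup Q} [L.Normal] {F : Type} [Field F] [Fintype F]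
variable {m : Model L F}

local notation "GLT" => GL (Fin 2) F
local notation "M₂" => Matrix (Fin 2) (Fin 2) F

theorem det_coord {A : M₂} {α : F} (hn : NonSc A) (hA : A * A = α • 1) (a b : F) :
    (a • (1 : M₂) + b • A).det = a * a - α * (b * b) := by
  have ht := hn.trace_zero hA
  have hd := hn.det_eq hA
  rw [Matrix.trace_fin_two] at ht
  rw [Matrix.det_fin_two] at hd
  rw [Matrix.det_fin_two]
  simp
  linear_combination (a * b) * ht + (b * b) * hd

/-- An element of the torus of `σ` of square determinant, of exact order `n`. -/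
theorem exists_of_coord {z σ : Q} {A B : GLT} {α : F} (hA : m.Rep σ A) (hB : m.Rep z B)
    (hnA : NonSc A.1) (hA2 : A.1 * A.1 = α • 1) (hanti : B.1 * A.1 = -(A.1 * B.1)) {a b : F}
    (hsq : IsSquare (a * a - α * (b * b))) (hne : a * a - α * (b * b) ≠ 0) {n : ℕ}
    (hn : ∀ k : ℕ, (∃ c : F, (a • (1 : M₂) + b • A.1) ^ k = c • 1) ↔ n ∣ k) :
    ∃ y ∈ L, Commute σ y ∧ Inverts z y ∧ orderOf y = n := by
  have hdet := det_coord hnA hA2 a b
  obtain ⟨g, T, hgL, hT, hTv, hc⟩ := exists_mem_of_mat hA (T := a • 1 + b • A.1)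
    (hdet ▸ hsq) (hdet ▸ hne) (c := 1) one_ne_zero (by
      rw [one_smul, mul_add, add_mul, mul_smul_comm, mul_smul_comm, smul_mul_assoc, smul_mul_assoc,
        mul_one, one_mul])
  refine ⟨g, hgL, hc, ?_, ?_⟩
  · have hrep : m.Rep (z * g * z⁻¹ * g) (B * T * B⁻¹ * T) := ((hB.mul hT).mul hB.inv).mul hT
    have hBT : B.1 * T.1 = (a • (1 : M₂) + (-b) • A.1) * B.1 := by
      rw [hTv, mul_add, add_mul, mul_smul_comm, mul_smul_comm, hanti, smul_mul_assoc, smul_mul_assoc,
        mul_one, one_mul, smul_neg, neg_smul]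
    have h1 : z * g * z⁻¹ * g = 1 := hrep.eq_one_of_scalar (c := a * a - α * (b * b)) (by
      rw [Units.val_mul, Units.val_mul, Units.val_mul, hBT, mul_assoc _ B.1, ← Units.val_mul,
        mul_inv_cancel, Units.val_one, mul_one, hTv]
      simp only [add_mul, mul_add, smul_mul_assoc, mul_smul_comm, one_mul, mul_one, hA2, smul_smul,
        neg_mul, neg_smul, sub_smul]
      module)
    exact eq_inv_of_mul_eq_one_left h1
  · have key : ∀ k : ℕ, g ^ k = 1 ↔ ∃ c : F, (a • (1 : M₂) + b • A.1) ^ k = c • 1 := by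
      intro k
      have hk : (T ^ k).1 = (a • (1 : M₂) + b • A.1) ^ k := by rw [Units.val_pow_eq_pow_val, hTv]
      constructor
      · intro h
        obtain ⟨u, hu⟩ := Rep.unique (h ▸ hT.pow k : m.Rep 1 (T ^ k)) rep_one
        refine ⟨u, ?_⟩
        rw [← hk, hu, smul_one_mul_units, Units.val_one]
      · rintro ⟨c, hc⟩
        exact (hT.pow k).eq_one_of_scalar (c := c) (hk.trans hc)
    refine Nat.dvd_antisymm (orderOf_dvd_of_pow_eq_one ((key n).2 ((hn n).2 dvd_rfl))) ?_
    exact (hn _).1 ((key _).1 (pow_orderOf_eq_one g))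

/-- The element of order `(q + ε) / 2` inverted by `z` in the centralizer of the outer `σ`. -/
theorem exists_outer_torus (m : Model L F) {z σ : Q} (hz : orderOf z = 2) (hσ : orderOf σ = 2)
    (hzσ : Commute z σ) (hzL : z ∈ L) (hσL : σ ∉ L) :
    ∃ y ∈ L, Commute σ y ∧ Inverts z y ∧ Odd (orderOf y) ∧
      ((Fintype.card F % 4 = 1 ∧ 2 * orderOf y = Fintype.card F + 1) ∨
        (Fintype.card F % 4 = 3 ∧ 2 * orderOf y + 1 = Fintype.card F)) := by
  classical
  obtain ⟨A, α, hA, hA2, hα, hnA⟩ := exists_rep_involution (m := m) hσ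
  obtain ⟨B, β, hB, hB2, -, hnB⟩ := exists_rep_involution (m := m) hz
  have hne : σ ≠ z := fun h => hσL (h ▸ hzL)
  have hanti : B.1 * A.1 = -(A.1 * B.1) :=
    anticomm hB hA hnB (hnB.trace_zero hB2) hA2 hnA hzσ hne
  have hns : ¬ IsSquare (-α) := fun h => hσL ((involution_mem_iff hA hA2 hnA).2 h)
  have h2 := m.two_ne_zero
  set q := Fintype.card F with hq
  obtain ⟨j, hj⟩ := m.odd
  rcases (show q % 4 = 1 ∨ q % 4 = 3 by omega) with h4 | h4
  · -- non-split torus
    have hm1 : IsSquare (-1 : F) := FiniteField.isSquare_neg_one_iff.2 (by omega)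
    have hαns : ¬ IsSquare α := fun h => hns (by rw [← neg_one_mul]; exact hm1.mul h)
    have hch : ringChar F ≠ 2 := fun e => h2 (by
      haveI := ringChar.of_eq e
      exact_mod_cast CharP.cast_eq_zero F 2)
    have hαq : α ^ (q / 2) = -1 := (FiniteField.pow_dichotomy hch hα).resolve_left
      fun h => hαns ((FiniteField.isSquare_iff hch hα).2 h)
    obtain ⟨w, hw⟩ := exists_norm_one_generator hαns
    haveI : Fact (∀ r : F, r ^ 2 ≠ α + 0 * r) :=
      ⟨fun r h => hαns ⟨r, by rw [← pow_two, h, zero_mul, add_zero]⟩⟩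
    let φ : QuadraticAlgebra F α 0 →ₐ[F] M₂ :=
      QuadraticAlgebra.lift ⟨A.1, by rw [hA2, zero_smul, add_zero]⟩
    have hφ : Function.Injective φ := φ.toRingHom.injective
    have hφw : φ w = w.re • 1 + w.im • A.1 := rfl
    have hnorm : w.re * w.re - α * (w.im * w.im) = 1 := by
      have h1 : φ (w ^ q) * φ w = 1 := by rw [← map_mul, ← pow_succ, ← hw, pow_orderOf_eq_one, map_one]
      rw [map_pow, hφw, hq, pow_card_coord hA2 m.odd, hαq] at h1
      simp only [add_mul, mul_add, smul_mul_assoc, mul_smul_comm, one_mul, mul_one, hA2, smul_smul,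
        mul_neg, neg_smul, neg_mul] at h1
      have h2' : ((w.re * w.re - α * (w.im * w.im) - 1) : F) • (1 : M₂) + (0 : F) • A.1 = 0 := by
        rw [zero_smul, add_zero, sub_smul, one_smul, sub_eq_zero]
        refine Eq.trans ?_ h1
        module
      exact sub_eq_zero.1 (hnA.coord_eq_zero h2').1
    have hwn : QuadraticAlgebra.norm w = 1 := by
      rw [QuadraticAlgebra.norm_def]; linear_combination hnorm
    obtain ⟨y, hyL, hyσ, hyz, hyo⟩ := exists_of_coord (n := (q + 1) / 2) hA hB hnA hA2 hanti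
      (a := w.re) (b := w.im) (hnorm ▸ IsSquare.one) (hnorm ▸ one_ne_zero) (fun k => by
        rw [← hφw, ← map_pow]
        constructor
        · rintro ⟨c, hc⟩
          have hwk : w ^ k = algebraMap F _ c :=
            hφ (by rw [hc, AlgHom.commutes, Algebra.algebraMap_eq_smul_one])
          have hc2 : c ^ 2 = 1 := by
            rw [← QuadraticAlgebra.norm_algebraMap (R := F) (a := α) (b := 0) c, ← hwk, map_pow, hwn,
              one_pow]
          have h1 : w ^ (2 * k) = 1 := by
            rw [mul_comm, pow_mul, hwk, ← map_pow, hc2, map_one]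
          have h3 := orderOf_dvd_of_pow_eq_one h1
          rw [hw, ← hq, show q + 1 = 2 * ((q + 1) / 2) by omega] at h3
          exact Nat.dvd_of_mul_dvd_mul_left two_pos h3
        · rintro ⟨l, rfl⟩
          have h1 : w ^ ((q + 1) / 2) * w ^ ((q + 1) / 2) = 1 := by
            rw [← pow_add, show (q + 1) / 2 + (q + 1) / 2 = orderOf w by rw [hw, ← hq]; omega,
              pow_orderOf_eq_one]
          rcases mul_self_eq_one_iff.1 h1 with h | h
          · exact ⟨1, by rw [pow_mul, h, one_pow, map_one, one_smul]⟩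
          · exact ⟨(-1) ^ l, by
              rw [pow_mul, h, map_pow, map_neg, map_one, ← one_pow (M := M₂) l, ← smul_pow, one_pow,
                neg_one_smul]⟩)
    exact ⟨y, hyL, hyσ, hyz, by rw [hyo]; exact ⟨q / 4, by omega⟩, Or.inl ⟨h4, by omega⟩⟩
  · -- split torus
    have hm1 : ¬ IsSquare (-1 : F) := fun h => FiniteField.isSquare_neg_one_iff.1 h h4
    obtain ⟨c, hc⟩ : IsSquare α := by
      have hch : ringChar F ≠ 2 := fun e => h2 (by
        haveI := ringChar.of_eq e
        exact_mod_cast CharP.cast_eq_zero F 2)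
      rw [FiniteField.isSquare_iff hch hα]
      rcases FiniteField.pow_dichotomy hch hα with h | h
      · exact h
      · exfalso
        refine hns ((FiniteField.isSquare_iff hch (neg_ne_zero.2 hα)).2 ?_)
        have h' := (FiniteField.pow_dichotomy hch (neg_ne_zero.2 one_ne_zero)).resolve_left
          fun h' => hm1 ((FiniteField.isSquare_iff hch (neg_ne_zero.2 one_ne_zero)).2 h')
        rw [← neg_one_mul, mul_pow, h, h', neg_one_mul, neg_neg]
    have hc0 : c ≠ 0 := fun h => hα (by rw [hc, h, mul_zero])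
    obtain ⟨η, hη⟩ := IsCyclic.exists_generator (α := Fˣ)
    have ho : orderOf η = q - 1 := by
      rw [orderOf_eq_card_of_forall_mem_zpowers hη, Nat.card_units, Nat.card_eq_fintype_card]
    obtain ⟨u, hu⟩ : ∃ u : Fˣ, u = η ^ 2 := ⟨_, rfl⟩
    have huo : orderOf u = (q - 1) / 2 := by
      rw [hu, orderOf_pow_of_dvd (by omega) (by rw [ho]; exact ⟨j, by omega⟩), ho]
    have hpow : ∀ k : ℕ, (((u : F) + 1) / 2) • (1 : M₂) + (((u : F) - 1) / (2 * c)) • A.1 =
        (((u : F) + 1) / 2) • (1 : M₂) + (((u : F) - 1) / (2 * c)) • A.1 ∧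
        ((((u : F) + 1) / 2) • (1 : M₂) + (((u : F) - 1) / (2 * c)) • A.1) ^ k =
          (((u : F) ^ k + 1) / 2) • (1 : M₂) + (((u : F) ^ k - 1) / (2 * c)) • A.1 := by
      intro k
      refine ⟨rfl, ?_⟩
      induction k with
      | zero => simp [one_add_one_eq_two, h2]
      | succ k ih =>
        rw [pow_succ, ih]
        simp only [add_mul, mul_add, smul_mul_assoc, mul_smul_comm, one_mul, mul_one, hA2, smul_smul]
        match_scalars <;> field_simp <;> (try rw [hc]) <;> ring
    have hdet : ((u : F) + 1) / 2 * (((u : F) + 1) / 2) -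
        α * (((u : F) - 1) / (2 * c) * (((u : F) - 1) / (2 * c))) = (u : F) := by
      rw [hc]; field_simp; ring
    obtain ⟨y, hyL, hyσ, hyz, hyo⟩ := exists_of_coord (n := (q - 1) / 2) hA hB hnA hA2 hanti
      (a := ((u : F) + 1) / 2) (b := ((u : F) - 1) / (2 * c))
      (by rw [hdet, hu, Units.val_pow_eq_pow_val, pow_two]; exact ⟨_, rfl⟩)
      (by rw [hdet]; exact u.ne_zero) (fun k => by
        rw [(hpow k).2, ← huo, orderOf_dvd_iff_pow_eq_one, Units.ext_iff, Units.val_pow_eq_pow_val,
          Units.val_one]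
        constructor
        · rintro ⟨d, hd⟩
          have h0 : (((u : F) ^ k + 1) / 2 - d) • (1 : M₂) +
              (((u : F) ^ k - 1) / (2 * c)) • A.1 = 0 := by
            rw [sub_smul, ← hd]; abel
          have := (hnA.coord_eq_zero h0).2
          rw [div_eq_zero_iff, sub_eq_zero] at this
          exact this.resolve_right (mul_ne_zero h2 hc0)
        · intro hk
          exact ⟨1, by rw [hk, sub_self, zero_div, zero_smul, add_zero, one_add_one_eq_two,
            div_self h2]⟩)
    exact ⟨y, hyL, hyσ, hyz, by rw [hyo]; exact ⟨q / 4, by omega⟩, Or.inr ⟨h4, by omega⟩⟩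

end Model

end CfsgLib.GW.OS
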