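import Cfsg.Agent.GW.ComponentInner
import Cfsg.Agent.GW.LineOrbit
import Cfsg.Agent.GW.OuterTorus
import Cfsg.Agent.GW.PSLTorus

/-!
# Gorenstein–Walter 4.1: the component has no outer involution of `PGL₂(q)` in `N`

`false_of_outer`: an involution `σ` of `N` outside the component and commuting with `z` gives
elements of order `(q + ε) / 2` of `O(C(z))` inverted by `σ * z`, regular on lines of `O_r(O(C(z)))`;
there are at most `r + 1` lines, and `r + 1 < (q + ε) / 2`.
-/

set_option autoImplicit false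
set_option linter.style.haveILetI false
set_option linter.unusedSectionVars false

open Subgroup
open scoped commutatorElement

namespace CfsgLib.GW

universe u

variable {G : Type u} [Group G] [Finite G]

/-- A subgroup of prime order of a cyclic subgroup is normalised with it. -/
theorem normalizer_le_of_cyclic {A X : Subgroup G} [IsCyclic A] {r : ℕ} (hr : 0 < r)
    (hX : Nat.card X = r) (hXA : X ≤ A) : normalizer (A : Set G) ≤ normalizer (X : Set G) := by
  classical
  haveI : Fintype A := Fintype.ofFinite A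
  refine le_normalizer_of_forall fun c hc x hx => ?_
  by_contra hy
  set y := c * x * c⁻¹
  have hyr : y ^ r = 1 := by
    rw [conj_pow, ← hX, orderOf_dvd_iff_pow_eq_one.1 (X.orderOf_dvd_natCard hx), mul_one,
      mul_inv_cancel]
  let g : Option X → {t : A // t ^ r = 1} := fun o => match o with
    | none => ⟨⟨y, (mem_normalizer_iff.1 hc x).1 (hXA hx)⟩, Subtype.ext hyr⟩
    | some e => ⟨⟨e, hXA e.2⟩, Subtype.ext (by
        rw [SubmonoidClass.coe_pow]; exact hX ▸ orderOf_dvd_iff_pow_eq_one.1 (X.orderOf_dvd_natCard e.2))⟩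
  have hg : Function.Injective g := by
    rintro (_ | e) (_ | e') he
    · rfl
    · have e1 : y = (e' : G) := congrArg (fun t : {t : A // t ^ r = 1} => ((t.1 : A) : G)) he
      exact absurd (Eq.mpr (congrArg (· ∈ X) e1) e'.2) hy
    · have e1 : (e : G) = y := congrArg (fun t : {t : A // t ^ r = 1} => ((t.1 : A) : G)) he
      exact absurd (Eq.mp (congrArg (· ∈ X) e1) e.2) hy
    · have e1 := congrArg (fun t : {t : A // t ^ r = 1} => ((t.1 : A) : G)) he
      exact congrArg some (Subtype.ext e1)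
  have := Nat.card_le_card_of_injective g hg
  rw [Finite.card_option, hX, Nat.card_eq_fintype_card, Fintype.card_subtype] at this
  have := this.trans (IsCyclic.card_pow_eq_one_le hr)
  omega

namespace OS.Model

variable {Q : Type*} [Group Q] [Finite Q] {L : Subgroup Q} [L.Normal] {F : Type} [Field F] [Fintype F]

/-- An element of odd order of `diagPart` lies in `L`. -/
theorem mem_of_odd {m : Model L F} {d : Q} (hd : d ∈ m.diagPart) (ho : Odd (orderOf d)) : d ∈ L := by
  obtain ⟨M, hM⟩ := mem_diagPart.1 hd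
  obtain ⟨j, hj⟩ := ho
  have e : (d ^ (j + 1)) ^ 2 = d := by
    rw [← pow_mul, show (j + 1) * 2 = orderOf d + 1 by omega, pow_succ, pow_orderOf_eq_one, one_mul]
  have h := (hM.pow (j + 1)).pow 2
  rw [e] at h
  refine mem_of_det h ?_
  rw [Units.val_pow_eq_pow_val, Matrix.det_pow, pow_two]
  exact ⟨_, rfl⟩

/-- The order of the centralizer in `L` of an involution of `L`. -/
theorem card_centralizer_inner (m : Model L F) {z : Q} (hz : orderOf z = 2) (hzL : z ∈ L) :
    (Fintype.card F % 4 = 1 ∧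
        Nat.card (centralizer ({z} : Set Q) ⊓ L : Subgroup Q) = Fintype.card F - 1) ∨
      (Fintype.card F % 4 = 3 ∧
        Nat.card (centralizer ({z} : Set Q) ⊓ L : Subgroup Q) = Fintype.card F + 1) := by
  have e : Nat.card (centralizer ({z} : Set Q) ⊓ L : Subgroup Q) =
      Nat.card (centralizer ({m.e ⟨z, hzL⟩} :
        Set (Matrix.ProjectiveSpecialLinearGroup (Fin 2) F))) := by
    refine Nat.card_congr
      { toFun := fun w => ⟨m.e ⟨w, (mem_inf.1 w.2).2⟩, mem_centralizer_singleton_iff.2 (by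
          rw [← map_mul, ← map_mul]
          exact congrArg m.e (Subtype.ext (mem_centralizer_singleton_iff.1 (mem_inf.1 w.2).1)))⟩
        invFun := fun w => ⟨((m.e.symm w : L) : Q), mem_inf.2 ⟨mem_centralizer_singleton_iff.2 (by
          have h := congrArg m.e.symm (mem_centralizer_singleton_iff.1 w.2)
          rw [map_mul, map_mul, MulEquiv.symm_apply_apply] at h
          exact congrArg Subtype.val h), (m.e.symm w).2⟩⟩
        left_inv := fun w => Subtype.ext (by simp)
        right_inv := fun w => Subtype.ext (by simp) }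
  rw [e]
  exact card_centralizer_involution_psl m.odd (a := m.e ⟨z, hzL⟩) (by
    rw [MulEquiv.orderOf_eq, ← orderOf_coe]; exact hz)

end OS.Model

namespace Minimal

variable (hG : Minimal G)
include hG

/-- **The component has no outer involution in `N`.** -/
theorem false_of_outer {z σ : G} (hz : orderOf z = 2) {N O X : Subgroup G} {Q : Type*} [Group Q]
    [Finite Q] (π : N →* Q) (hπ : Function.Surjective π) (hker : ∀ n : N, π n = 1 ↔ (n : G) ∈ O)
    (hON : O ≤ N) (hOodd : Odd (Nat.card O)) {L : Subgroup Q} [L.Normal] {F : Type} [Field F]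
    [Fintype F] (m : OS.Model L F) (hzN : z ∈ N) (hσN : σ ∈ N) (hσ : orderOf σ = 2)
    (hσz : σ * z = z * σ) (hzL : π ⟨z, hzN⟩ ∈ L) (hσL : π ⟨σ, hσN⟩ ∉ L)
    (hA : IsCyclic (O ⊓ fit z : Subgroup G)) {r : ℕ} {b : G}
    (hL : LineData (centralizer ({z} : Set G)) N (qcore r z) X r b) (hXO : X ≤ O)
    (hπF : ∀ u : ℕ, u.Prime → qcore u z ≠ ⊥ →
      u ∣ Nat.card (centralizer ({π ⟨z, hzN⟩} : Set Q) ⊓ L : Subgroup Q)) : False := by
  haveI := hA
  haveI : Fact r.Prime := ⟨hL.hr⟩
  set zN : N := ⟨z, hzN⟩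
  set sN : N := ⟨σ, hσN⟩
  have hne : σ ≠ z := fun h => hσL (by rw [show sN = zN from Subtype.ext h]; exact hzL)
  have hπo : ∀ {a : N}, orderOf (a : G) = 2 → orderOf (π a) = 2 := fun {a} ha => by
    refine orderOf_eq_prime ?_ fun h => ?_
    · rw [← map_pow, show a ^ 2 = 1 from Subtype.ext (by
        rw [SubmonoidClass.coe_pow, pow_two]; exact Small.mul_self_of_orderOf_two ha), map_one]
    · have h2 := hOodd.of_dvd_nat (O.orderOf_dvd_natCard ((hker a).1 h))
      rw [ha] at h2
      exact absurd h2 (by decide)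
  have hπz : orderOf (π zN) = 2 := hπo hz
  have hcom : Commute (π zN) (π sN) := (show Commute zN sN from Subtype.ext hσz.symm).map π
  obtain ⟨yb, hybL, hσy, hzy, hyo, hyq⟩ :=
    OS.Model.exists_outer_torus m hπz (hπo hσ) hcom hzL hσL
  set t := orderOf yb with ht
  have hcq := OS.Model.card_centralizer_inner m hπz hzL
  set c := Nat.card (centralizer ({π zN} : Set Q) ⊓ L : Subgroup Q)
  have hlarge := m.large
  set q := Fintype.card F
  obtain ⟨jt, hjt⟩ := hyo
  have hc4 : 4 ∣ c := by rcases hcq with ⟨h4, e⟩ | ⟨h4, e⟩ <;> omega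
  have htc : t.Coprime c := by
    refine Nat.Coprime.symm (Nat.coprime_of_dvd fun p hp hpc hpt => ?_)
    have h2 : p ∣ 2 := by
      rcases hcq with ⟨h4, e⟩ | ⟨h4, e⟩ <;> rcases hyq with ⟨h4', e'⟩ | ⟨h4', e'⟩ <;> try omega
      · refine (Nat.dvd_add_right hpc).1 ?_
        rw [show c + 2 = 2 * t by omega]
        exact hpt.mul_left 2
      · refine (Nat.dvd_add_right (hpt.mul_left 2)).1 ?_
        rw [show 2 * t + 2 = c by omega]
        exact hpc
    rw [(Nat.prime_dvd_prime_iff_eq hp Nat.prime_two).1 h2] at hpt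
    omega
  have hXF : X ≤ fit z := hL.hXR.trans (qcore_le_fit hL.hr z)
  have hXne : X ≠ ⊥ := fun e => by
    have := hL.hr.one_lt
    rw [← hL.hX, e, card_bot] at this
    omega
  have hrc : r ∣ c := hπF r hL.hr fun e => hXne (eq_bot_iff.2 (e ▸ hL.hXR))
  -- an element inverted by `z` in the core of `σ`
  obtain ⟨n, hn⟩ := hπ yb
  have hOn : N ≤ normalizer (O : Set G) := le_normalizer_of_forall fun a ha o ho => by
    refine (hker (⟨a, ha⟩ * ⟨o, hON ho⟩ * ⟨a, ha⟩⁻¹)).1 ?_
    rw [map_mul, map_mul, (hker ⟨o, hON ho⟩).2 ho, mul_one, map_inv, mul_inv_cancel]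
  have hcO : ((n⁻¹ * sN * n * sN⁻¹ : N) : G) ∈ O := (hker _).1 (by
    simp only [map_mul, map_inv, hn]
    rw [mul_assoc yb⁻¹, hσy.eq]; group)
  push_cast at hcO
  obtain ⟨o, ho, hoσ⟩ := OS.exists_fixed_mul (Small.mul_self_of_orderOf_two hσ)
    (hOodd.of_dvd_nat (O.orderOf_dvd_natCard hcO))
  have hoO : o ∈ O := zpowers_le.2 hcO ho
  obtain ⟨k, M, hM, hk⟩ := Nat.exists_eq_two_pow_mul_odd (orderOf_pos ((n : G) * o)).ne'
  set y : N := (n * ⟨o, hON hoO⟩) ^ 2 ^ k with hy
  have hyy : Odd (orderOf (y : G)) := by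
    rw [hy, SubmonoidClass.coe_pow, Subgroup.coe_mul, orderOf_pow, hk,
      Nat.gcd_eq_right (dvd_mul_right _ _), Nat.mul_div_cancel_left _ (Nat.two_pow_pos k)]
    exact hM
  have hyσ : Commute σ (y : G) := by
    rw [hy, SubmonoidClass.coe_pow, Subgroup.coe_mul]; exact hoσ.pow_right _
  have hπy : π y = yb ^ 2 ^ k := by
    rw [hy, map_pow, map_mul, hn, (hker ⟨o, hON hoO⟩).2 hoO, mul_one]
  set w : N := y⁻¹ * (zN * y * zN⁻¹) with hw
  have hwval : (w : G) = (y : G)⁻¹ * (z * y * z⁻¹) := rfl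
  have hwσ : (w : G) ∈ core σ := by
    rw [hwval]
    refine mul_mem ((core σ).inv_mem (hG.mem_core hσ (mem_centralizer_singleton_iff.2 hyσ.eq.symm)
      hyy)) (hG.mem_core hσ (mem_centralizer_singleton_iff.2 ?_) (by rwa [Small.orderOf_conj_eq]))
    exact (((show Commute σ z from hσz).mul_right hyσ).mul_right
      (show Commute σ z from hσz).inv_right).eq.symm
  have hzi : z⁻¹ = z := inv_eq_of_mul_eq_one_right (Small.mul_self_of_orderOf_two hz)
  have hwz : OS.Inverts z (w : G) := by
    show z * (w : G) * z⁻¹ = (w : G)⁻¹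
    rw [hwval]
    simp only [mul_inv_rev, inv_inv, hzi]
    simp only [mul_assoc, Small.mul_self_of_orderOf_two hz, mul_one]
  have hπw : π w = (yb ^ 2 ^ k)⁻¹ * (yb ^ 2 ^ k)⁻¹ := by
    rw [hw, map_mul, map_mul, map_mul, map_inv, map_inv, hπy, OS.inverts_iff.1 (hzy.pow _)]
  have htw : t ∣ orderOf (w : G) := by
    rw [orderOf_coe]
    refine (dvd_of_eq ?_).trans (orderOf_map_dvd π w)
    rw [hπw, ← pow_two, inv_pow, orderOf_inv, ← pow_mul, Nat.Coprime.orderOf_pow]
    rw [ht.symm, ← pow_succ]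
    exact (Nat.coprime_two_right.2 ⟨jt, hjt⟩).pow_right _
  -- move it into the core of `z`
  obtain ⟨g, hg1, hg2⟩ := hG.exists_cycle hσ hz hne hσz
  set τ := σ * z with hτ
  set v := g * (w : G) * g⁻¹ with hv
  have hvz : v ∈ centralizer ({z} : Set G) := by
    refine mem_centralizer_singleton_iff.2 ?_
    rw [hv, ← hg1]
    calc g * (w : G) * g⁻¹ * (g * σ * g⁻¹) = g * ((w : G) * σ) * g⁻¹ := by group
      _ = g * (σ * (w : G)) * g⁻¹ := by rw [commute_of_mem_core hwσ]
      _ = g * σ * g⁻¹ * (g * (w : G) * g⁻¹) := by group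
  have hvτ : OS.Inverts τ v := by
    have := hwz.conj g
    rwa [hg2, ← hv] at this
  have hvo : Odd (orderOf v) := by rw [hv, Small.orderOf_conj_eq]; exact odd_orderOf_core hwσ
  have htv : t ∣ orderOf v := by rw [hv, Small.orderOf_conj_eq]; exact htw
  set v₀ := v ^ (orderOf v / t) with hv₀
  have hv₀o : orderOf v₀ = t := by
    rw [hv₀, orderOf_pow_of_dvd (Nat.div_pos (Nat.le_of_dvd (orderOf_pos v) htv) (by omega)).ne'
      (Nat.div_dvd_of_dvd htv), Nat.div_div_self htv (orderOf_pos v).ne']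
  have hτz : Commute τ z := (show Commute σ z from hσz).mul_left (Commute.refl z)
  have hτC : τ ∈ centralizer ({z} : Set G) := mem_centralizer_singleton_iff.2 hτz.eq
  have hτN : τ ∈ N := mul_mem hσN hzN
  have hNA : ∀ a ∈ N, a ∈ centralizer ({z} : Set G) →
      a ∈ normalizer ((O ⊓ fit z : Subgroup G) : Set G) := fun a haN haC =>
    inf_normalizer_le_normalizer_inf
      (mem_inf.2 ⟨hOn haN, centralizer_le_normalizer_fit z haC⟩)
  have hNX : ∀ a ∈ N, a ∈ centralizer ({z} : Set G) → a ∈ normalizer (X : Set G) := fun a haN haC =>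
    normalizer_le_of_cyclic hL.hr.pos hL.hX (le_inf hXO hXF) (hNA a haN haC)
  have hrt : t.Coprime r := htc.coprime_dvd_right hrc
  have hbound : t ≤ r + 1 := by
    rw [← hv₀o]
    refine hL.orderOf_le hτC (pow_mem hvz _) (hvτ.pow _) (hvo.of_dvd_nat (orderOf_pow_dvd _))
      (hv₀o.symm ▸ hrt) (hNX τ hτN hτC) fun j hjN => ?_
    set a := v₀ ^ j with ha
    have hat : orderOf a ∣ t := hv₀o ▸ orderOf_pow_dvd j
    have haC : a ∈ centralizer ({z} : Set G) := pow_mem (pow_mem hvz _) _
    have haodd : Odd (orderOf a) := Odd.of_dvd_nat ⟨jt, hjt⟩ hat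
    have haτ : OS.Inverts τ a := (hvτ.pow _).pow j
    set aN : N := ⟨a, hjN⟩
    have haO : a ∈ O := by
      refine (hker aN).1 ?_
      have h1 : Commute (π zN) (π aN) :=
        (show Commute zN aN from Subtype.ext (mem_centralizer_singleton_iff.1 haC).symm).map π
      have hdo : orderOf (π aN) ∣ orderOf a := (orderOf_map_dvd π aN).trans (orderOf_mk a hjN).dvd
      have hd : π aN ∈ L := OS.Model.mem_of_odd (OS.Model.Inverts.mem_diagPart (m := m)
        ((show OS.Inverts (⟨τ, hτN⟩ : N) aN from Subtype.ext haτ).map π) (haodd.of_dvd_nat hdo))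
        (haodd.of_dvd_nat hdo)
      refine orderOf_eq_one_iff.1 (Nat.eq_one_of_dvd_coprimes htc (hdo.trans hat) ?_)
      exact Subgroup.orderOf_dvd_natCard _
        (mem_inf.2 ⟨mem_centralizer_singleton_iff.2 h1.eq.symm, hd⟩)
    have haco : (orderOf a).Coprime r := hrt.coprime_dvd_left hat
    -- `a` centralises every primary part
    have hafix : ∀ p : ℕ, p.Prime → qcore p z ≤ centralizer ({a} : Set G) := by
      intro p hp x hx
      refine mem_centralizer_singleton_iff.2 ?_
      rcases eq_or_ne p r with rfl | hpr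
      · exact mem_centralizer_iff.1 (hL.centralizes_of_fix_line hτC haC haτ haodd haco
          (hNX τ hτN hτC) (hNX a hjN haC)) x hx
      rcases eq_or_ne x 1 with rfl | hx1
      · simp
      haveI := Fact.mk hp
      have hxN : x ∈ N := hL.hNX (centralizer_le_normalizer _
        (centralizer_le (show (X : Set G) ⊆ qcore r z from hL.hXR)
          (qcore_commute hp hL.hr hpr z hx)))
      have hq : ⁅a, x⁆ ∈ qcore p z := by
        rw [commutatorElement_def]; exact mul_mem (qcore_conj haC hx) (inv_mem hx)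
      have hqA : ⁅a, x⁆ ∈ O ⊓ fit z := ⟨by
        rw [commutatorElement_def, mul_assoc, mul_assoc]
        refine mul_mem haO ?_
        rw [← mul_assoc]
        exact (mem_normalizer_iff.1 (hOn hxN) _).1 (inv_mem haO), qcore_le_fit hp z hq⟩
      have hcop : (orderOf a).Coprime (Nat.card (qcore p z)) := by
        obtain ⟨e, he⟩ := (qcore_isPGroup (q := p) z).exists_card_eq
        rw [he]
        refine Nat.Coprime.pow_right e ((htc.coprime_dvd_left hat).coprime_dvd_right (hπF p hp ?_))
        exact fun e0 => hx1 (mem_bot.1 (e0 ▸ hx))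
      exact (OddOrder.Stab.commute_of_stab_mem (commute_of_inverted_cyclic (hNA τ hτN hτC)
        (hNA a hjN haC) haτ haodd _ hqA) hq hcop).eq.symm
    have hacore : a ∈ core z := hG.mem_core hz haC haodd
    by_contra ha1
    have haF : a ∈ fit z := OddOrder.inf_centralizer_fittingOf_le
      (Cfsg.Agent.S0205.result (odd_core z)) ⟨hacore, mem_centralizer_iff.2 fun x hx =>
        mem_centralizer_singleton_iff.1 (fit_le_of_qcores hafix hx)⟩
    obtain ⟨p, e, hp, he, he1⟩ := exists_pow_mem_qcore haF ha1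
    haveI := Fact.mk hp
    obtain ⟨i, hi⟩ := (IsPGroup.iff_orderOf.1 (qcore_isPGroup (q := p) z)) ⟨_, he⟩
    rw [Subgroup.orderOf_mk] at hi
    have hpt : p ∣ t := by
      refine dvd_trans ?_ ((orderOf_pow_dvd e).trans hat)
      rw [hi]
      exact dvd_pow_self p fun e0 => he1 (orderOf_eq_one_iff.1 (by rw [hi, e0, pow_zero]))
    exact hp.ne_one (Nat.eq_one_of_dvd_coprimes htc hpt
      (hπF p hp fun e0 => he1 (mem_bot.1 (e0 ▸ he))))
  have hr4 : 4 * r ≤ c := by
    refine Nat.le_of_dvd Nat.card_pos (Nat.Coprime.mul_dvd_of_dvd_of_dvd ?_ hc4 hrc)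
    exact Nat.Coprime.pow_left 2 ((Nat.coprime_primes Nat.prime_two hL.hr).2 hL.hr2.symm)
  have hr3 := hL.hr.two_le
  have := hL.hr2
  rcases hcq with ⟨h4, e⟩ | ⟨h4, e⟩ <;> omega

end Minimal

end CfsgLib.GW
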