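import Cfsg.Prelude.Def_CaseTheorems
import Cfsg.Agent.Small.Dihedral
import Cfsg.Agent.PLocal.Cores
import Mathlib.GroupTheory.SpecificGroups.Dihedral

/-!
# Gorenstein–Walter: groups whose 2-subgroups embed in dihedral groups

`DihType G`: every 2-subgroup of `G` embeds in some dihedral group.  The property passes to
subgroups and to quotients by normal subgroups of odd order.  A non-cyclic such subgroup is
dihedral, elementary abelian ones have order at most 4, and a four-subgroup is self-centralizing
in a 2-subgroup.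
-/

set_option autoImplicit false
set_option linter.style.haveILetI false

namespace CfsgLib.GW

open DihedralGroup

/-- Every 2-subgroup embeds in a dihedral group. -/
def DihType (G : Type*) [Group G] : Prop :=
  ∀ P : Subgroup G, IsPGroup 2 P → ∃ (n : ℕ) (f : P →* DihedralGroup n), Function.Injective f

/-- The rotations of a dihedral group. -/
def rot (n : ℕ) : Subgroup (DihedralGroup n) := Subgroup.zpowers (r 1)

theorem r_mem_rot {n : ℕ} (i : ZMod n) : r i ∈ rot n :=
  Subgroup.mem_zpowers_iff.2 ⟨(i.cast : ℤ), by rw [r_one_zpow, ZMod.intCast_zmod_cast]⟩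

theorem mul_mem_rot {n : ℕ} (a b : DihedralGroup n) (ha : a ∉ rot n) (hb : b ∉ rot n) :
    a * b ∈ rot n := by
  rcases a with i | i
  · exact absurd (r_mem_rot i) ha
  rcases b with j | j
  · exact absurd (r_mem_rot j) hb
  rw [sr_mul_sr]
  exact r_mem_rot _

theorem mul_self_of_notMem_rot {n : ℕ} (a : DihedralGroup n) (ha : a ∉ rot n) : a * a = 1 := by
  rcases a with i | i
  · exact absurd (r_mem_rot i) ha
  exact sr_mul_self i

/-- A rotation commuting with a reflection is an involution. -/
theorem mul_self_of_commute {n : ℕ} (a b : DihedralGroup n) (hb : b ∉ rot n) (h : Commute a b) :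
    a * a = 1 := by
  rcases b with j | j
  · exact absurd (r_mem_rot j) hb
  rcases a with i | i
  · have h' : r i * sr j = sr j * r i := h
    rw [r_mul_sr, sr_mul_r, DihedralGroup.sr.injEq, sub_eq_iff_eq_add, add_assoc] at h'
    rw [r_mul_r, one_def, DihedralGroup.r.injEq]
    exact left_eq_add.1 h'
  exact sr_mul_self i

variable {G : Type*} [Group G]

theorem DihType.subgroup (hG : DihType G) (H : Subgroup G) : DihType ↥H := by
  intro P hP
  obtain ⟨n, f, hf⟩ := hG (P.map H.subtype) (hP.map _)
  exact ⟨n, f.comp (P.equivMapOfInjective H.subtype H.subtype_injective).toMonoidHom,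
    hf.comp (P.equivMapOfInjective H.subtype H.subtype_injective).injective⟩

theorem DihType.of_equiv {H : Type*} [Group H] (e : G ≃* H) (hG : DihType G) : DihType H := by
  intro P hP
  obtain ⟨n, f, hf⟩ := hG (P.map e.symm.toMonoidHom) (hP.map _)
  exact ⟨n, f.comp (P.equivMapOfInjective e.symm.toMonoidHom e.symm.injective).toMonoidHom,
    hf.comp (P.equivMapOfInjective e.symm.toMonoidHom e.symm.injective).injective⟩

/-- A dihedral Sylow 2-subgroup gives the dihedral type. -/
theorem dihType_of_sylow [Finite G] (S : Sylow 2 G) {n : ℕ}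
    (e : (S : Subgroup G) ≃* DihedralGroup n) : DihType G := by
  intro P hP
  obtain ⟨Q, hQ⟩ := hP.exists_le_sylow
  exact ⟨n, (((Sylow.equiv Q S).trans e).toMonoidHom.comp (Subgroup.inclusion hQ)),
    ((Sylow.equiv Q S).trans e).injective.comp (Subgroup.inclusion_injective hQ)⟩

/-- The type passes to quotients by normal subgroups of odd order. -/
theorem DihType.quotient [Finite G] (hG : DihType G) (N : Subgroup G) [N.Normal]
    (hN : (Nat.card N).Coprime 2) : DihType (G ⧸ N) := by
  haveI : Fact (Nat.Prime 2) := ⟨Nat.prime_two⟩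
  intro P hP
  obtain ⟨Q, hQ⟩ := hP.exists_le_sylow
  obtain ⟨T, rfl⟩ := Sylow.mapSurjective_surjective (f := QuotientGroup.mk' N)
    (QuotientGroup.mk'_surjective N) 2 Q
  rw [Sylow.coe_mapSurjective] at hQ
  obtain ⟨n, f, hf⟩ := hG T T.isPGroup'
  have hinj : Function.Injective ((QuotientGroup.mk' N).subgroupMap (T : Subgroup G)) := by
    rw [injective_iff_map_eq_one]
    intro s hs
    have h1 : (s : G) ∈ N :=
      (QuotientGroup.eq_one_iff (N := N) (s : G)).1 (congrArg Subtype.val hs)
    exact Subtype.ext (Subgroup.mem_bot.1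
      ((CfsgLib.PLocal.disjoint_of_isPGroup_of_coprime (p := 2) T.isPGroup' hN).le
        (Subgroup.mem_inf.2 ⟨s.2, h1⟩)))
  let e := MulEquiv.ofBijective ((QuotientGroup.mk' N).subgroupMap (T : Subgroup G))
    ⟨hinj, (QuotientGroup.mk' N).subgroupMap_surjective _⟩
  exact ⟨n, (f.comp e.symm.toMonoidHom).comp (Subgroup.inclusion hQ),
    (hf.comp e.symm.injective).comp (Subgroup.inclusion_injective hQ)⟩

section Embedded

variable {P : Type*} [Group P] {n : ℕ} {f : P →* DihedralGroup n}

theorem isCyclic_of_le_rot (hf : Function.Injective f) (h : ∀ x, f x ∈ rot n) : IsCyclic P := by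
  haveI : IsCyclic (rot n) := inferInstanceAs (IsCyclic (Subgroup.zpowers _))
  exact isCyclic_of_injective (f.codRestrict (rot n) h) fun a b hab =>
    hf (congrArg Subtype.val hab)

/-- A non-cyclic finite subgroup of a dihedral group is dihedral. -/
theorem exists_dihedral_of_not_isCyclic [Finite P] (hf : Function.Injective f) (hnc : ¬ IsCyclic P) :
    ∃ m : ℕ, 2 ≤ m ∧ Nonempty (P ≃* DihedralGroup m) := by
  obtain ⟨s, hs⟩ : ∃ s, f s ∉ rot n := by
    by_contra h
    exact hnc (isCyclic_of_le_rot hf (not_exists_not.1 h))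
  have hss : s * s = 1 := hf (by rw [map_mul, map_one]; exact mul_self_of_notMem_rot _ hs)
  have hs1 : s ≠ 1 := fun h => hs (by rw [h, map_one]; exact one_mem _)
  set K : Subgroup P := (rot n).comap f with hK
  haveI : IsCyclic K := isCyclic_of_le_rot (f := f.comp K.subtype) (hf.comp K.subtype_injective)
    fun x => x.2
  obtain ⟨a, ha⟩ := IsCyclic.exists_generator (α := K)
  have ha1 : (a : P) ≠ 1 := by
    intro h
    refine hnc ⟨⟨s, fun x => Subgroup.mem_zpowers_iff.1 ?_⟩⟩
    by_cases hx : f x ∈ rot n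
    · obtain ⟨k, hk⟩ := Subgroup.mem_zpowers_iff.1 (ha ⟨x, hx⟩)
      have hk' : (a : P) ^ k = x := congrArg Subtype.val hk
      rw [← hk', h, one_zpow]
      exact one_mem _
    · have hxs : x * s ∈ K := by
        show f (x * s) ∈ rot n
        rw [map_mul]; exact mul_mem_rot _ _ hx hs
      obtain ⟨k, hk⟩ := Subgroup.mem_zpowers_iff.1 (ha ⟨x * s, hxs⟩)
      have hk' : (a : P) ^ k = x * s := congrArg Subtype.val hk
      rw [h, one_zpow] at hk'
      rw [eq_inv_of_mul_eq_one_left hk'.symm]
      exact inv_mem (Subgroup.mem_zpowers s)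
  set y : P := s * a with hy
  have hyr : f y ∉ rot n := by
    rw [hy, map_mul]
    intro h
    exact hs ((Subgroup.mul_mem_cancel_right _ (show f (a : P) ∈ rot n from a.2)).1 h)
  have hyy : y * y = 1 := hf (by rw [map_mul, map_one]; exact mul_self_of_notMem_rot _ hyr)
  have hy1 : y ≠ 1 := fun h => hyr (by rw [h, map_one]; exact one_mem _)
  have ho : ∀ {x : P}, x * x = 1 → x ≠ 1 → orderOf x = 2 := fun {x} h h1 =>
    Small.orderOf_eq_two_iff_sq.2 ⟨h1, h⟩
  have hne : s ≠ y := fun h => ha1 (by simpa [hy] using h)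
  have hsy : s * y = a := by rw [hy, ← mul_assoc, hss, one_mul]
  have htop : Subgroup.closure ({s, y} : Set P) = ⊤ := by
    rw [Subgroup.eq_top_iff']
    intro x
    have hmem : ∀ z ∈ K, z ∈ Subgroup.closure ({s, y} : Set P) := by
      intro z hz
      obtain ⟨k, hk⟩ := Subgroup.mem_zpowers_iff.1 (ha ⟨z, hz⟩)
      have hk' : (a : P) ^ k = z := congrArg Subtype.val hk
      rw [← hk', ← hsy]
      exact zpow_mem (Small.mul_mem_closure_pair s y) k
    by_cases hx : f x ∈ rot n
    · exact hmem x hx
    · have hxs := hmem (x * s) (by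
        show f (x * s) ∈ rot n
        rw [map_mul]; exact mul_mem_rot _ _ hx hs)
      exact (Subgroup.mul_mem_cancel_right _ (Subgroup.subset_closure (by simp))).1 hxs
  refine ⟨orderOf (s * y), ?_, ⟨?_⟩⟩
  · have h0 : 0 < orderOf (s * y) := orderOf_pos _
    have h1 : orderOf (s * y) ≠ 1 := fun h => ha1 (hsy ▸ orderOf_eq_one_iff.1 h)
    omega
  · exact (Subgroup.topEquiv.symm.trans (MulEquiv.subgroupCongr htop.symm)).trans
      (Small.closurePairEquivDihedral (ho hss hs1) (ho hyy hy1) hne)

theorem eq_of_mem_rot_of_sq {a b : DihedralGroup n} (ha : a ∈ rot n) (hb : b ∈ rot n)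
    (ha2 : a * a = 1) (hb2 : b * b = 1) : a = 1 ∨ b = 1 ∨ a = b := by
  obtain ⟨i, rfl⟩ := Subgroup.mem_zpowers_iff.1 ha
  obtain ⟨j, rfl⟩ := Subgroup.mem_zpowers_iff.1 hb
  simp only [r_one_zpow, r_mul_r, one_def, DihedralGroup.r.injEq] at ha2 hb2 ⊢
  rcases Nat.eq_zero_or_pos n with rfl | hn
  · left
    exact add_self_eq_zero.1 ha2
  · haveI : NeZero n := ⟨hn.ne'⟩
    have key : ∀ x : ZMod n, x + x = 0 → x.val = 0 ∨ 2 * x.val = n := by
      intro x hx
      have h := congrArg ZMod.val hx
      rw [ZMod.val_add, ZMod.val_zero] at h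
      obtain ⟨c, hc⟩ := Nat.dvd_of_mod_eq_zero h
      have := ZMod.val_lt x
      have hc2 : c < 2 := by
        by_contra hc2
        have : n * 2 ≤ n * c := Nat.mul_le_mul_left n (by omega)
        omega
      interval_cases c <;> omega
    rcases key _ ha2 with h | h
    · exact Or.inl ((ZMod.val_eq_zero _).1 h)
    rcases key _ hb2 with h' | h'
    · exact Or.inr (Or.inl ((ZMod.val_eq_zero _).1 h'))
    exact Or.inr (Or.inr (ZMod.val_injective n (by omega)))

/-- An elementary abelian 2-subgroup of a dihedral group has order at most 4. -/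
theorem card_le_four [Finite P] (hf : Function.Injective f) (h2 : ∀ x : P, x * x = 1) :
    Nat.card P ≤ 4 := by
  classical
  set K : Subgroup P := (rot n).comap f with hK
  have hK2 : Nat.card K ≤ 2 := by
    by_contra h
    haveI := Fintype.ofFinite K
    rw [Nat.card_eq_fintype_card] at h
    have h3 : 2 < (Finset.univ : Finset K).card := by rw [Finset.card_univ]; omega
    obtain ⟨x, y, z, -, -, -, hxy, hxz, hyz⟩ := Finset.two_lt_card_iff.1 h3
    have hmap : ∀ u : K, f u * f u = 1 := fun u => by rw [← map_mul, h2, map_one]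
    have hone : ∀ u : K, f (u : P) = 1 → u = 1 := fun u hu =>
      Subtype.ext (hf (hu.trans f.map_one.symm))
    have key : ∀ u v : K, u ≠ 1 → v ≠ 1 → u = v := fun u v hu hv => by
      rcases eq_of_mem_rot_of_sq u.2 v.2 (hmap u) (hmap v) with e | e | e
      · exact absurd (hone u e) hu
      · exact absurd (hone v e) hv
      · exact Subtype.ext (hf e)
    by_cases hx : x = 1
    · exact hyz (key y z (fun e => hxy (hx.trans e.symm)) fun e => hxz (hx.trans e.symm))
    by_cases hy : y = 1
    · exact hxz (key x z hx fun e => hyz (hy.trans e.symm))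
    exact hxy (key x y hx hy)
  by_cases hall : ∀ x, f x ∈ rot n
  · have : K = ⊤ := (Subgroup.eq_top_iff' _).2 hall
    rw [this, Subgroup.card_top] at hK2
    omega
  obtain ⟨s, hs⟩ := not_forall.1 hall
  have hidx : K.index = 2 := by
    refine Subgroup.index_eq_two_iff.2 ⟨s, fun b => ?_⟩
    by_cases hb : b ∈ K
    · exact Or.inr ⟨hb, fun h => hs ((Subgroup.mul_mem_cancel_left _ hb).1 h)⟩
    · refine Or.inl ⟨?_, hb⟩
      show f (b * s) ∈ rot n
      rw [map_mul]; exact mul_mem_rot _ _ hb hs
  have := Subgroup.card_mul_index K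
  rw [hidx] at this
  omega

end Embedded

variable [Finite G]

/-- An elementary abelian 2-subgroup has order at most 4. -/
theorem DihType.card_le_four (hG : DihType G) (A : Subgroup G) (hA : ∀ x ∈ A, x * x = 1) :
    Nat.card A ≤ 4 := by
  have hp : IsPGroup 2 A := fun a => ⟨1, Subtype.ext (by simpa [pow_two] using hA a a.2)⟩
  obtain ⟨n, f, hf⟩ := hG A hp
  exact GW.card_le_four hf fun x => Subtype.ext (hA x x.2)

/-- A four-subgroup contains its centralizer in a 2-subgroup. -/
theorem DihType.mem_four (hG : DihType G) {V P : Subgroup G} (hP : IsPGroup 2 P) (hVP : V ≤ P)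
    (hV4 : Nat.card V = 4) (hV : ∀ x ∈ V, x * x = 1) {x : G} (hx : x ∈ P)
    (hc : ∀ v ∈ V, x * v = v * x) : x ∈ V := by
  obtain ⟨n, f, hf⟩ := hG P hP
  have hxx : x * x = 1 := by
    by_contra hne
    have hall : ∀ v : V, f (Subgroup.inclusion hVP v) ∈ rot n := by
      intro v
      by_contra hv
      refine hne (congrArg Subtype.val (hf ?_ : (⟨x, hx⟩ * ⟨x, hx⟩ : P) = 1))
      rw [map_mul, map_one]
      refine mul_self_of_commute _ _ hv ?_
      show f _ * f _ = f _ * f _
      rw [← map_mul, ← map_mul]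
      exact congrArg f (Subtype.ext (hc v v.2))
    haveI : IsCyclic V := isCyclic_of_le_rot (f := f.comp (Subgroup.inclusion hVP))
      (hf.comp (Subgroup.inclusion_injective hVP)) hall
    obtain ⟨g, hg⟩ := IsCyclic.exists_generator (α := V)
    have h := orderOf_eq_card_of_forall_mem_zpowers hg
    have h2 : orderOf g ∣ 2 :=
      orderOf_dvd_of_pow_eq_one (Subtype.ext (by simpa [pow_two] using hV g g.2))
    rw [h, hV4] at h2
    norm_num at h2
  let A : Subgroup G := {
    carrier := {a | a ∈ V ∨ a * x ∈ V}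
    one_mem' := Or.inl (one_mem V)
    mul_mem' := by
      rintro a b (ha | ha) (hb | hb)
      · exact Or.inl (mul_mem ha hb)
      · exact Or.inr (by rw [mul_assoc]; exact mul_mem ha hb)
      · refine Or.inr ?_
        have : a * b * x = a * x * b := by
          rw [mul_assoc, ← hc b hb, ← mul_assoc]
        rw [this]; exact mul_mem ha hb
      · refine Or.inl ?_
        have h := mul_mem ha hb
        have hbx : x * (b * x) = b * x * x := hc _ hb
        have : a * x * (b * x) = a * b := by
          rw [mul_assoc a x, hbx, mul_assoc b x x, hxx, mul_one]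
        rwa [this] at h
    inv_mem' := by
      rintro a (ha | ha)
      · exact Or.inl (inv_mem ha)
      · refine Or.inr ?_
        have h := inv_mem ha
        have h' := hc _ h
        have hxi : x⁻¹ = x := inv_eq_of_mul_eq_one_right hxx
        rw [mul_inv_rev] at h h'
        have : a⁻¹ * x = x⁻¹ * a⁻¹ := by
          calc a⁻¹ * x = x * (x⁻¹ * a⁻¹ * x) := by group
            _ = x * (x * (x⁻¹ * a⁻¹)) := by rw [h']
            _ = x⁻¹ * a⁻¹ := by rw [← mul_assoc, hxx, one_mul]
        rwa [this] }
  have hA : ∀ a ∈ A, a * a = 1 := by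
    rintro a (ha | ha)
    · exact hV a ha
    · have h1 := hV _ ha
      have h2 : x * (a * x) = a * x * x := hc _ ha
      rw [mul_assoc a x x, hxx, mul_one, ← mul_assoc] at h2
      calc a * a = a * (x * a * x) := by rw [h2]
        _ = a * x * (a * x) := by group
        _ = 1 := h1
  have hle : Nat.card A ≤ Nat.card V := hV4 ▸ hG.card_le_four A hA
  have hVA : V ≤ A := fun v hv => Or.inl hv
  rw [Subgroup.eq_of_le_of_card_ge hVA hle]
  exact Or.inr (by rw [hxx]; exact one_mem V)

/-- The Sylow 2-subgroups are cyclic or dihedral. -/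
theorem DihType.cyclic_or_dihedral (hG : DihType G) (S : Sylow 2 G) :
    IsCyclic (S : Subgroup G) ∨
      ∃ m : ℕ, 2 ≤ m ∧ Nonempty ((S : Subgroup G) ≃* DihedralGroup m) := by
  by_cases hc : IsCyclic (S : Subgroup G)
  · exact Or.inl hc
  · obtain ⟨n, f, hf⟩ := hG S S.isPGroup'
    exact Or.inr (exists_dihedral_of_not_isCyclic hf hc)

end CfsgLib.GW
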