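import Mathlib.GroupTheory.GroupAction.Quotient
import Mathlib.GroupTheory.Index
import Mathlib.Tactic.Group

/-!
# Counting fixed points of a conjugacy class

For a group `N` acting on `X`, `z : N` and an orbit `O`: `|z^N| * #fixed(z, O) = |O| * #(z^N ∩ Stab)`.
When each point of a set `F` of fixed points of `z` off a base point sees no other conjugate of
`z`, the translates of `F` do not overlap and `|X| ≥ 1 + |F| * |z^N|`.
-/

set_option autoImplicit false

open MulAction Subgroup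
open scoped Pointwise

namespace CfsgLib.GW

section Action

variable {N : Type*} [Group N] {X : Type*} [MulAction N X]

/-- Conjugates of `z` fixing `y`, counted over the orbit of `y`. -/
theorem card_class_mul_fixed (z : N) (x : X) :
    Nat.card {w : N // IsConj z w} * Nat.card {y : X // y ∈ orbit N x ∧ z • y = y} =
      Nat.card (orbit N x) * Nat.card {w : N // IsConj z w ∧ w • x = x} := by
  classical
  choose n hn using fun w : {w : N // IsConj z w} => isConj_iff.1 w.2
  choose m hm using fun y : orbit N x => mem_orbit_iff.1 y.2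
  rw [← Nat.card_prod, ← Nat.card_prod]
  -- both sides count the pairs `(w, y)` with `w • y = y`
  let P := {p : N × X // IsConj z p.1 ∧ p.2 ∈ orbit N x ∧ p.1 • p.2 = p.2}
  have hconj : ∀ (k w : N), IsConj z w → IsConj z (k * w * k⁻¹) := fun k w hw =>
    hw.trans (isConj_iff.2 ⟨k, rfl⟩)
  have e1 : {w : N // IsConj z w} × {y : X // y ∈ orbit N x ∧ z • y = y} ≃ P :=
    { toFun := fun p => ⟨(p.1.1, n p.1 • p.2.1), p.1.2, mem_orbit_of_mem_orbit _ p.2.2.1, by
        show p.1.1 • n p.1 • p.2.1 = n p.1 • p.2.1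
        rw [← smul_left_cancel_iff (n p.1)⁻¹, inv_smul_smul, smul_smul, smul_smul,
          show (n p.1)⁻¹ * p.1.1 * n p.1 = z by
            conv_lhs => rw [← hn p.1]
            group]
        exact p.2.2.2⟩
      invFun := fun p => (⟨p.1.1, p.2.1⟩, ⟨(n ⟨p.1.1, p.2.1⟩)⁻¹ • p.1.2,
        mem_orbit_of_mem_orbit _ p.2.2.1, by
        rw [← smul_left_cancel_iff (n ⟨p.1.1, p.2.1⟩), smul_inv_smul, smul_smul, smul_smul,
          hn ⟨p.1.1, p.2.1⟩]
        exact p.2.2.2⟩)
      left_inv := fun p => Prod.ext (Subtype.ext rfl) (Subtype.ext (inv_smul_smul _ _))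
      right_inv := fun p => Subtype.ext (Prod.ext rfl (smul_inv_smul _ _)) }
  have e2 : orbit N x × {w : N // IsConj z w ∧ w • x = x} ≃ P :=
    { toFun := fun q => ⟨(m q.1 * q.2.1 * (m q.1)⁻¹, q.1.1), hconj _ _ q.2.2.1, q.1.2, by
        show (m q.1 * q.2.1 * (m q.1)⁻¹) • q.1.1 = q.1.1
        conv_lhs => rw [← hm q.1]
        rw [← mul_smul, inv_mul_cancel_right, mul_smul, q.2.2.2, hm]⟩
      invFun := fun p => (⟨p.1.2, p.2.2.1⟩, ⟨(m ⟨p.1.2, p.2.2.1⟩)⁻¹ * p.1.1 * m ⟨p.1.2, p.2.2.1⟩,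
        by simpa only [inv_inv] using hconj (m ⟨p.1.2, p.2.2.1⟩)⁻¹ _ p.2.1, by
        rw [mul_smul, mul_smul, hm, inv_smul_eq_iff, hm]
        exact p.2.2.2⟩)
      left_inv := fun q => Prod.ext (Subtype.ext rfl) (Subtype.ext (by
        show (m q.1)⁻¹ * (m q.1 * q.2.1 * (m q.1)⁻¹) * m q.1 = q.2.1
        group))
      right_inv := fun p => Subtype.ext (Prod.ext (by
        show m _ * ((m ⟨p.1.2, p.2.2.1⟩)⁻¹ * p.1.1 * m ⟨p.1.2, p.2.2.1⟩) * (m _)⁻¹ = p.1.1
        group) rfl) }
  exact Nat.card_congr (e1.trans e2.symm)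

/-- If no other conjugate of `z` fixes a point of `F`, the translates of `F` are disjoint. -/
theorem succ_card_fixed_mul_le [Finite X] (z : N) (x₀ : X) (h₀ : ∀ n : N, n • x₀ = x₀)
    (F : Set X) (hne : x₀ ∉ F) (hfix : ∀ y ∈ F, z • y = y)
    (huniq : ∀ y ∈ F, ∀ w : N, IsConj z w → w • y = y → w = z) :
    1 + Nat.card F * Nat.card {w : N // IsConj z w} ≤ Nat.card X := by
  classical
  choose n hn using fun w : {w : N // IsConj z w} => isConj_iff.1 w.2
  cases nonempty_fintype X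
  have hinj : Function.Injective (fun p : F × {w : N // IsConj z w} =>
      (⟨n p.2 • (p.1 : X), fun h => hne (by
        have := (smul_eq_iff_eq_inv_smul _).1 h
        rw [h₀] at this
        exact this ▸ p.1.2)⟩ : {y : X // y ≠ x₀})) := by
    rintro ⟨⟨x, hx⟩, w⟩ ⟨⟨x', hx'⟩, w'⟩ h
    replace h : n w • x = n w' • x' := congrArg Subtype.val h
    have h' : ((n w')⁻¹ * n w) • x = x' := by rw [mul_smul, h, inv_smul_smul]
    have hw : ((n w')⁻¹ * n w) * z * ((n w')⁻¹ * n w)⁻¹ = z :=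
      huniq x' hx' _ (isConj_iff.2 ⟨_, rfl⟩) (by
        rw [← h', mul_smul, inv_smul_smul, mul_smul, hfix x hx])
    have hww : w = w' := Subtype.ext (by
      calc w.1 = n w * z * (n w)⁻¹ := (hn w).symm
        _ = n w' * (((n w')⁻¹ * n w) * z * ((n w')⁻¹ * n w)⁻¹) * (n w')⁻¹ := by group
        _ = n w' * z * (n w')⁻¹ := by rw [hw]
        _ = w'.1 := hn w')
    subst hww
    rw [inv_mul_cancel, one_smul] at h'
    subst h'
    rfl
  have h := Nat.card_le_card_of_injective _ hinj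
  rw [Nat.card_prod] at h
  have hX : Nat.card {y : X // y ≠ x₀} + 1 = Nat.card X := by
    rw [Nat.card_eq_fintype_card, Nat.card_eq_fintype_card, Fintype.card_subtype_compl,
      Fintype.card_subtype_eq]
    have := Fintype.card_pos_iff.2 ⟨x₀⟩
    omega
  omega

end Action

section Cosets

variable {G : Type*} [Group G] [Finite G]

omit [Finite G] in
/-- The size of the class of `z` in `N`. -/
theorem card_class_eq_relIndex {N : Subgroup G} (z : N) :
    Nat.card {w : N // IsConj z w} = (centralizer ({(z : G)} : Set G)).relIndex N := by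
  have h1 : Nat.card {w : N // IsConj z w} = Nat.card (orbit (ConjAct N) z) :=
    Nat.card_congr (Equiv.subtypeEquivRight fun w => by
      rw [ConjAct.mem_orbit_conjAct, isConj_comm])
  rw [h1, Nat.card_coe_set_eq, ← index_stabilizer, relIndex]
  refine congrArg Subgroup.index (Subgroup.ext fun n => ?_)
  rw [mem_stabilizer_iff]
  show (ConjAct.ofConjAct n * z * (ConjAct.ofConjAct n)⁻¹ = z) ↔
    ((ConjAct.ofConjAct n : N) : G) ∈ centralizer ({(z : G)} : Set G)
  rw [mem_centralizer_singleton_iff]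
  rw [mul_inv_eq_iff_eq_mul, Subtype.ext_iff]
  rfl

/-- An `N`-orbit off the base point: `|N : N ∩ ^gN| + 1 ≤ |G : N|`. -/
theorem succ_relIndex_conj_le_index {N : Subgroup G} {g : G} (hg : g ∉ N) :
    1 + (N.map (MulAut.conj g).toMonoidHom).relIndex N ≤ N.index := by
  have hne : (g : G ⧸ N) ≠ ((1 : G) : G ⧸ N) := fun h => hg (by
    have := QuotientGroup.eq.1 h
    rw [mul_one] at this
    exact inv_mem_iff.1 this)
  have hs : stabilizer N (g : G ⧸ N) = (N.map (MulAut.conj g).toMonoidHom).subgroupOf N := by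
    ext n
    rw [mem_stabilizer_iff, mem_subgroupOf]
    show ((n : G) • (g : G ⧸ N) = (g : G ⧸ N)) ↔ _
    rw [show (n : G) • (g : G ⧸ N) = (((n : G) * g : G) : G ⧸ N) from rfl, QuotientGroup.eq]
    constructor
    · intro h
      exact ⟨g⁻¹ * n * g, by simpa [mul_assoc] using inv_mem h, by simp [mul_assoc]⟩
    · rintro ⟨a, ha, e⟩
      rw [← e]
      simpa [mul_assoc] using inv_mem ha
  have hsub : orbit N (g : G ⧸ N) ⊆ {y | y ≠ ((1 : G) : G ⧸ N)} := by
    rintro _ ⟨n, rfl⟩ h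
    have h' := QuotientGroup.eq.1 (show (((n : G) * g : G) : G ⧸ N) = ((1 : G) : G ⧸ N) from h)
    rw [mul_one, inv_mem_iff] at h'
    exact hg ((mul_mem_cancel_left n.2).1 h')
  have h := Set.ncard_le_ncard hsub (Set.toFinite _)
  rw [← index_stabilizer, hs] at h
  rw [show {y : G ⧸ N | y ≠ ((1 : G) : G ⧸ N)} = Set.univ \ {((1 : G) : G ⧸ N)} by ext; simp,
    Set.ncard_sdiff_singleton_of_mem (Set.mem_univ _), Set.ncard_univ] at h
  have hpos := N.index_ne_zero_of_finite
  rw [index] at hpos ⊢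
  rw [relIndex]
  omega

/-- The count of 4.1(I): if `z` is the only conjugate of itself in `N ∩ ^cN` for `c ∈ C ∖ N`, then
`|G : N| ≥ 1 + (|C : C ∩ N| - 1) * |z ^ N|`. -/
theorem succ_relIndex_mul_le_index {N C : Subgroup G} {z : G} (hz : z ∈ N)
    (hC : C ≤ centralizer ({z} : Set G))
    (huniq : ∀ c ∈ C, c ∉ N → ∀ n ∈ N,
      c⁻¹ * (n * z * n⁻¹) * c ∈ N → n * z * n⁻¹ = z) :
    1 + (N.relIndex C - 1) * (centralizer ({z} : Set G)).relIndex N ≤ N.index := by
  classical
  set x₀ : G ⧸ N := ((1 : G) : G ⧸ N) with hx₀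
  set F : Set (G ⧸ N) := orbit C x₀ \ {x₀} with hF
  have hF0 : Nat.card F = N.relIndex C - 1 := by
    have hs : stabilizer C x₀ = N.subgroupOf C := by
      ext c
      rw [mem_stabilizer_iff, mem_subgroupOf]
      show ((((c : G) * 1 : G)) : G ⧸ N) = x₀ ↔ _
      rw [mul_one, hx₀, QuotientGroup.eq, mul_one, inv_mem_iff]
    rw [Nat.card_coe_set_eq, hF, Set.ncard_sdiff_singleton_of_mem (mem_orbit_self _),
      ← index_stabilizer, hs]
    rfl
  have hrep : ∀ y ∈ F, ∃ c ∈ C, c ∉ N ∧ y = (c : G ⧸ N) := by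
    rintro y ⟨⟨c, rfl⟩, hy⟩
    refine ⟨c, c.2, fun hc => hy ?_, ?_⟩
    · show ((((c : G) * 1 : G)) : G ⧸ N) = x₀
      rw [mul_one, hx₀, QuotientGroup.eq, mul_one, inv_mem_iff]
      exact hc
    · show ((((c : G) * 1 : G)) : G ⧸ N) = _
      rw [mul_one]
  have h := succ_card_fixed_mul_le (N := N) (⟨z, hz⟩ : N) x₀ ?_ F (fun h => h.2 rfl) ?_ ?_
  · rw [hF0, card_class_eq_relIndex] at h
    exact h
  · intro n
    show ((((n : G) * 1 : G)) : G ⧸ N) = x₀
    rw [mul_one, hx₀, QuotientGroup.eq, mul_one, inv_mem_iff]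
    exact n.2
  · intro y hy
    obtain ⟨c, hc, -, rfl⟩ := hrep y hy
    show (((z * c : G)) : G ⧸ N) = (c : G ⧸ N)
    rw [QuotientGroup.eq, ← mem_centralizer_singleton_iff.1 (hC hc),
      show (c * z)⁻¹ * c = z⁻¹ by group]
    exact inv_mem hz
  · intro y hy w hw hwy
    obtain ⟨c, hc, hcN, rfl⟩ := hrep y hy
    obtain ⟨n, rfl⟩ := isConj_iff.1 hw
    refine Subtype.ext (huniq c hc hcN n n.2 ?_)
    have h' := QuotientGroup.eq.1
      (show ((((n : G) * z * (n : G)⁻¹) * c : G) : G ⧸ N) = (c : G ⧸ N) from hwy)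
    simpa [mul_assoc] using inv_mem h'

end Cosets

end CfsgLib.GW
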