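import Cfsg.Agent.GW.DihedralType
import Mathlib.GroupTheory.Transfer
import Mathlib.GroupTheory.SpecificGroups.Alternating

/-!
# Gorenstein–Walter: trivial core and a normal four-group

A group of dihedral type with trivial odd core and a normal four-subgroup is a 2-group, `A₄` or `S₄`.
-/

set_option autoImplicit false
set_option linter.style.haveILetI false

namespace CfsgLib.GW

variable {G : Type*} [Group G] [Finite G]

theorem centralizer_normal_four (hG : DihType G) (hO : Cfsg.oddCore G = ⊥) (V : Subgroup G)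
    [V.Normal] (hV4 : Nat.card V = 4) (hV : ∀ x ∈ V, x * x = 1) :
    Subgroup.centralizer (V : Set G) = V := by
  haveI : Fact (Nat.Prime 2) := ⟨Nat.prime_two⟩
  set C : Subgroup G := Subgroup.centralizer (V : Set G) with hCdef
  have hVC : V ≤ C := by
    intro v hv
    rw [hCdef, Subgroup.mem_centralizer_iff]
    intro w hw
    have h := hV _ (mul_mem hw hv)
    have hw2 := hV _ hw
    have hv2 := hV _ hv
    calc w * v = (w * v) * ((v * w) * (v * w)) := by rw [hV _ (mul_mem hv hw), mul_one]
      _ = w * (v * v) * w * (v * w) := by group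
      _ = v * w := by rw [hv2, mul_one, hw2, one_mul]
  obtain ⟨P⟩ : Nonempty (Sylow 2 C) := inferInstance
  have hP2 : IsPGroup 2 ((P : Subgroup C).map C.subtype) := P.isPGroup'.map _
  have hV2 : IsPGroup 2 V := IsPGroup.of_card (n := 2) (by rw [hV4]; norm_num)
  have hnorm : (V.subgroupOf C).Normal := inferInstance
  have hVP : V.subgroupOf C ≤ P := by
    refine CfsgLib.PLocal.le_pCore (hV2.of_equiv (Subgroup.subgroupOfEquivOfLe hVC).symm) |>.trans ?_
    exact CfsgLib.PLocal.pCore_le_sylow P
  have hVP' : V ≤ (P : Subgroup C).map C.subtype := fun v hv => ⟨⟨v, hVC hv⟩, hVP hv, rfl⟩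
  have hPV : ∀ x ∈ (P : Subgroup C), (x : G) ∈ V := by
    intro x hx
    refine hG.mem_four hP2 hVP' hV4 hV ⟨x, hx, rfl⟩ fun v hv => ?_
    exact ((Subgroup.mem_centralizer_iff.1 x.2) v hv).symm
  have hcen : Subgroup.normalizer ((P : Subgroup C) : Set C) ≤
      Subgroup.centralizer ((P : Subgroup C) : Set C) := by
    intro c _
    rw [Subgroup.mem_centralizer_iff]
    intro y hy
    exact Subtype.ext ((Subgroup.mem_centralizer_iff.1 c.2) _ (hPV y hy))
  set K := (MonoidHom.transferSylow P hcen).ker with hK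
  have hcomp := MonoidHom.ker_transferSylow_isComplement' P hcen
  have hKodd : (Nat.card K).Coprime 2 := (CfsgLib.PLocal.not_dvd_iff_coprime).2
    (MonoidHom.not_dvd_card_ker_transferSylow P hcen)
  haveI : C.Normal := by rw [hCdef]; infer_instance
  have hKO : K ≤ Cfsg.oddCore ↥C := CfsgLib.PLocal.le_pPrimeCore hKodd
  have hK1 : K = ⊥ := by
    rw [eq_bot_iff]
    intro k hk
    have h := CfsgLib.PLocal.pPrimeCore_map_subtype_le (p := 2) C ⟨k, hKO hk, rfl⟩
    change ((k : C) : G) ∈ Cfsg.oddCore G at h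
    rw [hO] at h
    exact Subgroup.mem_bot.2 (Subtype.ext (Subgroup.mem_bot.1 h))
  have hcomp' : Subgroup.IsComplement' K (P : Subgroup C) := hcomp
  rw [hK1, Subgroup.isComplement'_bot_left] at hcomp'
  refine le_antisymm (fun x hx => ?_) hVC
  exact hPV ⟨x, hx⟩ (hcomp'.symm ▸ Subgroup.mem_top _)

open Equiv in
theorem card_dvd_of_normal_four (hG : DihType G) (hO : Cfsg.oddCore G = ⊥) (V : Subgroup G)
    [V.Normal] (hV4 : Nat.card V = 4) (hV : ∀ x ∈ V, x * x = 1) :
    ∃ k, Nat.card G = 4 * k ∧ k ∣ 6 := by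
  classical
  have hC := centralizer_normal_four hG hO V hV4 hV
  let X := {x : V // x ≠ 1}
  letI : MulAction G X := {
    smul := fun g x => ⟨MulAut.conjNormal g x.1, fun h => x.2 ((MulEquiv.map_eq_one_iff _).1 h)⟩
    one_smul := fun x => Subtype.ext (by show MulAut.conjNormal (1 : G) x.1 = x.1; rw [map_one]; rfl)
    mul_smul := fun g h x => Subtype.ext (by
      show MulAut.conjNormal (g * h) x.1 = MulAut.conjNormal g (MulAut.conjNormal h x.1)
      rw [map_mul]; rfl) }
  let φ : G →* Equiv.Perm X := MulAction.toPermHom G X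
  have hker : φ.ker = V := by
    refine le_antisymm (fun g hg => ?_) ?_
    · rw [← hC, Subgroup.mem_centralizer_iff]
      intro v hv
      by_cases hv1 : v = 1
      · rw [hv1, one_mul, mul_one]
      have h := congrArg (fun e : Equiv.Perm X => ((e ⟨⟨v, hv⟩, fun h => hv1 (congrArg Subtype.val h)⟩).1 : G))
        (MonoidHom.mem_ker.1 hg)
      change g * v * g⁻¹ = v at h
      exact (mul_inv_eq_iff_eq_mul.1 h).symm
    · intro g hg
      rw [MonoidHom.mem_ker]
      refine Equiv.ext fun x => Subtype.ext (Subtype.ext ?_)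
      show g * (x.1 : G) * g⁻¹ = x.1
      have : g ∈ Subgroup.centralizer (V : Set G) := by rw [hC]; exact hg
      exact mul_inv_eq_iff_eq_mul.2 ((Subgroup.mem_centralizer_iff.1 this) _ x.1.2).symm
  have hX : Nat.card (Equiv.Perm X) = 6 := by
    haveI := Fintype.ofFinite V
    rw [Nat.card_perm, Nat.card_eq_fintype_card, Fintype.card_subtype_compl,
      Fintype.card_subtype_eq, ← Nat.card_eq_fintype_card, hV4]
    rfl
  refine ⟨Nat.card φ.range, ?_, hX ▸ Subgroup.card_subgroup_dvd_card _⟩
  rw [← hV4, Subgroup.card_eq_card_quotient_mul_card_subgroup V, mul_comm,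
    Nat.card_congr (QuotientGroup.quotientKerEquivRange φ).toEquiv.symm, hker]

theorem structure_normal_four (hG : DihType G) (hO : Cfsg.oddCore G = ⊥) (V : Subgroup G)
    [V.Normal] (hV4 : Nat.card V = 4) (hV : ∀ x ∈ V, x * x = 1) :
    IsPGroup 2 G ∨ Nonempty (G ≃* alternatingGroup (Fin 4)) ∨
      Nonempty (G ≃* Equiv.Perm (Fin 4)) := by
  classical
  haveI : Fact (Nat.Prime 3) := ⟨Nat.prime_three⟩
  obtain ⟨k, hk, hk6⟩ := card_dvd_of_normal_four hG hO V hV4 hV
  have hk' : k = 1 ∨ k = 2 ∨ k = 3 ∨ k = 6 := by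
    have := Nat.le_of_dvd (by norm_num) hk6
    interval_cases k <;> simp_all
  by_cases h12 : k = 1 ∨ k = 2
  · left
    rcases h12 with rfl | rfl
    · exact IsPGroup.of_card (n := 2) (by rw [hk]; rfl)
    · exact IsPGroup.of_card (n := 3) (by rw [hk]; rfl)
  right
  have hk36 : k = 3 ∨ k = 6 := by omega
  have hC := centralizer_normal_four hG hO V hV4 hV
  obtain ⟨T⟩ : Nonempty (Sylow 3 G) := inferInstance
  have hTc : Nat.card (T : Subgroup G) = 3 := by
    rw [T.card_eq_multiplicity, hk]
    have hf : (4 * k).factorization 3 = 1 := by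
      have h4 : Nat.factorization 4 3 = 0 := Nat.factorization_eq_zero_of_not_dvd (by norm_num)
      have h3 : Nat.factorization 3 3 = 1 := Nat.Prime.factorization_self Nat.prime_three
      have h2 : Nat.factorization 2 3 = 0 := Nat.factorization_eq_zero_of_not_dvd (by norm_num)
      rcases hk36 with rfl | rfl
      · rw [Nat.factorization_mul (by norm_num) (by norm_num), Finsupp.add_apply, h4, h3]
      · rw [show 4 * 6 = 4 * (2 * 3) by rfl, Nat.factorization_mul (by norm_num) (by norm_num),
          Nat.factorization_mul (by norm_num) (by norm_num)]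
        simp [h4, h3, h2]
    rw [hf, pow_one]
  haveI : IsCyclic (T : Subgroup G) := isCyclic_of_prime_card hTc
  set N := Subgroup.normalizer ((T : Subgroup G) : Set G) with hN
  -- only the identity of `V` commutes with `T`
  have hdisj : Disjoint V (T : Subgroup G) := Subgroup.disjoint_of_coprime_natCard (by
    rw [hV4, hTc]; norm_num)
  have hfix : ∀ v ∈ V, v ∈ N → v = 1 := by
    intro v hv hvN
    by_contra hv1
    obtain ⟨t, htT, ht1⟩ : ∃ t ∈ (T : Subgroup G), t ≠ 1 := by
      refine (T : Subgroup G).bot_or_exists_ne_one.resolve_left fun h => ?_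
      rw [h, Subgroup.card_bot] at hTc; omega
    have htv : t * v = v * t := by
      have h1 : t * v * t⁻¹ * v⁻¹ ∈ V := mul_mem (Subgroup.Normal.conj_mem ‹_› v hv t) (inv_mem hv)
      have h2 : t * v * t⁻¹ * v⁻¹ ∈ (T : Subgroup G) := by
        rw [show t * v * t⁻¹ * v⁻¹ = t * (v * t⁻¹ * v⁻¹) by group]
        exact mul_mem htT ((Subgroup.mem_normalizer_iff.1 hvN _).1 (inv_mem htT))
      have h := Subgroup.disjoint_def.1 hdisj h1 h2
      rwa [mul_inv_eq_one, mul_inv_eq_iff_eq_mul] at h
    have ht3 : t ^ 3 = 1 := by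
      have h := congrArg Subtype.val (pow_card_eq_one' (x := (⟨t, htT⟩ : (T : Subgroup G))))
      rw [hTc] at h
      exact h
    -- `t` fixes `v`, hence the two other non-identity elements, hence all of `V`
    refine ht1 (Subgroup.disjoint_def.1 hdisj ?_ htT)
    rw [← hC, Subgroup.mem_centralizer_iff]
    intro w hw
    by_contra hne
    set u := t * w * t⁻¹ with hu
    set u' := t * u * t⁻¹ with hu'
    have huw : u ≠ w := fun h => hne ((mul_inv_eq_iff_eq_mul.1 h).symm)
    have hinj : ∀ {a b : G}, t * a * t⁻¹ = t * b * t⁻¹ → a = b := fun h =>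
      mul_left_cancel (mul_right_cancel h)
    have hu'u : u' ≠ u := fun h => huw (hinj h)
    have hu'w : u' ≠ w := by
      intro h
      apply huw
      have h1 : t ^ 3 * w * (t ^ 3)⁻¹ = t * u' * t⁻¹ := by
        show _ = t * (t * (t * w * t⁻¹) * t⁻¹) * t⁻¹
        simp [pow_succ, mul_assoc]
      rw [ht3, one_mul, inv_one, mul_one, h] at h1
      exact h1.symm
    have hcw : ∀ z : G, z ≠ 1 → z ≠ v → (t * z * t⁻¹ ≠ 1 ∧ t * z * t⁻¹ ≠ v) := fun z hz hzv =>
      ⟨fun h => hz (hinj (by rw [h, mul_one, mul_inv_cancel])),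
       fun h => hzv (hinj (by rw [h, htv, mul_inv_cancel_right]))⟩
    have hw1 : w ≠ 1 := fun h => hne (by rw [h, one_mul, mul_one])
    have hwv : w ≠ v := fun h => hne (by rw [h, htv])
    have hu1 := hcw w hw1 hwv
    have hu2 := hcw u hu1.1 hu1.2
    have huV : u ∈ V := Subgroup.Normal.conj_mem ‹_› w hw t
    have hu'V : u' ∈ V := Subgroup.Normal.conj_mem ‹_› u huV t
    have h5 : ({1, v, w, u, u'} : Finset G).card = 5 := by
      rw [Finset.card_insert_of_notMem, Finset.card_insert_of_notMem,
        Finset.card_insert_of_notMem, Finset.card_insert_of_notMem, Finset.card_singleton]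
      · simpa using Ne.symm hu'u
      · simp only [Finset.mem_insert, Finset.mem_singleton, not_or]
        exact ⟨Ne.symm huw, Ne.symm hu'w⟩
      · simp only [Finset.mem_insert, Finset.mem_singleton, not_or]
        exact ⟨Ne.symm hwv, Ne.symm hu1.2, Ne.symm hu2.2⟩
      · simp only [Finset.mem_insert, Finset.mem_singleton, not_or]
        exact ⟨Ne.symm hv1, Ne.symm hw1, Ne.symm hu1.1, Ne.symm hu2.1⟩
    have hsub : (({1, v, w, u, u'} : Finset G) : Set G) ⊆ (V : Set G) := by
      intro z hz
      simp only [Finset.coe_insert, Finset.coe_singleton, Set.mem_insert_iff,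
        Set.mem_singleton_iff] at hz
      rcases hz with rfl | rfl | rfl | rfl | rfl
      exacts [one_mem V, hv, hw, huV, hu'V]
    have h := Set.ncard_le_ncard hsub (Set.toFinite _)
    rw [Set.ncard_coe_finset, h5, ← Nat.card_coe_set_eq] at h
    change 5 ≤ Nat.card V at h
    omega
  -- the action on the cosets of `N`
  have hcore : N.normalCore = ⊥ := by
    rw [eq_bot_iff]
    intro x hx
    have hxN : x ∈ N := Subgroup.normalCore_le N hx
    have hxC : x ∈ Subgroup.centralizer (V : Set G) := by
      rw [Subgroup.mem_centralizer_iff]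
      intro v hv
      have h1 : v * x * v⁻¹ * x⁻¹ ∈ V :=
        by rw [show v * x * v⁻¹ * x⁻¹ = v * (x * v⁻¹ * x⁻¹) by group]
           exact mul_mem hv (Subgroup.Normal.conj_mem ‹_› _ (inv_mem hv) x)
      have h2 : v * x * v⁻¹ * x⁻¹ ∈ N.normalCore :=
        mul_mem ((Subgroup.normalCore_normal N).conj_mem x hx v) (inv_mem hx)
      have h := hfix _ h1 (Subgroup.normalCore_le N h2)
      rwa [mul_inv_eq_one, mul_inv_eq_iff_eq_mul] at h
    rw [hC] at hxC
    exact Subgroup.mem_bot.2 (hfix x hxC hxN)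
  -- `N` has index four
  have hidx : N.index = 4 := by
    have h1 : Nat.card (Sylow 3 G) = N.index := Sylow.card_eq_index_normalizer T
    have h2 := card_sylow_modEq_one 3 G
    have h3 : N.index ∣ 4 * k := hk ▸ N.index_dvd_card
    have h4 : 3 ∣ Nat.card N := hTc ▸ Subgroup.card_dvd_of_le Subgroup.le_normalizer
    have h5 : N.index * Nat.card N = 4 * k := by rw [mul_comm, Subgroup.card_mul_index, hk]
    have hne : N.index ≠ 1 := by
      intro h
      rw [Subgroup.index_eq_one] at h
      haveI : N.normalCore.Normal := Subgroup.normalCore_normal N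
      have : N.normalCore = ⊤ := by
        rw [eq_top_iff]
        exact (Subgroup.normal_le_normalCore (H := N) (N := ⊤)).2 h.ge
      rw [hcore] at this
      have hc := congrArg (fun H : Subgroup G => Nat.card H) this
      simp only [Subgroup.card_bot, Subgroup.card_top] at hc
      omega
    obtain ⟨c, hc⟩ := h4
    rw [hc] at h5
    have h6 : N.index ∣ 8 := by
      rcases hk36 with rfl | rfl
      · exact ⟨c * 2, by linarith⟩
      · exact ⟨c, by linarith⟩
    have := Nat.le_of_dvd (by norm_num) h6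
    rw [h1] at h2
    unfold Nat.ModEq at h2
    rcases (Nat.dvd_prime_pow Nat.prime_two (m := 3)).1 h6 with ⟨j, hj, hj'⟩
    interval_cases j <;> simp_all
  -- the embedding into `S₄`
  let ρ : G →* Equiv.Perm (G ⧸ N) := MulAction.toPermHom G (G ⧸ N)
  have hρ : Function.Injective ρ := by
    rw [← MonoidHom.ker_eq_bot_iff, ← hcore, Subgroup.normalCore_eq_ker]
  have e4 : G ⧸ N ≃ Fin 4 := (Finite.equivFinOfCardEq (by rw [← hidx]; rfl))
  let ψ : G →* Equiv.Perm (Fin 4) := e4.permCongrHom.toMonoidHom.comp ρ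
  have hψ : Function.Injective ψ := e4.permCongrHom.injective.comp hρ
  have hP : Nat.card (Equiv.Perm (Fin 4)) = 24 := by rw [Nat.card_perm, Nat.card_fin]; rfl
  rcases hk36 with rfl | rfl
  · left
    have hr : ψ.range = alternatingGroup (Fin 4) := by
      refine Equiv.Perm.eq_alternatingGroup_of_index_eq_two ?_
      have h := Subgroup.card_mul_index ψ.range
      rw [← Nat.card_congr (MonoidHom.ofInjective hψ).toEquiv, hk, hP] at h
      omega
    exact ⟨(MonoidHom.ofInjective hψ).trans (MulEquiv.subgroupCongr hr)⟩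
  · right
    exact ⟨MulEquiv.ofBijective ψ ((Nat.bijective_iff_injective_and_card _).2
      ⟨hψ, by rw [hk, hP]⟩)⟩

end CfsgLib.GW
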