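import Cfsg.Agent.GW.TwoFinish

/-!
# Gorenstein–Walter: the quotient of a maximal overgroup of `C(z)` is a 2-group

Given the classification of the overgroups of `C(z)` into a 2-group quotient, one class of
involutions, or two classes, only the first case occurs for a maximal one.
-/

set_option autoImplicit false
set_option linter.style.haveILetI false

open Subgroup

namespace CfsgLib.GW

universe u

namespace Minimal

variable {G : Type u} [Group G] [Finite G] (hG : Minimal G)
include hG

/-- A maximal subgroup properly containing `C(z)` has a 2-group as quotient by its odd core. -/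
theorem two_quotient_of_classify {z : G} (hz : orderOf z = 2)
    (hcl : ∀ H : Subgroup G, H ≠ ⊤ → centralizer ({z} : Set G) ≤ H →
      IsPGroup 2 (↥H ⧸ Cfsg.oddCore ↥H) ∨
      (∀ a c, a ∈ H → c ∈ H → orderOf a = 2 → orderOf c = 2 → ∃ m ∈ H, m * a * m⁻¹ = c) ∨
      ∃ (b t : G) (A B e N : ℕ), TwoClass H z b t A B e N)
    {M : Subgroup G} (hM : IsCoatom M) (hCM : centralizer ({z} : Set G) < M) :
    IsPGroup 2 (↥M ⧸ Cfsg.oddCore ↥M) := by
  rcases hcl M hM.1 hCM.le with h | h | ⟨b, t, A, B, e, N, h⟩
  · exact h
  · exact (hG.not_one_class hz hM hCM h).elim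
  · exact (h.false_of_classify hG hM hCM.le hcl).elim

end Minimal

end CfsgLib.GW
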