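import Cfsg.Agent.GW.NoEscape
import Cfsg.Agent.Forms.KleinPSL

/-!
# Gorenstein–Walter 4.1: the case of an inner component

`Inner z N O K F S σ τ k`: the maximal subgroup `N` above the centralizer of an escaping fixed
subgroup has a component `K ≅ PSL₂(F)` of odd index modulo the odd normal subgroup `O` centralised
by `K`, contains the Sylow 2-subgroup `S = ⟨σ, τ⟩` of `C(z)`, and meets the Fitting subgroup of
`core z` in `O ⊔ K`.
-/

set_option autoImplicit false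

open Subgroup

namespace CfsgLib.GW

universe u

variable {G : Type u} [Group G]

/-- The data of case 4.1 with an inner component. -/
structure Inner (z : G) (N O K : Subgroup G) (F : Type) [Field F] [Fintype F] (S : Sylow 2 G)
    (σ τ : G) (k : ℕ) : Prop where
  iso : Nonempty (K ≃* Matrix.ProjectiveSpecialLinearGroup (Fin 2) F)
  hF : Odd (Fintype.card F)
  hON : O ≤ N
  hKN : K ≤ N
  hOn : N ≤ normalizer (O : Set G)
  hKn : N ≤ normalizer (K : Set G)
  hOodd : Odd (Nat.card O)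
  hcomm : ∀ o ∈ O, ∀ x ∈ K, o * x = x * o
  hidx : Odd ((O ⊔ K).relIndex N)
  hzK : z ∈ K
  hCN : ¬ centralizer ({z} : Set G) ≤ N
  hSN : (S : Subgroup G) ≤ N
  hS : ∀ s ∈ (S : Subgroup G), s * z = z * s
  hk : 1 ≤ k
  hσS : σ ∈ (S : Subgroup G)
  hτS : τ ∈ (S : Subgroup G)
  hσ : orderOf σ = 2 ^ k
  hτ : orderOf τ = 2
  hrel : τ * σ * τ⁻¹ = σ⁻¹
  hnot : τ ∉ zpowers σ
  hzσ : z ∈ zpowers σ
  hcard : Nat.card (S : Subgroup G) = 2 * 2 ^ k
  hW : ∀ b : G, orderOf b = 2 → b ∈ (S : Subgroup G) → b ≠ z →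
    core z ⊓ centralizer ({b} : Set G) ≤ N
  hfit : fit z ⊓ centralizer ({τ} : Set G) ≤ O
  hA : fit z ⊓ O ≠ ⊥
  hAX : ∀ X : Subgroup G, X ≠ ⊥ → X ≤ fit z ⊓ O → normalizer (X : Set G) ≤ N
  hfitN : fit z ⊓ N ≤ O ⊔ K

/-- Without odd torus the fixed subgroup cannot escape: the centre of a primary part would lie in
`O`. -/
theorem false_of_fit_inf_le [Finite G] {z : G} {N O : Subgroup G}
    (hCN : ¬ centralizer ({z} : Set G) ≤ N) (hA : fit z ⊓ O ≠ ⊥)
    (hAX : ∀ X : Subgroup G, X ≠ ⊥ → X ≤ fit z ⊓ O → normalizer (X : Set G) ≤ N)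
    (hfitN : fit z ⊓ N ≤ O) : False := by
  haveI : Nontrivial (fit z ⊓ O : Subgroup G) := (nontrivial_iff_ne_bot _).2 hA
  haveI : Nontrivial (fit z) := (nontrivial_iff_ne_bot _).2 fun h =>
    hA (eq_bot_iff.2 (inf_le_left.trans h.le))
  haveI : Group.IsNilpotent (fit z) := OddOrder.isNilpotent_fittingOf (core z)
  haveI : Nontrivial (Subgroup.center (fit z)) :=
    (nontrivial_iff_ne_bot _).2 (Group.IsNilpotent.center_ne_bot _)
  set Z := (Subgroup.center (fit z)).map (fit z).subtype with hZ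
  have hne : Z ≠ ⊥ := fun h => (nontrivial_iff_ne_bot _).1 ‹Nontrivial (Subgroup.center (fit z))›
    ((map_eq_bot_iff_of_injective _ (fit z).subtype_injective).1 h)
  obtain ⟨a, ha, ha1⟩ : ∃ a ∈ fit z ⊓ O, a ≠ 1 := exists_ne_one_of_nontrivial _
  have hZA : Z ≤ fit z ⊓ O := fun w hw => by
    refine ⟨map_subtype_le _ hw, hfitN ⟨map_subtype_le _ hw, ?_⟩⟩
    refine hAX (zpowers a) (by simpa [zpowers_eq_bot] using ha1) (zpowers_le.2 ha)
      (centralizer_le_normalizer _ (mem_centralizer_iff.2 ?_))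
    obtain ⟨⟨w', hw'⟩, hwc, rfl⟩ := hw
    rintro _ ⟨i, rfl⟩
    have h1 : a * w' = w' * a :=
      congrArg Subtype.val (mem_center_iff.1 hwc ⟨a, ha.1⟩)
    exact ((show Commute a w' from h1).zpow_left i).eq
  refine hCN (le_trans ?_ (hAX Z hne hZA))
  intro c hc
  refine mem_normalizer_iff.2 fun x => ?_
  have key : ∀ d ∈ centralizer ({z} : Set G), ∀ y ∈ Z, d * y * d⁻¹ ∈ Z := by
    rintro d hd _ ⟨⟨y, hy⟩, hyc, rfl⟩
    have hn : d ∈ normalizer (fit z : Set G) := (centralizer_le_normalizer_core z).trans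
      (OddOrder.normalizer_le_normalizer_fittingOf _) hd
    refine ⟨⟨d * y * d⁻¹, (mem_normalizer_iff.1 hn y).1 hy⟩, mem_center_iff.2 fun g => ?_, rfl⟩
    have hg : d⁻¹ * (g : G) * d ∈ fit z := by
      simpa using (mem_normalizer_iff.1 (inv_mem hn) (g : G)).1 g.2
    have h1 : d⁻¹ * (g : G) * d * y = y * (d⁻¹ * (g : G) * d) :=
      congrArg Subtype.val (mem_center_iff.1 hyc ⟨_, hg⟩)
    refine Subtype.ext ?_
    show (g : G) * (d * y * d⁻¹) = d * y * d⁻¹ * g
    calc (g : G) * (d * y * d⁻¹) = d * (d⁻¹ * (g : G) * d * y) * d⁻¹ := by group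
      _ = d * (y * (d⁻¹ * (g : G) * d)) * d⁻¹ := by rw [h1]
      _ = _ := by group
  refine ⟨key c hc x, fun h => ?_⟩
  simpa [mul_assoc] using key c⁻¹ (inv_mem hc) _ h

end CfsgLib.GW
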