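import Cfsg.Agent.Forms.KleinPSL

/-!
# Centralizers of involutions of `PSL(2,q)`: the cyclic part

A cyclic subgroup containing every element that commutes with the involution and is not itself an
involution; the involutions outside invert it.
-/

set_option autoImplicit false

namespace CfsgLib.GW

open Matrix Subgroup
open scoped MatrixGroups

variable {F : Type*} [Field F] [Fintype F]

/-- The torus through an involution. -/
theorem exists_torus_psl (hF : Odd (Fintype.card F))
    {a : Matrix.ProjectiveSpecialLinearGroup (Fin 2) F} (ha : orderOf a = 2) :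
    ∃ T : Subgroup (Matrix.ProjectiveSpecialLinearGroup (Fin 2) F), IsCyclic T ∧ a ∈ T ∧
      (∀ k, k * a = a * k → k ∈ T ∨ orderOf k = 2) ∧
      ∀ b, b * a = a * b → b ∉ T → ∀ k ∈ T, b * k * b⁻¹ = k⁻¹ := by
  classical
  have h2 : (2 : F) ≠ 0 := SL2Tori.two_ne_zero_of_odd hF
  have ha1 : a ≠ 1 := fun e => by rw [e, orderOf_one] at ha; omega
  have haa : a * a = 1 := by rw [← pow_two, orderOf_dvd_iff_pow_eq_one.1 ha.dvd]
  obtain ⟨x, rfl, hx⟩ := Forms.KleinPSL.exists_lift_of_orderOf_two h2 ha1 haa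
  set π : SL(2, F) →* Matrix.ProjectiveSpecialLinearGroup (Fin 2) F := Forms.KleinPSL.projHom
  have ht := Forms.KleinPSL.tr_sq_ne_four h2 hx
  have hlift : ∀ k : SL(2, F), π k * π x = π x * π k →
      k * x * k⁻¹ = x ∨ k * x * k⁻¹ = x⁻¹ := fun k hk => by
    rw [← map_mul, ← map_mul, Forms.KleinPSL.proj_eq_proj_iff] at hk
    rcases hk with e | e
    · left; rw [mul_inv_eq_iff_eq_mul]; exact e.symm
    · right
      rw [mul_inv_eq_iff_eq_mul, Forms.KleinPSL.inv_eq_neg hx, neg_mul, e, neg_neg]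
  haveI : IsCyclic (centralizer ({x} : Set SL(2, F))) := SL2Tori.isCyclic_centralizer ht
  refine ⟨(centralizer ({x} : Set SL(2, F))).map π, ?_, ⟨x, mem_centralizer_singleton_iff.2 rfl, rfl⟩,
    fun k hk => ?_, fun b hb hbT k hkT => ?_⟩
  · exact isCyclic_of_surjective (π.subgroupMap (centralizer ({x} : Set SL(2, F))))
      (MonoidHom.subgroupMap_surjective π _)
  · obtain ⟨h, rfl⟩ := QuotientGroup.mk'_surjective _ k
    rcases hlift h hk with e | e
    · exact Or.inl ⟨h, mem_centralizer_singleton_iff.2 (mul_inv_eq_iff_eq_mul.1 e), rfl⟩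
    · obtain ⟨hh, -⟩ := Forms.KleinPSL.anticomm_of_invert h2 hx e
      obtain ⟨hne, hsq⟩ := Forms.KleinPSL.proj_of_sq h2 hh
      exact Or.inr (orderOf_eq_prime (by rw [pow_two]; exact hsq) hne)
  · obtain ⟨h, rfl⟩ := QuotientGroup.mk'_surjective _ b
    obtain ⟨m, hm, rfl⟩ := hkT
    have e : h * x * h⁻¹ = x⁻¹ := (hlift h hb).resolve_left fun e =>
      hbT ⟨h, mem_centralizer_singleton_iff.2 (mul_inv_eq_iff_eq_mul.1 e), rfl⟩
    show π h * π m * (π h)⁻¹ = (π m)⁻¹
    rw [← map_inv, ← map_inv, ← map_mul, ← map_mul, SL2Tori.conj_eq_inv ht e hm]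

end CfsgLib.GW
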