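import Cfsg.Agent.SuzukiWong.Coeff
import Cfsg.Agent.Blocks.Sections
import Cfsg.Agent.Codegree.Sums
import Cfsg.Agent.PrincipalBlock.Kernel
import Cfsg.Agent.Small.OrderTools

/-!
# Gorenstein–Walter: separation of the linear twists

`z` is an involution, `U` the odd core of its centralizer `C`, `Θ` a set of linear characters of `C`
whose sum on `U` is invariant under fusion in the group.  Then Brauer's second main theorem
separates `Θ`: an irreducible character with a `Θ`-component somewhere on the section of `z` has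
only `Θ`-components there.
-/

set_option autoImplicit false
set_option linter.style.haveILetI false
set_option linter.unusedSectionVars false

namespace CfsgLib.GW.Tw

open Subgroup Cfsg CfsgLib.Blocks CfsgLib.Characters
open scoped ComplexConjugate

universe u

variable {G : Type u} [Group G]

/-- An involution and the normal subgroup of its centralizer carrying the elements of odd order. -/
structure Frame (z : G) (U : Subgroup G) : Prop where
  hz : orderOf z = 2
  le : U ≤ centralizer ({z} : Set G)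
  odd : Odd (Nat.card U)
  conj_mem : ∀ c ∈ centralizer ({z} : Set G), ∀ u ∈ U, c * u * c⁻¹ ∈ U
  mem : ∀ c ∈ centralizer ({z} : Set G), Odd (orderOf c) → c ∈ U

/-- Linear characters of the centralizer of `z`. -/
abbrev Lin (z : G) := centralizer ({z} : Set G) →* ℂˣ

/-- A linear character, extended by zero. -/
noncomputable def lv {z : G} (L : Lin z) : G → ℂ :=
  extendByZero (centralizer ({z} : Set G)) fun c => (L c : ℂ)

/-- The sum of the linear characters. -/
noncomputable def asum {z : G} (Θ : Finset (Lin z)) (g : G) : ℂ := ∑ L ∈ Θ, lv L g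

/-- The elements having `z` as a power. -/
def dset (z : G) : Set G := {g | z ∈ zpowers g}

/-- The sum over `Θ` is invariant under fusion. -/
def Fused {z : G} (U : Subgroup G) (Θ : Finset (Lin z)) : Prop :=
  ∀ u ∈ U, ∀ g : G, g * u * g⁻¹ ∈ U → asum Θ (g * u * g⁻¹) = asum Θ u

/-- An irreducible character of the centralizer lies over `L`. -/
def Over {z : G} (U : Subgroup G) (L : Lin z) (ξ : IrrCharacter (centralizer ({z} : Set G))) :
    Prop :=
  ∀ c u : centralizer ({z} : Set G), (u : G) ∈ U →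
    (ξ : centralizer ({z} : Set G) → ℂ) (c * u) =
      (ξ : centralizer ({z} : Set G) → ℂ) c * (L u : ℂ)

open Classical in
/-- The `L`-component of a function at a point. -/
noncomputable def mu [Fintype G] {z : G} (U : Subgroup G) (L : Lin z) (χ : G → ℂ) (c : G) : ℂ :=
  (Nat.card U : ℂ)⁻¹ * ∑ u ∈ Finset.univ.filter (· ∈ U), χ (c * u) * conj (lv L u)

variable {z : G} {U : Subgroup G}

theorem dset_le : dset z ⊆ (centralizer ({z} : Set G) : Set G) := fun g hg => by
  obtain ⟨k, hk⟩ := hg
  exact mem_centralizer_singleton_iff.2 (hk ▸ (Commute.self_zpow g k).eq)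

theorem lv_of_mem (L : Lin z) {g : G} (hg : g ∈ centralizer ({z} : Set G)) :
    lv L g = (L ⟨g, hg⟩ : ℂ) := extendByZero_of_mem _ _ hg

theorem lv_mul (L : Lin z) {g k : G} (hg : g ∈ centralizer ({z} : Set G))
    (hk : k ∈ centralizer ({z} : Set G)) : lv L (g * k) = lv L g * lv L k := by
  rw [lv_of_mem L hg, lv_of_mem L hk, lv_of_mem L (mul_mem hg hk), ← Units.val_mul, ← map_mul]
  rfl

theorem lv_conj (L : Lin z) {c g : G} (hc : c ∈ centralizer ({z} : Set G))
    (hg : g ∈ centralizer ({z} : Set G)) : lv L (c * g * c⁻¹) = lv L g := by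
  have e : (⟨c * g * c⁻¹, mul_mem (mul_mem hc hg) (inv_mem hc)⟩ : centralizer ({z} : Set G)) =
      ⟨c, hc⟩ * ⟨g, hg⟩ * ⟨c, hc⟩⁻¹ := rfl
  rw [lv_of_mem L hg, lv_of_mem L (mul_mem (mul_mem hc hg) (inv_mem hc)), e, map_mul, map_mul,
    map_inv, mul_inv_cancel_comm]

variable [Fintype G]

theorem conj_coe (L : Lin z) (c : centralizer ({z} : Set G)) :
    conj ((L c : ℂ)) = ((L c : ℂ))⁻¹ :=
  eq_inv_of_mul_eq_one_right (SuzukiWong.norm_linear L c)

theorem lv_isIntegral (L : Lin z) (g : G) : IsIntegral ℤ (lv L g) := by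
  by_cases hg : g ∈ centralizer ({z} : Set G)
  · rw [lv_of_mem L hg]
    exact character_isIntegral (isCharacter_of_isIrr (isIrr_linChar L)) ⟨g, hg⟩
  · rw [lv, extendByZero_of_not_mem _ _ hg]
    exact isIntegral_zero

theorem asum_conj {Θ : Finset (Lin z)} {c g : G} (hc : c ∈ centralizer ({z} : Set G))
    (hg : g ∈ centralizer ({z} : Set G)) : asum Θ (c * g * c⁻¹) = asum Θ g :=
  Finset.sum_congr rfl fun L _ => lv_conj L hc hg

variable (hF : Frame z U)
include hF

theorem Frame.subgroupOf_normal :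
    (U.subgroupOf (centralizer ({z} : Set G))).Normal :=
  ⟨fun x hx g => mem_subgroupOf.2 (by
    push_cast
    exact hF.conj_mem g g.2 x (mem_subgroupOf.1 hx))⟩

theorem Frame.dset_mul {h u : G} (hh : h ∈ dset z) (hu : u ∈ U) : h * u ∈ dset z := by
  obtain ⟨k, hk⟩ := mem_powers_iff_mem_zpowers.2 hh
  replace hk : h ^ k = z := hk
  have hC : h ∈ centralizer ({z} : Set G) := dset_le hh
  haveI := hF.subgroupOf_normal
  -- some power of the product lies in `z U`
  set π := QuotientGroup.mk' (U.subgroupOf (centralizer ({z} : Set G)))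
  have e : π (⟨h * u, mul_mem hC (hF.le hu)⟩ ^ k) = π (⟨h, hC⟩ ^ k) := by
    have e0 : π ⟨u, hF.le hu⟩ = 1 := (QuotientGroup.eq_one_iff _).2 (mem_subgroupOf.2 hu)
    rw [map_pow, map_pow,
      show (⟨h * u, mul_mem hC (hF.le hu)⟩ : centralizer ({z} : Set G)) = ⟨h, hC⟩ * ⟨u, hF.le hu⟩
        from rfl, map_mul, e0, mul_one]
  have hv : ((h * u) ^ k)⁻¹ * z ∈ U := by
    have := mem_subgroupOf.1 (QuotientGroup.eq.1 e)
    push_cast at this
    rwa [hk] at this
  set v := ((h * u) ^ k)⁻¹ * z with hvdef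
  have hcomm : Commute v z := (mem_centralizer_singleton_iff.1 (hF.le hv))
  obtain ⟨j, hj⟩ := hF.odd
  have hvn : v ^ (2 * j + 1) = 1 := by
    rw [← hj, ← orderOf_dvd_iff_pow_eq_one]
    exact U.orderOf_dvd_natCard hv
  refine ⟨(k * (2 * j + 1) : ℕ), ?_⟩
  show (h * u) ^ ((k * (2 * j + 1) : ℕ) : ℤ) = z
  rw [zpow_natCast, pow_mul, show (h * u) ^ k = z * v⁻¹ by rw [hvdef]; group,
    (hcomm.inv_left.symm).mul_pow, inv_pow, hvn, inv_one, mul_one, pow_succ, pow_mul, sq,
    Small.mul_self_of_orderOf_two hF.hz, one_pow, one_mul]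

theorem Frame.centralizer_pPart {h : G} (hh : h ∈ dset z) {w : G}
    (hw : Cfsg.IsPPart 2 h w) :
    centralizer ({w} : Set G) ≤ centralizer ({z} : Set G) := by
  obtain ⟨k, hk⟩ := hh
  replace hk : h ^ k = z := hk
  obtain ⟨y, hxy, hcomm, -, hy⟩ := hw
  have hyo : Odd (orderOf y) := Nat.not_even_iff_odd.1 fun he => hy (even_iff_two_dvd.1 he)
  have hz' : w ^ (k * orderOf y) = z := by
    have e : h ^ (k * (orderOf y : ℤ)) = z := by
      rw [zpow_mul, hk, zpow_natCast]
      obtain ⟨j, hj⟩ := hyo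
      rw [hj, pow_succ, pow_mul, sq, Small.mul_self_of_orderOf_two hF.hz, one_pow, one_mul]
    rw [← e, ← hxy, hcomm.mul_zpow, mul_comm k (orderOf y : ℤ), zpow_mul y, zpow_natCast,
      pow_orderOf_eq_one, one_zpow, mul_one, mul_comm]
  intro c hc
  refine mem_centralizer_singleton_iff.2 ?_
  rw [← hz']
  exact ((show Commute c w from mem_centralizer_singleton_iff.1 hc).zpow_right _).eq

variable [Fintype (centralizer ({z} : Set G))]

open Classical in
/-- A character lying over no twist by `L` is orthogonal to `L` on every coset of `U`. -/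
theorem Frame.sum_eq_zero {L : Lin z} {ξ : IrrCharacter (centralizer ({z} : Set G))}
    (hξ : ¬ Over U L ξ) (c : centralizer ({z} : Set G)) :
    ∑ u : centralizer ({z} : Set G), (if (u : G) ∈ U then
      (ξ : centralizer ({z} : Set G) → ℂ) (c * u) * conj ((L u : ℂ)) else 0) = 0 := by
  haveI := hF.subgroupOf_normal
  set K := U.subgroupOf (centralizer ({z} : Set G))
  let ξ' : IrrCharacter (centralizer ({z} : Set G)) :=
    ⟨fun g => ((L⁻¹ : Lin z) g : ℂ) * (ξ : centralizer ({z} : Set G) → ℂ) g,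
      SuzukiWong.isIrr_twist L⁻¹ ξ.2⟩
  have hval : ∀ g u : centralizer ({z} : Set G),
      (ξ' : centralizer ({z} : Set G) → ℂ) (g * u) =
        ((L g : ℂ))⁻¹ * ((L u : ℂ))⁻¹ * (ξ : centralizer ({z} : Set G) → ℂ) (g * u) := fun g u => by
    show (((L⁻¹ : Lin z) (g * u) : ℂˣ) : ℂ) * _ = _
    rw [MonoidHom.inv_apply, map_mul]
    push_cast
    rw [mul_inv]
  have hnot : ¬ Codegree.KerContains ξ' K := by
    intro hker
    obtain ⟨n, ρ, hρ, hρc⟩ := ξ'.2
    refine hξ fun g u hu => ?_
    have hu1 : ρ u = 1 := PrincipalBlock.rep_eq_one_of_char_eq ρ (by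
      rw [hρc]; exact hker u (mem_subgroupOf.2 hu))
    have e : (ξ' : centralizer ({z} : Set G) → ℂ) (g * u) =
        (ξ' : centralizer ({z} : Set G) → ℂ) g := by
      rw [← hρc, Representation.character, map_mul, hu1, mul_one]
      rfl
    have e1 := hval g 1
    rw [mul_one, map_one, Units.val_one, inv_one, mul_one] at e1
    rw [hval, e1] at e
    have hg0 := (L g).ne_zero
    have hu0 := (L u).ne_zero
    field_simp at e
    linear_combination e
  have h0 := Codegree.sum_coset_eq_zero ξ' K hnot c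
  have h1 : ∑ k : K, (ξ' : centralizer ({z} : Set G) → ℂ) (c * k) =
      ((L c : ℂ))⁻¹ * ∑ u : centralizer ({z} : Set G), (if (u : G) ∈ U then
        (ξ : centralizer ({z} : Set G) → ℂ) (c * u) * conj ((L u : ℂ)) else 0) := by
    rw [← Finset.sum_filter, Finset.mul_sum]
    rw [Finset.sum_subtype (Finset.univ.filter fun u : centralizer ({z} : Set G) => (u : G) ∈ U)
      (p := fun u => u ∈ K) (fun u => by simp [K, mem_subgroupOf])]
    refine Finset.sum_congr rfl fun k _ => ?_
    rw [hval, conj_coe]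
    ring
  rw [h1] at h0
  exact (mul_eq_zero.1 h0).resolve_left (inv_ne_zero (L c).ne_zero)

open Classical in
/-- The orthogonality relation along a coset of `U`. -/
theorem Frame.sum_over (L : Lin z) (ξ : IrrCharacter (centralizer ({z} : Set G)))
    (c : centralizer ({z} : Set G)) :
    ∑ u : centralizer ({z} : Set G), (if (u : G) ∈ U then
      (ξ : centralizer ({z} : Set G) → ℂ) (c * u) * conj ((L u : ℂ)) else 0) =
      if Over U L ξ then (Nat.card U : ℂ) * (ξ : centralizer ({z} : Set G) → ℂ) c else 0 := by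
  split_ifs with h
  · rw [← Finset.sum_filter, Finset.sum_congr rfl (g := fun _ =>
      (ξ : centralizer ({z} : Set G) → ℂ) c) fun u hu => ?_, Finset.sum_const, nsmul_eq_mul]
    · congr 2
      rw [← Nat.card_congr (subgroupOfEquivOfLe hF.le).toEquiv, Nat.card_eq_fintype_card,
        Fintype.card_subtype]
      simp [mem_subgroupOf]
    · rw [h c u (Finset.mem_filter.1 hu).2, mul_assoc, SuzukiWong.norm_linear, mul_one]
  · exact hF.sum_eq_zero h c

omit [Fintype (centralizer ({z} : Set G))] in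
open Classical in
/-- The components through the centralizer. -/
theorem Frame.mu_eq_sum [Fintype (centralizer ({z} : Set G))] (L : Lin z) (χ : G → ℂ) (c : G) :
    mu U L χ c = (Nat.card U : ℂ)⁻¹ * ∑ u : centralizer ({z} : Set G),
      (if (u : G) ∈ U then χ (c * u) * conj ((L u : ℂ)) else 0) := by
  rw [mu, ← Finset.sum_filter]
  congr 1
  refine (Finset.sum_bij (fun (u : centralizer ({z} : Set G)) _ => (u : G)) ?_ ?_ ?_ ?_).symm
  · intro u hu
    simpa using (Finset.mem_filter.1 hu).2
  · intro u _ v _ e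
    exact Subtype.ext e
  · intro g hg
    exact ⟨⟨g, hF.le (Finset.mem_filter.1 hg).2⟩, by simpa using (Finset.mem_filter.1 hg).2, rfl⟩
  · intro u _
    rw [lv_of_mem L u.2]

open Classical in
/-- A character restricted to the centralizer and its components. -/
theorem Frame.exists_expansion {χ : G → ℂ} (hχ : IsCharacter G χ) :
    ∃ n : IrrCharacter (centralizer ({z} : Set G)) → ℕ,
      (∀ c : centralizer ({z} : Set G), χ c =
        ∑ ξ, (n ξ : ℂ) * (ξ : centralizer ({z} : Set G) → ℂ) c) ∧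
      (∀ ξ : IrrCharacter (centralizer ({z} : Set G)),
        classInner (fun c : centralizer ({z} : Set G) => χ c)
          (ξ : centralizer ({z} : Set G) → ℂ) = n ξ) ∧
      ∀ (L : Lin z) (c : centralizer ({z} : Set G)), mu U L χ c =
        ∑ ξ, if Over U L ξ then (n ξ : ℂ) * (ξ : centralizer ({z} : Set G) → ℂ) c else 0 := by
  obtain ⟨n, hn⟩ := exists_nat_coeff (isCharacter_restrict (centralizer ({z} : Set G)) hχ)
  have hn' : ∀ c : centralizer ({z} : Set G), χ c =
      ∑ ξ, (n ξ : ℂ) * (ξ : centralizer ({z} : Set G) → ℂ) c := fun c => by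
    have := congrFun hn c
    simpa using this
  refine ⟨n, hn', fun ξ => ?_, fun L c => ?_⟩
  · rw [hn, classInner_irr_coeff]
  have hU : (Nat.card U : ℂ) ≠ 0 := subgroup_card_ne_zero U
  rw [hF.mu_eq_sum L χ c]
  calc (Nat.card U : ℂ)⁻¹ * ∑ u : centralizer ({z} : Set G),
        (if (u : G) ∈ U then χ ((c : G) * u) * conj ((L u : ℂ)) else 0)
      = (Nat.card U : ℂ)⁻¹ * ∑ ξ, (n ξ : ℂ) * ∑ u : centralizer ({z} : Set G),
          (if (u : G) ∈ U then
            (ξ : centralizer ({z} : Set G) → ℂ) (c * u) * conj ((L u : ℂ)) else 0) := by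
        congr 1
        simp only [Finset.mul_sum]
        rw [Finset.sum_comm]
        refine Finset.sum_congr rfl fun u _ => ?_
        by_cases hu : (u : G) ∈ U
        · rw [if_pos hu, ← Subgroup.coe_mul, hn', Finset.sum_mul]
          exact Finset.sum_congr rfl fun ξ _ => by rw [if_pos hu]; ring
        · simp [hu]
    _ = _ := by
        rw [Finset.mul_sum]
        refine Finset.sum_congr rfl fun ξ _ => ?_
        rw [hF.sum_over L ξ c]
        split_ifs
        · field_simp
        · ring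

variable {Θ : Finset (Lin z)}
  (hdist : ∀ L ∈ Θ, ∀ L' ∈ Θ, (∀ u ∈ U, lv L u = lv L' u) → L = L')

include hdist in
theorem Frame.over_unique {L L' : Lin z} (hL : L ∈ Θ) (hL' : L' ∈ Θ)
    {ξ : IrrCharacter (centralizer ({z} : Set G))} (h : Over U L ξ) (h' : Over U L' ξ) :
    L = L' := by
  refine hdist L hL L' hL' fun u hu => ?_
  have e := (h 1 ⟨u, hF.le hu⟩ hu).symm.trans (h' 1 ⟨u, hF.le hu⟩ hu)
  rw [lv_of_mem L (hF.le hu), lv_of_mem L' (hF.le hu)]
  exact mul_left_cancel₀ (irr_one_ne_zero ξ.2) e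

variable {M : Ideal AlgInt} [M.IsPrime]

include hdist in
open Classical in
/-- The central element of the twists, with its reduced values on the centralizer. -/
theorem Frame.exists_central (hM : Cfsg.IsPModular 2 M) (hfus : Fused U Θ) :
    ∃ A : Ctr (Res M) G, ∀ ξ : IrrCharacter (centralizer ({z} : Set G)),
      omegaBar M ξ (resCtr (centralizer ({z} : Set G)) A) =
        if ∃ L ∈ Θ, Over U L ξ then 1 else 0 := by
  let a : G → ℂ := fun g => if h : ∃ x : G, x * g * x⁻¹ ∈ U then
    conj (asum Θ (h.choose * g * h.choose⁻¹)) else 0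
  have ha1 : ∀ {g x : G}, x * g * x⁻¹ ∈ U → a g = conj (asum Θ (x * g * x⁻¹)) := by
    intro g x hx
    have h : ∃ x : G, x * g * x⁻¹ ∈ U := ⟨x, hx⟩
    simp only [a, dif_pos h]
    congr 1
    have e := hfus _ hx (h.choose * x⁻¹) (by
      simpa [mul_assoc] using h.choose_spec)
    simpa [mul_assoc] using e
  have hloc : ∀ g, Cfsg.MemLocalRing M (a g) := fun g => by
    simp only [a]
    split_ifs with h
    · refine memLocalRing_of_isIntegral ?_
      refine IsIntegral.map (f := (starRingEnd ℂ).toIntAlgHom) ?_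
      exact IsIntegral.sum _ fun L _ => lv_isIntegral L _
    · exact memLocalRing_of_isIntegral isIntegral_zero
  have hconj : ∀ g x : G, a (x * g * x⁻¹) = a g := by
    intro g x
    by_cases h : ∃ y : G, y * g * y⁻¹ ∈ U
    · obtain ⟨y, hy⟩ := h
      rw [ha1 hy, ha1 (x := y * x⁻¹) (by simpa [mul_assoc] using hy)]
      simp [mul_assoc]
    · have h' : ¬ ∃ y : G, y * (x * g * x⁻¹) * y⁻¹ ∈ U := fun ⟨y, hy⟩ =>
        h ⟨y * x, by simpa [mul_assoc] using hy⟩
      simp only [a, dif_neg h, dif_neg h']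
  let AO : Ctr (localRing M) G := ⟨ofFun fun g => ⟨a g, hloc g⟩, mem_ctr_iff.2 fun g x => by
    simp only [coeff_ofFun]
    exact Subtype.ext (hconj g x)⟩
  refine ⟨redCtr M AO, fun ξ => ?_⟩
  have hres : resCtr (centralizer ({z} : Set G)) (redCtr M AO) = redCtr M (resCtr (centralizer ({z} : Set G)) AO) := (mapCtr_resCtr (red M) (centralizer ({z} : Set G)) AO).symm
  have hval : (omegaO M ξ (resCtr (centralizer ({z} : Set G)) AO) : ℂ) =
      if ∃ L ∈ Θ, Over U L ξ then (Nat.card U : ℂ) else 0 := by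
    rw [coe_omegaO, omega_apply]
    have hc : ∀ c : (centralizer ({z} : Set G)), (toC M (resCtr (centralizer ({z} : Set G)) AO) : MonoidAlgebra ℂ (centralizer ({z} : Set G))).coeff c =
        if (c : G) ∈ U then ∑ L ∈ Θ, conj ((L c : ℂ)) else 0 := by
      intro c
      have e : (toC M (resCtr (centralizer ({z} : Set G)) AO) : MonoidAlgebra ℂ (centralizer ({z} : Set G))).coeff c = a c := by
        simp [toC, AO]
      rw [e]
      by_cases hu : (c : G) ∈ U
      · rw [if_pos hu, ha1 (x := 1) (by simpa using hu), asum, map_sum]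
        exact Finset.sum_congr rfl fun L _ => by simp [lv_of_mem L c.2]
      · rw [if_neg hu]
        simp only [a]
        rw [dif_neg]
        rintro ⟨x, hx⟩
        refine hu (hF.mem _ c.2 ?_)
        rw [← Small.orderOf_conj_eq x (c : G)]
        exact hF.odd.of_dvd_nat (U.orderOf_dvd_natCard hx)
    have hterm : ∀ c : (centralizer ({z} : Set G)), (toC M (resCtr (centralizer ({z} : Set G)) AO) : MonoidAlgebra ℂ (centralizer ({z} : Set G))).coeff c *
        (ξ : (centralizer ({z} : Set G)) → ℂ) c = ∑ L ∈ Θ, (if (c : G) ∈ U then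
          (ξ : (centralizer ({z} : Set G)) → ℂ) (1 * c) * conj ((L c : ℂ)) else 0) := fun c => by
      rw [hc c]
      split_ifs
      · rw [Finset.sum_mul]
        exact Finset.sum_congr rfl fun L _ => by rw [one_mul]; ring
      · simp
    rw [Finset.sum_congr rfl fun c _ => hterm c, Finset.sum_comm,
      Finset.sum_congr rfl fun L _ => hF.sum_over L ξ 1]
    split_ifs with h
    · obtain ⟨L, hL, hOv⟩ := h
      rw [Finset.sum_eq_single L, if_pos hOv, mul_div_cancel_right₀ _ (irr_one_ne_zero ξ.2)]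
      · exact fun L' hL' hne => if_neg fun h' => hne (hF.over_unique hdist hL' hL h' hOv)
      · exact fun h' => absurd hL h'
    · rw [Finset.sum_eq_zero fun L hL => if_neg fun h' => h ⟨L, hL, h'⟩, zero_div]
  rw [hres, omegaBar_redCtr]
  split_ifs with h
  · rw [if_pos h] at hval
    have e : omegaO M ξ (resCtr (centralizer ({z} : Set G)) AO) = (Nat.card U : localRing M) := Subtype.ext (by
      rw [hval]; simp)
    rw [e, map_natCast]
    haveI := charP_res hM
    obtain ⟨j, hj⟩ := hF.odd
    rw [hj, Nat.cast_add, Nat.cast_mul, CharP.cast_eq_zero (Res M) 2, zero_mul, zero_add,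
      Nat.cast_one]
  · rw [if_neg h] at hval
    rw [show omegaO M ξ (resCtr (centralizer ({z} : Set G)) AO) = 0 from Subtype.ext (by rw [hval]; simp), map_zero]

include hdist in
open Classical in
/-- **Separation.** -/
theorem Frame.separation (hM : Cfsg.IsPModular 2 M) (hfus : Fused U Θ) (χ : IrrCharacter G)
    {L₀ : Lin z} (hL₀ : L₀ ∈ Θ) {h₀ : G} (hh₀ : h₀ ∈ dset z)
    (hne : mu U L₀ (χ : G → ℂ) h₀ ≠ 0) {h : G} (hh : h ∈ dset z) :
    (χ : G → ℂ) h = ∑ L ∈ Θ, mu U L (χ : G → ℂ) h := by
  haveI : Fact (Nat.Prime 2) := ⟨Nat.prime_two⟩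
  obtain ⟨n, hn, hni, hmu⟩ := hF.exists_expansion (isCharacter_of_isIrr χ.2)
  obtain ⟨A, hA⟩ := hF.exists_central hdist hM hfus
  set T : Set (IrrCharacter (centralizer ({z} : Set G))) := {ξ | ∃ L ∈ Θ, Over U L ξ} with hT
  have hTu : IsBlockUnion M T := fun ξ hξ η hη => by
    by_contra hnη
    have e := hA η
    rw [← (sameBlock_iff ξ η).1 (mem_blockOf.1 hη), hA ξ, if_pos (show ∃ L ∈ Θ, Over U L ξ from hξ),
      if_neg (show ¬ ∃ L ∈ Θ, Over U L η from hnη)] at e
    exact one_ne_zero e
  -- the part over the twists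
  have hpart : ∀ g : (centralizer ({z} : Set G)), Cfsg.blockPart T (fun c : (centralizer ({z} : Set G)) => (χ : G → ℂ) c) g =
      ∑ L ∈ Θ, mu U L (χ : G → ℂ) g := fun g => by
    rw [Cfsg.blockPart, finsum_irr_mem, show (Fintype.ofFinite (centralizer ({z} : Set G))) = ‹Fintype (centralizer ({z} : Set G))› from
      Subsingleton.elim _ _, Finset.sum_congr rfl fun L _ => hmu L g, Finset.sum_comm]
    refine Finset.sum_congr rfl fun ξ _ => ?_
    by_cases hξ : ξ ∈ T
    · obtain ⟨L, hL, hOv⟩ := hξ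
      rw [if_pos (show ξ ∈ T from ⟨L, hL, hOv⟩), Finset.sum_eq_single L, if_pos hOv, hni]
      · exact fun L' hL' hne' => if_neg fun h' => hne' (hF.over_unique hdist hL' hL h' hOv)
      · exact fun h' => absurd hL h'
    · rw [if_neg hξ, Finset.sum_eq_zero fun L hL => if_neg fun h' => hξ ⟨L, hL, h'⟩]
  set B := Cfsg.blockOf M (χ : G → ℂ)
  have hB : Cfsg.IsPBlock M B := isPBlock_blockOf χ
  have hBu := isBlockUnion_of_isPBlock hB
  have hres : Cfsg.IsClassFunction (centralizer ({z} : Set G)) fun c : (centralizer ({z} : Set G)) => (χ : G → ℂ) c :=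
    isClassFunction_of_isCharacter (isCharacter_restrict (centralizer ({z} : Set G)) (isCharacter_of_isIrr χ.2))
  have hxz : ∃ k, orderOf z = 2 ^ k := ⟨1, by rw [hF.hz, pow_one]⟩
  -- the part of the blocks not inducing the block of `χ` vanishes
  have key : ∀ A' : Set (IrrCharacter (centralizer ({z} : Set G))), IsBlockUnion M A' →
      (∀ ξ ∈ A', omegaBar M ξ (resCtr (centralizer ({z} : Set G)) (idemBar M B hBu)) = 0) →
      ∀ g : G, ∀ hg : g ∈ dset z,
        Cfsg.blockPart A' (fun c : (centralizer ({z} : Set G)) => (χ : G → ℂ) c) ⟨g, dset_le hg⟩ = 0 := by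
    intro A' hA' h0 g hg
    rw [blockPart_eq_sum A' hres ⟨g, dset_le hg⟩]
    exact second_main hM (h := (⟨g, dset_le hg⟩ : (centralizer ({z} : Set G))))
      (fun w hw => hF.centralizer_pPart hg hw) hA' hBu h0 (mem_blockOf_self χ)
  have hind : ∀ ξ : IrrCharacter (centralizer ({z} : Set G)), omegaBar M ξ (resCtr (centralizer ({z} : Set G)) (idemBar M B hBu)) ≠ 0 →
      omegaBar M χ A = if ξ ∈ T then 1 else 0 := by
    intro ξ hξ
    have hi := isInducedBlock_of_mem_overSet hM hxz hB (ξ := ξ) hξ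
    rw [← (isInducedBlock_iff (centralizer ({z} : Set G)) hi.1 hB (mem_blockOf_self ξ) (mem_blockOf_self χ)).1 hi A, hA ξ]
    exact if_congr Iff.rfl rfl rfl
  -- some twist lies over the block
  obtain ⟨ξ₀, hξ₀T, hξ₀⟩ : ∃ ξ ∈ T, omegaBar M ξ (resCtr (centralizer ({z} : Set G)) (idemBar M B hBu)) ≠ 0 := by
    by_contra hc
    push Not at hc
    have hz0 : ∀ u : G, u ∈ U → ∑ L ∈ Θ, mu U L (χ : G → ℂ) (h₀ * u) = 0 := fun u hu => by
      rw [← hpart ⟨h₀ * u, dset_le (hF.dset_mul hh₀ hu)⟩]
      exact key T hTu hc _ (hF.dset_mul hh₀ hu)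
    have hmul : ∀ L ∈ Θ, ∀ u : (centralizer ({z} : Set G)), (u : G) ∈ U →
        mu U L (χ : G → ℂ) (h₀ * (u : G)) = mu U L (χ : G → ℂ) h₀ * (L u : ℂ) := by
      intro L _ u hu
      have e1 := hmu L (⟨h₀, dset_le hh₀⟩ * u)
      have e2 := hmu L ⟨h₀, dset_le hh₀⟩
      push_cast at e1
      rw [e1, e2, Finset.sum_mul]
      refine Finset.sum_congr rfl fun ξ _ => ?_
      split_ifs with hO
      · rw [hO _ u hu, mul_assoc]
      · rw [zero_mul]
    apply hne
    have hsum : ∑ u : (centralizer ({z} : Set G)), (if (u : G) ∈ U then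
        (∑ L ∈ Θ, mu U L (χ : G → ℂ) (h₀ * (u : G))) * conj ((L₀ u : ℂ)) else 0) = 0 :=
      Finset.sum_eq_zero fun u _ => by
        split_ifs with hu
        · rw [hz0 _ hu, zero_mul]
        · rfl
    let ξL : Lin z → IrrCharacter (centralizer ({z} : Set G)) := fun L => ⟨fun c => (L c : ℂ), isIrr_linChar L⟩
    have horth : ∀ L ∈ Θ, ∑ u : (centralizer ({z} : Set G)), (if (u : G) ∈ U then (L u : ℂ) * conj ((L₀ u : ℂ)) else 0) =
        if L = L₀ then (Nat.card U : ℂ) else 0 := by
      intro L hL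
      have e := hF.sum_over L₀ (ξL L) 1
      simp only [ξL, one_mul] at e
      rw [e, map_one, Units.val_one, mul_one]
      refine if_congr ⟨fun h' => ?_, fun h' c u hu => ?_⟩ rfl rfl
      · exact hF.over_unique hdist hL hL₀ (fun c u _ => by simp [map_mul]) h'
      · subst h'
        simp [map_mul]
    rw [Finset.sum_congr rfl (g := fun u : (centralizer ({z} : Set G)) => ∑ L ∈ Θ, mu U L (χ : G → ℂ) h₀ *
      (if (u : G) ∈ U then (L u : ℂ) * conj ((L₀ u : ℂ)) else 0)) fun u _ => by
        split_ifs with hu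
        · rw [Finset.sum_mul]
          exact Finset.sum_congr rfl fun L hL => by rw [hmul L hL u hu]; ring
        · simp, Finset.sum_comm] at hsum
    simp only [← Finset.mul_sum] at hsum
    rw [Finset.sum_congr rfl fun L hL => by rw [horth L hL]] at hsum
    simp only [mul_ite, mul_zero] at hsum
    rw [Finset.sum_eq_single L₀ (fun L _ hne' => if_neg hne') (fun h' => absurd hL₀ h'),
      if_pos rfl] at hsum
    exact (mul_eq_zero.1 hsum).resolve_right (subgroup_card_ne_zero U)
  have hone : omegaBar M χ A = 1 := by rw [hind ξ₀ hξ₀, if_pos hξ₀T]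
  have hcompl := key Tᶜ (isBlockUnion_compl hTu) (fun ξ hξ => by
    by_contra hne'
    have e := hind ξ hne'
    rw [if_neg (show ξ ∉ T from hξ), hone] at e
    exact one_ne_zero e) h hh
  have := blockPart_add_compl T hres ⟨h, dset_le hh⟩
  rw [hcompl, add_zero, hpart] at this
  exact this.symm

end CfsgLib.GW.Tw
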