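import Cfsg.Agent.GW.LocalSplit
import Cfsg.Agent.GW.TwistSep
import Cfsg.Agent.S0205
import Mathlib.GroupTheory.FiniteAbelian.Duality
import Mathlib.GroupTheory.Abelianization.Defs

/-!
# Gorenstein–Walter 4.1: existence of a linear twist

If a subgroup `Y` normalised by `C = C(z)` is inverted by `b`, a Sylow 2-subgroup of `C` acts on it
by `±1` and some element of `U` moves it, then `C` has a linear character trivial on 2-elements and
non-trivial on `U`.
-/

set_option autoImplicit false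
set_option linter.style.haveILetI false

open Subgroup
open scoped commutatorElement

namespace CfsgLib.GW

/-- A proper normal subgroup of a finite solvable group is killed by a non-trivial linear
character. -/
theorem exists_lin_killing {A : Type*} [Group A] [Finite A] [Group.IsSolvable A] (D : Subgroup A)
    [D.Normal] (hD : D ≠ ⊤) : ∃ l : A →* ℂˣ, (∀ d ∈ D, l d = 1) ∧ ∃ a, l a ≠ 1 := by
  haveI : Nontrivial (A ⧸ D) := QuotientGroup.nontrivial_iff.2 hD
  haveI : Group.IsSolvable (A ⧸ D) :=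
    solvable_of_surjective (QuotientGroup.mk'_surjective D)
  haveI : Finite (Abelianization (A ⧸ D)) :=
    Finite.of_surjective _ (QuotientGroup.mk'_surjective (commutator (A ⧸ D)))
  obtain ⟨a, ha⟩ : ∃ a : A ⧸ D, a ∉ commutator (A ⧸ D) := SetLike.exists_of_lt
    (Group.IsSolvable.commutator_lt_top_of_nontrivial (G := A ⧸ D)) |>.imp fun a h => h.2
  haveI : NeZero (Monoid.exponent (Abelianization (A ⧸ D)) : ℂ) :=
    ⟨Nat.cast_ne_zero.2 Monoid.exponent_ne_zero_of_finite⟩
  obtain ⟨φ, hφ⟩ := CommGroup.exists_apply_ne_one_of_hasEnoughRootsOfUnity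
    (Abelianization (A ⧸ D)) ℂ (a := Abelianization.of a) (fun e => ha (by
      rwa [← Abelianization.ker_of]))
  obtain ⟨a₀, rfl⟩ := QuotientGroup.mk'_surjective D a
  exact ⟨(φ.comp Abelianization.of).comp (QuotientGroup.mk' D), fun d hd => by
    simp [(QuotientGroup.eq_one_iff d).2 hd], a₀, by simpa using hφ⟩

variable {G : Type*} [Group G] [Finite G]

/-- A 2-element of `C` is conjugate in `C` into a Sylow 2-subgroup of `G` inside `C`. -/
theorem exists_conj_mem_sylow {C : Subgroup G} (T : Sylow 2 G) (hT : (T : Subgroup G) ≤ C)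
    {w : G} (hw : w ∈ C) (hw2 : ∃ k : ℕ, orderOf w = 2 ^ k) :
    ∃ c ∈ C, c * w * c⁻¹ ∈ (T : Subgroup G) := by
  haveI : Fact (Nat.Prime 2) := ⟨Nat.prime_two⟩
  obtain ⟨k, hk⟩ := hw2
  have hp : IsPGroup 2 (zpowers (⟨w, hw⟩ : C)) := IsPGroup.of_card (n := k) (by
    rw [Nat.card_zpowers, orderOf_mk, hk])
  obtain ⟨P, hP⟩ := hp.exists_le_sylow
  obtain ⟨c, hc⟩ := MulAction.exists_smul_eq C P (T.subtype hT)
  refine ⟨c, c.2, ?_⟩
  have h1 : MulAut.conj c (⟨w, hw⟩ : C) ∈ (c • P : Sylow 2 C) := by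
    rw [← SetLike.mem_coe, Sylow.coe_smul]
    exact ⟨_, hP (mem_zpowers _), rfl⟩
  rw [hc] at h1
  exact h1

/-- `C(z)` is solvable when its elements of odd order lie in a normal odd subgroup. -/
theorem isSolvable_centralizer_of_frame {z : G} {U : Subgroup G} (hF : Tw.Frame z U) :
    Group.IsSolvable (centralizer ({z} : Set G)) := by
  haveI : Fact (Nat.Prime 2) := ⟨Nat.prime_two⟩
  set C := centralizer ({z} : Set G)
  haveI : (U.subgroupOf C).Normal := ⟨fun x hx g => mem_subgroupOf.2 (by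
    push_cast
    exact hF.conj_mem g g.2 x (mem_subgroupOf.1 hx))⟩
  haveI : Group.IsSolvable (U.subgroupOf C) := by
    refine Cfsg.Agent.S0205.result ?_
    rw [Nat.card_congr (subgroupOfEquivOfLe hF.le).toEquiv]
    exact hF.odd
  have hp : IsPGroup 2 (C ⧸ U.subgroupOf C) := by
    intro q
    obtain ⟨c, rfl⟩ := QuotientGroup.mk'_surjective _ q
    obtain ⟨k, m, hm, hk⟩ := Nat.exists_eq_two_pow_mul_odd (orderOf_pos c).ne'
    refine ⟨k, ?_⟩
    rw [← map_pow, QuotientGroup.mk'_apply, QuotientGroup.eq_one_iff, mem_subgroupOf]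
    refine hF.mem _ (c ^ 2 ^ k).2 ?_
    rw [orderOf_coe, orderOf_pow, hk, Nat.gcd_eq_right (dvd_mul_right _ _),
      Nat.mul_div_cancel_left _ (Nat.two_pow_pos k)]
    exact hm
  haveI := hp.isNilpotent
  exact solvable_of_ker_le_range (U.subgroupOf C).subtype (QuotientGroup.mk' (U.subgroupOf C))
    (by rw [QuotientGroup.ker_mk', range_subtype])

/-- The linear twist from a moved subgroup inverted by `b`. -/
theorem exists_twist {z b : G} {U Y : Subgroup G} (hF : Tw.Frame z U)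
    (T : Sylow 2 G) (hT : (T : Subgroup G) ≤ centralizer ({z} : Set G))
    (hTY : ∀ t ∈ (T : Subgroup G),
      (∀ y ∈ Y, t * y * t⁻¹ = y) ∨ ∀ y ∈ Y, (b * t) * y * (b * t)⁻¹ = y)
    (hYC : centralizer ({z} : Set G) ≤ normalizer (Y : Set G))
    (hYodd : Odd (Nat.card Y)) (hbY : ∀ y ∈ Y, b * y * b⁻¹ = y⁻¹)
    {u : G} (hu : u ∈ U) (hmove : ¬ ∀ y ∈ Y, u * y * u⁻¹ = y) :
    ∃ L : Tw.Lin z, (∀ c : centralizer ({z} : Set G), c * c = 1 → L c = 1) ∧
      ∃ v ∈ U, Tw.lv L v ≠ 1 := by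
  classical
  haveI : Fact (Nat.Prime 2) := ⟨Nat.prime_two⟩
  set C := centralizer ({z} : Set G) with hC
  let Fix (c : G) : Prop := ∀ y ∈ Y, c * y * c⁻¹ = y
  let Inv (c : G) : Prop := ∀ y ∈ Y, c * y * c⁻¹ = y⁻¹
  have cF : ∀ {a c : G}, Fix a → Fix c → Fix (a * c) := fun {a c} ha hc y hy => by
    rw [show a * c * y * (a * c)⁻¹ = a * (c * y * c⁻¹) * a⁻¹ by group, hc y hy, ha y hy]
  have cFI : ∀ {a c : G}, Fix a → Inv c → Inv (a * c) := fun {a c} ha hc y hy => by
    rw [show a * c * y * (a * c)⁻¹ = a * (c * y * c⁻¹) * a⁻¹ by group, hc y hy,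
      ha _ (inv_mem hy)]
  have cIF : ∀ {a c : G}, Inv a → Fix c → Inv (a * c) := fun {a c} ha hc y hy => by
    rw [show a * c * y * (a * c)⁻¹ = a * (c * y * c⁻¹) * a⁻¹ by group, hc y hy, ha y hy]
  have cII : ∀ {a c : G}, Inv a → Inv c → Fix (a * c) := fun {a c} ha hc y hy => by
    rw [show a * c * y * (a * c)⁻¹ = a * (c * y * c⁻¹) * a⁻¹ by group, hc y hy,
      ha _ (inv_mem hy), inv_inv]
  have cconj : ∀ g ∈ C, ∀ a, (Fix a → Fix (g * a * g⁻¹)) ∧ (Inv a → Inv (g * a * g⁻¹)) := by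
    intro g hg a
    have hy' : ∀ y ∈ Y, g⁻¹ * y * g ∈ Y := fun y hy => by
      simpa using (mem_normalizer_iff.1 (hYC (inv_mem hg)) y).1 hy
    constructor <;> intro ha y hy <;>
      rw [show g * a * g⁻¹ * y * (g * a * g⁻¹)⁻¹ = g * (a * (g⁻¹ * y * g) * a⁻¹) * g⁻¹ by group,
        ha _ (hy' y hy)] <;> group
  let D : Subgroup C :=
    { carrier := {c | Fix (c : G) ∨ Inv (c : G)}
      one_mem' := Or.inl fun y _ => by simp
      mul_mem' := by
        rintro a c (ha | ha) (hc | hc)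
        exacts [Or.inl (cF ha hc), Or.inr (cFI ha hc), Or.inr (cIF ha hc), Or.inl (cII ha hc)]
      inv_mem' := by
        rintro c (hc | hc)
        · refine Or.inl fun y hy => ?_
          conv_lhs => rw [← hc y hy]
          push_cast; group
        · refine Or.inr fun y hy => ?_
          have h := hc _ (inv_mem hy)
          rw [inv_inv] at h
          conv_lhs => rw [← h]
          push_cast; group }
  haveI : D.Normal := ⟨fun c hc g => hc.imp (cconj g g.2 c).1 (cconj g g.2 c).2⟩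
  have hD2 : ∀ c : C, (∃ k : ℕ, orderOf (c : G) = 2 ^ k) → c ∈ D := by
    intro c hc
    obtain ⟨g, hg, hgT⟩ := exists_conj_mem_sylow T hT c.2 hc
    have h : Fix (g * c * g⁻¹) ∨ Inv (g * c * g⁻¹) := by
      rcases hTY _ hgT with h | h
      · exact Or.inl h
      · refine Or.inr fun y hy => ?_
        have h1 := h y hy
        have h2 := hbY y hy
        calc g * c * g⁻¹ * y * (g * c * g⁻¹)⁻¹ =
            b⁻¹ * ((b * (g * c * g⁻¹)) * y * (b * (g * c * g⁻¹))⁻¹) * b := by group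
          _ = b⁻¹ * y * b := by rw [h1]
          _ = b⁻¹ * (y⁻¹)⁻¹ * b := by rw [inv_inv]
          _ = b⁻¹ * (b * y * b⁻¹)⁻¹ * b := by rw [h2]
          _ = y⁻¹ := by group
    have e : (c : G) = g⁻¹ * (g * c * g⁻¹) * (g⁻¹)⁻¹ := by group
    rcases h with h | h
    · exact Or.inl (e ▸ (cconj g⁻¹ (inv_mem hg) _).1 h)
    · exact Or.inr (e ▸ (cconj g⁻¹ (inv_mem hg) _).2 h)
  have hDne : D ≠ ⊤ := by
    intro e
    rcases (e ▸ mem_top _ : (⟨u, hF.le hu⟩ : C) ∈ D) with h | h
    · exact hmove h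
    · -- an element of odd order cannot invert
      refine hmove fun y hy => ?_
      obtain ⟨j, hj⟩ := hF.odd
      have hun : u ^ (2 * j + 1) = 1 := by
        rw [← hj, ← orderOf_dvd_iff_pow_eq_one]
        exact U.orderOf_dvd_natCard hu
      have heven : ∀ i : ℕ, Fix (u ^ (2 * i)) := fun i => by
        induction i with
        | zero => intro w _; simp
        | succ i ih =>
          rw [show u ^ (2 * (i + 1)) = u ^ (2 * i) * (u * u) by rw [← pow_two, ← pow_add]; ring_nf]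
          exact cF ih (cII h h)
      have h1 : Inv (u ^ (2 * j + 1)) := by
        rw [pow_succ]; exact cFI (heven j) h
      have h2 := h1 y hy
      rw [hun, one_mul, inv_one, mul_one] at h2
      obtain ⟨i, hi⟩ := hYodd
      have hy2 : y * y = 1 := by
        conv_lhs => arg 2; rw [h2]
        rw [mul_inv_cancel]
      have hy1 : y = 1 := by
        have h3 : y ^ (2 * i + 1) = 1 := by
          rw [← hi, ← orderOf_dvd_iff_pow_eq_one]
          exact Y.orderOf_dvd_natCard hy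
        rwa [pow_succ, pow_mul, pow_two, hy2, one_pow, one_mul] at h3
      simp [hy1]
  haveI := isSolvable_centralizer_of_frame hF
  obtain ⟨L, hLD, a, ha⟩ := exists_lin_killing D hDne
  refine ⟨L, fun c hc => hLD c (hD2 c ?_), ?_⟩
  · have hd : orderOf (c : G) ∣ 2 ^ 1 := orderOf_dvd_of_pow_eq_one (by
      rw [pow_one, pow_two]; exact congrArg Subtype.val hc)
    obtain ⟨k, -, hk⟩ := (Nat.dvd_prime_pow Nat.prime_two).1 hd
    exact ⟨k, hk⟩
  -- some element of `U` is not killed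
  by_contra hcon
  push Not at hcon
  refine ha ?_
  obtain ⟨k, m, hm, hk⟩ := Nat.exists_eq_two_pow_mul_odd (orderOf_pos a).ne'
  have h1 : L a ^ 2 ^ k = 1 := by
    have hmU : ((a ^ 2 ^ k : C) : G) ∈ U := hF.mem _ (a ^ 2 ^ k).2 (by
      rw [orderOf_coe, orderOf_pow, hk, Nat.gcd_eq_right (dvd_mul_right _ _),
        Nat.mul_div_cancel_left _ (Nat.two_pow_pos k)]
      exact hm)
    have h := hcon _ hmU
    rw [Tw.lv_of_mem L (a ^ 2 ^ k).2] at h
    rw [← map_pow]
    exact Units.ext h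
  have h2 : L a ^ m = 1 := by
    rw [← map_pow]
    refine hLD _ (hD2 _ ⟨k, ?_⟩)
    rw [orderOf_coe, orderOf_pow, hk, Nat.gcd_eq_right (dvd_mul_left _ _),
      Nat.mul_div_cancel _ hm.pos]
  have h3 : orderOf (L a) ∣ Nat.gcd m (2 ^ k) :=
    Nat.dvd_gcd (orderOf_dvd_of_pow_eq_one h2) (orderOf_dvd_of_pow_eq_one h1)
  rw [((Nat.coprime_two_right.2 hm).pow_right k).gcd_eq_one, Nat.dvd_one, orderOf_eq_one_iff] at h3
  exact h3

end CfsgLib.GW
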