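import Cfsg.Agent.GW.Inner
import Cfsg.Agent.GW.PSLCentral
import Cfsg.Agent.GW.PSLKlein
import Cfsg.Agent.GW.CountComponent
import Cfsg.Agent.GW.TwistExists
import Cfsg.Agent.GW.ScalarMoving
import Mathlib.GroupTheory.SpecificGroups.ZGroup

/-!
# Gorenstein–Walter 4.1: first consequences of an inner component

With `A = fit z ⊓ O`: `A` is cyclic, `fit z ⊓ N` is `A` times a part of the torus of `C_K(z)`, hence
commutative of rank at most two, the rotations centralise the core and every fixed part has order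
`|N : K|`.
-/

set_option autoImplicit false
set_option linter.style.haveILetI false
set_option linter.unusedSectionVars false

open Subgroup
open scoped Pointwise

namespace CfsgLib.GW

universe u

variable {G : Type u} [Group G] [Finite G] {z : G} {N O K : Subgroup G} {F : Type} [Field F]
  [Fintype F] {S : Sylow 2 G} {σ τ : G} {k : ℕ}

theorem commute_of_isCyclic {X : Subgroup G} [IsCyclic X] (x : G) (hx : x ∈ X) (y : G) (hy : y ∈ X) :
    x * y = y * x := by
  obtain ⟨⟨g, hg⟩, hgen⟩ := IsCyclic.exists_generator (α := X)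
  obtain ⟨i, hi⟩ := mem_zpowers_iff.1 (hgen ⟨x, hx⟩)
  obtain ⟨j, hj⟩ := mem_zpowers_iff.1 (hgen ⟨y, hy⟩)
  have e1 : g ^ i = x := congrArg Subtype.val hi
  have e2 : g ^ j = y := congrArg Subtype.val hj
  rw [← e1, ← e2, ← zpow_add, ← zpow_add, add_comm]

namespace Inner

variable (h : Inner z N O K F S σ τ k)
include h

theorem S_le : (S : Subgroup G) ≤ centralizer ({z} : Set G) := fun s hs =>
  mem_centralizer_singleton_iff.2 (h.hS s hs)

theorem mem_K {w : G} (hw : w ∈ N) (hw2 : orderOf w = 2) : w ∈ K :=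
  involution_mem_component h.hON h.hKN h.hOn h.hKn h.hOodd h.hcomm h.hidx hw hw2

theorem orderOf_z : orderOf z = 2 ↔ z ≠ 1 ∧ z * z = 1 :=
  ⟨fun e => ⟨Small.ne_one_of_orderOf_two e, Small.mul_self_of_orderOf_two e⟩,
    fun e => orderOf_eq_prime (by rw [pow_two]; exact e.2) e.1⟩

theorem tau_ne : τ ≠ z := fun e => h.hnot (e ▸ h.hzσ)

theorem tau_comm : z * τ = τ * z := (h.hS τ h.hτS).symm

theorem tau_mem : τ ∈ K := h.mem_K (h.hSN h.hτS) h.hτ

theorem sigma_mem : σ ∈ K := by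
  have hne : τ * σ ≠ 1 := fun e => h.hnot (by
    rw [eq_inv_of_mul_eq_one_left e]; exact inv_mem (mem_zpowers σ))
  have hsq : (τ * σ) * (τ * σ) = 1 := by
    calc (τ * σ) * (τ * σ) = (τ * σ * τ⁻¹) * (τ * τ * σ) := by group
      _ = 1 := by rw [h.hrel, Small.mul_self_of_orderOf_two h.hτ, one_mul, inv_mul_cancel]
  have h1 := h.mem_K (h.hSN (mul_mem h.hτS h.hσS))
    (orderOf_eq_prime (by rw [pow_two]; exact hsq) hne)
  have h2 := mul_mem (inv_mem h.tau_mem) h1
  rwa [inv_mul_cancel_left] at h2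

/-- `S = ⟨σ⟩ ∪ τ⟨σ⟩`. -/
theorem elems {t : G} (ht : t ∈ (S : Subgroup G)) : t ∈ zpowers σ ∨ τ * t ∈ zpowers σ := by
  set H := (zpowers σ).subgroupOf (S : Subgroup G)
  have hi : H.index = 2 := by
    have h' := H.card_mul_index
    rw [Nat.card_congr (subgroupOfEquivOfLe (zpowers_le.2 h.hσS)).toEquiv, Nat.card_zpowers, h.hσ,
      h.hcard, mul_comm 2] at h'
    exact Nat.eq_of_mul_eq_mul_left (Nat.two_pow_pos k) h'
  have hτH : (⟨τ, h.hτS⟩ : (S : Subgroup G)) ∉ H := fun h' => h.hnot (mem_subgroupOf.1 h')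
  by_cases htH : (⟨t, ht⟩ : (S : Subgroup G)) ∈ H
  · exact Or.inl (mem_subgroupOf.1 htH)
  · right
    have := mul_mem_iff_of_index_two hi (a := (⟨τ, h.hτS⟩ : (S : Subgroup G))) (b := ⟨t, ht⟩)
    exact mem_subgroupOf.1 (this.2 (iff_of_false hτH htH))

theorem sylow_le_K : (S : Subgroup G) ≤ K := fun t ht => by
  have hσ : zpowers σ ≤ K := zpowers_le.2 h.sigma_mem
  rcases h.elems ht with e | e
  · exact hσ e
  · have h2 := mul_mem (inv_mem h.tau_mem) (hσ e)
    rwa [inv_mul_cancel_left] at h2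

theorem eq_half {w : G} (hw : w ∈ zpowers σ) (hw2 : orderOf w = 2) : w = σ ^ 2 ^ (k - 1) := by
  obtain ⟨i, hi⟩ := mem_powers_iff_mem_zpowers.2 hw
  replace hi : σ ^ i = w := hi
  obtain ⟨j, rfl⟩ : ∃ j, k = j + 1 := ⟨k - 1, by have := h.hk; omega⟩
  have h1 : 2 ^ (j + 1) ∣ i * 2 := by
    rw [← h.hσ]
    exact orderOf_dvd_of_pow_eq_one
      (by rw [pow_mul, hi, pow_two, Small.mul_self_of_orderOf_two hw2])
  rw [pow_succ', mul_comm i] at h1
  obtain ⟨m, rfl⟩ := Nat.dvd_of_mul_dvd_mul_left two_pos h1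
  rw [Nat.add_sub_cancel]
  rcases Nat.even_or_odd m with ⟨l, rfl⟩ | ⟨l, rfl⟩
  · refine absurd hi (Ne.symm ?_)
    rw [show 2 ^ j * (l + l) = 2 ^ (j + 1) * l by rw [pow_succ]; ring, pow_mul, ← h.hσ,
      pow_orderOf_eq_one, one_pow]
    exact Small.ne_one_of_orderOf_two hw2
  · rw [show 2 ^ j * (2 * l + 1) = 2 ^ (j + 1) * l + 2 ^ j by rw [pow_succ]; ring, pow_add,
      pow_mul, ← h.hσ, pow_orderOf_eq_one, one_pow, one_mul] at hi
    exact hi.symm

theorem pow_half (hz : orderOf z = 2) : σ ^ 2 ^ (k - 1) = z := (h.eq_half h.hzσ hz).symm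

/-- An element of odd order of `K` commuting with `z` and `τ` is trivial. -/
theorem eq_one_of_commute (hz : orderOf z = 2) {b : G} (hbK : b ∈ K) (hb : orderOf b = 2)
    (hbz : b ≠ z) (hzb : z * b = b * z) {x : G} (hx : x ∈ K) (hxo : Odd (orderOf x))
    (h1 : x * z = z * x) (h2 : x * b = b * x) : x = 1 := by
  obtain ⟨e⟩ := h.iso
  have hne : e ⟨z, h.hzK⟩ ≠ e ⟨b, hbK⟩ := fun h' => hbz (congrArg Subtype.val (e.injective h')).symm
  have hk := eq_one_of_commute_four_psl (a := e ⟨z, h.hzK⟩) (b := e ⟨b, hbK⟩) h.hF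
    (by rw [MulEquiv.orderOf_eq, orderOf_mk, hz]) (by rw [MulEquiv.orderOf_eq, orderOf_mk, hb]) hne
    (by rw [← map_mul, ← map_mul]; exact congrArg e (Subtype.ext hzb))
    (k := e ⟨x, hx⟩) (by rwa [MulEquiv.orderOf_eq, orderOf_mk])
    (by rw [← map_mul, ← map_mul]; exact congrArg e (Subtype.ext h1))
    (by rw [← map_mul, ← map_mul]; exact congrArg e (Subtype.ext h2))
  exact congrArg Subtype.val ((MulEquiv.map_eq_one_iff e).1 hk)

theorem eq_one_of_mem_inf (hz : orderOf z = 2) {x : G} (hxO : x ∈ O) (hxK : x ∈ K) : x = 1 :=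
  h.eq_one_of_commute hz h.tau_mem h.hτ h.tau_ne h.tau_comm hxK
    (h.hOodd.of_dvd_nat (O.orderOf_dvd_natCard hxO)) (h.hcomm x hxO z h.hzK)
    (h.hcomm x hxO τ h.tau_mem)

theorem O_le_core (hG : Minimal G) (hz : orderOf z = 2) : O ≤ core z := fun o ho =>
  hG.mem_core hz (mem_centralizer_singleton_iff.2 (h.hcomm o ho z h.hzK))
    (h.hOodd.of_dvd_nat (O.orderOf_dvd_natCard ho))

/-- The cyclic torus of `C_K(z)`. -/
theorem exists_torus (hz : orderOf z = 2) : ∃ T : Subgroup G, T ≤ K ∧ IsCyclic T ∧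
    (∀ x ∈ K, x * z = z * x → Odd (orderOf x) → x ∈ T) ∧ σ ∈ T ∧
    ∀ x ∈ T, τ * x * τ⁻¹ = x⁻¹ := by
  obtain ⟨e⟩ := h.iso
  set zK : K := ⟨z, h.hzK⟩
  have hzo : orderOf (e zK) = 2 := by rw [MulEquiv.orderOf_eq, orderOf_mk, hz]
  obtain ⟨T, hTc, hzT, hT1, hT2⟩ := exists_torus_psl h.hF hzo
  set f : Matrix.ProjectiveSpecialLinearGroup (Fin 2) F →* G :=
    K.subtype.comp e.symm.toMonoidHom with hf
  haveI := hTc
  haveI : IsCyclic (T.map f) :=
    isCyclic_of_surjective (f.subgroupMap T) (MonoidHom.subgroupMap_surjective f T)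
  have hmemT : ∀ (x : G) (hx : x ∈ K), e ⟨x, hx⟩ ∈ T → x ∈ T.map f := fun x hx hxT =>
    ⟨_, hxT, by simp [hf]⟩
  have hτT : e ⟨τ, h.tau_mem⟩ ∉ T := fun hm => h.tau_ne (by
    haveI : Fintype T := Fintype.ofFinite T
    classical
    by_contra hne
    have h1 := IsCyclic.card_pow_eq_one_le (α := T) (n := 2) two_pos
    have h2 : ({1, ⟨e zK, hzT⟩, ⟨e ⟨τ, h.tau_mem⟩, hm⟩} : Finset T) ⊆
        Finset.univ.filter (fun v : T => v ^ 2 = 1) := by
      intro v hv
      refine Finset.mem_filter.2 ⟨Finset.mem_univ _, Subtype.ext ?_⟩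
      simp only [Finset.mem_insert, Finset.mem_singleton] at hv
      rcases hv with rfl | rfl | rfl
      · simp
      · show e zK ^ 2 = 1
        exact orderOf_dvd_iff_pow_eq_one.1 hzo.dvd
      · show e ⟨τ, h.tau_mem⟩ ^ 2 = 1
        rw [← map_pow, MulEquiv.map_eq_one_iff]
        exact Subtype.ext (by simp [pow_two, Small.mul_self_of_orderOf_two h.hτ])
    have h3 := (Finset.card_le_card h2).trans h1
    have n1 : e zK ≠ 1 := fun e' => by rw [e', orderOf_one] at hzo; omega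
    have n2 : e ⟨τ, h.tau_mem⟩ ≠ 1 := fun e' => Small.ne_one_of_orderOf_two h.hτ
      (congrArg Subtype.val ((MulEquiv.map_eq_one_iff e).1 e'))
    have n3 : e zK ≠ e ⟨τ, h.tau_mem⟩ := fun e' => hne (congrArg Subtype.val (e.injective e')).symm
    rw [Finset.card_insert_of_notMem (by
        simp only [Finset.mem_insert, Finset.mem_singleton, not_or]
        exact ⟨fun e' => n1 (congrArg Subtype.val e').symm,
          fun e' => n2 (congrArg Subtype.val e').symm⟩),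
      Finset.card_pair (fun e' => n3 (congrArg Subtype.val e'))] at h3
    omega)
  refine ⟨T.map f, ?_, inferInstance, fun x hx hxz hxo => ?_, ?_, ?_⟩
  · rintro _ ⟨t, -, rfl⟩
    exact (e.symm t).2
  · refine hmemT x hx ((hT1 (e ⟨x, hx⟩) ?_).resolve_right fun h2 => ?_)
    · rw [← map_mul, ← map_mul]; exact congrArg e (Subtype.ext hxz)
    · rw [MulEquiv.orderOf_eq, orderOf_mk] at h2
      rw [h2] at hxo
      exact absurd hxo (by decide)
  · refine hmemT σ h.sigma_mem ?_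
    have hσz : (⟨σ, h.sigma_mem⟩ : K) * zK = zK * ⟨σ, h.sigma_mem⟩ := Subtype.ext (h.hS σ h.hσS)
    rcases hT1 (e ⟨σ, h.sigma_mem⟩) (by rw [← map_mul, ← map_mul, hσz]) with h1 | h1
    · exact h1
    · rw [MulEquiv.orderOf_eq, orderOf_mk, h.hσ] at h1
      have hk1 : k = 1 := Nat.pow_right_injective le_rfl (h1.trans (pow_one 2).symm)
      have e2 := h.pow_half hz
      rw [hk1, Nat.sub_self, pow_zero, pow_one] at e2
      exact (show (⟨σ, h.sigma_mem⟩ : K) = zK from Subtype.ext e2) ▸ hzT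
  · rintro _ ⟨t, ht, rfl⟩
    have hc : e ⟨τ, h.tau_mem⟩ * e zK = e zK * e ⟨τ, h.tau_mem⟩ := by
      rw [← map_mul, ← map_mul]; exact congrArg e (Subtype.ext h.tau_comm.symm)
    have := congrArg f (hT2 _ hc hτT t ht)
    simpa [hf] using this

/-- An element of `fit z ⊓ N` is a fixed element times a torus element inside `fit z`. -/
theorem fit_parts (hz : orderOf z = 2) {w : G} (hw : w ∈ fit z) (hwN : w ∈ N) :
    ∃ o ∈ fit z ⊓ O, ∃ x ∈ K, x ∈ fit z ∧ x * z = z * x ∧ Odd (orderOf x) ∧ w = o * x := by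
  obtain ⟨o, ho, x, hx, rfl⟩ : ∃ o ∈ O, ∃ x ∈ K, o * x = w := by
    have h' := coe_mul_of_left_le_normalizer_right O K (h.hON.trans h.hKn)
    have hm : w ∈ ((O ⊔ K : Subgroup G) : Set G) := h.hfitN ⟨hw, hwN⟩
    rw [h'] at hm
    obtain ⟨o, ho, x, hx, e⟩ := Set.mem_mul.1 hm
    exact ⟨o, ho, x, hx, e⟩
  have hox : Commute o x := h.hcomm o ho x hx
  have hxz : x * z = z * x := by
    have h1 := commute_of_mem_core (fit_le_core z hw)
    refine mul_left_cancel (a := o) ?_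
    rw [← mul_assoc, h1, ← mul_assoc o, h.hcomm o ho z h.hzK, mul_assoc]
  have hxo : Odd (orderOf x) := by
    have h1 := pow_orderOf_eq_one (o * x)
    rw [hox.mul_pow] at h1
    have h2 : x ^ orderOf (o * x) = 1 := by
      refine h.eq_one_of_mem_inf hz ?_ (pow_mem hx _)
      rw [eq_inv_of_mul_eq_one_right h1]
      exact inv_mem (pow_mem ho _)
    exact (odd_orderOf_core (fit_le_core z hw)).of_dvd_nat (orderOf_dvd_of_pow_eq_one h2)
  have hxF : x ∈ fit z := by
    obtain ⟨T, -, -, hT1, -, hT2⟩ := h.exists_torus hz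
    have hinv := hT2 x (hT1 x hx hxz hxo)
    have hτw : τ * (o * x) * τ⁻¹ = o * x⁻¹ := by
      rw [show τ * (o * x) * τ⁻¹ = (τ * o * τ⁻¹) * (τ * x * τ⁻¹) by group, hinv,
        ← h.hcomm o ho τ h.tau_mem, mul_inv_cancel_right]
    have hmem : o * x⁻¹ ∈ fit z := hτw ▸ (mem_normalizer_iff.1
      (centralizer_le_normalizer_fit z (h.S_le h.hτS)) _).1 hw
    have hx2 : x ^ 2 ∈ fit z := by
      have h3 := mul_mem (inv_mem hmem) hw
      rwa [mul_inv_rev, inv_inv, mul_assoc, inv_mul_cancel_left, ← pow_two] at h3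
    obtain ⟨j, hj⟩ := hxo
    have : x = (x ^ 2) ^ (j + 1) := by
      rw [← pow_mul, show 2 * (j + 1) = orderOf x + 1 by omega, pow_succ, pow_orderOf_eq_one, one_mul]
    rw [this]
    exact pow_mem hx2 _
  refine ⟨o, ⟨?_, ho⟩, x, hx, hxF, hxz, hxo, rfl⟩
  have := mul_mem hw (inv_mem hxF)
  rwa [mul_inv_cancel_right] at this

/-- A fixed element is moved into the fixed part only inside `N`. -/
theorem mem_N_of_conj {c x : G} (hc : c ∈ centralizer ({z} : Set G)) (hx : x ∈ fit z ⊓ O)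
    (hx1 : x ≠ 1) (hcx : c * x * c⁻¹ ∈ fit z ⊓ O) : c ∈ N := by
  have hfc : ∀ d ∈ centralizer ({z} : Set G), ∀ v ∈ fit z, d * v * d⁻¹ ∈ fit z := fun d hd v hv =>
    (mem_normalizer_iff.1 (centralizer_le_normalizer_fit z hd) v).1 hv
  -- an element of `O` centralises `K`, so both conjugates of `K` lie in `N`
  have hKc : ∀ d ∈ centralizer ({z} : Set G), ∀ y : G, y ∈ fit z ⊓ O → y ≠ 1 →
      d * y * d⁻¹ ∈ fit z ⊓ O → ∀ w ∈ K, orderOf w = 2 → d⁻¹ * w * d ∈ K := by
    intro d _ y hy hy1 hdy w hw hw2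
    refine h.mem_K ?_ ?_
    · refine h.hAX (zpowers y) (by simpa [zpowers_eq_bot] using hy1) (zpowers_le.2 hy)
        (centralizer_le_normalizer _ (mem_centralizer_iff.2 ?_))
      rintro _ ⟨i, rfl⟩
      have h1 : Commute y (d⁻¹ * w * d) := by
        show y * (d⁻¹ * w * d) = d⁻¹ * w * d * y
        calc y * (d⁻¹ * w * d) = d⁻¹ * (d * y * d⁻¹ * w) * d := by group
          _ = d⁻¹ * (w * (d * y * d⁻¹)) * d := by rw [h.hcomm _ hdy.2 w hw]
          _ = d⁻¹ * w * d * y := by group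
      exact (h1.zpow_left i).eq
    · rw [show d⁻¹ * w * d = d⁻¹ * w * d⁻¹⁻¹ by group, Small.orderOf_conj_eq, hw2]
  -- the fixed part inside `fit z` of `τ` and its conjugates is `A`
  have hA : ∀ d ∈ centralizer ({z} : Set G), d⁻¹ * τ * d ∈ K → ∀ a ∈ fit z ⊓ O,
      d * a * d⁻¹ ∈ fit z ⊓ O := by
    intro d hd hdτ a ha
    have hm := hfc d hd a ha.1
    refine ⟨hm, h.hfit ⟨hm, mem_centralizer_singleton_iff.2 ?_⟩⟩
    calc d * a * d⁻¹ * τ = d * (a * (d⁻¹ * τ * d)) * d⁻¹ := by group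
      _ = d * (d⁻¹ * τ * d * a) * d⁻¹ := by rw [h.hcomm a ha.2 _ hdτ]
      _ = τ * (d * a * d⁻¹) := by group
  have h1 := hKc c hc x hx hx1 hcx τ h.tau_mem h.hτ
  have h2 := hKc c⁻¹ (inv_mem hc) (c * x * c⁻¹) hcx
    (fun e => hx1 (conj_eq_one_iff.1 e)) (by
      rw [show c⁻¹ * (c * x * c⁻¹) * c⁻¹⁻¹ = x by group]; exact hx) τ h.tau_mem h.hτ
  refine h.hAX (fit z ⊓ O) h.hA le_rfl (mem_normalizer_iff.2 fun a => ⟨hA c hc h1 a, fun ha => ?_⟩)
  have := hA c⁻¹ (inv_mem hc) h2 _ ha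
  simpa [mul_assoc] using this

/-- A primary part of `A` is cyclic. -/
theorem isCyclic_qcore_inf (hz : orderOf z = 2) {r : ℕ} (hr : r.Prime) :
    IsCyclic (qcore r z ⊓ O : Subgroup G) := by
  haveI := Fact.mk hr
  set R := qcore r z
  set M := R ⊓ N
  rcases eq_or_ne (R ⊓ O) ⊥ with e | hne
  · rw [e]; infer_instance
  obtain ⟨c, hc, hcN, hcM⟩ : ∃ c ∈ centralizer ({z} : Set G), c ∉ N ∧
      ∀ x ∈ R ⊓ O, c * x * c⁻¹ ∈ M := by
    by_cases hRN : R ≤ N
    · obtain ⟨c, hc, hcN⟩ := SetLike.not_le_iff_exists.1 h.hCN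
      exact ⟨c, hc, hcN, fun x hx => ⟨qcore_conj hc hx.1, hRN (qcore_conj hc hx.1)⟩⟩
    · obtain ⟨c, hcR, hcn, hcM⟩ : ∃ c ∈ R, c ∈ normalizer (M : Set G) ∧ c ∉ M := by
        have hlt : M.subgroupOf R < ⊤ := lt_top_iff_ne_top.2 fun e =>
          hRN fun x hx => ((subgroupOf_eq_top.1 e) hx).2
        haveI := (qcore_isPGroup (q := r) z).isNilpotent
        obtain ⟨⟨c, hcR⟩, hcn, hcM⟩ :=
          SetLike.exists_of_lt (Group.normalizerCondition_of_isNilpotent _ hlt)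
        refine ⟨c, hcR, mem_normalizer_iff.2 fun x => ?_, fun h' => hcM (mem_subgroupOf.2 h')⟩
        constructor
        · intro hx
          exact mem_subgroupOf.1
            ((mem_normalizer_iff.1 hcn (⟨x, hx.1⟩ : R)).1 (mem_subgroupOf.2 hx))
        · intro hx
          have hxR : x ∈ R := by
            have := mul_mem (mul_mem (inv_mem hcR) hx.1) hcR
            rwa [show c⁻¹ * (c * x * c⁻¹) * c = x by group] at this
          exact mem_subgroupOf.1
            ((mem_normalizer_iff.1 hcn (⟨x, hxR⟩ : R)).2 (mem_subgroupOf.2 hx))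
      exact ⟨c, core_le z (qcore_le_core r z hcR), fun hcN => hcM ⟨hcR, hcN⟩,
        fun x hx => (mem_normalizer_iff.1 hcn x).1 ⟨hx.1, h.hON hx.2⟩⟩
  obtain ⟨T, hTK, hTc, hT1, -, -⟩ := h.exists_torus hz
  have hdec : ∀ x : (R ⊓ O : Subgroup G), ∃ o ∈ O, ∃ t ∈ T, c * (x : G) * c⁻¹ = o * t := fun x => by
    obtain ⟨o, ho, t, htK, -, htz, hto, e⟩ :=
      h.fit_parts hz (qcore_le_fit hr z (hcM x x.2).1) (hcM x x.2).2
    exact ⟨o, ho.2, t, hT1 t htK htz hto, e⟩
  choose o ho t ht e using hdec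
  have huniq : ∀ {o₁ o₂ t₁ t₂ : G}, o₁ ∈ O → o₂ ∈ O → t₁ ∈ K → t₂ ∈ K →
      o₁ * t₁ = o₂ * t₂ → t₁ = t₂ := by
    intro o₁ o₂ t₁ t₂ h1 h2 h3 h4 he
    have h5 : o₂⁻¹ * o₁ = t₂ * t₁⁻¹ := by
      rw [eq_mul_inv_iff_mul_eq, mul_assoc, he, inv_mul_cancel_left]
    have h6 := h.eq_one_of_mem_inf hz (mul_mem (inv_mem h2) h1) (h5 ▸ mul_mem h4 (inv_mem h3))
    exact (mul_inv_eq_one.1 (h5.symm.trans h6)).symm
  let f : (R ⊓ O : Subgroup G) →* T := MonoidHom.mk' (fun x => ⟨t x, ht x⟩) fun x y => Subtype.ext (by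
    show t (x * y) = t x * t y
    refine huniq (ho (x * y)) (mul_mem (ho x) (ho y)) (hTK (ht (x * y)))
      (mul_mem (hTK (ht x)) (hTK (ht y))) ?_
    rw [← e, show o x * o y * (t x * t y) = o x * (o y * t x) * t y by group,
      h.hcomm _ (ho y) _ (hTK (ht x)),
      show o x * (t x * o y) * t y = (o x * t x) * (o y * t y) by group, ← e, ← e, coe_mul]
    group)
  refine isCyclic_of_injective f ((injective_iff_map_eq_one f).2 fun x hx => Subtype.ext ?_)
  by_contra hx1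
  have hx' : t x = 1 := congrArg Subtype.val hx
  have e' := e x
  rw [hx', mul_one] at e'
  exact hcN (h.mem_N_of_conj hc ⟨qcore_le_fit hr z x.2.1, x.2.2⟩ hx1
    ⟨qcore_le_fit hr z (hcM x x.2).1, by rw [e']; exact ho x⟩)

/-- `A = fit z ⊓ O` is cyclic. -/
theorem isCyclic_A (hz : orderOf z = 2) : IsCyclic (fit z ⊓ O : Subgroup G) := by
  haveI : Group.IsNilpotent (fit z) := OddOrder.isNilpotent_fittingOf (core z)
  haveI : Group.IsNilpotent (fit z ⊓ O : Subgroup G) :=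
    Group.isNilpotent_congr (subgroupOfEquivOfLe (inf_le_left : fit z ⊓ O ≤ fit z)) |>.1 inferInstance
  haveI : IsZGroup (fit z ⊓ O : Subgroup G) := ⟨fun p hp P => by
    haveI := Fact.mk hp
    have hle : (P : Subgroup _).map (fit z ⊓ O).subtype ≤ qcore p z ⊓ O :=
      le_inf (le_qcore hp ((map_subtype_le _).trans inf_le_left) (P.isPGroup'.map _))
        ((map_subtype_le _).trans inf_le_right)
    haveI := h.isCyclic_qcore_inf hz hp
    haveI : IsCyclic ((P : Subgroup _).map (fit z ⊓ O).subtype) := isCyclic_of_le hle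
    exact isCyclic_of_surjective _
      ((P : Subgroup _).equivMapOfInjective _ (fit z ⊓ O).subtype_injective).symm.surjective⟩
  infer_instance

/-- `fit z ⊓ N` is commutative. -/
theorem fit_comm (hz : orderOf z = 2) : ∀ v ∈ fit z ⊓ N, ∀ w ∈ fit z ⊓ N, v * w = w * v := by
  intro v hv w hw
  obtain ⟨o₁, ho₁, t₁, ht₁, -, h1z, h1o, rfl⟩ := h.fit_parts hz hv.1 hv.2
  obtain ⟨o₂, ho₂, t₂, ht₂, -, h2z, h2o, rfl⟩ := h.fit_parts hz hw.1 hw.2
  obtain ⟨T, -, hTc, hT1, -, -⟩ := h.exists_torus hz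
  haveI := hTc
  haveI := h.isCyclic_A hz
  have e1 : Commute o₁ o₂ := commute_of_isCyclic o₁ ho₁ o₂ ho₂
  have e2 : Commute t₁ t₂ :=
    commute_of_isCyclic t₁ (hT1 t₁ ht₁ h1z h1o) t₂ (hT1 t₂ ht₂ h2z h2o)
  have e3 : Commute o₁ t₂ := h.hcomm o₁ ho₁.2 t₂ ht₂
  have e4 : Commute o₂ t₁ := h.hcomm o₂ ho₂.2 t₁ ht₁
  exact ((e1.mul_right e3).mul_left (e4.symm.mul_right e2)).eq

/-- `fit z ⊓ N` has rank at most two. -/
theorem omega_le (hz : orderOf z = 2) {r : ℕ} (hr : r.Prime) :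
    Nat.card {x : G // x ∈ fit z ⊓ N ∧ x ^ r = 1} ≤ r ^ 2 := by
  classical
  obtain ⟨T, hTK, hTc, hT1, -, -⟩ := h.exists_torus hz
  haveI := hTc
  haveI := h.isCyclic_A hz
  haveI : Fintype T := Fintype.ofFinite T
  haveI : Fintype (fit z ⊓ O : Subgroup G) := Fintype.ofFinite _
  have hA : Nat.card {a : (fit z ⊓ O : Subgroup G) // a ^ r = 1} ≤ r := by
    rw [Nat.card_eq_fintype_card, Fintype.card_subtype]; exact IsCyclic.card_pow_eq_one_le hr.pos
  have hT : Nat.card {a : T // a ^ r = 1} ≤ r := by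
    rw [Nat.card_eq_fintype_card, Fintype.card_subtype]; exact IsCyclic.card_pow_eq_one_le hr.pos
  let g : {a : (fit z ⊓ O : Subgroup G) // a ^ r = 1} × {a : T // a ^ r = 1} → G :=
    fun p => (p.1.1 : G) * (p.2.1 : G)
  have hsub : {x : G | x ∈ fit z ⊓ N ∧ x ^ r = 1} ⊆ Set.range g := by
    rintro x ⟨hx, hxr⟩
    obtain ⟨o, ho, t, htK, -, htz, hto, rfl⟩ := h.fit_parts hz hx.1 hx.2
    have hc : Commute o t := h.hcomm o ho.2 t htK
    rw [hc.mul_pow] at hxr
    have ht1 : t ^ r = 1 := h.eq_one_of_mem_inf hz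
      (by rw [eq_inv_of_mul_eq_one_right hxr]; exact inv_mem (pow_mem ho.2 r)) (pow_mem htK r)
    rw [ht1, mul_one] at hxr
    exact ⟨(⟨⟨o, ho⟩, Subtype.ext hxr⟩, ⟨⟨t, hT1 t htK htz hto⟩, Subtype.ext ht1⟩), rfl⟩
  calc Nat.card {x : G // x ∈ fit z ⊓ N ∧ x ^ r = 1}
      ≤ Nat.card (Set.range g) := Nat.card_mono (Set.toFinite _) hsub
    _ ≤ _ := Finite.card_range_le g
    _ ≤ r ^ 2 := by rw [Nat.card_prod, pow_two]; exact Nat.mul_le_mul hA hT

theorem tau_le_normalizer {Q : Subgroup G} (hQ : centralizer ({z} : Set G) ≤ normalizer (Q : Set G)) :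
    τ ∈ normalizer (Q : Set G) := hQ (h.S_le h.hτS)

/-- A primary part prime to `A` lies in `K`, inverted by `τ`. -/
theorem qcore_le_K (hz : orderOf z = 2) {r : ℕ} (hr : r.Prime)
    (hrA : qcore r z ⊓ O = ⊥) :
    qcore r z ≤ N ∧ qcore r z ≤ K ∧ ∀ x ∈ qcore r z, τ * x * τ⁻¹ = x⁻¹ := by
  haveI := Fact.mk hr
  haveI : Group.IsNilpotent (fit z) := OddOrder.isNilpotent_fittingOf (core z)
  have hN : qcore r z ≤ N := by
    intro x hx
    refine h.hAX _ h.hA le_rfl (centralizer_le_normalizer _ (mem_centralizer_iff.2 ?_))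
    intro a ha
    refine (mem_centralizer_singleton_iff.1 ((le_of_primary (z := z) (Y := fit z ⊓ O)
      (H := centralizer ({x} : Set G)) inf_le_left fun q hq y hy => ?_) ha))
    rcases eq_or_ne q r with rfl | hne
    · have : y ∈ qcore q z ⊓ O := ⟨hy.2, hy.1.2⟩
      rw [hrA, mem_bot] at this
      rw [this]; exact one_mem _
    · exact mem_centralizer_singleton_iff.2
        (mem_centralizer_iff.1 (qcore_commute hq hr hne z hy.2) x hx).symm
  obtain ⟨T, -, -, hT1, -, hT2⟩ := h.exists_torus hz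
  have key : ∀ x ∈ qcore r z, x ∈ K ∧ τ * x * τ⁻¹ = x⁻¹ := by
    intro x hx
    obtain ⟨o, ho, t, htK, -, htz, hto, rfl⟩ := h.fit_parts hz (qcore_le_fit hr z hx) (hN hx)
    obtain ⟨i, hi⟩ := IsPGroup.iff_orderOf.1 (qcore_isPGroup (q := r) z) ⟨_, hx⟩
    rw [orderOf_mk] at hi
    have h1 := pow_orderOf_eq_one (o * t)
    rw [(show Commute o t from h.hcomm o ho.2 t htK).mul_pow, hi] at h1
    have h2 : t ^ r ^ i = 1 := h.eq_one_of_mem_inf hz
      (by rw [eq_inv_of_mul_eq_one_right h1]; exact inv_mem (pow_mem ho.2 _)) (pow_mem htK _)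
    rw [h2, mul_one] at h1
    have hoq : o ∈ qcore r z := le_qcore hr (zpowers_le.2 ho.1) (by
      obtain ⟨j, -, hj⟩ := (Nat.dvd_prime_pow hr).1 (orderOf_dvd_of_pow_eq_one h1)
      exact IsPGroup.of_card (n := j) (by rw [Nat.card_zpowers, hj])) (mem_zpowers o)
    have ho1 : o = 1 := by
      have : o ∈ qcore r z ⊓ O := ⟨hoq, ho.2⟩
      rwa [hrA, mem_bot] at this
    rw [ho1, one_mul]
    exact ⟨htK, hT2 t (hT1 t htK htz hto)⟩
  exact ⟨hN, fun x hx => (key x hx).1, fun x hx => (key x hx).2⟩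

/-- The rotations centralise the core. -/
theorem sigma_centralizes (hz : orderOf z = 2) : ∀ u ∈ core z, σ * u = u * σ := by
  obtain ⟨T, hTK, hTc, hT1, hσT, -⟩ := h.exists_torus hz
  haveI := hTc
  have hfix : ∀ w ∈ fit z ⊓ N, σ * w = w * σ := by
    intro w hw
    obtain ⟨o, ho, t, htK, -, htz, hto, rfl⟩ := h.fit_parts hz hw.1 hw.2
    have e1 : Commute σ o := (h.hcomm o ho.2 σ h.sigma_mem).symm
    have e2 : Commute σ t := commute_of_isCyclic σ hσT t (hT1 t htK htz hto)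
    exact (e1.mul_right e2).eq
  have hσC := h.S_le h.hσS
  have hcen := centralizes_core_of_fixes hσC ⟨k, h.hσ⟩ fun r hr x hx => by
    haveI := Fact.mk hr
    rw [mul_inv_eq_iff_eq_mul]
    rcases eq_or_ne (qcore r z ⊓ O) ⊥ with e | hne
    · exact hfix x ⟨qcore_le_fit hr z hx, (h.qcore_le_K hz hr e).1 hx⟩
    · have hr2 : r ≠ 2 := fun e => hne (by
        rw [e, qcore_two]; exact eq_bot_iff.2 inf_le_left)
      refine ((mem_centralizer_iff.1 (CharPLocal.commute_of_axb (U := qcore r z)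
        (R := qcore r z ⊓ O) (qcore_isPGroup z) ((qcore_isPGroup z).to_le inf_le_left)
        (x := σ) ?_ (centralizer_le_normalizer_qcore r z hσC) (mem_centralizer_iff.2 fun y hy =>
          h.hcomm y hy.2 σ h.sigma_mem) (inf_le_left.trans le_normalizer) fun v hv hvc => ?_) x hx)).symm
      · rw [h.hσ]
        exact Nat.Coprime.pow_left _ ((Nat.coprime_primes Nat.prime_two hr).2 hr2.symm)
      · refine (hfix v ⟨qcore_le_fit hr z hv, ?_⟩).symm
        exact h.hAX _ hne (inf_le_inf_right _ (qcore_le_fit hr z))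
          (centralizer_le_normalizer _ hvc)
  exact fun u hu => (mem_centralizer_iff.1 hcen u hu).symm

/-- The two ways in which `S` acts on the core. -/
theorem two_ways (hz : orderOf z = 2) {Q : Subgroup G} (hQ : Q ≤ core z) :
    ∀ t ∈ (S : Subgroup G),
      (∀ y ∈ Q, t * y = y * t) ∨ ∀ y ∈ Q, (τ * t) * y = y * (τ * t) := by
  have hpow : ∀ t ∈ zpowers σ, ∀ y ∈ Q, t * y = y * t := by
    rintro _ ⟨i, rfl⟩ y hy
    exact ((show Commute σ y from h.sigma_centralizes hz y (hQ hy)).zpow_left i).eq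
  exact fun t ht => (h.elems ht).imp (hpow t) (hpow (τ * t))

/-- `N = K (core z ⊓ N)`. -/
theorem exists_parts (hG : Minimal G) (hz : orderOf z = 2) {n : G} (hn : n ∈ N) :
    ∃ x ∈ K, ∃ u ∈ core z ⊓ N, n = x * u := by
  obtain ⟨e⟩ := h.iso
  have hw : n * z * n⁻¹ ∈ K := h.mem_K (mul_mem (mul_mem hn (h.hKN h.hzK)) (inv_mem hn))
    (by rw [Small.orderOf_conj_eq, hz])
  obtain ⟨g, hg⟩ := isConj_iff.1 (FusionSub.isConj_involutions_PSL_two h.hF
    (x := e ⟨n * z * n⁻¹, hw⟩) (y := e ⟨z, h.hzK⟩)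
    (by rw [MulEquiv.orderOf_eq, orderOf_mk, Small.orderOf_conj_eq, hz])
    (by rw [MulEquiv.orderOf_eq, orderOf_mk, hz]))
  set x := e.symm g with hx
  have hxz : (x : G) * (n * z * n⁻¹) * (x : G)⁻¹ = z := by
    have : x * ⟨n * z * n⁻¹, hw⟩ * x⁻¹ = (⟨z, h.hzK⟩ : K) := e.injective (by
      rw [map_mul, map_mul, map_inv, hx, e.apply_symm_apply, hg])
    exact congrArg Subtype.val this
  have hc : (x : G) * n ∈ centralizer ({z} : Set G) := mem_centralizer_singleton_iff.2 (by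
    calc (x : G) * n * z = (x : G) * (n * z * n⁻¹) * (x : G)⁻¹ * ((x : G) * n) := by group
      _ = z * ((x : G) * n) := by rw [hxz])
  obtain ⟨u, hu, s, hs, hus⟩ := hG.decomp hz h.hS hc
  have huN : u ∈ N := by
    have : u = (x : G) * n * s⁻¹ := by rw [hus, mul_inv_cancel_right]
    rw [this]
    exact mul_mem (mul_mem (h.hKN x.2) hn) (inv_mem (h.hSN hs))
  refine ⟨(x : G)⁻¹ * (u * s * u⁻¹), mul_mem (inv_mem x.2)
    ((mem_normalizer_iff.1 (h.hKn huN) s).1 (h.sylow_le_K hs)), u, ⟨hu, huN⟩, ?_⟩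
  rw [show (x : G)⁻¹ * (u * s * u⁻¹) * u = (x : G)⁻¹ * (u * s) by group, ← hus, inv_mul_cancel_left]

/-- Every fixed part has order `|N : K|`. -/
theorem card_fix (hG : Minimal G) (hz : orderOf z = 2) {b : G} (hb : orderOf b = 2) (hbz : b ≠ z)
    (hzb : z * b = b * z) : Nat.card (fix z b) = K.relIndex N := by
  suffices key : ∀ b : G, orderOf b = 2 → b ∈ (S : Subgroup G) → b ≠ z →
      Nat.card (fix z b) = K.relIndex N by
    have hbC : b ∈ centralizer ({z} : Set G) := mem_centralizer_singleton_iff.2 hzb.symm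
    obtain ⟨c, hc, hcS⟩ := exists_conj_mem_sylow S h.S_le hbC ⟨1, by rw [hb, pow_one]⟩
    have hcz : c * z * c⁻¹ = z := by
      rw [mem_centralizer_singleton_iff.1 hc, mul_inv_cancel_right]
    rw [← key (c * b * c⁻¹) (by rw [Small.orderOf_conj_eq, hb]) hcS fun e => hbz ?_]
    · refine Nat.card_congr
        { toFun := fun g => ⟨c * g * c⁻¹, ?_⟩
          invFun := fun g => ⟨c⁻¹ * g * c, ?_⟩
          left_inv := fun g => Subtype.ext (by group)
          right_inv := fun g => Subtype.ext (by group) }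
      · refine ⟨core_conj hc g.2.1, mem_centralizer_singleton_iff.2 ?_⟩
        have e1 := mem_centralizer_singleton_iff.1 g.2.2
        calc c * (g : G) * c⁻¹ * (c * b * c⁻¹) = c * ((g : G) * b) * c⁻¹ := by group
          _ = c * (b * g) * c⁻¹ := by rw [e1]
          _ = c * b * c⁻¹ * (c * g * c⁻¹) := by group
      · refine ⟨by simpa using core_conj (inv_mem hc) g.2.1, mem_centralizer_singleton_iff.2 ?_⟩
        have e1 := mem_centralizer_singleton_iff.1 g.2.2
        calc c⁻¹ * (g : G) * c * b = c⁻¹ * ((g : G) * (c * b * c⁻¹)) * c := by group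
          _ = c⁻¹ * (c * b * c⁻¹ * g) * c := by rw [e1]
          _ = b * (c⁻¹ * g * c) := by group
    · rw [← hcz] at e
      exact mul_left_cancel (mul_right_cancel e)
  intro b hb hbS hbz
  set V := core z ⊓ N with hV
  have hbK : b ∈ K := h.mem_K (h.hSN hbS) hb
  have hzb : z * b = b * z := (h.hS b hbS).symm
  have hVodd : Odd (Nat.card V) := (odd_core z).of_dvd_nat (card_dvd_of_le inf_le_left)
  have hbV : ∀ v ∈ V, b * v * b⁻¹ ∈ V := fun v hv =>
    ⟨core_conj (h.S_le hbS) hv.1,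
      N.mul_mem (N.mul_mem (h.hSN hbS) hv.2) (N.inv_mem (h.hSN hbS))⟩
  have hcard := FourFixed.card_mul_fixed hVodd (MulAut.conj b) (fun x => by
    rw [← MulAut.mul_apply, ← map_mul, Small.mul_self_of_orderOf_two hb, map_one,
      MulAut.one_apply]) hbV
  have hfix : FourFixed.fixed V (MulAut.conj b) = (fix z b : Set G) := by
    ext x
    simp only [FourFixed.fixed, Set.mem_ofPred_eq, MulAut.conj_apply, SetLike.mem_coe]
    constructor
    · rintro ⟨h1, h2⟩
      exact ⟨h1.1, mem_centralizer_singleton_iff.2 (mul_inv_eq_iff_eq_mul.1 h2).symm⟩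
    · intro hx
      exact ⟨⟨hx.1, h.hW b hb hbS hbz hx⟩,
        mul_inv_eq_iff_eq_mul.2 (mem_centralizer_singleton_iff.1 hx.2).symm⟩
  have hinv : FourFixed.inv' V (MulAut.conj b) = ((K ⊓ V : Subgroup G) : Set G) := by
    ext x
    simp only [FourFixed.inv', Set.mem_ofPred_eq, MulAut.conj_apply, SetLike.mem_coe]
    constructor
    · rintro ⟨h1, h2⟩
      refine ⟨?_, h1⟩
      -- `x² = [x, b]` lies in `K`
      have h3 : x * b * x⁻¹ * b⁻¹ ∈ K :=
        mul_mem ((mem_normalizer_iff.1 (h.hKn h1.2) b).1 hbK) (inv_mem hbK)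
      have h4 : x * b * x⁻¹ * b⁻¹ = x ^ 2 := by
        calc x * b * x⁻¹ * b⁻¹ = x * (b * x * b⁻¹)⁻¹ := by group
          _ = x ^ 2 := by rw [h2, inv_inv, pow_two]
      obtain ⟨j, hj⟩ := hVodd.of_dvd_nat (V.orderOf_dvd_natCard h1)
      have h5 : x = (x ^ 2) ^ (j + 1) := by
        rw [← pow_mul, show 2 * (j + 1) = orderOf x + 1 by omega, pow_succ, pow_orderOf_eq_one,
          one_mul]
      rw [h5]
      exact pow_mem (h4 ▸ h3) _
    · rintro ⟨hxK, hxV⟩
      refine ⟨hxV, ?_⟩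
      have hxz : x * z = z * x := commute_of_mem_core hxV.1
      obtain ⟨T, -, -, hT1, -, hT2⟩ := h.exists_torus hz
      have hxT := hT1 x hxK hxz (odd_orderOf_core hxV.1)
      rcases h.elems hbS with e | e
      · exact absurd ((h.eq_half e hb).trans (h.eq_half h.hzσ hz).symm) hbz
      · obtain ⟨i, hi⟩ := e
        replace hi : σ ^ i = τ * b := hi
        have hσx : Commute (σ ^ i) x :=
          (show Commute σ x from h.sigma_centralizes hz x hxV.1).zpow_left i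
        have hτi : τ⁻¹ = τ := inv_eq_of_mul_eq_one_right (Small.mul_self_of_orderOf_two h.hτ)
        have hbeq : b = τ * σ ^ i := by
          rw [hi, ← mul_assoc, Small.mul_self_of_orderOf_two h.hτ, one_mul]
        rw [hbeq, show τ * σ ^ i * x * (τ * σ ^ i)⁻¹ = τ * (σ ^ i * x * (σ ^ i)⁻¹) * τ⁻¹ by group,
          hσx.eq, mul_inv_cancel_right]
        exact hT2 x hxT
  rw [hfix, hinv] at hcard
  simp only [SetLike.coe_sort_coe] at hcard
  have hrel : K.relIndex N = (K ⊓ V).relIndex V := by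
    have hsup : V ⊔ K = N := le_antisymm (sup_le inf_le_right h.hKN) fun n hn => by
      obtain ⟨x, hx, u, hu, rfl⟩ := h.exists_parts hG hz hn
      exact mul_mem (mem_sup_right hx) (mem_sup_left hu)
    rw [inf_relIndex_right]
    haveI hn : (K.subgroupOf N).Normal := normal_subgroupOf_of_le_normalizer h.hKn
    have htop : V.subgroupOf N ⊔ K.subgroupOf N = ⊤ := by
      rw [← subgroupOf_sup inf_le_right h.hKN, hsup, subgroupOf_self]
    rw [← relIndex_subgroupOf (K := V) inf_le_right, ← relIndex_sup_right (H := V.subgroupOf N), htop,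
      relIndex_top_right]
    rfl
  have h2 := relIndex_mul_relIndex ⊥ (K ⊓ V) V bot_le inf_le_right
  rw [relIndex_bot_left, relIndex_bot_left, ← hrel, hcard] at h2
  exact (Nat.eq_of_mul_eq_mul_left Nat.card_pos h2).symm

end Inner

end CfsgLib.GW
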