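import Cfsg.Agent.Linear.SL2Sylow
import Cfsg.Agent.SL2Tori.Basic
import Cfsg.Agent.S0205

/-!
# Subgroups of odd order of `SL(2,q)` prime to `q`
-/

set_option autoImplicit false
set_option linter.style.haveILetI false

namespace CfsgLib.GW

open Subgroup
open scoped MatrixGroups commutatorElement

/-- An odd-order subgroup of `SL(2,q)` of order prime to `q` is cyclic; its order divides `q ± 1`. -/
theorem odd_subgroup_sl2 {F : Type} [Field F] [Fintype F] (p : ℕ) [Fact p.Prime] [CharP F p]
    (H : Subgroup SL(2, F)) (hodd : Odd (Nat.card H))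
    (hp : ¬ p ∣ Nat.card H) :
    IsCyclic H ∧ (Nat.card H ∣ Fintype.card F - 1 ∨ Nat.card H ∣ Fintype.card F + 1) := by
  classical
  rcases subsingleton_or_nontrivial H with hs | hn
  · exact ⟨inferInstance, Or.inl (by rw [Nat.card_unique]; exact one_dvd _)⟩
  haveI : Group.IsSolvable H := Cfsg.Agent.S0205.result hodd
  -- a nontrivial abelian normal subgroup
  obtain ⟨A, hAn, hAne, hAab⟩ : ∃ A : Subgroup H, A.Normal ∧ A ≠ ⊥ ∧ ∀ a ∈ A, ∀ b ∈ A, a * b = b * a := by
    obtain ⟨n, hn'⟩ := Group.IsSolvable.solvable (G := H)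
    have hex : ∃ n, derivedSeries H n = ⊥ := ⟨n, hn'⟩
    have h0 : Nat.find hex ≠ 0 := fun e => by
      have h := Nat.find_spec hex
      rw [e, derivedSeries_zero] at h
      exact top_ne_bot h
    refine ⟨derivedSeries H (Nat.find hex - 1), inferInstance, Nat.find_min hex (by omega),
      fun a ha b hb => ?_⟩
    have h := Nat.find_spec hex
    rw [show Nat.find hex = Nat.find hex - 1 + 1 by omega, derivedSeries_succ] at h
    have hc : ⁅a, b⁆ ∈ (⊥ : Subgroup H) := h ▸ commutator_mem_commutator ha hb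
    exact commutatorElement_eq_one_iff_commute.1 (mem_bot.1 hc)
  haveI := hAn
  haveI : Nontrivial A := (nontrivial_iff_ne_bot A).2 hAne
  obtain ⟨s, hs, hsdvd⟩ := Nat.exists_prime_and_dvd (Finite.one_lt_card (α := A)).ne'
  haveI : Fact s.Prime := ⟨hs⟩
  obtain ⟨g, hg⟩ := exists_prime_orderOf_dvd_card' s hsdvd
  have hgd : s ∣ Nat.card H := hsdvd.trans A.card_subgroup_dvd_card
  have hs2 : s ≠ 2 := fun e => by
    rw [e] at hgd; exact (Nat.not_even_iff_odd.2 hodd) (even_iff_two_dvd.2 hgd)
  have hsp : s ≠ p := fun e => hp (e ▸ hgd)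
  set x : SL(2, F) := ((g : H) : SL(2, F)) with hx
  have hxo : orderOf x = s := by rw [hx, Subgroup.orderOf_coe, Subgroup.orderOf_coe, hg]
  have ht := Linear.trace_sq_ne_four p hs2 hsp x hxo
  haveI := Linear.isCyclic_centralizer x ht
  -- `x` is central in `H`
  have hle : H ≤ centralizer ({x} : Set SL(2, F)) := by
    intro k hk
    have hA' : (⟨k, hk⟩ : H) * (g : H) * (⟨k, hk⟩ : H)⁻¹ ∈ A := hAn.conj_mem _ g.2 _
    have hcent : k * x * k⁻¹ ∈ centralizer ({x} : Set SL(2, F)) :=
      mem_centralizer_singleton_iff.2 (congrArg Subtype.val (hAab _ hA' _ g.2))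
    have hpow : k * x * k⁻¹ ∈ zpowers x := by
      have hmem := Linear.mem_zpowers_of_pow_eq_one (G := centralizer ({x} : Set SL(2, F))) hs.pos
        (a := ⟨_, hcent⟩) (b := ⟨x, mem_centralizer_singleton_iff.2 rfl⟩)
        (by rw [orderOf_mk, hxo])
        (Subtype.ext (by
          rw [SubmonoidClass.coe_pow, conj_pow, ← hxo, pow_orderOf_eq_one, mul_one, mul_inv_cancel]
          rfl))
      obtain ⟨i, hi⟩ := hmem
      exact ⟨i, congrArg Subtype.val hi⟩
    exact mem_centralizer_singleton_iff.2 (Linear.commute_of_odd_normalizing x k ht hpow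
      (hodd.of_dvd_nat (H.orderOf_dvd_natCard hk))).eq
  refine ⟨isCyclic_of_injective (Subgroup.inclusion hle) (Subgroup.inclusion_injective hle), ?_⟩
  by_cases hl : ∃ l : F, l ^ 2 + SL2Tori.tr x * l + 1 = 0
  · obtain ⟨l, hl⟩ := hl
    left
    rw [← SL2Tori.card_centralizer_split ht (l := l) hl]
    exact card_dvd_of_le hle
  · push Not at hl
    right
    rw [← SL2Tori.card_centralizer_nonsplit ht hl]
    exact card_dvd_of_le hle

end CfsgLib.GW
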