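import Cfsg.Agent.GW.Pairing
import Cfsg.Agent.GW.SLTwoOdd
import Cfsg.Agent.Linear.SL2Sylow
import Mathlib.GroupTheory.FixedPointFree
import Mathlib.Data.Fintype.Pi

/-!
# Gorenstein–Walter 4.1: the irreducible extraspecial case

`U` acts on `Y/Z` through a cyclic group of odd order `d`, `1 < d ≤ (r+1)/2`, and the elements of
`U` normalising `X` act trivially.
-/

set_option autoImplicit false
set_option linter.style.haveILetI false

open Subgroup
open scoped commutatorElement MatrixGroups Matrix Pointwise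

namespace CfsgLib.GW

variable {G : Type*} [Group G] [Finite G]

/-- A subgroup normalised by `U` and a Sylow 2-subgroup is normalised by `C(z)`. -/
theorem centralizer_le_normalizer_of_parts {z : G} {U L : Subgroup G} (hF : Tw.Frame z U)
    (T : Sylow 2 G) (hT : (T : Subgroup G) ≤ centralizer ({z} : Set G))
    (hTL : (T : Subgroup G) ≤ normalizer (L : Set G)) (hUL : U ≤ normalizer (L : Set G)) :
    centralizer ({z} : Set G) ≤ normalizer (L : Set G) := by
  haveI : Fact (Nat.Prime 2) := ⟨Nat.prime_two⟩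
  intro c hc
  obtain ⟨k, m, hm, hk⟩ := Nat.exists_eq_two_pow_mul_odd (orderOf_pos c).ne'
  -- the odd part lies in `U`
  have h1 : c ^ 2 ^ k ∈ normalizer (L : Set G) := hUL (hF.mem _ (pow_mem hc _) (by
    rw [orderOf_pow, hk, Nat.gcd_eq_right (dvd_mul_right _ _),
      Nat.mul_div_cancel_left _ (Nat.two_pow_pos k)]
    exact hm))
  -- the 2-part is conjugate into `T`
  have h2 : c ^ m ∈ normalizer (L : Set G) := by
    obtain ⟨g, hg, hgT⟩ := exists_conj_mem_sylow T hT (pow_mem hc m) ⟨k, by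
      rw [orderOf_pow, hk, Nat.gcd_eq_right (dvd_mul_left _ _), Nat.mul_div_cancel _ hm.pos]⟩
    -- move the conjugating element into `U`
    obtain ⟨kg, mg, hmg, hkg⟩ := Nat.exists_eq_two_pow_mul_odd (orderOf_pos g).ne'
    haveI : (U.subgroupOf (centralizer ({z} : Set G))).Normal := ⟨fun x hx a => mem_subgroupOf.2 (by
      push_cast
      exact hF.conj_mem a a.2 x (mem_subgroupOf.1 hx))⟩
    have htop : (U.subgroupOf (centralizer ({z} : Set G))) ⊔ (T.subtype hT : Subgroup _) = ⊤ := by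
      refine index_eq_one.1 (Nat.eq_one_of_dvd_coprimes ?_
        (index_dvd_of_le (le_sup_left : U.subgroupOf _ ≤ _)) (index_dvd_of_le le_sup_right))
      have hp : IsPGroup 2 ((centralizer ({z} : Set G)) ⧸ U.subgroupOf _) := by
        intro q
        obtain ⟨a, rfl⟩ := QuotientGroup.mk'_surjective _ q
        obtain ⟨k', m', hm', hk'⟩ := Nat.exists_eq_two_pow_mul_odd (orderOf_pos a).ne'
        refine ⟨k', ?_⟩
        rw [← map_pow, QuotientGroup.mk'_apply, QuotientGroup.eq_one_iff, mem_subgroupOf]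
        refine hF.mem _ (a ^ 2 ^ k').2 ?_
        rw [orderOf_coe, orderOf_pow, hk', Nat.gcd_eq_right (dvd_mul_right _ _),
          Nat.mul_div_cancel_left _ (Nat.two_pow_pos k')]
        exact hm'
      obtain ⟨j, hj⟩ := hp.exists_card_eq
      rw [index, hj]
      refine Nat.Coprime.pow_left j ((Nat.Prime.coprime_iff_not_dvd Nat.prime_two).2 ?_)
      exact (T.subtype hT).not_dvd_index
    obtain ⟨u, hu, t, ht, e⟩ : ∃ u ∈ U.subgroupOf (centralizer ({z} : Set G)),
        ∃ t ∈ (T.subtype hT : Subgroup _), u * t = (⟨g⁻¹, inv_mem hg⟩ : centralizer ({z} : Set G)) := by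
      have h := coe_mul_of_right_le_normalizer_left (U.subgroupOf (centralizer ({z} : Set G)))
        (T.subtype hT : Subgroup _) le_normalizer_of_normal
      rw [htop] at h
      have hmem : (⟨g⁻¹, inv_mem hg⟩ : centralizer ({z} : Set G)) ∈
          ((⊤ : Subgroup (centralizer ({z} : Set G))) : Set (centralizer ({z} : Set G))) := mem_top _
      rw [h] at hmem
      obtain ⟨u, hu, t, ht, e⟩ := Set.mem_mul.1 hmem
      exact ⟨u, hu, t, ht, e⟩
    have hgN : g⁻¹ ∈ normalizer (L : Set G) := by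
      have e' : (u : G) * (t : G) = g⁻¹ := congrArg Subtype.val e
      rw [← e']
      exact mul_mem (hUL (mem_subgroupOf.1 hu)) (hTL ht)
    rw [show c ^ m = g⁻¹ * (g * c ^ m * g⁻¹) * g⁻¹⁻¹ by group]
    exact mul_mem (mul_mem hgN (hTL hgT)) (inv_mem hgN)
  obtain ⟨a, b, hab⟩ : ∃ a b : ℤ, ((2 ^ k : ℕ) : ℤ) * a + (m : ℤ) * b = 1 :=
    ⟨_, _, (Nat.gcd_eq_gcd_ab (2 ^ k) m).symm.trans (by
      rw [((Nat.coprime_two_left.2 hm).pow_left k).gcd_eq_one]; rfl)⟩
  rw [← zpow_one c, ← hab, zpow_add, zpow_mul, zpow_mul, zpow_natCast, zpow_natCast]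
  exact mul_mem (zpow_mem h1 a) (zpow_mem h2 b)

/-- In the irreducible case `b` centralises `X`. -/
theorem Irred.b_fix {z b : G} {U N R X Z Y : Subgroup G} {r : ℕ}
    (h : LineData (centralizer ({z} : Set G)) N R X r b) (hI : Irred z U R X r b Z Y) :
    ∀ x ∈ X, b * x = x * b := by
  have hbi : b⁻¹ = b := inv_eq_of_mul_eq_one_right h.hb
  have hconj : ∀ y ∈ Y, b * y * b⁻¹ ∈ Y := fun y hy =>
    (mem_normalizer_iff.1 (hI.hYC h.hbC) y).1 hy
  let φ : Y →* Y :=
    { toFun := fun y => ⟨b * y * b⁻¹, hconj y y.2⟩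
      map_one' := Subtype.ext (by simp)
      map_mul' := fun y y' => Subtype.ext (by simp [mul_assoc]) }
  obtain ⟨w, hw, hw1⟩ : ∃ w : Y, φ w = w ∧ w ≠ 1 := by
    by_contra hcon
    push Not at hcon
    have hinv : Function.Involutive φ := fun y => Subtype.ext (by
      show b * (b * (y : G) * b⁻¹) * b⁻¹ = y
      rw [show b * (b * (y : G) * b⁻¹) * b⁻¹ = (b * b) * y * (b * b)⁻¹ by group, h.hb, one_mul,
        inv_one, mul_one])
    have hcomm := MonoidHom.FixedPointFree.commute_all_of_involutive (φ := φ) hcon hinv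
    refine hI.hmoved fun y hy => mem_centralizer_iff.2 fun x hx => ?_
    exact congrArg Subtype.val (hcomm ⟨x, hI.hXY hx⟩ ⟨y, hy⟩).eq
  have hwc : b * (w : G) = w * b := mul_inv_eq_iff_eq_mul.1 (congrArg Subtype.val hw)
  have hwX := h.hfix w (hI.hYR w.2) hwc (hI.hexp w w.2)
  haveI : Fact r.Prime := ⟨h.hr⟩
  have e : zpowers (w : G) = X := eq_of_le_of_card_ge (zpowers_le.2 hwX) (by
    rw [Nat.card_zpowers, orderOf_eq_prime (hI.hexp w w.2) fun e => hw1 (Subtype.ext e), h.hX])
  intro x hx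
  rw [← e] at hx
  obtain ⟨k, rfl⟩ := hx
  exact ((show Commute b (w : G) from hwc).zpow_right k).eq

/-- `U` acts on `Y/Z` through a small cyclic group, trivially where it normalises `X`. -/
theorem Irred.action {z b : G} {U N R X Z Y : Subgroup G} {r : ℕ}
    (hF : Tw.Frame z U) (h : LineData (centralizer ({z} : Set G)) N R X r b)
    (hI : Irred z U R X r b Z Y) (T : Sylow 2 G)
    (hT : (T : Subgroup G) ≤ centralizer ({z} : Set G))
    (hTR : ∀ t ∈ (T : Subgroup G),
      (∀ y ∈ R, t * y = y * t) ∨ ∀ y ∈ R, (b * t) * y = y * (b * t)) :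
    ∃ ρ : U →* SL(2, ZMod r), (∀ u : U, ρ u = 1 ↔ ∀ y ∈ Y, ⁅(u : G), y⁆ ∈ Z) ∧
      IsCyclic ρ.range ∧ 1 < Nat.card ρ.range ∧ Odd (Nat.card ρ.range) ∧
      2 * Nat.card ρ.range ≤ r + 1 ∧
      ∀ u : U, (u : G) ∈ normalizer (X : Set G) → ρ u = 1 := by
  classical
  haveI : Fact r.Prime := ⟨h.hr⟩
  haveI : NeZero r := ⟨h.hr.pos.ne'⟩
  obtain ⟨x₀, hx₀, hx₀1⟩ : ∃ x ∈ X, x ≠ 1 := by
    by_contra hcon
    push Not at hcon
    have := h.hr.one_lt
    rw [← h.hX, (eq_bot_iff.2 fun x hx => mem_bot.2 (hcon x hx) : X = ⊥), card_bot] at this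
    omega
  have hXgen : zpowers x₀ = X := eq_of_le_of_card_ge (zpowers_le.2 hx₀) (by
    rw [Nat.card_zpowers, orderOf_eq_prime (h.pow_X _ hx₀) hx₀1, h.hX])
  obtain ⟨y₀, hy₀, hne⟩ : ∃ y ∈ Y, ⁅x₀, y⁆ ≠ 1 := by
    by_contra hcon
    push Not at hcon
    refine hI.hmoved fun y hy => ?_
    rw [← hXgen, mem_centralizer_iff]
    rintro _ ⟨k, rfl⟩
    exact ((commutatorElement_eq_one_iff_commute.1 (hcon y hy)).zpow_left k).eq
  have E : Extra Y Z r x₀ y₀ := ⟨h.hr, hI.cardY, hI.hZ, hI.hZY, hI.hexp,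
    fun w hw y hy => hI.hZR w hw y (hI.hYR hy), fun x hx y hy => hI.hcomm x hx y (hI.hYR hy),
    hI.hXY hx₀, hy₀, hne⟩
  have hYmem : ∀ u ∈ U, ∀ y, y ∈ Y ↔ u * y * u⁻¹ ∈ Y := fun u hu y =>
    mem_normalizer_iff.1 (hI.hYC (hF.le hu)) y
  -- the action
  have hmul : ∀ u v : U, E.mat ((u * v : U) : G) = E.mat (u : G) * E.mat (v : G) := by
    intro u v
    ext i k
    have hk : ![x₀, y₀] k ∈ Y := by fin_cases k; exacts [E.hx, E.hy]
    show coord r x₀ y₀ ((u * v : U) * ![x₀, y₀] k * ((u * v : U) : G)⁻¹) i = _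
    rw [show ((u * v : U) : G) * ![x₀, y₀] k * ((u * v : U) : G)⁻¹ =
      (u : G) * ((v : G) * ![x₀, y₀] k * (v : G)⁻¹) * (u : G)⁻¹ by push_cast; group,
      E.coord_conj (hYmem u u.2) (hI.hUZ u u.2) ((hYmem v v.2 _).1 hk)]
    rfl
  have hone : E.mat (1 : G) = 1 := by
    ext i k
    show coord r x₀ y₀ (1 * ![x₀, y₀] k * 1⁻¹) i = _
    rw [one_mul, inv_one, mul_one]
    fin_cases k <;> fin_cases i <;> simp [E.coord_x, E.coord_y]
  let ρ : U →* SL(2, ZMod r) :=
    { toFun := fun u => ⟨E.mat (u : G), E.det_mat (hYmem u u.2) (hI.hUZ u u.2)⟩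
      map_one' := Subtype.ext hone
      map_mul' := fun u v => Subtype.ext (hmul u v) }
  have hact : ∀ (u : U) (y : G), y ∈ Y →
      coord r x₀ y₀ ((u : G) * y * (u : G)⁻¹) = (ρ u).1 *ᵥ coord r x₀ y₀ y := fun u y hy =>
    E.coord_conj (hYmem u u.2) (hI.hUZ u u.2) hy
  have hker : ∀ (u : U) (y : G), y ∈ Y → (⁅(u : G), y⁆ ∈ Z ↔
      (ρ u).1 *ᵥ coord r x₀ y₀ y = coord r x₀ y₀ y) := fun u y hy => by
    rw [← hact u y hy, ← sub_eq_zero (b := coord r x₀ y₀ y), sub_eq_add_neg, ← E.coord_inv hy,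
      ← E.coord_mul ((hYmem u u.2 y).1 hy) (inv_mem hy),
      E.coord_eq_zero (mul_mem ((hYmem u u.2 y).1 hy) (inv_mem hy)), commutatorElement_def]
  -- a fixed part of the action is `Z` or `Y`
  have hinv : ∀ L : Subgroup G, Z ≤ L → L ≤ Y → (T : Subgroup G) ≤ normalizer (L : Set G) →
      U ≤ normalizer (L : Set G) → L = Z ∨ L = Y := by
    intro L hZL hLY hTL hUL
    by_contra hcon
    push Not at hcon
    exact hI.hirr L (lt_of_le_of_ne hZL (Ne.symm hcon.1)) (lt_of_le_of_ne hLY hcon.2)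
      (centralizer_le_normalizer_of_parts hF T hT hTL hUL)
  -- the line of `X` is not invariant under `U`
  have hline : ¬ ∀ u : U, coord r x₀ y₀ ((u : G) * x₀ * (u : G)⁻¹) 1 = 0 := by
    intro hall
    let L : Subgroup G :=
      { carrier := {y | y ∈ Y ∧ coord r x₀ y₀ y 1 = 0}
        one_mem' := ⟨one_mem _, by rw [E.coord_one]; rfl⟩
        mul_mem' := fun {a c} ha hc => ⟨mul_mem ha.1 hc.1, by
          rw [E.coord_mul ha.1 hc.1, Pi.add_apply, ha.2, hc.2, add_zero]⟩
        inv_mem' := fun {a} ha => ⟨inv_mem ha.1, by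
          rw [E.coord_inv ha.1, Pi.neg_apply, ha.2, neg_zero]⟩ }
    have hxL : x₀ ∈ L := ⟨E.hx, by rw [E.coord_x]; rfl⟩
    have hTL : (T : Subgroup G) ≤ normalizer (L : Set G) := by
      refine le_normalizer_of_forall fun t ht y hy => ?_
      refine ⟨(mem_normalizer_iff.1 (hI.hYC (hT ht)) y).1 hy.1, ?_⟩
      have hbx := hI.b_fix h x₀ hx₀
      have hyR := hI.hYR hy.1
      rcases hTR t ht with e | e
      · rw [e y hyR, mul_inv_cancel_right]; exact hy.2
      · -- `t` acts as `b`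
        have hbi : b⁻¹ = b := inv_eq_of_mul_eq_one_right h.hb
        have e1 : t * y * t⁻¹ = b * y * b⁻¹ := by
          have e2 : b * (t * y * t⁻¹) * b⁻¹ = y := by
            rw [show b * (t * y * t⁻¹) * b⁻¹ = (b * t) * y * (b * t)⁻¹ by group, e y hyR,
              mul_inv_cancel_right]
          rw [← e2, show b * (b * (t * y * t⁻¹) * b⁻¹) * b⁻¹ =
            (b * b) * (t * y * t⁻¹) * (b * b)⁻¹ by group, h.hb, one_mul, inv_one, mul_one]
          rw [e2]
        rw [e1]
        -- `y` is a power of `x₀` modulo `Z`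
        have hw : y * (x₀ ^ (coord r x₀ y₀ y 0).val)⁻¹ ∈ Z :=
          (E.coord_eq_zero (mul_mem hy.1 (inv_mem (pow_mem E.hx _)))).1 (by
            rw [E.coord_mul hy.1 (inv_mem (pow_mem E.hx _)), E.coord_inv (pow_mem E.hx _),
              E.coord_pow E.hx, ZMod.natCast_zmod_val, E.coord_x]
            ext i
            fin_cases i
            · simp
            · simpa using hy.2)
        set n := (coord r x₀ y₀ y 0).val with hn
        set w := y * (x₀ ^ n)⁻¹ with hwdef
        have hy' : y = w * x₀ ^ n := (inv_mul_cancel_right _ _).symm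
        have e3 : b * y * b⁻¹ = w⁻¹ * x₀ ^ n := by
          rw [hy', show b * (w * x₀ ^ n) * b⁻¹ =
            b * w * b⁻¹ * (b * x₀ * b⁻¹) ^ n by rw [conj_pow]; group,
            hI.hbZ w hw, hbx, mul_inv_cancel_right]
        rw [e3, E.coord_mul (inv_mem (E.le hw)) (pow_mem E.hx _), E.coord_inv (E.le hw),
          (E.coord_eq_zero (E.le hw)).2 hw, neg_zero, zero_add, E.coord_pow E.hx, E.coord_x]
        simp
    have hUL : U ≤ normalizer (L : Set G) := by
      refine le_normalizer_of_forall fun u hu y hy => ⟨(hYmem u hu y).1 hy.1, ?_⟩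
      have hcol := hall ⟨u, hu⟩
      rw [hact ⟨u, hu⟩ x₀ E.hx, E.coord_x] at hcol
      rw [hact ⟨u, hu⟩ y hy.1]
      have h0 := hy.2
      simp [Matrix.mulVec, dotProduct, Fin.sum_univ_two] at hcol ⊢
      rw [hcol, h0]
      simp
    rcases hinv L (fun w hw => ⟨E.le hw, by rw [(E.coord_eq_zero (E.le hw)).2 hw]; rfl⟩)
      (fun y hy => hy.1) hTL hUL with e | e
    · have h0 := (E.coord_eq_zero E.hx).2 (e ▸ hxL)
      rw [E.coord_x] at h0
      simpa using congrFun h0 0
    · have h1 : coord r x₀ y₀ y₀ 1 = 0 := (e ▸ E.hy : y₀ ∈ L).2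
      rw [E.coord_y] at h1
      simp at h1
  -- the image
  set H := ρ.range with hH
  have hHodd : Odd (Nat.card H) := by
    refine hF.odd.of_dvd_nat ?_
    rw [hH, ← index_ker]
    exact index_dvd_card _
  have hne1 : Nat.card H ≠ 1 := fun e => by
    refine hline fun u => ?_
    have hu1 : ρ u = 1 := mem_bot.1 ((card_eq_one.1 e) ▸ (⟨u, rfl⟩ : ρ u ∈ H))
    rw [hact u x₀ E.hx, hu1, E.coord_x]
    simp
  have hrH : ¬ r ∣ Nat.card H := by
    intro hd
    haveI : CharP (ZMod r) r := ZMod.charP r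
    have hsub := Linear.subsingleton_sylow_of_odd r H hHodd
    obtain ⟨P⟩ : Nonempty (Sylow r H) := inferInstance
    haveI hPn : (P : Subgroup H).Normal := Sylow.normal_of_subsingleton P
    set P' : Subgroup SL(2, ZMod r) := (P : Subgroup H).map H.subtype
    have hP' : IsPGroup r P' := P.isPGroup'.map _
    -- the fixed points of `P'` in `Y`
    let L : Subgroup G :=
      { carrier := {y | y ∈ Y ∧ ∀ u : U, ρ u ∈ P' → (ρ u).1 *ᵥ coord r x₀ y₀ y = coord r x₀ y₀ y}
        one_mem' := ⟨one_mem _, fun u _ => by rw [E.coord_one, Matrix.mulVec_zero]⟩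
        mul_mem' := fun {a c} ha hc => ⟨mul_mem ha.1 hc.1, fun u hu => by
          rw [E.coord_mul ha.1 hc.1, Matrix.mulVec_add, ha.2 u hu, hc.2 u hu]⟩
        inv_mem' := fun {a} ha => ⟨inv_mem ha.1, fun u hu => by
          rw [E.coord_inv ha.1, Matrix.mulVec_neg, ha.2 u hu]⟩ }
    have hmemL : ∀ y, y ∈ L ↔ y ∈ Y ∧ ∀ u : U, ρ u ∈ P' → ⁅(u : G), y⁆ ∈ Z := fun y => by
      constructor
      · exact fun hy => ⟨hy.1, fun u hu => (hker u y hy.1).2 (hy.2 u hu)⟩
      · exact fun hy => ⟨hy.1, fun u hu => (hker u y hy.1).1 (hy.2 u hu)⟩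
    have hPchar : ∀ (g : U) (u : U), ρ u ∈ P' → ρ (g * u * g⁻¹) ∈ P' := by
      rintro g u ⟨p, hp, e⟩
      exact ⟨_, hPn.conj_mem p hp ⟨ρ g, g, rfl⟩, by simp [← e]⟩
    have hUL : U ≤ normalizer (L : Set G) := by
      refine le_normalizer_of_forall fun g hg y hy => ?_
      rw [hmemL] at hy ⊢
      refine ⟨(hYmem g hg y).1 hy.1, fun u hu => ?_⟩
      have h1 := hy.2 _ (hPchar ⟨g, hg⟩⁻¹ u hu)
      have h2 := (mem_normalizer_iff.1 (hI.hZC (hF.le hg)) _).1 h1
      rw [commutatorElement_conj] at h2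
      simpa [mul_assoc] using h2
    -- elements of `T` permute the elements of `U` acting through `P'`
    have hTL : (T : Subgroup G) ≤ normalizer (L : Set G) := by
      refine le_normalizer_of_forall fun t ht y hy => ?_
      rw [hmemL] at hy ⊢
      refine ⟨(mem_normalizer_iff.1 (hI.hYC (hT ht)) y).1 hy.1, fun u hu => ?_⟩
      have htC : t⁻¹ ∈ centralizer ({z} : Set G) := inv_mem (hT ht)
      set u' : U := ⟨t⁻¹ * u * t, by simpa using hF.conj_mem t⁻¹ htC u u.2⟩ with hu'
      have hu'P : ρ u' ∈ P' := by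
        -- `u ↦ t⁻¹ u t` preserves the kernel, so it permutes the unique Sylow subgroup of the image
        let c : U →* U :=
          { toFun := fun a => ⟨t⁻¹ * a * t, by simpa using hF.conj_mem t⁻¹ htC a a.2⟩
            map_one' := Subtype.ext (by simp)
            map_mul' := fun a a' => Subtype.ext (by simp [mul_assoc]) }
        have hcsur : Function.Surjective c := fun a => ⟨⟨t * a * t⁻¹,
          hF.conj_mem t (hT ht) a a.2⟩, Subtype.ext (by simp [c, mul_assoc])⟩
        set A := P'.comap ρ with hA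
        have hAu : u ∈ A := hu
        have hpg : IsPGroup r ((A.map c).map ρ) := by
          intro q
          obtain ⟨a', ⟨a, ha, rfl⟩, e⟩ := q.2
          obtain ⟨n, hn⟩ := hP' ⟨ρ a, ha⟩
          refine ⟨n, Subtype.ext ?_⟩
          have hn' : ρ (a ^ r ^ n) = 1 := by
            rw [map_pow]; exact congrArg Subtype.val hn
          have hc' : ρ (c (a ^ r ^ n)) = 1 := by
            refine Subtype.ext ?_
            rw [show ((1 : SL(2, ZMod r)) : Matrix (Fin 2) (Fin 2) (ZMod r)) = 1 from rfl]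
            ext i k
            have hk : ![x₀, y₀] k ∈ Y := by fin_cases k; exacts [E.hx, E.hy]
            have hz1 : ∀ y' ∈ Y, ⁅((c (a ^ r ^ n) : U) : G), y'⁆ ∈ Z := fun y' hy' => by
              have h1 := (hker (a ^ r ^ n) (t * y' * t⁻¹)
                ((mem_normalizer_iff.1 (hI.hYC (hT ht)) y').1 hy')).2 (by rw [hn']; simp)
              have h2 := (mem_normalizer_iff.1 (hI.hZC htC) _).1 h1
              rw [commutatorElement_conj] at h2
              simpa [c, mul_assoc] using h2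
            have h3 := congrFun ((hker (c (a ^ r ^ n)) _ hk).1 (hz1 _ hk)) i
            show coord r x₀ y₀ (((c (a ^ r ^ n) : U) : G) * ![x₀, y₀] k *
              ((c (a ^ r ^ n) : U) : G)⁻¹) i = _
            rw [hact _ _ hk, h3]
            fin_cases k <;> fin_cases i <;> simp [E.coord_x, E.coord_y]
          rw [SubmonoidClass.coe_pow, ← e, ← map_pow, ← map_pow]
          exact hc'
        obtain ⟨Q, hQ⟩ := (show IsPGroup r (((A.map c).map ρ).subgroupOf H) from
          hpg.comap_subtype).exists_le_sylow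
        have hQP : Q = P := hsub.elim Q P
        rw [hQP] at hQ
        exact ⟨⟨ρ u', u', rfl⟩, hQ (mem_subgroupOf.2 ⟨u', ⟨u, hAu, rfl⟩, rfl⟩), rfl⟩
      have h1 := hy.2 u' hu'P
      have h2 := (mem_normalizer_iff.1 (hI.hZC (hT ht)) _).1 h1
      rw [commutatorElement_conj] at h2
      simpa [hu', mul_assoc] using h2
    rcases hinv L (fun w hw => (hmemL w).2 ⟨E.le hw, fun u _ => by
        rw [commutatorElement_eq_one_iff_commute.2 (show Commute (u : G) w from hI.hUZ u u.2 w hw)]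
        exact one_mem _⟩) (fun y hy => hy.1) hTL hUL with e | e
    · -- a `r`-group fixes a nonzero vector
      letI : MulAction P' (Fin 2 → ZMod r) :=
        { smul := fun g v => (g : SL(2, ZMod r)).1 *ᵥ v
          one_smul := fun v => Matrix.one_mulVec v
          mul_smul := fun g g' v => (Matrix.mulVec_mulVec v _ _).symm }
      obtain ⟨v, hv, hv0⟩ := hP'.exists_fixed_point_of_prime_dvd_card_of_fixed_point
        (Fin 2 → ZMod r) (by rw [Nat.card_fun, Nat.card_zmod, Nat.card_fin]; exact dvd_pow_self r two_ne_zero)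
        (a := 0) (fun g => Matrix.mulVec_zero _)
      obtain ⟨y, hyY, hyv⟩ : ∃ y ∈ Y, coord r x₀ y₀ y = v :=
        ⟨_, mul_mem (pow_mem E.hx _) (pow_mem E.hy _), E.coord_rep v⟩
      have hyL : y ∈ L := ⟨hyY, fun u hu => by rw [hyv]; exact hv ⟨ρ u, hu⟩⟩
      exact hv0 (by rw [← hyv, (E.coord_eq_zero hyY).2 (e ▸ hyL)])
    · -- otherwise `P'` is trivial
      have hPbot : P' = ⊥ := eq_bot_iff.2 fun q hq => by
        obtain ⟨p, hp, rfl⟩ := hq
        obtain ⟨u, hu⟩ := p.2
        have huP : ρ u ∈ P' := ⟨p, hp, hu.symm⟩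
        rw [mem_bot]
        show (p : SL(2, ZMod r)) = 1
        rw [← hu]
        refine Subtype.ext ?_
        show (ρ u).1 = 1
        ext i k
        have hk : ![x₀, y₀] k ∈ Y := by fin_cases k; exacts [E.hx, E.hy]
        have h3 := congrFun ((e ▸ hk : ![x₀, y₀] k ∈ L).2 u huP) i
        show coord r x₀ y₀ ((u : G) * ![x₀, y₀] k * (u : G)⁻¹) i = _
        rw [hact _ _ hk, h3]
        fin_cases k <;> fin_cases i <;> simp [E.coord_x, E.coord_y]
      have h1 : Nat.card (P : Subgroup H) = 1 := by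
        rw [← card_map_of_injective (K := (P : Subgroup H)) H.subtype_injective]
        show Nat.card P' = 1
        rw [hPbot, card_bot]
      exact h.hr.one_lt.ne' (Nat.eq_one_of_dvd_one (h1 ▸ P.dvd_card_of_dvd_card hd))
  haveI : CharP (ZMod r) r := ZMod.charP r
  obtain ⟨hcyc, hdiv⟩ := odd_subgroup_sl2 r H hHodd hrH
  refine ⟨ρ, fun u => ?_, hcyc, ?_, hHodd, ?_, ?_⟩
  · constructor
    · intro hu y hy
      rw [hker u y hy, hu]
      simp
    · intro hu
      refine Subtype.ext ?_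
      ext i k
      have hk : ![x₀, y₀] k ∈ Y := by fin_cases k; exacts [E.hx, E.hy]
      show coord r x₀ y₀ ((u : G) * ![x₀, y₀] k * (u : G)⁻¹) i = _
      rw [hact _ _ hk, congrFun ((hker u _ hk).1 (hu _ hk)) i]
      fin_cases k <;> fin_cases i <;> simp [E.coord_x, E.coord_y]
  · have h0 : 0 < Nat.card H := Nat.card_pos
    rw [← hH]
    omega
  · rw [← hH]
    obtain ⟨j, hj⟩ := hHodd
    obtain ⟨i, hi⟩ := h.hr.odd_of_ne_two h.hr2
    rw [ZMod.card] at hdiv
    have hr3 := h.hr.two_le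
    rcases hdiv with hd | hd
    · have h2 : Nat.card H ∣ i := by
        refine (Nat.Coprime.dvd_mul_left (m := 2) ?_).1 (by rwa [show 2 * i = r - 1 by omega])
        exact (Nat.coprime_two_right.2 ⟨j, hj⟩)
      have := Nat.le_of_dvd (by omega) h2
      omega
    · have h2 : Nat.card H ∣ i + 1 := by
        refine (Nat.Coprime.dvd_mul_left (m := 2) ?_).1 (by rwa [show 2 * (i + 1) = r + 1 by omega])
        exact (Nat.coprime_two_right.2 ⟨j, hj⟩)
      have := Nat.le_of_dvd (by omega) h2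
      omega
  · intro u huX
    have hux : (u : G) * x₀ * (u : G)⁻¹ ∈ X := (mem_normalizer_iff.1 huX x₀).1 hx₀
    obtain ⟨k, hk⟩ := mem_powers_iff_mem_zpowers.2 (hXgen ▸ hux)
    replace hk : x₀ ^ k = (u : G) * x₀ * (u : G)⁻¹ := hk
    have hev : (ρ u).1 *ᵥ ![1, 0] = (k : ZMod r) • ![1, 0] := by
      rw [← E.coord_x, ← hact u x₀ E.hx, ← hk, E.coord_pow E.hx]
    by_contra hu1
    refine hline fun v => ?_
    haveI := hcyc
    have hcomm : ρ u * ρ v = ρ v * ρ u := congrArg Subtype.val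
      ((IsCyclic.isMulCommutative (α := H)).is_comm.comm (⟨ρ u, u, rfl⟩ : H) ⟨ρ v, v, rfl⟩)
    have hM : (ρ u).1 * (ρ v).1 = (ρ v).1 * (ρ u).1 := congrArg Subtype.val hcomm
    have h00 := congrFun hev 0
    have h10 := congrFun hev 1
    simp [Matrix.mulVec, dotProduct, Fin.sum_univ_two] at h00 h10
    rw [hact v x₀ E.hx, E.coord_x]
    simp [Matrix.mulVec, dotProduct, Fin.sum_univ_two]
    by_contra hv
    -- then `ρ u` is scalar, so trivial
    have e10 := congrFun (congrFun hM 1) 0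
    have e00 := congrFun (congrFun hM 0) 0
    simp [Matrix.mul_apply, Fin.sum_univ_two, h00, h10] at e10 e00
    have hd11 : (ρ u).1 1 1 = (k : ZMod r) := by
      refine mul_right_cancel₀ hv ?_
      linear_combination e10
    have h01 : (ρ u).1 0 1 = 0 := by
      refine mul_right_cancel₀ hv ?_
      linear_combination e00
    have hdet := (ρ u).2
    rw [Matrix.det_fin_two, h00, h10, h01, hd11] at hdet
    have hk2 : ((k : ZMod r)) * k = 1 := by linear_combination hdet
    have hsq : ρ u * ρ u = 1 := by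
      refine Subtype.ext ?_
      ext i l
      fin_cases i <;> fin_cases l <;>
        simp [Matrix.mul_apply, Fin.sum_univ_two, h00, h10, h01, hd11, hk2]
    refine hu1 ?_
    have ho : orderOf (ρ u) ∣ Nat.gcd 2 (Nat.card H) :=
      Nat.dvd_gcd (orderOf_dvd_of_pow_eq_one (by rw [pow_two]; exact hsq))
        (H.orderOf_dvd_natCard ⟨u, rfl⟩)
    rw [(Nat.coprime_two_left.2 hHodd).gcd_eq_one, Nat.dvd_one, orderOf_eq_one_iff] at ho
    exact ho

end CfsgLib.GW
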