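import Cfsg.Agent.GW.PhiTrick
import Cfsg.Agent.GW.IrredFacts

/-!
# Gorenstein–Walter 4.1 (II): the irreducible extraspecial case is impossible

The kernel `F` of the action of `U` on `Y / Z` is `Y·(U ∩ N)`, so `[F, F] ≤ Z`: this supplies the
hypotheses of the Φ-trick.
-/

set_option autoImplicit false
set_option linter.style.haveILetI false

open Subgroup
open scoped commutatorElement

namespace CfsgLib.GW

universe u

variable {G : Type u} [Group G] [Finite G]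

/-- Commutators of `Y·n` with `n` centralising `Y` modulo `Z`. -/
theorem commutator_mem_of_parts {G : Type*} [Group G] (Z : Subgroup G) {y₁ n₁ y₂ n₂ : G}
    (hy : ⁅y₁, y₂⁆ ∈ Z) (h12 : ⁅n₁, y₂⁆ ∈ Z) (h21 : ⁅n₂, y₁⁆ ∈ Z) (hn : n₁ * n₂ = n₂ * n₁)
    (hy₁ : ∀ w ∈ Z, y₁ * w = w * y₁) (hy₂ : ∀ w ∈ Z, y₂ * w = w * y₂) :
    ⁅y₁ * n₁, y₂ * n₂⁆ ∈ Z := by
  have h21' : ⁅y₁, n₂⁆ ∈ Z := by
    rw [← commutatorElement_inv n₂ y₁]; exact inv_mem h21
  have h0 : ⁅n₁, n₂⁆ = 1 := commutatorElement_eq_one_iff_commute.2 hn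
  have e : ⁅y₁ * n₁, y₂ * n₂⁆ =
      y₁ * (⁅n₁, y₂⁆ * (y₂ * ⁅n₁, n₂⁆ * y₂⁻¹)) * y₁⁻¹ *
        (⁅y₁, y₂⁆ * (y₂ * ⁅y₁, n₂⁆ * y₂⁻¹)) := by
    simp only [commutatorElement_def]; group
  rw [e, h0, mul_one, mul_inv_cancel, mul_one, hy₁ _ h12, mul_inv_cancel_right, hy₂ _ h21',
    mul_inv_cancel_right]
  exact mul_mem h12 (mul_mem hy h21')

/-- **The irreducible case of 4.1 (II) does not occur.** -/
theorem false_of_irred [IsSimpleGroup G] {z b σ : G} {U N R X Z Y : Subgroup G} {r h : ℕ}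
    (hF : Tw.Frame z U) (hidx : U.relIndex (centralizer ({z} : Set G)) = 4 * h) (hh : 1 ≤ h)
    (hpow : ∃ k, h = 2 ^ k) (hσ : orderOf σ = 2 * h) (hσz : σ ^ h = z)
    (hσU : ∀ u ∈ U, σ * u = u * σ)
    (hstable : ∀ c ∈ centralizer ({z} : Set G), ∃ y ∈ zpowers σ, ∃ u ∈ U, c * σ * c⁻¹ = y * u)
    (hL : LineData (centralizer ({z} : Set G)) N R X r b) (hRU : R ≤ U)
    (hI : Irred z U R X r b Z Y) (T : Sylow 2 G)
    (hT : (T : Subgroup G) ≤ centralizer ({z} : Set G))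
    (hTR : ∀ t ∈ (T : Subgroup G),
      (∀ y ∈ R, t * y = y * t) ∨ ∀ y ∈ R, (b * t) * y = y * (b * t))
    (hUN : ∀ u ∈ U ⊓ N, ∀ v ∈ U ⊓ N, u * v = v * u)
    {A L : Subgroup G} (hAN : A ≤ N) (hLN : L ≤ N) (hcomm : ∀ x ∈ A, ∀ l ∈ L, x * l = l * x)
    (hdisj : ∀ x ∈ A, x ∈ L → x = 1) (hgen : ∀ n ∈ N, ∃ x ∈ A, ∃ l ∈ L, n = x * l)
    (hA : Odd (Nat.card A)) (hAc : IsCyclic A) (hXA : X ≤ A)
    {K : Type} [Field K] [Fintype K] (f : L ≃* Matrix.ProjectiveSpecialLinearGroup (Fin 2) K)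
    (hK : Odd (Fintype.card K))
    (hrq : (Fintype.card K % 4 = 1 ∧ r ∣ Fintype.card K - 1) ∨
      (Fintype.card K % 4 = 3 ∧ r ∣ Fintype.card K + 1))
    (hq : 4 * h * r ≤ Fintype.card K + 1) : False := by
  haveI : Fact r.Prime := ⟨hL.hr⟩
  obtain ⟨ρ, hker, -, -, -, hdr, -⟩ := hI.action hF hL T hT hTR
  obtain ⟨a, haX, ha1⟩ : ∃ x ∈ X, x ≠ 1 := by
    by_contra hcon
    push Not at hcon
    have := hL.hr.one_lt
    rw [← hL.hX, (eq_bot_iff.2 fun x hx => mem_bot.2 (hcon x hx) : X = ⊥), card_bot] at this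
    omega
  have hao : orderOf a = r := orderOf_eq_prime (hL.pow_X a haX) ha1
  have hXa : zpowers a = X := eq_of_le_of_card_ge (zpowers_le.2 haX) (by
    rw [Nat.card_zpowers, hao, hL.hX])
  obtain ⟨y, hy, hne⟩ : ∃ y ∈ Y, ⁅a⁻¹, y⁆ ≠ 1 := by
    by_contra hcon
    push Not at hcon
    refine hI.hmoved fun y hy => ?_
    rw [← hXa, mem_centralizer_iff]
    rintro _ ⟨k, rfl⟩
    exact ((Commute.inv_left_iff.1 (commutatorElement_eq_one_iff_commute.1 (hcon y hy))).zpow_left k).eq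
  set ζ := ⁅a⁻¹, y⁆ with hζdef
  have haY : a ∈ Y := hI.hXY haX
  have hζZ : ζ ∈ Z := hI.hcomm _ (inv_mem haY) y (hI.hYR hy)
  have hya : y * a * y⁻¹ = a * ζ := by rw [hζdef, commutatorElement_def]; group
  have hyζ : y * ζ * y⁻¹ = ζ := by
    rw [← hI.hZR ζ hζZ y (hI.hYR hy), mul_inv_cancel_right]
  have hζr : ζ ^ r = 1 := by
    rw [← hI.hZ]; exact orderOf_dvd_iff_pow_eq_one.1 (Z.orderOf_dvd_natCard hζZ)
  have hζo : orderOf ζ = r := orderOf_eq_prime hζr hne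
  have hCX : centralizer (X : Set G) ≤ N := (centralizer_le_normalizer _).trans hL.hNX
  have hζN : ζ ∈ N := hCX (mem_centralizer_iff.2 fun x hx => (hI.hZR ζ hζZ x (hL.hXR hx)).symm)
  obtain ⟨x, hxA, l, hlL, hxl⟩ := hgen ζ hζN
  have hxr : x ^ r = 1 := by
    have e : x ^ r * l ^ r = 1 := by
      rw [← (show Commute x l from hcomm x hxA l hlL).mul_pow, ← hxl, hζr]
    refine hdisj _ (pow_mem hxA r) ?_
    rw [mul_eq_one_iff_eq_inv.1 e]
    exact inv_mem (pow_mem hlL r)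
  obtain ⟨k, hk⟩ : x ∈ zpowers a := by
    haveI := hAc
    haveI : Fintype A := Fintype.ofFinite A
    classical
    by_contra hx
    -- a cyclic group has at most `r` solutions
    have h1 : Nat.card {v : A // v ^ r = 1} ≤ r := by
      rw [Nat.card_eq_fintype_card, Fintype.card_subtype]
      exact IsCyclic.card_pow_eq_one_le hL.hr.pos
    let g : Option (zpowers a) → {v : A // v ^ r = 1} := fun o => match o with
      | none => ⟨⟨x, hxA⟩, Subtype.ext hxr⟩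
      | some v => ⟨⟨v, hXA (hXa ▸ v.2)⟩, Subtype.ext (hL.pow_X v (hXa ▸ v.2))⟩
    have hg : Function.Injective g := by
      rintro (_ | v) (_ | v') e
      · rfl
      · have e' : x = (v' : G) := congrArg (fun w => (((Subtype.val w : A)) : G)) e
        exact absurd (e' ▸ v'.2) hx
      · have e' : (v : G) = x := congrArg (fun w => (((Subtype.val w : A)) : G)) e
        exact absurd (e' ▸ v.2) hx
      · have e' : (v : G) = (v' : G) := congrArg (fun w => (((Subtype.val w : A)) : G)) e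
        exact congrArg some (Subtype.ext e')
    have h2 := (Nat.card_le_card_of_injective g hg).trans h1
    rw [Finite.card_option, Nat.card_zpowers, hao] at h2
    omega
  replace hk : a ^ k = x := hk
  -- the kernel
  have hYU : Y ≤ U := hI.hYR.trans hRU
  have hkY : ∀ u : U, (u : G) ∈ Y → ρ u = 1 := fun u hu => (hker u).2 fun y' hy' =>
    hI.hcomm _ hu y' (hI.hYR hy')
  have hparts : ∀ u : U, ρ u = 1 → ∃ y' ∈ Y, ∃ n ∈ U ⊓ N, (∀ v ∈ Y, ⁅n, v⁆ ∈ Z) ∧ (u : G) = y' * n := by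
    intro u hu
    have hcZ : ⁅(u : G), a⁆ ∈ Z := (hker u).1 hu a haY
    have hzg : zpowers ζ = Z := eq_of_le_of_card_ge (zpowers_le.2 hζZ) (by
      rw [Nat.card_zpowers, hζo, hI.hZ])
    obtain ⟨i, hi⟩ := mem_powers_iff_mem_zpowers.2 (hzg.symm ▸ hcZ)
    replace hi : ζ ^ i = ⁅(u : G), a⁆ := hi
    have hstep : ∀ j : ℕ, y ^ j * a * (y ^ j)⁻¹ = a * ζ ^ j := by
      intro j
      induction j with
      | zero => simp
      | succ j ih =>
        have hyz : y * ζ ^ j * y⁻¹ = ζ ^ j := by rw [← conj_pow, hyζ]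
        calc y ^ (j + 1) * a * (y ^ (j + 1))⁻¹ = y * (y ^ j * a * (y ^ j)⁻¹) * y⁻¹ := by
              rw [pow_succ']; group
          _ = (y * a * y⁻¹) * (y * ζ ^ j * y⁻¹) := by rw [ih]; group
          _ = a * ζ ^ (j + 1) := by rw [hya, hyz, pow_succ', mul_assoc]
    set n := (y ^ i)⁻¹ * (u : G) with hn
    have hna : n * a * n⁻¹ = a := by
      have e : (u : G) * a * (u : G)⁻¹ = a * ζ ^ i := by
        rw [← hI.hZR _ (pow_mem hζZ i) a (hL.hXR haX), hi, commutatorElement_def]; group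
      calc n * a * n⁻¹ = (y ^ i)⁻¹ * ((u : G) * a * (u : G)⁻¹) * y ^ i := by rw [hn]; group
        _ = (y ^ i)⁻¹ * (y ^ i * a * (y ^ i)⁻¹) * y ^ i := by rw [e, hstep]
        _ = a := by group
    have hyiU : (y ^ i)⁻¹ ∈ U := inv_mem (pow_mem (hYU hy) i)
    have hnU : n ∈ U := mul_mem hyiU u.2
    refine ⟨y ^ i, pow_mem hy i, n, ⟨hnU, hCX ?_⟩, fun v hv => ?_, by rw [hn, mul_inv_cancel_left]⟩
    · rw [← hXa, mem_centralizer_iff]
      rintro _ ⟨j, rfl⟩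
      exact ((show Commute a n from (mul_inv_eq_iff_eq_mul.1 hna).symm).zpow_left j).eq
    · have h1 : ρ ⟨n, hnU⟩ = 1 := by
        rw [show (⟨n, hnU⟩ : U) = ⟨(y ^ i)⁻¹, hyiU⟩ * u from rfl, map_mul, hu, mul_one]
        exact hkY _ (inv_mem (pow_mem hy i))
      exact (hker ⟨n, hnU⟩).1 h1 v hv
  refine PhiTrick.false_of_phi (z := z) (σ := σ) (U := U) (h := h) (b := b) (N := N) (A := A) (L := L)
    (r := r) (a := a) (ζ := ζ) (l := l) (y := y) (w := b) (F := ρ.ker.map U.subtype)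
    (d := Nat.card ρ.range)
    ⟨hF.hz, hh, hpow, hσ, hσz, hF.odd, hF.le, hF.conj_mem, hidx, hσU, hstable⟩ hL.hbC hAN hLN hcomm
    hdisj hgen hA hAc hL.hr hL.hr2 (hXA haX) hao (hXa.symm ▸ hL.hNX) f hK hrq hq k hlL
    (by rw [hk]; exact hxl) hζo hya hyζ (hI.hbZ ζ hζZ) ?_ hdr ?_
  · rw [← index_ker]
    show ((ρ.ker.map U.subtype).subgroupOf U).index = _
    rw [subgroupOf, comap_map_eq_self_of_injective U.subtype_injective]
  rintro _ ⟨u₁, hu₁, rfl⟩ _ ⟨u₂, hu₂, rfl⟩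
  obtain ⟨y₁, hy₁, n₁, hn₁, hc₁, e₁⟩ := hparts u₁ hu₁
  obtain ⟨y₂, hy₂, n₂, hn₂, hc₂, e₂⟩ := hparts u₂ hu₂
  have hm : (u₁ : G) * u₂ * (u₁ : G)⁻¹ * (u₂ : G)⁻¹ ∈ Z := by
    rw [← commutatorElement_def, e₁, e₂]
    exact commutator_mem_of_parts Z (hI.hcomm _ hy₁ _ (hI.hYR hy₂)) (hc₁ _ hy₂) (hc₂ _ hy₁)
      (hUN _ hn₁ _ hn₂) (fun w hw => (hI.hZR w hw _ (hI.hYR hy₁)).symm)
      (fun w hw => (hI.hZR w hw _ (hI.hYR hy₂)).symm)
  exact ⟨fun u hu => hI.hUZ u hu _ hm, hI.hbZ _ hm⟩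

end CfsgLib.GW
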