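import Cfsg.Agent.GW.InnerTwist
import Cfsg.Agent.GW.CoprimeFitting
import Cfsg.Agent.GW.PhiIrred

/-!
# Gorenstein–Walter 4.1: the inner component is impossible
-/

set_option autoImplicit false
set_option linter.style.haveILetI false
set_option linter.unusedSectionVars false

open Subgroup
open scoped commutatorElement

namespace CfsgLib.GW

universe u

variable {G : Type u} [Group G] [Finite G] {z : G} {N O K : Subgroup G} {F : Type} [Field F]
  [Fintype F] {S : Sylow 2 G} {σ τ : G} {k : ℕ}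

namespace Inner

variable (h : Inner z N O K F S σ τ k)
include h

/-- The unique subgroup of order `r` of `fit z ⊓ O`. -/
theorem mem_line (hz : orderOf z = 2) {r : ℕ} (hr : r.Prime) {X : Subgroup G}
    (hX : Nat.card X = r) (hXA : X ≤ fit z ⊓ O) {x : G} (hx : x ∈ fit z ⊓ O) (hxr : x ^ r = 1) :
    x ∈ X := by
  classical
  haveI := h.isCyclic_A hz
  set A := (fit z ⊓ O : Subgroup G)
  haveI : Fintype A := Fintype.ofFinite A
  by_contra hne
  let g : Option X → {v : A // v ^ r = 1} := fun o => match o with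
    | none => ⟨⟨x, hx⟩, Subtype.ext hxr⟩
    | some v => ⟨⟨v, hXA v.2⟩, Subtype.ext (by
        show (v : G) ^ r = 1
        rw [← hX]; exact orderOf_dvd_iff_pow_eq_one.1 (X.orderOf_dvd_natCard v.2))⟩
  have hg : Function.Injective g := by
    rintro (_ | v) (_ | v') e
    · rfl
    · have e' : x = (v' : G) := congrArg (fun w => (((Subtype.val w : A)) : G)) e
      exact absurd (e' ▸ v'.2) hne
    · have e' : (v : G) = x := congrArg (fun w => (((Subtype.val w : A)) : G)) e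
      exact absurd (e' ▸ v.2) hne
    · have e' : (v : G) = (v' : G) := congrArg (fun w => (((Subtype.val w : A)) : G)) e
      exact congrArg some (Subtype.ext e')
  have h1 : Nat.card {v : A // v ^ r = 1} ≤ r := by
    rw [Nat.card_eq_fintype_card, Fintype.card_subtype]
    exact IsCyclic.card_pow_eq_one_le hr.pos
  have h2 := (Nat.card_le_card_of_injective g hg).trans h1
  rw [Finite.card_option, hX] at h2
  omega

/-- The line data of a prime dividing `|A|`. -/
theorem exists_lineData (hz : orderOf z = 2) {r : ℕ} (hr : r.Prime)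
    (hne : qcore r z ⊓ O ≠ ⊥) :
    ∃ X : Subgroup G, X ≤ fit z ⊓ O ∧
      LineData (centralizer ({z} : Set G)) N (qcore r z) X r τ := by
  haveI := Fact.mk hr
  have hle : qcore r z ⊓ O ≤ fit z ⊓ O := inf_le_inf_right _ (qcore_le_fit hr z)
  obtain ⟨n, hn⟩ := ((qcore_isPGroup (q := r) z).to_le
    (inf_le_left : qcore r z ⊓ O ≤ qcore r z)).exists_card_eq
  have hn0 : n ≠ 0 := fun e => hne (eq_bot_of_card_eq _ (by rw [hn, e, pow_zero]))
  obtain ⟨⟨a, ha⟩, hao⟩ := exists_prime_orderOf_dvd_card' (G := (qcore r z ⊓ O : Subgroup G)) r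
    (by rw [hn]; exact dvd_pow_self r hn0)
  rw [orderOf_mk] at hao
  have hcard : Nat.card (zpowers a) = r := by rw [Nat.card_zpowers, hao]
  have hXA : zpowers a ≤ fit z ⊓ O := zpowers_le.2 (hle ha)
  have hX1 : zpowers a ≠ ⊥ := fun e => hr.one_lt.ne' (by rw [← hcard, e, card_bot])
  have hr2 : r ≠ 2 := fun e => hne (by rw [e, qcore_two]; exact eq_bot_iff.2 inf_le_left)
  have hNX := h.hAX _ hX1 hXA
  refine ⟨zpowers a, hXA, hr, hr2, qcore_isPGroup z, centralizer_le_normalizer_qcore r z, hcard,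
    zpowers_le.2 ha.1, hNX, fun hC => h.hCN (hC.trans hNX), fun x hx y hy =>
      h.fit_comm hz x ⟨qcore_le_fit hr z hx.1, hx.2⟩ y ⟨qcore_le_fit hr z hy.1, hy.2⟩, ?_,
    h.S_le h.hτS, Small.mul_self_of_orderOf_two h.hτ, fun x hx hc hxr => ?_⟩
  · refine le_trans ?_ (h.omega_le hz hr)
    exact Nat.card_le_card_of_injective
      (fun x => ⟨x.1, ⟨qcore_le_fit hr z x.2.1.1, x.2.1.2⟩, x.2.2⟩)
      (fun x y e => Subtype.ext (congrArg (fun w => w.1) e))
  · have hxF := qcore_le_fit hr z hx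
    exact h.mem_line hz hr hcard hXA
      ⟨hxF, h.hfit ⟨hxF, mem_centralizer_singleton_iff.2 hc.symm⟩⟩ hxr

/-- For a prime dividing `|A|` only the irreducible case is left. -/
theorem exists_irred (hG : Minimal G) (hz : orderOf z = 2) {r : ℕ} {X : Subgroup G}
    (hXA : X ≤ fit z ⊓ O) (hL : LineData (centralizer ({z} : Set G)) N (qcore r z) X r τ) :
    ∃ Z Y : Subgroup G, Irred z (core z) (qcore r z) X r τ Z Y := by
  obtain ⟨e⟩ := h.iso
  haveI : Fact r.Prime := ⟨hL.hr⟩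
  rcases hG.caseTwo_split hz e h.hF h.hON h.hKN h.hOn h.hKn h.hOodd h.hcomm h.hidx h.hzK S h.hSN h.hS
    h.hW h.hσS h.hτS h.hk h.hσ h.hτ h.hrel h.hnot h.hzσ h.hcard hL (qcore_le_core r z)
    (fun y hy => h.sigma_centralizes hz y (qcore_le_core r z hy)) with ⟨E, hE, hXE, hEN, hEC⟩ | hI
  swap
  · exact hI
  exfalso
  obtain ⟨w, hw, hwX⟩ : ∃ w ∈ E, w ∉ X := by
    by_contra hcon
    push Not at hcon
    have h1 := card_le_of_le (show E ≤ X from hcon)
    rw [hE, hL.hX, pow_two] at h1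
    have := hL.hr.two_le
    nlinarith
  obtain ⟨o, ho, x, hxK, -, hxz, -, rfl⟩ :=
    h.fit_parts hz (qcore_le_fit hL.hr z (hEN hw).1) (hEN hw).2
  have hexp : ∀ v ∈ E, v ^ r = 1 := by
    intro v hv
    haveI : IsMulCommutative E := IsPGroup.isMulCommutative_of_card_eq_prime_sq hE
    by_contra hne
    have hv2 : orderOf v = r ^ 2 := by
      obtain ⟨i, hi, hiv⟩ := (Nat.dvd_prime_pow hL.hr).1 (hE ▸ E.orderOf_dvd_natCard hv)
      interval_cases i
      · rw [pow_zero, orderOf_eq_one_iff] at hiv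
        exact absurd (by rw [hiv, one_pow]) hne
      · rw [pow_one] at hiv
        exact absurd (orderOf_dvd_iff_pow_eq_one.1 hiv.dvd) hne
      · exact hiv
    have hEz : zpowers v = E :=
      eq_of_le_of_card_ge (zpowers_le.2 hv) (by rw [Nat.card_zpowers, hv2, hE])
    -- a cyclic plane has only one line
    have hfit2 : ∀ c ∈ centralizer ({z} : Set G), ∀ y ∈ X, c * y * c⁻¹ ∈ X := by
      intro c hc y hy
      have hXp : X = zpowers (v ^ r) := by
        refine eq_of_le_of_card_ge ?_ ?_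
        · intro y hy
          have hyE := hXE hy
          rw [← hEz] at hyE
          obtain ⟨j, rfl⟩ := mem_powers_iff_mem_zpowers.2 hyE
          have h1 : orderOf v ∣ j * r := orderOf_dvd_of_pow_eq_one (by
            rw [pow_mul, ← hL.hX]; exact orderOf_dvd_iff_pow_eq_one.1 (X.orderOf_dvd_natCard hy))
          rw [hv2, pow_two] at h1
          obtain ⟨m, rfl⟩ := Nat.dvd_of_mul_dvd_mul_right hL.hr.pos h1
          show v ^ (r * m) ∈ zpowers (v ^ r)
          rw [pow_mul]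
          exact pow_mem (mem_zpowers _) m
        · rw [Nat.card_zpowers, orderOf_pow' v hL.hr.ne_zero, hv2, hL.hX,
            Nat.gcd_eq_right (dvd_pow_self r two_ne_zero), pow_two, Nat.mul_div_cancel _ hL.hr.pos]
      rw [hXp] at hy ⊢
      obtain ⟨j, rfl⟩ := hy
      have hcv : c * v * c⁻¹ ∈ zpowers v := hEz.symm ▸ (mem_normalizer_iff.1 (hEC hc) v).1 hv
      obtain ⟨i, hi⟩ := hcv
      replace hi : v ^ i = c * v * c⁻¹ := hi
      refine ⟨i * j, ?_⟩
      show (v ^ r) ^ (i * j) = c * (v ^ r) ^ j * c⁻¹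
      rw [← conj_zpow, ← conj_pow, ← hi, zpow_mul]
      congr 1
      rw [← zpow_natCast v r, ← zpow_natCast (v ^ i) r, ← zpow_mul, ← zpow_mul, mul_comm]
    exact h.hCN fun c hc => hL.hNX (mem_normalizer_iff.2 fun y => ⟨hfit2 c hc y, fun hy => by
      simpa [mul_assoc] using hfit2 c⁻¹ (inv_mem hc) _ hy⟩)
  have hox : Commute o x := h.hcomm o ho.2 x hxK
  have hwr := hexp _ hw
  rw [hox.mul_pow] at hwr
  have hxr : x ^ r = 1 := h.eq_one_of_mem_inf hz
    (by rw [eq_inv_of_mul_eq_one_right hwr]; exact inv_mem (pow_mem ho.2 r)) (pow_mem hxK r)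
  rw [hxr, mul_one] at hwr
  have hx1 : x ≠ 1 := fun e1 => hwX (by
    rw [e1, mul_one]; exact h.mem_line hz hL.hr hL.hX hXA ho hwr)
  exact hG.false_of_component_plane hz e h.hF h.hON h.hKN h.hOn h.hKn h.hOodd h.hcomm h.hidx h.hzK S
    h.hSN h.hS (fun b hb hbz hzb => h.card_fix hG hz hb hbz hzb) hL.hr
    (hL.hr.odd_of_ne_two hL.hr2) hL.hX hE (hXA.trans inf_le_right) hXE
    (((hEN.trans inf_le_left).trans (qcore_le_core r z)).trans (core_le z))
    ⟨o, ho.2, x, hxK, hw, orderOf_eq_prime hxr hx1⟩ hEC hL.hNX h.hCN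

end Inner

/-- Case 4.1 with an inner component does not occur. -/
theorem Minimal.false_of_inner (hG : Minimal G) (hz : orderOf z = 2)
    (h : Inner z N O K F S σ τ k) : False := by
  classical
  haveI := hG.simple
  haveI : Fact (Nat.Prime 2) := ⟨Nat.prime_two⟩
  haveI := Fintype.ofFinite G
  set U := core z with hUdef
  set C := centralizer ({z} : Set G)
  haveI : Fintype C := Fintype.ofFinite _
  have hFr : Tw.Frame z U := Tw.frame_core hG hz
  have hOU := h.O_le_core hG hz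
  -- the elements acting trivially on every `Y/Z`
  let M : Subgroup G :=
    { carrier := {u | u ∈ U ∧ ∀ (r : ℕ) (X Z Y : Subgroup G), X ≤ fit z ⊓ O →
        LineData C N (qcore r z) X r τ → Irred z U (qcore r z) X r τ Z Y →
          ∀ y ∈ Y, ⁅u, y⁆ ∈ Z}
      one_mem' := ⟨one_mem _, fun r X Z Y _ _ _ y _ => by simp⟩
      mul_mem' := fun {u v} hu hv => ⟨mul_mem hu.1 hv.1, fun r X Z Y hX hL hI y hy => by
        rw [show ⁅u * v, y⁆ = u * ⁅v, y⁆ * u⁻¹ * ⁅u, y⁆ by
          simp only [commutatorElement_def]; group]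
        exact mul_mem ((mem_normalizer_iff.1 (hI.hZC (core_le z hu.1)) _).1
          (hv.2 r X Z Y hX hL hI y hy)) (hu.2 r X Z Y hX hL hI y hy)⟩
      inv_mem' := fun {u} hu => ⟨inv_mem hu.1, fun r X Z Y hX hL hI y hy => by
        rw [show ⁅u⁻¹, y⁆ = u⁻¹ * ⁅u, y⁆⁻¹ * u⁻¹⁻¹ by simp only [commutatorElement_def]; group]
        exact (mem_normalizer_iff.1 (hI.hZC (core_le z (inv_mem hu.1))) _).1
          (inv_mem (hu.2 r X Z Y hX hL hI y hy))⟩ }
  have hMn : core z ≤ normalizer (M : Set G) := by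
    have key : ∀ g ∈ U, ∀ u ∈ M, g * u * g⁻¹ ∈ M := fun g hg u hu =>
      ⟨mul_mem (mul_mem hg hu.1) (inv_mem hg), fun r X Z Y hX hL hI y hy => by
        have hgC := core_le z hg
        have hy' : g⁻¹ * y * g ∈ Y := by
          simpa using (mem_normalizer_iff.1 (hI.hYC (inv_mem hgC)) y).1 hy
        rw [show ⁅g * u * g⁻¹, y⁆ = g * ⁅u, g⁻¹ * y * g⁆ * g⁻¹ by
          simp only [commutatorElement_def]; group]
        exact (mem_normalizer_iff.1 (hI.hZC hgC) _).1 (hu.2 r X Z Y hX hL hI _ hy')⟩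
    exact fun g hg => mem_normalizer_iff.2 fun u => ⟨key g hg u, fun hu => by
      simpa [mul_assoc] using key g⁻¹ (inv_mem hg) _ hu⟩
  -- `U ∩ N` normalises every line, hence lies in `M`
  have hUNM : U ⊓ N ≤ M := by
    rintro u ⟨huU, huN⟩
    refine ⟨huU, fun r X Z Y hXA hL hI y hy => ?_⟩
    obtain ⟨ρ, hker, -, -, -, -, hlast⟩ :=
      hI.action hFr hL S h.S_le (h.two_ways hz (qcore_le_core r z))
    refine (hker ⟨u, huU⟩).1 (hlast ⟨u, huU⟩ ?_) y hy
    have key : ∀ g ∈ U ⊓ N, ∀ x ∈ X, g * x * g⁻¹ ∈ X := fun g hg x hx => by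
      refine h.mem_line hz hL.hr hL.hX hXA ⟨?_, (mem_normalizer_iff.1 (h.hOn hg.2) x).1 (hXA hx).2⟩
        (by rw [conj_pow, hL.pow_X x hx, mul_one, mul_inv_cancel])
      exact (mem_normalizer_iff.1 (centralizer_le_normalizer_fit z (core_le z hg.1)) x).1 (hXA hx).1
    exact mem_normalizer_iff.2 fun x => ⟨key u ⟨huU, huN⟩ x, fun hx => by
      simpa [mul_assoc] using key u⁻¹ (inv_mem (show u ∈ U ⊓ N from ⟨huU, huN⟩)) _ hx⟩
  have hMF : M ≤ fit z := by
    refine le_fit_of_coprime_action (fun u hu => hu.1) hMn fun p hp x hx hxp v hv => ?_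
    haveI := Fact.mk hp
    rcases eq_or_ne (qcore p z ⊓ O) ⊥ with e0 | hne
    · exact h.commute_of_inverted hG hz (qcore_le_core p z) (centralizer_le_normalizer_qcore p z)
        (h.qcore_le_K hz hp e0).2.2 x hx.1 v hv
    obtain ⟨X, hXA, hL⟩ := h.exists_lineData hz hp hne
    obtain ⟨Z, Y, hI⟩ := h.exists_irred hG hz hXA hL
    have hZp : ∀ c ∈ Z, c ^ p = 1 := fun c hc => hI.hexp c (hI.hZY hc)
    have hxY : ∀ y ∈ Y, x * y = y * x := fun y hy =>
      commute_of_conj_coprime (c := ⁅x, y⁆) (hZp _ (hx.2 p X Z Y hXA hL hI y hy)) hxp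
        (hI.hUZ x hx.1 _ (hx.2 p X Z Y hXA hL hI y hy))
        (by rw [commutatorElement_def, inv_mul_cancel_right])
    have hxN : x ∈ N := hL.hNX (centralizer_le_normalizer _ (mem_centralizer_iff.2 fun w hw =>
      (hxY w (hI.hXY hw)).symm))
    set R := qcore p z with hR
    set B := R ⊓ N with hB
    have hxR : x ∈ normalizer (R : Set G) := core_le_normalizer_qcore p z hx.1
    have hxB : x ∈ normalizer (B : Set G) := mem_normalizer_iff.2 fun w => by
      constructor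
      · intro hw
        exact ⟨(mem_normalizer_iff.1 hxR w).1 hw.1, N.mul_mem (N.mul_mem hxN hw.2) (N.inv_mem hxN)⟩
      · intro hw
        refine ⟨(mem_normalizer_iff.1 hxR w).2 hw.1, ?_⟩
        have := N.mul_mem (N.mul_mem (N.inv_mem hxN) hw.2) hxN
        rwa [show x⁻¹ * (x * w * x⁻¹) * x = w by group] at this
    -- the elements of order `p` of `R ∩ N` are `X Z`
    have hXR : ∀ c ∈ X, c ∈ B := fun c hc => ⟨hL.hXR hc, h.hON (hXA hc).2⟩
    have hZB : ∀ c ∈ Z, c ∈ B := fun c hc => ⟨hI.hYR (hI.hZY hc), hL.fix_le_N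
      ⟨hI.hYR (hI.hZY hc), mem_centralizer_iff.2 fun d hd => (hI.hZR c hc d (hL.hXR hd)).symm⟩⟩
    have hdisj : ∀ c ∈ X, c ∈ Z → c = 1 := fun c hc hc' =>
      eq_one_of_fixed_inverted (b := τ) (qcore_le_core p z (hL.hXR hc))
        (by rw [hI.b_fix hL c hc, mul_inv_cancel_right]) (hI.hbZ c hc')
    have homega : ∀ w ∈ B, w ^ p = 1 → w ∈ Y := by
      intro w hw hwp
      let f : X × Z → {u : G // u ∈ B ∧ u ^ p = 1} := fun cd => ⟨(cd.1 : G) * cd.2,
        mul_mem (hXR _ cd.1.2) (hZB _ cd.2.2), by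
          rw [(show Commute (cd.1 : G) cd.2 from
            (hI.hZR _ cd.2.2 _ (hL.hXR cd.1.2)).symm).mul_pow, hL.pow_X _ cd.1.2, hZp _ cd.2.2,
            one_mul]⟩
      have hf : Function.Injective f := by
        rintro ⟨⟨c₁, hc₁⟩, ⟨d₁, hd₁⟩⟩ ⟨⟨c₂, hc₂⟩, ⟨d₂, hd₂⟩⟩ e1
        have e2 : c₁ * d₁ = c₂ * d₂ := congrArg Subtype.val e1
        have e3 : c₂⁻¹ * c₁ = d₂ * d₁⁻¹ := by
          rw [eq_mul_inv_iff_mul_eq, mul_assoc, e2, inv_mul_cancel_left]
        have e4 := hdisj _ (mul_mem (inv_mem hc₂) hc₁) (e3 ▸ mul_mem hd₂ (inv_mem hd₁))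
        have e5 : c₂ = c₁ := inv_mul_eq_one.1 e4
        subst e5
        have e6 : d₁ = d₂ := mul_left_cancel e2
        subst e6
        rfl
      have hsurj : Function.Surjective f := by
        refine (hf.bijective_of_nat_card_le ?_).2
        refine le_trans (hL.hrank) ?_
        rw [Nat.card_prod, hL.hX, hI.hZ, pow_two]
      obtain ⟨⟨c, d⟩, hcd⟩ := hsurj ⟨w, hw, hwp⟩
      rw [show w = (c : G) * d from (congrArg Subtype.val hcd).symm]
      exact mul_mem (hI.hXY c.2) (hI.hZY d.2)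
    have hBfix : ∀ w ∈ B, x * w = w * x :=
      commute_of_omega ((qcore_isPGroup z).to_le inf_le_left) hL.hab hxB hxp
        fun w hw hwp => hxY w (homega w hw hwp)
    refine (mem_centralizer_iff.1 (CharPLocal.commute_of_axb (U := R) (R := B) (qcore_isPGroup z)
      ((qcore_isPGroup z).to_le inf_le_left) (x := x) hxp hxR
      (mem_centralizer_iff.2 fun w hw => (hBfix w hw).symm) (inf_le_left.trans le_normalizer)
      fun w hw hwc => ?_) v hv).symm
    refine (hBfix w ⟨hw, hL.hNX (centralizer_le_normalizer _ (mem_centralizer_iff.2 fun c hc =>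
      mem_centralizer_iff.1 hwc c (hXR c hc)))⟩).symm
  have hUNF : U ⊓ N ≤ fit z := hUNM.trans hMF
  have hOA : fit z ⊓ O = O := inf_eq_right.2 fun o ho => hUNF ⟨hOU ho, h.hON ho⟩
  have hUN : ∀ u ∈ U ⊓ N, ∀ v ∈ U ⊓ N, u * v = v * u := fun u hu v hv =>
    h.fit_comm hz u ⟨hUNF hu, hu.2⟩ v ⟨hUNF hv, hv.2⟩
  -- `N = O × K`
  have hgen : ∀ n ∈ N, ∃ x ∈ O, ∃ l ∈ K, n = x * l := by
    intro n hn
    obtain ⟨l, hl, u, hu, rfl⟩ := h.exists_parts hG hz hn
    obtain ⟨o, ho, t, ht, -, -, -, rfl⟩ := h.fit_parts hz (hUNF hu) hu.2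
    exact ⟨o, ho.2, l * t, mul_mem hl ht, by
      rw [← mul_assoc, ← mul_assoc, ← h.hcomm o ho.2 l hl]⟩
  have hOc : IsCyclic O := by rw [← hOA]; exact h.isCyclic_A hz
  -- a prime dividing `|A|`
  obtain ⟨a, ha, ha1⟩ : ∃ a ∈ fit z ⊓ O, a ≠ 1 := by
    haveI : Nontrivial (fit z ⊓ O : Subgroup G) := (nontrivial_iff_ne_bot _).2 h.hA
    exact exists_ne_one_of_nontrivial _
  obtain ⟨r, j, hr, hj, hj1⟩ := exists_pow_mem_qcore ha.1 ha1
  have hne : qcore r z ⊓ O ≠ ⊥ := fun e0 => hj1 (by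
    have : a ^ j ∈ qcore r z ⊓ O := ⟨hj, pow_mem ha.2 j⟩
    rwa [e0, mem_bot] at this)
  haveI := Fact.mk hr
  obtain ⟨X, hXA, hL⟩ := h.exists_lineData hz hr hne
  obtain ⟨Z, Y, hI⟩ := h.exists_irred hG hz hXA hL
  -- an element of order `r` of the torus
  obtain ⟨ζ, hζ, hζ1⟩ : ∃ c ∈ Z, c ≠ 1 := by
    haveI : Nontrivial Z := by rw [← Finite.one_lt_card_iff_nontrivial, hI.hZ]; exact hr.one_lt
    exact exists_ne_one_of_nontrivial _
  have hζR : ζ ∈ qcore r z := hI.hYR (hI.hZY hζ)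
  obtain ⟨o, ho, t, htK, -, htz, -, hot⟩ := h.fit_parts hz (qcore_le_fit hr z hζR)
    (hL.fix_le_N ⟨hζR, mem_centralizer_iff.2 fun d hd => (hI.hZR ζ hζ d (hL.hXR hd)).symm⟩)
  obtain ⟨T, -, -, hT1, -, hT2⟩ := h.exists_torus hz
  have ho1 : o = 1 := by
    have e1 := hI.hbZ ζ hζ
    rw [hot, show τ * (o * t) * τ⁻¹ = (τ * o * τ⁻¹) * (τ * t * τ⁻¹) by group,
      ← h.hcomm o ho.2 τ h.tau_mem, mul_inv_cancel_right, hT2 t (hT1 t htK htz (by
        refine (odd_orderOf_core (qcore_le_core r z hζR)).of_dvd_nat ?_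
        refine orderOf_dvd_of_pow_eq_one (h.eq_one_of_mem_inf hz ?_ (pow_mem htK _))
        have h2 := pow_orderOf_eq_one ζ
        nth_rw 1 [hot] at h2
        rw [(show Commute o t from h.hcomm o ho.2 t htK).mul_pow] at h2
        rw [eq_inv_of_mul_eq_one_right h2]
        exact inv_mem (pow_mem ho.2 _))), mul_inv_rev, ← h.hcomm o⁻¹ (inv_mem ho.2) t⁻¹ (inv_mem htK)]
      at e1
    exact eq_one_of_eq_inv (fit_le_core z ho.1) (mul_right_cancel e1)
  rw [ho1, one_mul] at hot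
  subst hot
  have hζo : orderOf ζ = r := orderOf_eq_prime (hI.hexp ζ (hI.hZY hζ)) hζ1
  obtain ⟨e⟩ := h.iso
  set zK : K := ⟨z, h.hzK⟩
  set m := Nat.card (centralizer ({zK} : Set K)) with hm
  have hzo : orderOf (e zK) = 2 := by rw [MulEquiv.orderOf_eq, orderOf_mk, hz]
  have hmq := card_centralizer_involution_psl h.hF hzo
  have hm' : Nat.card (centralizer ({e zK} : Set _)) = m := by
    refine (Nat.card_congr (Equiv.subtypeEquiv e.toEquiv fun a => ?_)).symm
    rw [mem_centralizer_singleton_iff, mem_centralizer_singleton_iff]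
    show _ ↔ e a * e zK = e zK * e a
    rw [← map_mul, ← map_mul, e.injective.eq_iff]
  rw [hm'] at hmq
  have hrm : r ∣ m := by
    rw [← hζo, hm]
    have := orderOf_dvd_natCard (⟨⟨ζ, htK⟩, mem_centralizer_singleton_iff.2
      (Subtype.ext htz)⟩ : centralizer ({zK} : Set K))
    rwa [← Subgroup.orderOf_coe, ← Subgroup.orderOf_coe] at this
  have hSm : 2 * 2 ^ k ∣ m := by
    rw [← h.hcard, ← Nat.card_congr (subgroupOfEquivOfLe h.sylow_le_K).toEquiv, hm]
    exact card_dvd_of_le fun s hs => mem_centralizer_singleton_iff.2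
      (Subtype.ext (h.hS s (mem_subgroupOf.1 hs)))
  have h4 : 2 * 2 ^ k * r ∣ m := Nat.Coprime.mul_dvd_of_dvd_of_dvd (by
    rw [← pow_succ']
    exact Nat.Coprime.pow_left _ ((Nat.coprime_primes Nat.prime_two hr).2 hL.hr2.symm)) hSm hrm
  obtain ⟨i, rfl⟩ : ∃ i, k = i + 1 := ⟨k - 1, by have := h.hk; omega⟩
  have hσh : σ ^ 2 ^ i = z := by simpa using h.pow_half hz
  have hidx : U.relIndex C = 4 * 2 ^ i := by
    obtain ⟨hC, -⟩ := hFr.exists_test_dihedral h.S_le h.hσS h.hτS h.hk h.hσ h.hτ h.hrel h.hnot h.hzσ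
      (fun c hc => hG.decomp hz h.hS hc) h.hcard
    have h2 := relIndex_mul_relIndex ⊥ U C bot_le hFr.le
    rw [relIndex_bot_left, relIndex_bot_left, hC, mul_comm] at h2
    rw [Nat.eq_of_mul_eq_mul_right Nat.card_pos h2, pow_succ]
    ring
  have hstable : ∀ c ∈ C, ∃ y ∈ zpowers σ, ∃ u ∈ U, c * σ * c⁻¹ = y * u := by
    intro c hc
    obtain ⟨u, hu, s, hs, rfl⟩ := hG.decomp hz h.hS hc
    have hss : s * σ * s⁻¹ ∈ zpowers σ := by
      rcases h.elems hs with hm | ⟨j', hj'⟩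
      · exact mul_mem (mul_mem hm (mem_zpowers σ)) (inv_mem hm)
      · have e2 : s = τ * σ ^ j' := by
          rw [show σ ^ j' = τ * s from hj', ← mul_assoc, Small.mul_self_of_orderOf_two h.hτ, one_mul]
        refine ⟨-1, ?_⟩
        show σ ^ (-1 : ℤ) = s * σ * s⁻¹
        rw [zpow_neg_one, ← h.hrel, e2]
        group
    have hcm : ∀ y ∈ zpowers σ, u * y * u⁻¹ = y := by
      rintro _ ⟨j', rfl⟩
      rw [← ((show Commute σ u from h.sigma_centralizes hz u hu).zpow_left j').eq,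
        mul_inv_cancel_right]
    exact ⟨_, hss, 1, one_mem _, by
      rw [mul_one, show u * s * σ * (u * s)⁻¹ = u * (s * σ * s⁻¹) * u⁻¹ by group, hcm _ hss]⟩
  refine false_of_irred (z := z) (σ := σ) (h := 2 ^ i) (N := N) (A := O) (L := K) hFr hidx
    Nat.one_le_two_pow ⟨i, rfl⟩ (by rw [h.hσ, pow_succ']) hσh (h.sigma_centralizes hz) hstable hL
    (qcore_le_core r z) hI S h.S_le (h.two_ways hz (qcore_le_core r z)) hUN h.hON h.hKN h.hcomm
    (fun x hx hxK => h.eq_one_of_mem_inf hz hx hxK) hgen h.hOodd hOc (hXA.trans inf_le_right) e h.hF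
    ?_ ?_
  · rcases hmq with ⟨h1, h2⟩ | ⟨h1, h2⟩
    · exact Or.inl ⟨h1, h2 ▸ hrm⟩
    · exact Or.inr ⟨h1, h2 ▸ hrm⟩
  · have h5 := Nat.le_of_dvd Nat.card_pos h4
    rw [← hm, show 2 * 2 ^ (i + 1) * r = 4 * 2 ^ i * r by rw [pow_succ]; ring] at h5
    rcases hmq with ⟨-, h2⟩ | ⟨-, h2⟩ <;> omega

end CfsgLib.GW
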