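import Cfsg.Agent.GW.InnerFacts
import Cfsg.Agent.GW.CaseTwoTwist

/-!
# Gorenstein–Walter 4.1: nothing inverted by a reflection is moved by the core
-/

set_option autoImplicit false
set_option linter.style.haveILetI false
set_option linter.unusedSectionVars false

open Subgroup

namespace CfsgLib.GW

universe u

variable {G : Type u} [Group G] [Finite G] {z : G} {N O K : Subgroup G} {F : Type} [Field F]
  [Fintype F] {S : Sylow 2 G} {σ τ : G} {k : ℕ}

/-- A subgroup of the core, normal in `C(z)` and inverted by `τ`, is centralised by the core. -/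
theorem Inner.commute_of_inverted (h : Inner z N O K F S σ τ k) (hG : Minimal G)
    (hz : orderOf z = 2) {P : Subgroup G} (hPU : P ≤ core z)
    (hPC : centralizer ({z} : Set G) ≤ normalizer (P : Set G))
    (hinv : ∀ y ∈ P, τ * y * τ⁻¹ = y⁻¹) : ∀ u ∈ core z, ∀ y ∈ P, u * y = y * u := by
  classical
  haveI := hG.simple
  haveI := Fintype.ofFinite G
  haveI : Fintype (centralizer ({z} : Set G)) := Fintype.ofFinite _
  haveI : Fact (Nat.Prime 2) := ⟨Nat.prime_two⟩
  by_contra hcon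
  push Not at hcon
  obtain ⟨u, hu, y, hy, hne⟩ := hcon
  set U := core z
  have hFr : Tw.Frame z U := Tw.frame_core hG hz
  obtain ⟨e⟩ := h.iso
  have hTP : ∀ t ∈ (S : Subgroup G),
      (∀ w ∈ P, t * w * t⁻¹ = w) ∨ ∀ w ∈ P, (τ * t) * w * (τ * t)⁻¹ = w := fun t ht =>
    (h.two_ways hz hPU t ht).imp (fun e' w hw => by rw [e' w hw, mul_inv_cancel_right])
      (fun e' w hw => by rw [e' w hw, mul_inv_cancel_right])
  obtain ⟨L, hL1, v, hv, hL2⟩ := exists_twist hFr S h.S_le hTP hPC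
    (hFr.odd.of_dvd_nat (card_dvd_of_le hPU)) hinv hu
    (fun e' => hne (mul_inv_eq_iff_eq_mul.1 (e' y hy)))
  have hconj : ∀ x : G, orderOf x = 2 → IsConj x z := fun x hx => hG.isConj hx hz
  have hfus : Tw.Fused U ({L} : Finset (Tw.Lin z)) := by
    refine hFr.fused_of_cycles hconj ?_
    intro b hb hzb hcomm'
    have hbC : b ∈ centralizer ({z} : Set G) := mem_centralizer_singleton_iff.2 hcomm'.symm
    obtain ⟨c, hc, hcS⟩ := exists_conj_mem_sylow S h.S_le hbC ⟨1, by rw [hb, pow_one]⟩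
    set b' := c * b * c⁻¹
    have hb' : orderOf b' = 2 := by rw [Small.orderOf_conj_eq, hb]
    have hcz : c * z * c⁻¹ = z := by
      rw [mem_centralizer_singleton_iff.1 hc, mul_inv_cancel_right]
    have hzb' : z ≠ b' := fun e' => hzb (by
      rw [← hcz] at e'
      exact mul_left_cancel (mul_right_cancel e'))
    obtain ⟨g, -, hg, hgw⟩ := exists_centralizing_cycle e h.hF hz hb' hzb' (h.hS b' hcS).symm h.hzK
      (h.mem_K (h.hSN hcS) hb') h.hKn hFr.odd hFr.le hFr.mem (h.hW b' hb' hcS hzb'.symm)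
    refine ⟨c⁻¹ * g * c, ?_, fun w hw hwb => ?_⟩
    · calc c⁻¹ * g * c * z * (c⁻¹ * g * c)⁻¹ = c⁻¹ * (g * (c * z * c⁻¹) * g⁻¹) * c := by group
        _ = c⁻¹ * b' * c := by rw [hcz, hg]
        _ = b := by simp only [b']; group
    · have hw' : g * (c * w * c⁻¹) = c * w * c⁻¹ * g := hgw _ (hFr.conj_mem c hc w hw) (by
        calc c * w * c⁻¹ * (c * b * c⁻¹) = c * (w * b) * c⁻¹ := by group
          _ = c * (b * w) * c⁻¹ := by rw [hwb]
          _ = c * b * c⁻¹ * (c * w * c⁻¹) := by group)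
      have e' : (c⁻¹ * g * c)⁻¹ * w * (c⁻¹ * g * c) = w := by
        calc (c⁻¹ * g * c)⁻¹ * w * (c⁻¹ * g * c) = c⁻¹ * (g⁻¹ * (c * w * c⁻¹ * g)) * c := by group
          _ = c⁻¹ * (g⁻¹ * (g * (c * w * c⁻¹))) * c := by rw [hw']
          _ = w := by group
      rw [e']
  have hdec : ∀ c ∈ centralizer ({z} : Set G), ∃ u ∈ U, ∃ s ∈ (S : Subgroup G), c = u * s :=
    fun c hc => hG.decomp hz h.hS hc
  obtain ⟨hindex, φ, hφ, hn, hφ1⟩ := hFr.exists_test_dihedral h.S_le h.hσS h.hτS h.hk h.hσ h.hτ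
    h.hrel h.hnot h.hzσ hdec h.hcard
  obtain ⟨M, hM⟩ := exists_modular_two
  haveI : M.IsPrime := hM.2.1.isPrime
  haveI : Fintype P := Fintype.ofFinite P
  have hPab : ∀ x ∈ P, ∀ x' ∈ P, x * x' = x' * x := by
    intro x hx x' hx'
    have h1 : τ * (x * x') * τ⁻¹ = (τ * x * τ⁻¹) * (τ * x' * τ⁻¹) := by group
    rw [hinv _ (mul_mem hx hx'), hinv x hx, hinv x' hx'] at h1
    exact inv_injective (by rw [h1, mul_inv_rev])
  have hbig : ∀ Θ : Finset (Tw.Lin z), Tw.Big P Θ 6 := fun Θ =>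
    hFr.big_moved hPU hPab (h.S_le h.hτS) hinv hu (hPC (hFr.le hu)) hy hne Θ
  exact Tw.Frame.twist_false hFr hM L hL1 ⟨v, hv, hL2⟩ hfus h.hσ h.hzσ hindex P hPU
    (fun y' hy' => (h.sigma_centralizes hz y' (hPU hy')).symm) (N := 6) (by norm_num) (hbig _)
    (hbig _) hφ hn hφ1

end CfsgLib.GW
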