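import Cfsg.Agent.GW.ComponentData
import Cfsg.Agent.GW.ComponentOuter
import Cfsg.Agent.FusionSub.PSLTwo

/-!
# Gorenstein–Walter 4.1: the component of even index is impossible

From `CompData` with `|N : O K|` even: an involution of `N` outside `O K` commutes with `z`, the
primes of `F(O(C(z)))` divide `|C_K(z)|`, and `false_of_outer` applies.
-/

set_option autoImplicit false
set_option linter.style.haveILetI false
set_option linter.unusedSectionVars false

open Subgroup
open scoped Pointwise commutatorElement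

namespace CfsgLib.GW

universe u

variable {G : Type u} [Group G] [Finite G] {z : G} {N O K : Subgroup G} {F : Type} [Field F]
  [Fintype F] {τ : G}

/-- A 2-subgroup of dihedral type, a normal subgroup `M` with two commuting involutions: outside `M`
there is an involution. -/
theorem exists_involution_notMem {T : Type*} [Group T] [Finite T] {n : ℕ} {f : T →* DihedralGroup n}
    (hf : Function.Injective f) {M : Subgroup T} (hM : M ≠ ⊤) {a b : T} (ha : a ∈ M) (hb : b ∈ M)
    (ha2 : orderOf a = 2) (hb2 : orderOf b = 2) (hab : a ≠ b) : ∃ t, t ∉ M ∧ orderOf t = 2 := by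
  obtain ⟨m, hm, hmr⟩ : ∃ m ∈ M, f m ∉ rot n := by
    by_contra hcon
    push Not at hcon
    have h1 : ∀ {x : T}, orderOf x = 2 → f x ≠ 1 ∧ f x * f x = 1 := fun {x} hx =>
      ⟨fun e => Small.ne_one_of_orderOf_two hx (hf (e.trans (map_one f).symm)), by
        rw [← map_mul, Small.mul_self_of_orderOf_two hx, map_one]⟩
    rcases eq_of_mem_rot_of_sq (hcon a ha) (hcon b hb) (h1 ha2).2 (h1 hb2).2 with e | e | e
    · exact (h1 ha2).1 e
    · exact (h1 hb2).1 e
    · exact hab (hf e)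
  obtain ⟨t, ht⟩ : ∃ t, t ∉ M := by
    by_contra hcon
    push Not at hcon
    exact hM ((eq_top_iff' _).2 hcon)
  obtain ⟨u, huM, hur⟩ : ∃ u, u ∉ M ∧ f u ∉ rot n := by
    by_cases htr : f t ∈ rot n
    · refine ⟨m * t, fun e => ht ((Subgroup.mul_mem_cancel_left _ hm).1 e), fun e => hmr ?_⟩
      rw [map_mul] at e
      exact (Subgroup.mul_mem_cancel_right _ htr).1 e
    · exact ⟨t, ht, htr⟩
  exact ⟨u, huM, Small.orderOf_eq_two_iff_sq.2
    ⟨fun e => hur (by rw [e, map_one]; exact one_mem _),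
      hf (by rw [map_mul, map_one]; exact mul_self_of_notMem_rot _ hur)⟩⟩

namespace CompData

variable (h : CompData z N O K F τ)
include h

theorem z_mem : z ∈ N := h.hKN h.hzK

/-- An even index gives an involution outside commuting with `z`. -/
theorem exists_outer (hG : Minimal G) (hz : orderOf z = 2)
    (hidx : ¬ Odd ((O ⊔ K).relIndex N)) :
    ∃ σ ∈ N, orderOf σ = 2 ∧ σ * z = z * σ ∧ σ ∉ O ⊔ K := by
  classical
  haveI : Fact (Nat.Prime 2) := ⟨Nat.prime_two⟩
  obtain ⟨e⟩ := h.iso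
  have hMle : O ⊔ K ≤ N := sup_le h.hON h.hKN
  have hMn : N ≤ normalizer ((O ⊔ K : Subgroup G) : Set G) :=
    le_trans (le_inf h.hOn h.hKn) (normalizer_inf_normalizer_le_normalizer_sup O K)
  set M := (O ⊔ K).subgroupOf N
  haveI hMnormal : M.Normal := normal_subgroupOf_of_le_normalizer hMn
  set zN : N := ⟨z, h.z_mem⟩
  set tN : N := ⟨τ, h.hKN h.hτK⟩
  obtain ⟨hV, -⟩ := hG.four_spec hz h.hτ h.hne.symm h.hzτ
  obtain ⟨hV4, -⟩ := TwoGroups.isKleinFour_iff.1 hV
  obtain ⟨T, hT⟩ := ((IsPGroup.of_card (n := 2) (by rw [hV4]; rfl) :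
    IsPGroup 2 (closure ({z, τ} : Set G))).comap_subtype (K := N)).exists_le_sylow
  have hzT : zN ∈ (T : Subgroup N) := hT (show z ∈ closure ({z, τ} : Set G) from subset_closure (by simp))
  have htT : tN ∈ (T : Subgroup N) := hT (show τ ∈ closure ({z, τ} : Set G) from subset_closure (by simp))
  set MT := M.subgroupOf (T : Subgroup N)
  have hne : MT ≠ ⊤ := fun e0 => hidx (by
    rw [show (O ⊔ K).relIndex N = M.index from rfl]
    by_contra h2
    exact T.not_dvd_index (dvd_trans (even_iff_two_dvd.1 (Nat.not_odd_iff_even.1 h2))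
      (index_dvd_of_le (subgroupOf_eq_top.1 e0))))
  obtain ⟨n, f, hf⟩ := hG.dihType.subgroup N T T.isPGroup'
  obtain ⟨t, htM, ht2⟩ := exists_involution_notMem hf hne (a := ⟨zN, hzT⟩) (b := ⟨tN, htT⟩)
    (mem_subgroupOf.2 (mem_subgroupOf.2 (mem_sup_right h.hzK)))
    (mem_subgroupOf.2 (mem_subgroupOf.2 (mem_sup_right h.hτK)))
    (by rw [← orderOf_coe, ← orderOf_coe]; exact hz) (by rw [← orderOf_coe, ← orderOf_coe]; exact h.hτ)
    (fun e0 => h.hne (congrArg (fun x : T => ((x : N) : G)) e0).symm)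
  -- a central involution of `T` inside `K`
  have hMTne : MT ≠ ⊥ := fun e0 => by
    have hm : (⟨zN, hzT⟩ : T) ∈ MT := mem_subgroupOf.2 (mem_subgroupOf.2 (mem_sup_right h.hzK))
    rw [e0, mem_bot] at hm
    exact Small.ne_one_of_orderOf_two hz (congrArg (fun x : T => ((x : N) : G)) hm)
  obtain ⟨c, hcM, hc1, hcc⟩ := OS.exists_fixed_ne_one (P := MT) (Q := (⊤ : Subgroup T))
    (T.isPGroup'.to_subgroup _) (T.isPGroup'.to_subgroup _)
    (fun g _ => (normalizer_eq_top_iff.2 (inferInstance : MT.Normal)).symm ▸ mem_top g) hMTne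
  obtain ⟨k, hk⟩ := (IsPGroup.iff_orderOf (p := 2) (G := T)).1 T.isPGroup' c
  have hk0 : k ≠ 0 := fun e0 => hc1 (orderOf_eq_one_iff.1 (by rw [hk, e0, pow_zero]))
  set w := c ^ 2 ^ (k - 1) with hw
  have hwo : orderOf w = 2 := by
    rw [hw, orderOf_pow_of_dvd (pow_ne_zero _ two_ne_zero) (hk ▸ pow_dvd_pow 2 (Nat.sub_le _ _)), hk,
      Nat.pow_div (Nat.sub_le _ _) two_pos, show k - (k - 1) = 1 by omega, pow_one]
  set wG : G := ((w : N) : G)
  have hwG : orderOf wG = 2 := by rw [orderOf_coe, orderOf_coe, hwo]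
  have hwK : wG ∈ K := h.mem_K_of_sup (mem_subgroupOf.1 (mem_subgroupOf.1 (pow_mem hcM _))) hwG
  obtain ⟨g, hg⟩ := isConj_iff.1 (FusionSub.isConj_involutions_PSL_two h.hF
    (x := e ⟨wG, hwK⟩) (y := e ⟨z, h.hzK⟩)
    (by rw [MulEquiv.orderOf_eq, orderOf_mk, hwG]) (by rw [MulEquiv.orderOf_eq, orderOf_mk, hz]))
  set x := e.symm g with hx
  have hxz : (x : G) * wG * (x : G)⁻¹ = z := by
    have : x * ⟨wG, hwK⟩ * x⁻¹ = (⟨z, h.hzK⟩ : K) := e.injective (by
      rw [map_mul, map_mul, map_inv, hx, e.apply_symm_apply, hg])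
    exact congrArg Subtype.val this
  set tG : G := ((t : N) : G)
  refine ⟨(x : G) * tG * (x : G)⁻¹, mul_mem (mul_mem (h.hKN x.2) (t : N).2) (inv_mem (h.hKN x.2)),
    by rw [Small.orderOf_conj_eq, orderOf_coe, orderOf_coe, ht2], ?_, fun hmem => htM ?_⟩
  · have hcom : Commute tG wG := congrArg (fun v : T => ((v : N) : G))
      ((hcc t (mem_top t)).pow_right _).eq
    rw [← hxz]
    exact (hcom.map (MulAut.conj (x : G)).toMonoidHom).eq
  · refine mem_subgroupOf.2 (mem_subgroupOf.2 ?_)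
    have := mul_mem (mul_mem (inv_mem (mem_sup_right x.2 : (x : G) ∈ O ⊔ K)) hmem)
      (mem_sup_right x.2 : (x : G) ∈ O ⊔ K)
    rwa [show (x : G)⁻¹ * ((x : G) * tG * (x : G)⁻¹) * x = tG by group] at this

/-- A prime with a primary part divides `|C_K(z)|`: some element of order prime `r` of `K` commutes
with `z`. -/
theorem exists_torus_element (hz : orderOf z = 2) {r : ℕ} (hr : r.Prime) (hne : qcore r z ≠ ⊥) :
    ∃ t ∈ K, t * z = z * t ∧ orderOf t = r := by
  haveI := Fact.mk hr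
  by_contra hcon
  push Not at hcon
  set R := qcore r z
  -- the primary part of `fit z ⊓ N` lies in `O`
  have hRN : R ⊓ N ≤ O := by
    intro w hw
    obtain ⟨o, ho, t, htK, htF, htz, -, e⟩ := h.fit_parts hz (qcore_le_fit hr z hw.1) hw.2
    obtain ⟨i, hi⟩ := IsPGroup.iff_orderOf.1 (qcore_isPGroup (q := r) z) ⟨_, hw.1⟩
    rw [orderOf_mk] at hi
    have h1 := pow_orderOf_eq_one w
    rw [hi, e, (show Commute o t from h.hcomm o ho.2 t htK).mul_pow] at h1
    have h2 : t ^ r ^ i = 1 := h.eq_one_of_mem_inf hz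
      (by rw [eq_inv_of_mul_eq_one_right h1]; exact inv_mem (pow_mem ho.2 _)) (pow_mem htK _)
    by_cases ht1 : t = 1
    · rw [e, ht1, mul_one]; exact ho.2
    exfalso
    obtain ⟨j, -, hj⟩ := (Nat.dvd_prime_pow hr).1 (orderOf_dvd_of_pow_eq_one h2)
    have hj0 : j ≠ 0 := fun e0 => ht1 (orderOf_eq_one_iff.1 (by rw [hj, e0, pow_zero]))
    refine hcon (t ^ r ^ (j - 1)) (pow_mem htK _)
      ((show Commute t z from htz).pow_left _).eq ?_
    rw [orderOf_pow_of_dvd (pow_ne_zero _ hr.pos.ne') (hj ▸ pow_dvd_pow r (Nat.sub_le _ _)), hj,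
      Nat.pow_div (Nat.sub_le _ _) hr.pos, show j - (j - 1) = 1 by omega, pow_one]
  have hle : R ⊓ N ≤ fit z ⊓ O := le_inf (inf_le_left.trans (qcore_le_fit hr z)) hRN
  rcases eq_or_ne (R ⊓ N) ⊥ with e0 | hne'
  · -- then `R` centralises `A`
    refine hne (eq_bot_iff.2 (e0 ▸ le_inf le_rfl fun x hx => ?_))
    refine h.hAX _ h.hA le_rfl (centralizer_le_normalizer _ (mem_centralizer_iff.2 fun a ha => ?_))
    refine mem_centralizer_singleton_iff.1 ((le_of_primary (z := z) (Y := fit z ⊓ O)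
      (H := centralizer ({x} : Set G)) inf_le_left fun p hp y hy => ?_) ha)
    rcases eq_or_ne p r with rfl | hpr
    · have : y ∈ R ⊓ N := ⟨hy.2, h.hON hy.1.2⟩
      rw [e0, mem_bot] at this
      rw [this]; exact one_mem _
    · exact mem_centralizer_singleton_iff.2
        (mem_centralizer_iff.1 (qcore_commute hp hr hpr z hy.2) x hx).symm
  · by_cases hRle : R ≤ N
    · exact h.hCN ((centralizer_le_normalizer_qcore r z).trans
        (h.hAX R hne ((le_inf le_rfl hRle).trans hle)))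
    · have hlt : (R ⊓ N).subgroupOf R < ⊤ := lt_top_iff_ne_top.2 fun e1 =>
        hRle fun x hx => ((subgroupOf_eq_top.1 e1) hx).2
      haveI := (qcore_isPGroup (q := r) z).isNilpotent
      obtain ⟨⟨c, hcR⟩, hcn, hcM⟩ :=
        SetLike.exists_of_lt (Group.normalizerCondition_of_isNilpotent _ hlt)
      refine hcM (mem_subgroupOf.2 ⟨hcR, h.hAX _ hne' hle (mem_normalizer_iff.2 fun x => ?_)⟩)
      constructor
      · intro hx
        exact mem_subgroupOf.1 ((mem_normalizer_iff.1 hcn (⟨x, hx.1⟩ : R)).1 (mem_subgroupOf.2 hx))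
      · intro hx
        have hxR : x ∈ R := by
          have := mul_mem (mul_mem (inv_mem hcR) hx.1) hcR
          rwa [show c⁻¹ * (c * x * c⁻¹) * c = x by group] at this
        exact mem_subgroupOf.1
          ((mem_normalizer_iff.1 hcn (⟨x, hxR⟩ : R)).2 (mem_subgroupOf.2 hx))

/-- The line data of a prime dividing `|A|`. -/
theorem exists_lineData (hG : Minimal G) (hz : orderOf z = 2) :
    ∃ (r : ℕ) (X : Subgroup G), X ≤ O ∧
      LineData (centralizer ({z} : Set G)) N (qcore r z) X r τ := by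
  haveI := h.isCyclic_A hG hz
  obtain ⟨a0, ha0, ha01⟩ : ∃ a ∈ fit z ⊓ O, a ≠ 1 := by
    by_contra hcon
    push Not at hcon
    exact h.hA (eq_bot_iff.2 fun x hx => mem_bot.2 (hcon x hx))
  set r := (orderOf a0).minFac with hr'
  have ho1 : orderOf a0 ≠ 1 := fun e => ha01 (orderOf_eq_one_iff.1 e)
  have hr : r.Prime := Nat.minFac_prime ho1
  haveI := Fact.mk hr
  have hdvd : r ∣ orderOf a0 := Nat.minFac_dvd _
  set a := a0 ^ (orderOf a0 / r)
  have hao : orderOf a = r := by
    rw [orderOf_pow_of_dvd (Nat.div_pos (Nat.le_of_dvd (orderOf_pos a0) hdvd) hr.pos).ne'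
      (Nat.div_dvd_of_dvd hdvd), Nat.div_div_self hdvd (orderOf_pos a0).ne']
  have haA : a ∈ fit z ⊓ O := pow_mem ha0 _
  have hcard : Nat.card (zpowers a) = r := by rw [Nat.card_zpowers, hao]
  have hXA : zpowers a ≤ fit z ⊓ O := zpowers_le.2 haA
  have hX1 : zpowers a ≠ ⊥ := fun e => hr.one_lt.ne' (by rw [← hcard, e, card_bot])
  have hXR : zpowers a ≤ qcore r z :=
    le_qcore hr (hXA.trans inf_le_left) (IsPGroup.of_card (n := 1) (by rw [hcard, pow_one]))
  have hr2 : r ≠ 2 := fun e => hX1 (eq_bot_iff.2 (qcore_two z ▸ e ▸ hXR))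
  have hNX := h.hAX _ hX1 hXA
  refine ⟨r, zpowers a, hXA.trans inf_le_right, hr, hr2, qcore_isPGroup z,
    centralizer_le_normalizer_qcore r z, hcard, hXR, hNX, fun hC => h.hCN (hC.trans hNX),
    fun x hx y hy => h.fit_comm hG hz x ⟨qcore_le_fit hr z hx.1, hx.2⟩ y
      ⟨qcore_le_fit hr z hy.1, hy.2⟩, ?_, h.tau_C, Small.mul_self_of_orderOf_two h.hτ,
    fun x hx hc hxr => ?_⟩
  · refine le_trans ?_ (h.omega_le hG hz hr)
    exact Nat.card_le_card_of_injective
      (fun x => ⟨x.1, ⟨qcore_le_fit hr z x.2.1.1, x.2.1.2⟩, x.2.2⟩)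
      (fun x y e => Subtype.ext (congrArg (fun w => w.1) e))
  · have hxF := qcore_le_fit hr z hx
    have hxA : x ∈ fit z ⊓ O := ⟨hxF, h.hfit ⟨hxF, mem_centralizer_singleton_iff.2 hc.symm⟩⟩
    by_contra hxX
    classical
    set A := (fit z ⊓ O : Subgroup G)
    haveI : Fintype A := Fintype.ofFinite A
    let g : Option (zpowers a) → {v : A // v ^ r = 1} := fun o => match o with
      | none => ⟨⟨x, hxA⟩, Subtype.ext hxr⟩
      | some v => ⟨⟨v, hXA v.2⟩, Subtype.ext (by
          show (v : G) ^ r = 1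
          rw [← hcard]; exact orderOf_dvd_iff_pow_eq_one.1 ((zpowers a).orderOf_dvd_natCard v.2))⟩
    have hg : Function.Injective g := by
      rintro (_ | v) (_ | v') e
      · rfl
      · have e' : x = (v' : G) := congrArg (fun w => (((Subtype.val w : A)) : G)) e
        exact absurd (e' ▸ v'.2) hxX
      · have e' : (v : G) = x := congrArg (fun w => (((Subtype.val w : A)) : G)) e
        exact absurd (e' ▸ v.2) hxX
      · have e' : (v : G) = (v' : G) := congrArg (fun w => (((Subtype.val w : A)) : G)) e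
        exact congrArg some (Subtype.ext e')
    have h1 : Nat.card {v : A // v ^ r = 1} ≤ r := by
      rw [Nat.card_eq_fintype_card, Fintype.card_subtype]
      exact IsCyclic.card_pow_eq_one_le hr.pos
    have h2 := (Nat.card_le_card_of_injective g hg).trans h1
    rw [Finite.card_option, hcard] at h2
    omega

end CompData

/-- **Case 4.1 with a component of even index does not occur.** -/
theorem Minimal.false_of_even_index (hG : Minimal G) (hz : orderOf z = 2)
    (h : CompData z N O K F τ) (hidx : ¬ Odd ((O ⊔ K).relIndex N)) : False := by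
  obtain ⟨σ, hσN, hσ, hσz, hσK⟩ := h.exists_outer hG hz hidx
  obtain ⟨Q, _, _, π, L, _, hπ, hker, hπL, ⟨m⟩⟩ := h.exists_model hG hz
  obtain ⟨r, X, hXO, hL⟩ := h.exists_lineData hG hz
  have hA : IsCyclic (O ⊓ fit z : Subgroup G) := inf_comm (fit z) O ▸ h.isCyclic_A hG hz
  refine hG.false_of_outer hz π hπ hker h.hON h.hOodd m h.z_mem hσN hσ hσz
    ((hπL _).2 (mem_sup_right h.hzK)) (fun e => hσK ((hπL _).1 e)) hA hL hXO fun u hu hne => ?_
  obtain ⟨t, htK, htz, hto⟩ := h.exists_torus_element hz hu hne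
  set tN : N := ⟨t, h.hKN htK⟩
  have hmem : π tN ∈ (centralizer ({π ⟨z, h.z_mem⟩} : Set Q) ⊓ L : Subgroup Q) := by
    refine mem_inf.2 ⟨mem_centralizer_singleton_iff.2 ?_, (hπL _).2 (mem_sup_right htK)⟩
    rw [← map_mul, ← map_mul]
    exact congrArg π (Subtype.ext htz)
  have h1 : orderOf (π tN) = u := by
    haveI := Fact.mk hu
    refine orderOf_eq_prime (by rw [← map_pow, show tN ^ u = 1 from Subtype.ext (by
      rw [SubmonoidClass.coe_pow, ← hto]; exact pow_orderOf_eq_one t), map_one]) fun e => ?_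
    have := h.eq_one_of_mem_inf hz ((hker tN).1 e) htK
    rw [show t = 1 from this, orderOf_one] at hto
    exact hu.ne_one hto.symm
  rw [← h1]
  exact Subgroup.orderOf_dvd_natCard _ hmem

end CfsgLib.GW
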