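import Cfsg.Agent.GW.LocalBase
import Cfsg.Agent.GW.OuterGlue
import Cfsg.Agent.GW.InnerFinish

/-!
# Gorenstein–Walter 4.1: the component gives a contradiction

A component of even index is excluded by `false_of_even_index`.  For odd index a Sylow 2-subgroup of
`C(z)` through `b` lies in `N` and the data of `Inner` hold.
-/

set_option autoImplicit false
set_option linter.style.haveILetI false
set_option linter.unusedSectionVars false

open Subgroup

namespace CfsgLib.GW

universe u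

variable {G : Type u} [Group G] [Finite G]

namespace Local41

variable {z b : G} {N K : Subgroup G} {F : Type} [Field F] [Fintype F] (h : Local41 z b N K F)
include h

theorem centralizer_component_le : N ⊓ centralizer (K : Set G) ≤ OS.oddOf N := by
  intro n hn
  obtain ⟨m⟩ := h.model
  refine (mk_eq_one_iff_oddOf ⟨n, hn.1⟩).1 ?_
  rw [← mem_bot, ← m.cent]
  refine mem_centralizer_iff.2 ?_
  rintro _ ⟨k, hk, rfl⟩
  rw [← map_mul, ← map_mul]
  exact congrArg _ (Subtype.ext (mem_centralizer_iff.1 hn.2 k hk))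

theorem odd_oddOf : Odd (Nat.card (OS.oddOf N)) :=
  (odd_core z).of_dvd_nat (card_dvd_of_le h.hO)

theorem compData : CompData z N (OS.oddOf N) K F b where
  iso := h.iso
  hF := h.hF
  hlarge := h.large
  hON := h.oddOf_le
  hKN := h.hKN
  hOn := h.le_normalizer_oddOf
  hKn := h.hKn
  hOodd := h.odd_oddOf
  hcomm := h.hcomm
  hcent := h.centralizer_component_le
  hzK := h.hzK
  hτK := h.hbK
  hτ := h.hb
  hne := h.hbz.symm
  hzτ := h.hzb
  hCN := h.hCN
  hfit := h.hAb.le.trans inf_le_right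
  hA := h.hA
  hAX := h.hAX
  hfitN := h.hfitN

/-- The fixed part in `fit z` of an involution of `K` commuting with `z` is `A`. -/
theorem fit_fixed (hz : orderOf z = 2) {b' : G} (hb' : orderOf b' = 2) (hne : b' ≠ z)
    (hzb' : z * b' = b' * z) (hK : b' ∈ K) :
    fit z ⊓ centralizer ({b'} : Set G) = fit z ⊓ OS.oddOf N := by
  refine le_antisymm ?_ (inf_le_inf_left _ fun o ho =>
    mem_centralizer_singleton_iff.2 (h.hcomm o ho b' hK))
  set A' := fit z ⊓ centralizer ({b'} : Set G) with hA'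
  set A := fit z ⊓ OS.oddOf N with hA
  -- inside `N`
  have hN : ∀ w ∈ A', w ∈ N → w ∈ A := by
    intro w hw hwN
    obtain ⟨o, ho, x, hxK, -, hxz, hxo, rfl⟩ := h.compData.fit_parts hz hw.1 hwN
    have hxb : x * b' = b' * x := by
      have h1 := mem_centralizer_singleton_iff.1 hw.2
      refine mul_left_cancel (a := o) ?_
      rw [← mul_assoc, h1, ← mul_assoc o, h.hcomm o ho.2 b' hK, mul_assoc]
    obtain ⟨e⟩ := h.iso
    have hx1 : (⟨x, hxK⟩ : K) = 1 := by
      refine (MulEquiv.map_eq_one_iff e).1 (eq_one_of_commute_four_psl (a := e ⟨z, h.hzK⟩)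
        (b := e ⟨b', hK⟩) h.hF (by rw [MulEquiv.orderOf_eq, orderOf_mk, hz])
        (by rw [MulEquiv.orderOf_eq, orderOf_mk, hb'])
        (fun e' => hne (congrArg Subtype.val (e.injective e')).symm)
        (by rw [← map_mul, ← map_mul]; exact congrArg e (Subtype.ext hzb'))
        (k := e ⟨x, hxK⟩) (by rwa [MulEquiv.orderOf_eq, orderOf_mk])
        (by rw [← map_mul, ← map_mul]; exact congrArg e (Subtype.ext hxz))
        (by rw [← map_mul, ← map_mul]; exact congrArg e (Subtype.ext hxb)))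
    rw [show x = 1 from congrArg Subtype.val hx1, mul_one]
    exact ho
  have hle : A ≤ A' := inf_le_inf_left _ fun o ho =>
    mem_centralizer_singleton_iff.2 (h.hcomm o ho b' hK)
  by_contra hnle
  haveI : Group.IsNilpotent (fit z) := OddOrder.isNilpotent_fittingOf (core z)
  have hnil : Group.IsNilpotent A' :=
    Group.isNilpotent_congr (subgroupOfEquivOfLe (inf_le_left : A' ≤ fit z)) |>.1 inferInstance
  obtain ⟨x, hxA', hxn, hxA⟩ :=
    OddOrder.Stab.exists_mem_normalizer_not_mem hnil hle fun e => hnle e.ge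
  exact hxA (hN x hxA' (h.hAX A h.hA le_rfl hxn))

/-- An element of `C(z)` moving `b` into `K` lies in `N`. -/
theorem mem_of_conj (hz : orderOf z = 2) {c : G} (hc : c ∈ centralizer ({z} : Set G))
    (hK : c * b * c⁻¹ ∈ K) : c ∈ N := by
  have hcz : c * z = z * c := mem_centralizer_singleton_iff.1 hc
  have hne : c * b * c⁻¹ ≠ z := fun e => h.hbz (by
    calc z = c⁻¹ * (z * c) := by rw [← hcz, inv_mul_cancel_left]
      _ = c⁻¹ * (c * b * c⁻¹ * c) := by rw [e]
      _ = b := by group)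
  have hcomm : z * (c * b * c⁻¹) = c * b * c⁻¹ * z := by
    calc z * (c * b * c⁻¹) = (z * c) * b * c⁻¹ := by group
      _ = c * (z * b) * c⁻¹ := by rw [← hcz]; group
      _ = c * b * (z * c⁻¹) := by rw [h.hzb]; group
      _ = c * b * (c⁻¹ * (c * z) * c⁻¹) := by group
      _ = c * b * c⁻¹ * z := by rw [hcz]; group
  have hA' := h.fit_fixed hz (by rw [Small.orderOf_conj_eq, h.hb]) hne hcomm hK
  refine h.hAX _ h.hA le_rfl ?_
  rw [mem_normalizer_iff_map_conj_eq]
  conv_lhs => rw [← h.hAb]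
  rw [map_inf_eq _ _ ((MulAut.conj c : MulAut G) : G →* G) (MulEquiv.injective _),
    mem_normalizer_iff_map_conj_eq.1 (centralizer_le_normalizer_fit z hc), ← hA']
  congr 1
  ext x
  rw [mem_centralizer_singleton_iff]
  constructor
  · rintro ⟨y, hy, rfl⟩
    have hy' : y * b = b * y := mem_centralizer_singleton_iff.1 hy
    show c * y * c⁻¹ * (c * b * c⁻¹) = c * b * c⁻¹ * (c * y * c⁻¹)
    calc c * y * c⁻¹ * (c * b * c⁻¹) = c * (y * b) * c⁻¹ := by group
      _ = c * b * c⁻¹ * (c * y * c⁻¹) := by rw [hy']; group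
  · intro hx
    refine ⟨c⁻¹ * x * c, mem_centralizer_singleton_iff.2 ?_, by simp [mul_assoc]⟩
    calc c⁻¹ * x * c * b = c⁻¹ * (x * (c * b * c⁻¹)) * c := by group
      _ = b * (c⁻¹ * x * c) := by rw [hx]; group

end Local41

/-- The rotations of a Sylow 2-subgroup with respect to a central involution and a reflection. -/
theorem Minimal.exists_rotation (hG : Minimal G) {z b : G} (hz : orderOf z = 2) (hb : orderOf b = 2)
    (hne : z ≠ b) {S : Sylow 2 G} (hzS : z ∈ (S : Subgroup G)) (hbS : b ∈ (S : Subgroup G))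
    (hS : ∀ s ∈ (S : Subgroup G), s * z = z * s) :
    ∃ (σ : G) (k : ℕ), 1 ≤ k ∧ σ ∈ (S : Subgroup G) ∧ orderOf σ = 2 ^ k ∧ b * σ * b⁻¹ = σ⁻¹ ∧
      b ∉ zpowers σ ∧ z ∈ zpowers σ ∧ Nat.card (S : Subgroup G) = 2 * 2 ^ k := by
  obtain ⟨k, hk, hc, ⟨e⟩⟩ := hG.card_sylow S
  have hzz := Small.mul_self_of_orderOf_two hz
  have hbb := Small.mul_self_of_orderOf_two hb
  obtain ⟨j, rfl⟩ : ∃ j, k = j + 2 := ⟨k - 2, by omega⟩
  rcases j with _ | j
  · -- a four-group
    refine ⟨z, 1, le_rfl, hzS, by rw [hz, pow_one], ?_, ?_, mem_zpowers z, hc⟩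
    · rw [hS b hbS, mul_inv_cancel_right, inv_eq_of_mul_eq_one_right hzz]
    · rw [mem_zpowers_iff]
      rintro ⟨i, hi⟩
      rcases Int.even_or_odd i with ⟨l, rfl⟩ | ⟨l, rfl⟩
      · rw [← two_mul, zpow_mul, zpow_two, hzz, one_zpow] at hi
        exact Small.ne_one_of_orderOf_two hb hi.symm
      · rw [zpow_add, zpow_mul, zpow_two, hzz, one_zpow, one_mul, zpow_one] at hi
        exact hne hi
  set n := 2 ^ (j + 1 + 2 - 1) with hn
  have hn4 : 4 ≤ n := by
    calc 4 = 2 ^ 2 := rfl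
      _ ≤ _ := Nat.pow_le_pow_right two_pos (by omega)
  set zS : (S : Subgroup G) := ⟨z, hzS⟩
  set bS : (S : Subgroup G) := ⟨b, hbS⟩
  set σS : (S : Subgroup G) := e.symm (DihedralGroup.r 1) with hσS
  have heσ : e σS = DihedralGroup.r 1 := e.apply_symm_apply _
  have hz1 : e zS ≠ 1 := fun h' => Small.ne_one_of_orderOf_two hz
    (congrArg Subtype.val ((MulEquiv.map_eq_one_iff e).1 h'))
  have hb1 : e bS ≠ 1 := fun h' => Small.ne_one_of_orderOf_two hb
    (congrArg Subtype.val ((MulEquiv.map_eq_one_iff e).1 h'))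
  have hzrot : e zS ∈ rot n := by
    by_contra hnot
    have h1 := mul_self_of_commute (DihedralGroup.r (1 : ZMod n)) (e zS) hnot (by
      show _ * _ = _ * _
      rw [← heσ, ← map_mul, ← map_mul]
      exact congrArg e (Subtype.ext (hS _ σS.2)))
    have h2 := orderOf_dvd_of_pow_eq_one (x := DihedralGroup.r (1 : ZMod n)) (n := 2)
      (by rw [pow_two]; exact h1)
    rw [DihedralGroup.orderOf_r_one] at h2
    have := Nat.le_of_dvd two_pos h2
    omega
  have hbrot : e bS ∉ rot n := fun hbr => by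
    rcases eq_of_mem_rot_of_sq hzrot hbr
      (by rw [← map_mul, show zS * zS = 1 from Subtype.ext hzz, map_one])
      (by rw [← map_mul, show bS * bS = 1 from Subtype.ext hbb, map_one]) with h' | h' | h'
    · exact hz1 h'
    · exact hb1 h'
    · exact hne (congrArg Subtype.val (e.injective h'))
  refine ⟨(σS : G), j + 2, by omega, σS.2, ?_, ?_, ?_, ?_, ?_⟩
  · rw [orderOf_coe, ← MulEquiv.orderOf_eq e, heσ, DihedralGroup.orderOf_r_one, hn]
    congr 1
  · have h1 : bS * σS * bS⁻¹ = σS⁻¹ := e.injective (by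
      rw [map_mul, map_mul, map_inv, map_inv, heσ]
      generalize e bS = w at hbrot ⊢
      rcases w with i | i
      · exact absurd (r_mem_rot i) hbrot
      · simp [DihedralGroup.sr_mul_r, DihedralGroup.sr_mul_sr])
    exact congrArg Subtype.val h1
  · rw [mem_zpowers_iff]
    rintro ⟨i, hi⟩
    refine hbrot ?_
    rw [show bS = σS ^ i from Subtype.ext (by rw [SubgroupClass.coe_zpow]; exact hi.symm), map_zpow,
      heσ]
    exact zpow_mem (r_mem_rot 1) i
  · obtain ⟨i, hi⟩ := mem_zpowers_iff.1 hzrot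
    rw [mem_zpowers_iff]
    refine ⟨i, ?_⟩
    have h1 : σS ^ i = zS := e.injective (by rw [map_zpow, heσ, hi])
    rw [← SubgroupClass.coe_zpow, h1]
  · rw [hc, ← pow_succ']

/-- **Case 4.1 does not occur.** -/
theorem Minimal.false_of_local41 (hG : Minimal G) {z b : G} (hz : orderOf z = 2) {N K : Subgroup G}
    {F : Type} [Field F] [Fintype F] (h : Local41 z b N K F) : False := by
  haveI : Fact (Nat.Prime 2) := ⟨Nat.prime_two⟩
  by_cases hidx : Odd ((OS.oddOf N ⊔ K).relIndex N)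
  swap
  · exact hG.false_of_even_index hz h.compData hidx
  obtain ⟨hV, -⟩ := hG.four_spec hz h.hb h.hbz h.hzb
  obtain ⟨hV4, -⟩ := TwoGroups.isKleinFour_iff.1 hV
  have hVC : closure ({z, b} : Set G) ≤ centralizer ({z} : Set G) := fun v hv =>
    mem_centralizer_singleton_iff.2 (TwoGroups.klein_mul_comm hV hv (subset_closure (by simp)))
  obtain ⟨S, hVS, hzS, hS⟩ := hG.exists_sylow_ge hz
    (IsPGroup.of_card (n := 2) (by rw [hV4]; rfl)) hVC
  have hbS : b ∈ (S : Subgroup G) := hVS (subset_closure (by simp))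
  have hinK : ∀ w ∈ N, orderOf w = 2 → w ∈ K := fun w hw hw2 =>
    involution_mem_component h.oddOf_le h.hKN h.le_normalizer_oddOf h.hKn h.odd_oddOf h.hcomm hidx
      hw hw2
  -- `S ≤ N`
  have hSN : (S : Subgroup G) ≤ N := by
    by_contra hSN
    set T := (S : Subgroup G) ⊓ N with hT
    obtain ⟨s, hsS, hsn, hsT⟩ := OddOrder.Stab.exists_mem_normalizer_not_mem S.isPGroup'.isNilpotent
      (inf_le_left : T ≤ S) fun e => hSN (e.ge.trans inf_le_right)
    have hm : s * b * s⁻¹ ∈ N :=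
      ((mem_normalizer_iff.1 hsn b).1 ⟨hbS, h.b_mem⟩).2
    exact hsT ⟨hsS, h.mem_of_conj hz (mem_centralizer_singleton_iff.2 (hS s hsS))
      (hinK _ hm (by rw [Small.orderOf_conj_eq, h.hb]))⟩
  obtain ⟨σ, k, hk, hσS, hσ, hrel, hnot, hzσ, hcard⟩ :=
    hG.exists_rotation hz h.hb h.hbz hzS hbS hS
  refine hG.false_of_inner hz (S := S) (σ := σ) (τ := b) (k := k) ⟨h.iso, h.hF, h.oddOf_le, h.hKN,
    h.le_normalizer_oddOf, h.hKn, h.odd_oddOf, h.hcomm, hidx, h.hzK, h.hCN, hSN, hS, hk, hσS, hbS, hσ,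
    h.hb, hrel, hnot, hzσ, hcard, fun b' hb' hb'S hne => ?_, h.hAb.le.trans inf_le_right, h.hA, h.hAX,
    h.hfitN⟩
  -- the fixed parts lie in `N`
  have hzb' : z * b' = b' * z := (hS b' hb'S).symm
  have hA' := h.fit_fixed hz hb' hne hzb' (hinK b' (hSN hb'S) hb')
  intro u hu
  refine h.hAX _ h.hA le_rfl ?_
  rw [← hA']
  exact inf_normalizer_le_normalizer_inf (mem_inf.2
    ⟨centralizer_le_normalizer_fit z (core_le z hu.1), le_normalizer hu.2⟩)

end CfsgLib.GW
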