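import Cfsg.Agent.GW.LocalMax
import Cfsg.Agent.GW.OSType.LinearModel
import Cfsg.Agent.GW.OSType.Hyp
import Cfsg.Agent.Forms.KleinPSL

/-!
# Gorenstein–Walter 4.1: the component of the maximal subgroup

`topImage N K` is the image of `K` in `N ⧸ O(N)`.  `Local41 z b N K F` collects what the opening
of 4.1 gives: `N` is maximal with a component `K ≅ PSL₂(F)` containing `z` and `b`, and contains
the normalizers of the non-trivial subgroups of `fit z ⊓ O(N)`.
-/

set_option autoImplicit false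
set_option linter.style.haveILetI false
set_option linter.unusedSectionVars false

open Subgroup
open scoped commutatorElement

namespace CfsgLib.GW

universe u

variable {G : Type u} [Group G]

/-- The image of `K` in `N ⧸ O(N)`. -/
abbrev topImage (N K : Subgroup G) : Subgroup (↥N ⧸ Cfsg.oddCore ↥N) :=
  (K.subgroupOf N).map (QuotientGroup.mk' (Cfsg.oddCore ↥N))

/-- The image of a subgroup normal in `N` is normal. -/
theorem topImage_normal {N K : Subgroup G} (hKn : N ≤ normalizer (K : Set G)) :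
    (topImage N K).Normal :=
  (normal_subgroupOf_of_le_normalizer hKn).map _ (QuotientGroup.mk'_surjective _)

/-- The kernel of `N → N ⧸ O(N)`. -/
theorem mk_eq_one_iff_oddOf {N : Subgroup G} (n : N) :
    QuotientGroup.mk' (Cfsg.oddCore ↥N) n = 1 ↔ (n : G) ∈ OS.oddOf N := by
  rw [QuotientGroup.mk'_apply, QuotientGroup.eq_one_iff]
  exact ⟨fun h => ⟨n, h, rfl⟩, fun ⟨a, ha, e⟩ => Subtype.ext e ▸ ha⟩

/-- Membership of the image of `K`. -/
theorem mk_mem_topImage_iff {N K : Subgroup G} (hKN : K ≤ N) (n : N) :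
    QuotientGroup.mk' (Cfsg.oddCore ↥N) n ∈ topImage N K ↔
      ∃ o ∈ OS.oddOf N, ∃ k ∈ K, o * k = (n : G) := by
  constructor
  · rintro ⟨k, hk, e⟩
    refine ⟨(n * k⁻¹ : N), ?_, k, hk, by simp [mul_assoc]⟩
    rw [← mk_eq_one_iff_oddOf, map_mul, map_inv, e, mul_inv_cancel]
  · rintro ⟨o, ho, k, hk, e⟩
    refine ⟨⟨k, hKN hk⟩, hk, ?_⟩
    have h1 : QuotientGroup.mk' (Cfsg.oddCore ↥N) (n * (⟨k, hKN hk⟩ : N)⁻¹) = 1 := by
      rw [mk_eq_one_iff_oddOf]
      show (n : G) * k⁻¹ ∈ _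
      rwa [← e, mul_inv_cancel_right]
    rw [map_mul, map_inv, mul_inv_eq_one] at h1
    exact h1.symm

/-- What the opening of 4.1 gives. -/
structure Local41 (z b : G) (N K : Subgroup G) (F : Type) [Field F] [Fintype F] : Prop where
  hb : orderOf b = 2
  hbz : z ≠ b
  hzb : z * b = b * z
  hN : IsCoatom N
  hCN : ¬ centralizer ({z} : Set G) ≤ N
  hO : OS.oddOf N ≤ core z
  hKN : K ≤ N
  hKn : N ≤ normalizer (K : Set G)
  hperf : ⁅K, K⁆ = K
  hmaxK : ∀ P : Subgroup G, P ≤ N → ⁅P, P⁆ = P → P ≤ K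
  hcomm : ∀ o ∈ OS.oddOf N, ∀ x ∈ K, o * x = x * o
  hdisj : OS.oddOf N ⊓ K = ⊥
  iso : Nonempty (K ≃* Matrix.ProjectiveSpecialLinearGroup (Fin 2) F)
  model : Nonempty (OS.Model (topImage N K) F)
  hzK : z ∈ K
  hbK : b ∈ K
  hW : fix z b ≤ N
  hA : fit z ⊓ OS.oddOf N ≠ ⊥
  hAb : fit z ⊓ centralizer ({b} : Set G) = fit z ⊓ OS.oddOf N
  hAX : ∀ X : Subgroup G, X ≠ ⊥ → X ≤ fit z ⊓ OS.oddOf N → normalizer (X : Set G) ≤ N
  hfitN : fit z ⊓ N ≤ OS.oddOf N ⊔ K

namespace Local41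

variable {z b : G} {N K : Subgroup G} {F : Type} [Field F] [Fintype F] (h : Local41 z b N K F)
include h

theorem hF : Odd (Fintype.card F) := h.model.elim fun m => m.odd

theorem large : 3 < Fintype.card F := h.model.elim fun m => m.large

theorem z_mem : z ∈ N := h.hKN h.hzK

theorem b_mem : b ∈ N := h.hKN h.hbK

theorem oddOf_le : OS.oddOf N ≤ N := map_subtype_le _

theorem le_normalizer_oddOf : N ≤ normalizer (OS.oddOf N : Set G) := fun n hn =>
  mem_normalizer_iff.2 fun x => ⟨fun hx => OS.conj_mem_oddOf hn hx, fun hx => by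
    simpa [mul_assoc] using OS.conj_mem_oddOf (inv_mem hn) hx⟩

end Local41

end CfsgLib.GW
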