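import Cfsg.Agent.GW.Known
import Cfsg.Agent.OutPSL.Basic
import Cfsg.Agent.AutAlt.Basic
import Cfsg.Agent.S4337
import Mathlib.GroupTheory.IsPerfect

/-!
# Gorenstein–Walter: perfect groups, from the simple case
-/

set_option autoImplicit false
set_option linter.style.haveILetI false

namespace CfsgLib.GW

universe u

theorem isSolvable_perm_four : Group.IsSolvable (Equiv.Perm (Fin 4)) := by
  haveI : Fact (Nat.Prime 2) := ⟨Nat.prime_two⟩
  exact ⟨⟨3, Cfsg.Agent.S4337.derived_perm_four⟩⟩

theorem eq_one_of_perfect {Q A : Type*} [Group Q] [Group A] [Group.IsPerfect Q]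
    [Group.IsSolvable A] (f : Q →* A) (q : Q) : f q = 1 := by
  obtain ⟨k, hk⟩ := Group.IsSolvable.solvable (G := A)
  have hd : ∀ j, derivedSeries Q j = ⊤ := by
    intro j
    induction j with
    | zero => rfl
    | succ j ih => rw [derivedSeries_succ, ih]; exact Group.IsPerfect.commutator_eq_top
  have h := map_derivedSeries_le_derivedSeries f k
  rw [hd, hk] at h
  exact Subgroup.mem_bot.1 (h ⟨q, Subgroup.mem_top q, rfl⟩)

open Matrix CfsgLib.AutPSL CfsgLib.OutPSL in
/-- Every perfect group of automorphisms of `PSL₂(q)` is inner. -/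
theorem inner_of_perfect_psl {F : Type*} [Field F] [Fintype F] {Q : Type*} [Group Q]
    [Group.IsPerfect Q] (f : Q →* MulAut (Matrix.ProjectiveSpecialLinearGroup (Fin 2) F)) (q : Q) :
    ∃ s, f q = MulAut.conj s := by
  obtain ⟨p, hp⟩ := CharP.exists F
  haveI : Fact p.Prime := ⟨CharP.char_is_prime F p⟩
  obtain ⟨π, hπ, hker⟩ := exists_proj p (1 : PUnit.{1} →* MulAut (Matrix.SpecialLinearGroup (Fin 2) F))
    (fun β => by
      obtain ⟨g, σ, γ, hγ, rfl⟩ := exists_form le_rfl β
      rcases hγ with rfl | rfl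
      · exact ⟨g, σ, 1, by simp⟩
      · obtain ⟨w, hw⟩ := invTransSL_fin_two (F := F)
        refine ⟨g * mapGL σ w, σ, 1, ?_⟩
        rw [hw, MonoidHom.one_apply, mul_one, mul_assoc, fieldSL_mul_conjSL, ← mul_assoc, ← map_mul])
    (fun {g g' σ σ' e e'} h => by
      simp only [MonoidHom.one_apply, mul_one] at h
      exact ⟨(semilinear_unique h).1, Subsingleton.elim _ _⟩)
    (fun e g => ⟨g, by simp⟩) (fun e σ => by simp)
  obtain ⟨φ, -, hcyc, -⟩ := exists_out_hom p (MulEquiv.refl _) π hπ hker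
  haveI : IsCyclic (F ≃+* F) := isCyclic_ringEquiv
  haveI : Group.IsSolvable (F ≃+* F) := Group.isSolvable_of_comm fun a b => IsCyclic.commGroup.mul_comm a b
  haveI : Group.IsSolvable φ.ker := Group.isSolvable_of_comm fun a b => hcyc.commGroup.mul_comm a b
  haveI : Group.IsSolvable ((F ≃+* F) × PUnit.{1}) := inferInstance
  haveI : Group.IsSolvable (Cfsg.Out (Matrix.ProjectiveSpecialLinearGroup (Fin 2) F)) :=
    Group.isSolvable_of_ker_le_range φ.ker.subtype φ (by simp)
  have h := eq_one_of_perfect ((QuotientGroup.mk' (Cfsg.Inn (Matrix.ProjectiveSpecialLinearGroup (Fin 2) F))).comp f) q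
  rw [MonoidHom.comp_apply, QuotientGroup.mk'_apply, QuotientGroup.eq_one_iff] at h
  obtain ⟨s, hs⟩ := h
  exact ⟨s, hs.symm⟩

/-- Every perfect group of automorphisms of `A₇` is inner. -/
theorem inner_of_perfect_alt {Q : Type*} [Group Q] [Group.IsPerfect Q]
    (f : Q →* MulAut (alternatingGroup (Fin 7))) (q : Q) : ∃ s, f q = MulAut.conj s := by
  have hb := CfsgLib.AutAlt.conjNormal_bijective (α := Fin 7) (by decide) (by decide)
  let e := MulEquiv.ofBijective _ hb
  haveI : Group.IsSolvable ℤˣ := Group.isSolvable_of_comm fun a b => mul_comm a b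
  have h := eq_one_of_perfect (Equiv.Perm.sign.comp (e.symm.toMonoidHom.comp f)) q
  refine ⟨⟨e.symm (f q), Equiv.Perm.mem_alternatingGroup.2 h⟩, ?_⟩
  apply MulEquiv.ext
  intro x
  apply Subtype.ext
  have h' := congrArg (fun a : MulAut (alternatingGroup (Fin 7)) => (a x : Equiv.Perm (Fin 7)))
    (e.apply_symm_apply (f q))
  exact h'.symm.trans rfl

theorem inner_of_perfect {L : Type*} [Group L] (hL : IsPSLOrAltSeven L) {Q : Type*} [Group Q]
    [Group.IsPerfect Q] (f : Q →* MulAut L) (q : Q) : ∃ s, f q = MulAut.conj s := by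
  have transfer : ∀ {L' : Type} [Group L'] (e : L ≃* L')
      (_ : ∀ g : Q →* MulAut L', ∃ s, g q = MulAut.conj s), ∃ s, f q = MulAut.conj s := by
    intro L' _ e h
    obtain ⟨s, hs⟩ := h ((MulAut.congr e).toMonoidHom.comp f)
    refine ⟨e.symm s, MulEquiv.ext fun x => ?_⟩
    have h' := congrArg (fun a : MulAut L' => e.symm (a (e x))) hs
    simp [MulAut.congr, MulAut.conj] at h'
    simpa [MulAut.conj] using h'
  rcases hL with ⟨F, _, _, -, -, ⟨e⟩⟩ | ⟨⟨e⟩⟩
  · exact transfer e fun g => inner_of_perfect_psl g q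
  · exact transfer e fun g => inner_of_perfect_alt g q

theorem not_perfect_of_solvable (Q : Type*) [Group Q] [Nontrivial Q] [Group.IsSolvable Q] :
    ¬ Group.IsPerfect Q := fun _ => by
  obtain ⟨x, hx⟩ := exists_ne (1 : Q)
  exact hx (eq_one_of_perfect (MonoidHom.id Q) x)

/-- S0483 from the simple case. -/
theorem perfect_of_simpleHyp {X : Type u} [Group X] [Finite X] [Group.IsPerfect X]
    (S : Sylow 2 X) (n : ℕ) (_hn : 2 ≤ n) (hS : Nonempty ((S : Subgroup X) ≃* DihedralGroup n))
    (h : SimpleHyp.{u} (Nat.card X)) :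
    (∃ (F : Type) (_ : Field F) (_ : Fintype F), Odd (Fintype.card F) ∧ 3 < Fintype.card F ∧
        Nonempty (X ⧸ Cfsg.oddCore X ≃* Matrix.ProjectiveSpecialLinearGroup (Fin 2) F)) ∨
      Nonempty (X ⧸ Cfsg.oddCore X ≃* alternatingGroup (Fin 7)) := by
  haveI : Fact (Nat.Prime 2) := ⟨Nat.prime_two⟩
  set Q := X ⧸ Cfsg.oddCore X with hQ
  haveI : Group.IsPerfect Q := Group.IsPerfect.ofSurjective (f := QuotientGroup.mk' (Cfsg.oddCore X))
    (QuotientGroup.mk'_surjective _)
  haveI : Nontrivial Q := by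
    refine (QuotientGroup.nontrivial_iff (N := Cfsg.oddCore X)).2 fun htop => ?_
    have hodd := CfsgLib.Inv54.odd_card_oddCore (G := X)
    rw [htop, Subgroup.card_top] at hodd
    refine hodd.not_two_dvd_nat (dvd_trans ?_ (S : Subgroup X).card_subgroup_dvd_card)
    rw [Nat.card_congr hS.some.toEquiv, DihedralGroup.nat_card]
    exact dvd_mul_right 2 n
  rcases known_of_simpleHyp (dihType_of_sylow S hS.some) h with h2 | h4 | h4 | ⟨L, hLn, hL, hLc⟩
  · haveI : Group.IsNilpotent Q := h2.isNilpotent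
    exact (not_perfect_of_solvable Q inferInstance).elim
  · haveI : Group.IsSolvable Q := by
      haveI : Group.IsSolvable (Equiv.Perm (Fin 4)) := CfsgLib.GW.isSolvable_perm_four
      exact Group.isSolvable_of_isSolvable_injective (f := (alternatingGroup (Fin 4)).subtype.comp h4.some.toMonoidHom)
        ((alternatingGroup (Fin 4)).subtype_injective.comp h4.some.injective)
    exact (not_perfect_of_solvable Q inferInstance).elim
  · haveI : Group.IsSolvable Q := by
      haveI : Group.IsSolvable (Equiv.Perm (Fin 4)) := CfsgLib.GW.isSolvable_perm_four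
      exact Group.isSolvable_of_isSolvable_injective (f := h4.some.toMonoidHom) h4.some.injective
    exact (not_perfect_of_solvable Q inferInstance).elim
  · haveI := hLn
    have htop : L = ⊤ := by
      rw [Subgroup.eq_top_iff']
      intro x
      obtain ⟨s, hs⟩ := inner_of_perfect hL (MulAut.conjNormal (H := L)) x
      have hc : x⁻¹ * (s : Q) ∈ Subgroup.centralizer (L : Set Q) := by
        rw [Subgroup.mem_centralizer_iff]
        intro y hy
        have h' := congrArg (fun a : MulAut L => ((a ⟨y, hy⟩ : L) : Q)) hs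
        change x * y * x⁻¹ = (s : Q) * y * (s : Q)⁻¹ at h'
        calc y * (x⁻¹ * s) = x⁻¹ * (x * y * x⁻¹) * s := by group
          _ = x⁻¹ * s * y := by rw [h']; group
      rw [hLc, Subgroup.mem_bot, inv_mul_eq_one] at hc
      rw [hc]; exact s.2
    let e : Q ≃* L := Subgroup.topEquiv.symm.trans (MulEquiv.subgroupCongr htop.symm)
    rcases hL with ⟨F, iF, iT, hodd, h3, ⟨eL⟩⟩ | ⟨⟨eL⟩⟩
    · exact Or.inl ⟨F, iF, iT, hodd, h3, ⟨e.trans eL⟩⟩
    · exact Or.inr ⟨e.trans eL⟩

end CfsgLib.GW
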