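import Cfsg.Agent.GW.LocalBase
import Cfsg.Agent.GW.ComponentInner
import Cfsg.Agent.GW.Perfect
import Cfsg.Agent.GW.OSType.HFacts
import Cfsg.Agent.GW.OSType.LinearMatrix

/-!
# Gorenstein–Walter 4.1: the component of a maximal subgroup above a fixed primary subgroup

`Comp N K F`: `K` is the largest perfect subgroup of `N`, centralises `O(N)` and maps onto a
self-centralizing `PSL₂(F)` of `N ⧸ O(N)`.  It exists for `LocalPre` once `O(N) ≤ core z` and `N`
is not solvable; in particular the top is not `A₇`.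
-/

set_option autoImplicit false
set_option linter.style.haveILetI false
set_option linter.unusedSectionVars false

open Subgroup
open scoped commutatorElement

namespace CfsgLib.GW

universe u

variable {G : Type u} [Group G]

/-- A component of `N` with top `PSL₂(F)`. -/
structure Comp (N K : Subgroup G) (F : Type) [Field F] [Fintype F] : Prop where
  hKN : K ≤ N
  hKn : N ≤ normalizer (K : Set G)
  hperf : ⁅K, K⁆ = K
  hcomm : ∀ o ∈ OS.oddOf N, ∀ x ∈ K, o * x = x * o
  hmaxK : ∀ P : Subgroup G, P ≤ N → ⁅P, P⁆ = P → P ≤ K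
  model : Nonempty (OS.Model (topImage N K) F)

variable [Finite G]

/-- The commutator of two elements lies in `L`. -/
theorem OS.Model.commutator_mem_L {Q : Type*} [Group Q] [Finite Q] {L : Subgroup Q} [L.Normal]
    {F : Type} [Field F] [Fintype F] (m : OS.Model L F) (g h : Q) : g * h * g⁻¹ * h⁻¹ ∈ L := by
  obtain ⟨A, σ, hA⟩ := OS.Model.exists_form (m := m) g
  obtain ⟨B, τ, hB⟩ := OS.Model.exists_form (m := m) h
  set T : GL (Fin 2) F := A * AutPSL.mapGL σ B * (B * AutPSL.mapGL τ A)⁻¹ with hT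
  have hrep : m.Rep (g * h * g⁻¹ * h⁻¹) T := by
    show m.act (g * h * g⁻¹ * h⁻¹) = _
    have h1 : (AutPSL.conjSL A * AutPSL.fieldSL σ : MulAut _) * (AutPSL.conjSL B * AutPSL.fieldSL τ) =
        AutPSL.conjSL (A * AutPSL.mapGL σ B) * AutPSL.fieldSL (σ * τ) := by
      rw [mul_assoc, ← mul_assoc (AutPSL.fieldSL σ), AutPSL.fieldSL_mul_conjSL, map_mul, map_mul]
      group
    have h2 : (AutPSL.conjSL B * AutPSL.fieldSL τ : MulAut _) * (AutPSL.conjSL A * AutPSL.fieldSL σ) =
        AutPSL.conjSL (B * AutPSL.mapGL τ A) * AutPSL.fieldSL (σ * τ) := by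
      rw [mul_assoc, ← mul_assoc (AutPSL.fieldSL τ), AutPSL.fieldSL_mul_conjSL,
        AutPSL.ringEquiv_comm σ τ, map_mul, map_mul]
      group
    rw [show g * h * g⁻¹ * h⁻¹ = (g * h) * (h * g)⁻¹ by group, map_mul, map_inv, map_mul, map_mul,
      hA, hB, ← map_mul, ← map_mul, h1, h2, ← map_inv, ← map_mul]
    congr 1
    rw [hT, map_mul AutPSL.conjSL (A * AutPSL.mapGL σ B), map_inv AutPSL.conjSL]
    group
  refine OS.Model.mem_of_det hrep ?_
  have hdetv : ∀ (ρ : F ≃+* F) (X : GL (Fin 2) F),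
      ((AutPSL.mapGL ρ X : GL (Fin 2) F) : Matrix (Fin 2) (Fin 2) F).det = ρ X.1.det := fun ρ X =>
    (RingHom.map_det ρ.toRingHom X.1).symm
  -- `ρ d / d` is a square
  have hsq : ∀ (ρ : F ≃+* F) (d : F), d ≠ 0 → IsSquare (ρ d / d) := by
    intro ρ d hd
    by_cases h : IsSquare d
    · exact (h.map ρ).div h
    · have h' : ¬ IsSquare (ρ d) := fun e => h (by simpa using e.map ρ.symm)
      have hch : ringChar F ≠ 2 := fun e => m.two_ne_zero (by
        haveI := ringChar.of_eq e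
        exact_mod_cast CharP.cast_eq_zero F 2)
      have hd' : ρ d ≠ 0 := (map_ne_zero_iff _ ρ.injective).2 hd
      rw [FiniteField.isSquare_iff hch (div_ne_zero hd' hd), div_pow,
        (FiniteField.pow_dichotomy hch hd').resolve_left
          (fun e => h' ((FiniteField.isSquare_iff hch hd').2 e)),
        (FiniteField.pow_dichotomy hch hd).resolve_left
          (fun e => h ((FiniteField.isSquare_iff hch hd).2 e)), div_self (by norm_num)]
  have e : T.1.det = A.1.det / (τ A.1.det) * (σ B.1.det / B.1.det) := by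
    have h1 : (B * AutPSL.mapGL τ A)⁻¹.1.det = (B.1.det * τ A.1.det)⁻¹ := by
      rw [Matrix.GeneralLinearGroup.coe_inv, Matrix.det_nonsing_inv, Ring.inverse_eq_inv']
      rw [Units.val_mul, Matrix.det_mul, hdetv]
    rw [hT, Units.val_mul, Matrix.det_mul, h1, Units.val_mul, Matrix.det_mul, hdetv]
    field_simp
  have hA0 : A.1.det ≠ 0 := Matrix.GeneralLinearGroup.det_ne_zero A
  have hB0 : B.1.det ≠ 0 := Matrix.GeneralLinearGroup.det_ne_zero B
  rw [e]
  refine IsSquare.mul ?_ (hsq σ _ hB0)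
  rw [← inv_div]
  exact (hsq τ _ hA0).inv

/-- An element of `N` commuting with `z` modulo `O(N) ≤ core z` commutes with `z`. -/
theorem commute_of_proj_z {z : G} (hz : orderOf z = 2) {N : Subgroup G} (hzN : z ∈ N)
    (hO : OS.oddOf N ≤ core z) {n : N}
    (h : QuotientGroup.mk' (Cfsg.oddCore ↥N) (n * ⟨z, hzN⟩ * n⁻¹) =
      QuotientGroup.mk' (Cfsg.oddCore ↥N) ⟨z, hzN⟩) : Commute (n : G) z := by
  have ho : (n : G) * z * (n : G)⁻¹ * z⁻¹ ∈ OS.oddOf N :=
    (mk_eq_one_iff_oddOf (n * ⟨z, hzN⟩ * n⁻¹ * ⟨z, hzN⟩⁻¹)).1 (by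
      rw [map_mul _ (n * ⟨z, hzN⟩ * n⁻¹), h, ← map_mul, mul_inv_cancel, map_one])
  set o := (n : G) * z * (n : G)⁻¹ * z⁻¹
  have hoz : o * z = z * o := commute_of_mem_core (hO ho)
  have he : o * z = (n : G) * z * (n : G)⁻¹ := inv_mul_cancel_right _ _
  have hzz := Small.mul_self_of_orderOf_two hz
  have h1 : o * o = 1 := by
    calc o * o = o * o * (z * z) := by rw [hzz, mul_one]
      _ = (o * z) * (o * z) :=
        Commute.mul_mul_mul_comm (show Commute o z from hoz) o z
      _ = 1 := by rw [he, show (n : G) * z * (n : G)⁻¹ * ((n : G) * z * (n : G)⁻¹) =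
          (n : G) * (z * z) * (n : G)⁻¹ by group, hzz, mul_one, mul_inv_cancel]
  have ho1 : o = 1 := orderOf_eq_one_iff.1 (Nat.eq_one_of_dvd_coprimes
    (Nat.coprime_two_right.2 (odd_orderOf_core (hO ho))) dvd_rfl
    (orderOf_dvd_of_pow_eq_one (by rw [pow_two, h1])))
  rw [ho1, one_mul] at he
  exact mul_inv_eq_iff_eq_mul.1 he.symm

/-- The image of an involution of `N` has order two. -/
theorem orderOf_proj {N : Subgroup G} {x : G} (hx : x ∈ N) (h : orderOf x = 2) :
    orderOf (QuotientGroup.mk' (Cfsg.oddCore ↥N) ⟨x, hx⟩) = 2 := by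
  haveI : Fact (Nat.Prime 2) := ⟨Nat.prime_two⟩
  refine orderOf_eq_prime ?_ fun e => ?_
  · rw [← map_pow, show (⟨x, hx⟩ : N) ^ 2 = 1 from Subtype.ext (by
      rw [SubmonoidClass.coe_pow, pow_two]; exact Small.mul_self_of_orderOf_two h), map_one]
  · have h2 := OS.odd_orderOf_of_mem (OS.odd_card_oddOf N) ((mk_eq_one_iff_oddOf _).1 e)
    rw [show orderOf ((⟨x, hx⟩ : N) : G) = 2 from h] at h2
    exact absurd h2 (by decide)

/-- An involution of `N` over the image of a `K` centralising `O(N)` lies in `K`. -/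
theorem mem_of_proj_involution {N K : Subgroup G} (hKN : K ≤ N)
    (hcomm : ∀ o ∈ OS.oddOf N, ∀ x ∈ K, o * x = x * o) {x : G} (hx : x ∈ N) (h : orderOf x = 2)
    (hmem : QuotientGroup.mk' (Cfsg.oddCore ↥N) ⟨x, hx⟩ ∈ topImage N K) : x ∈ K := by
  obtain ⟨o, ho, k, hk, e⟩ := (mk_mem_topImage_iff hKN _).1 hmem
  replace e : o * k = x := e
  have hp := (show Commute o k from hcomm o ho k hk).mul_pow (Nat.card (OS.oddOf N))
  rw [e, orderOf_dvd_iff_pow_eq_one.1 ((OS.oddOf N).orderOf_dvd_natCard ho), one_mul] at hp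
  obtain ⟨j, hj⟩ := OS.odd_card_oddOf N
  rw [hj, pow_succ, pow_mul, pow_two, Small.mul_self_of_orderOf_two h, one_pow, one_mul] at hp
  exact hp ▸ pow_mem hk _

namespace Minimal

variable (hG : Minimal G) {z b : G} {q : ℕ} {Q N : Subgroup G} (hz : orderOf z = 2)
include hG hz

/-- The top of a non-solvable proper subgroup. -/
theorem exists_top (hN : N ≠ ⊤) (hns : ¬ Group.IsSolvable N) :
    ∃ L : Subgroup (↥N ⧸ Cfsg.oddCore ↥N), L.Normal ∧ IsPSLOrAltSeven L ∧
      centralizer (L : Set (↥N ⧸ Cfsg.oddCore ↥N)) = ⊥ := by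
  haveI : Fact (Nat.Prime 2) := ⟨Nat.prime_two⟩
  haveI : Group.IsSolvable (Cfsg.oddCore ↥N) :=
    Cfsg.Agent.S0205.result (ExtremelyClosed.odd_card_oddCore' N)
  have hsol : Group.IsSolvable (↥N ⧸ Cfsg.oddCore ↥N) → False := fun h => hns
    (Group.isSolvable_of_ker_le_range (Cfsg.oddCore ↥N).subtype
      (QuotientGroup.mk' (Cfsg.oddCore ↥N)) (by simp))
  rcases hG.known N hN with h | ⟨⟨e⟩⟩ | ⟨⟨e⟩⟩ | h
  · haveI := h.isNilpotent
    exact (hsol inferInstance).elim
  · haveI := isSolvable_perm_four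
    exact (hsol (Group.isSolvable_of_isSolvable_injective
      (f := (alternatingGroup (Fin 4)).subtype.comp e.toMonoidHom)
      ((alternatingGroup (Fin 4)).subtype_injective.comp e.injective))).elim
  · haveI := isSolvable_perm_four
    exact (hsol (Group.isSolvable_of_isSolvable_injective (f := e.toMonoidHom) e.injective)).elim
  · exact h

omit hG hz in
/-- The perfect subgroup over the top centralising `O(N)`. -/
theorem exists_perfect_over {L : Subgroup (↥N ⧸ Cfsg.oddCore ↥N)} (hLn : L.Normal)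
    (hL : IsPSLOrAltSeven L) (hC : centralizer (L : Set (↥N ⧸ Cfsg.oddCore ↥N)) = ⊥)
    (hzN : z ∈ N) (hz2 : orderOf z = 2) (hO : OS.oddOf N ≤ core z) :
    ∃ K : Subgroup G, K ≤ N ∧ N ≤ normalizer (K : Set G) ∧ ⁅K, K⁆ = K ∧
      (∀ o ∈ OS.oddOf N, ∀ x ∈ K, o * x = x * o) ∧ topImage N K = L := by
  haveI := hLn
  set π := QuotientGroup.mk' (Cfsg.oddCore ↥N) with hπ
  haveI := OS.isSimpleGroup_of_psl hL
  set Cn : Subgroup ↥N := (centralizer (OS.oddOf N : Set G)).subgroupOf N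
  haveI : Cn.Normal := normal_subgroupOf_of_le_normalizer
    (le_trans (fun n hn => mem_normalizer_iff.2 fun x =>
      ⟨fun hx => OS.conj_mem_oddOf hn hx, fun hx => by
        simpa [mul_assoc] using OS.conj_mem_oddOf (inv_mem hn) hx⟩)
      (OS.normalizer_le_normalizer_centralizer' (OS.oddOf N)))
  have hzC : (⟨z, hzN⟩ : N) ∈ Cn := mem_subgroupOf.2 (mem_centralizer_iff.2 fun o ho =>
    commute_of_mem_core (hO ho))
  set X := Cn.map π
  haveI : X.Normal := (inferInstance : Cn.Normal).map π (QuotientGroup.mk'_surjective _)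
  have hLX : L ≤ X := by
    rcases IsSimpleGroup.eq_bot_or_eq_top_of_normal (X.subgroupOf L) inferInstance with h | h
    · exfalso
      have hd : Disjoint X L := subgroupOf_eq_bot.1 h
      have hXc : X ≤ centralizer (L : Set _) := fun x hx => mem_centralizer_iff.2 fun l hl =>
        (commute_of_normal_of_disjoint X L inferInstance hLn hd x l hx hl).symm.eq
      have h1 : π ⟨z, hzN⟩ = 1 := by
        have := hXc (mem_map_of_mem π hzC)
        rwa [hC, mem_bot] at this
      have h2 := orderOf_proj hzN hz2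
      rw [← hπ, h1, orderOf_one] at h2
      omega
    · exact subgroupOf_eq_top.1 h
  set P : Subgroup ↥N := Cn ⊓ L.comap π
  have hPmap : P.map π = L := le_antisymm
    (map_le_iff_le_comap.2 inf_le_right) fun l hl => by
      obtain ⟨c, hc, rfl⟩ := hLX hl
      exact ⟨c, ⟨hc, hl⟩, rfl⟩
  have hLL : ⁅L, L⁆ = L := by
    have h := map_subtype_commutator L
    rcases IsSimpleGroup.eq_bot_or_eq_top_of_normal (commutator L) inferInstance with e | e
    · exfalso
      have hcomm : L ≤ centralizer (L : Set _) := commutator_eq_bot_iff_le_centralizer.1 (by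
        rw [← h, e, Subgroup.map_bot])
      rw [hC, le_bot_iff] at hcomm
      obtain ⟨x, hx⟩ := exists_ne (1 : L)
      exact hx (Subtype.ext (mem_bot.1 (hcomm ▸ x.2)))
    · rw [← h, e, ← MonoidHom.range_eq_map, range_subtype]
  set Kn : Subgroup ↥N := ⁅P, P⁆
  have hKP : Kn ≤ P := commutator_le_self P
  have hKmap : Kn.map π = L := by rw [map_commutator, hPmap, hLL]
  have hKperf : ⁅Kn, Kn⁆ = Kn := by
    refine le_antisymm (commutator_mono hKP hKP) ?_
    refine commutator_le.2 fun p hp p' hp' => ?_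
    have split : ∀ a ∈ P, ∃ k ∈ Kn, ∃ c ∈ P, a = k * c ∧ ∀ w ∈ P, Commute c w := by
      intro a ha
      obtain ⟨k, hk, hke⟩ : π a ∈ Kn.map π := hKmap.symm ▸ ha.2
      refine ⟨k, hk, k⁻¹ * a, mul_mem (inv_mem (hKP hk)) ha, by group, fun w hw => ?_⟩
      have hc : ((k⁻¹ * a : N) : G) ∈ OS.oddOf N :=
        (mk_eq_one_iff_oddOf _).1 (by rw [map_mul, map_inv, ← hπ, hke, inv_mul_cancel])
      exact Subtype.ext (mem_centralizer_iff.1 (mem_subgroupOf.1 hw.1) _ hc)
    obtain ⟨k, hk, c, hc, rfl, hcc⟩ := split p hp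
    obtain ⟨k', hk', c', hc', rfl, hcc'⟩ := split p' hp'
    have e : ⁅k * c, k' * c'⁆ = ⁅k, k'⁆ := by
      have h1 : Commute c (k' * c') := hcc _ (mul_mem (hKP hk') hc')
      have h2 : Commute c' k := hcc' _ (hKP hk)
      rw [commutatorElement_def, commutatorElement_def, mul_inv_rev, mul_inv_rev]
      calc k * c * (k' * c') * (c⁻¹ * k⁻¹) * (c'⁻¹ * k'⁻¹)
          = k * (c * (k' * c') * c⁻¹) * k⁻¹ * (c'⁻¹ * k'⁻¹) := by group
        _ = k * k' * (c' * k⁻¹) * c'⁻¹ * k'⁻¹ := by rw [h1.eq]; group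
        _ = _ := by rw [(h2.inv_right).eq]; group
    exact e ▸ commutator_mem_commutator hk hk'
  refine ⟨Kn.map N.subtype, map_subtype_le _, ?_, ?_, ?_, ?_⟩
  · have hnorm : Kn.Normal := commutator_normal P P
    intro n hn
    refine mem_normalizer_iff.2 fun x => ⟨?_, ?_⟩
    · rintro ⟨a, ha, rfl⟩
      exact ⟨_, hnorm.conj_mem a ha ⟨n, hn⟩, rfl⟩
    · rintro ⟨a, ha, e⟩
      refine ⟨_, hnorm.conj_mem a ha ⟨n, hn⟩⁻¹, ?_⟩
      replace e : (a : G) = n * x * n⁻¹ := e
      show n⁻¹ * (a : G) * n⁻¹⁻¹ = x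
      rw [e]
      group
  · rw [← map_commutator, hKperf]
  · rintro o ho _ ⟨a, ha, rfl⟩
    exact mem_centralizer_iff.1 (mem_subgroupOf.1 (hKP ha).1) o ho
  · rw [topImage, subgroupOf, comap_map_eq_self_of_injective N.subtype_injective, hKmap]

variable (hmax : IsCoatom (centralizer ({z} : Set G))) (hL : LocalPre z b q Q N)
  (hO : OS.oddOf N ≤ core z) (hns : ¬ Group.IsSolvable N)
include hmax hL hO hns

/-- The component exists. -/
theorem exists_comp :
    ∃ (F : Type) (_ : Field F) (_ : Fintype F) (K : Subgroup G), Comp N K F := by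
  obtain ⟨L, hLn, hLS, hC⟩ := hG.exists_top hz hL.hN.1 hns
  have hzN := LocalPre.z_mem hG hL
  obtain ⟨K, hKN, hKn, hperf, hcomm, htop⟩ := exists_perfect_over hLn hLS hC hzN hz hO
  haveI := hLn
  subst htop
  rcases hLS with ⟨F, iF, fF, hodd, hlarge, ⟨e⟩⟩ | ⟨⟨e⟩⟩
  · have hdih : DihType (↥N ⧸ Cfsg.oddCore ↥N) :=
      (hG.dihType.subgroup N).quotient (Cfsg.oddCore ↥N) (Nat.coprime_two_right.2 (ExtremelyClosed.odd_card_oddCore' N))
    let m : OS.Model (topImage N K) F := ⟨e, hC, hodd, hlarge, hdih⟩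
    refine ⟨F, iF, fF, K, hKN, hKn, hperf, hcomm, fun P hPN hP => ?_, ⟨m⟩⟩
    haveI : Group.IsPerfect P := isPerfect_iff.2 hP
    -- the image is in the top
    have htop : ∀ x : P, QuotientGroup.mk' (Cfsg.oddCore ↥N) (inclusion hPN x) ∈ topImage N K := by
      intro x
      let f : P →* MulAut (topImage N K) :=
        MulAut.conjNormal.comp ((QuotientGroup.mk' (Cfsg.oddCore ↥N)).comp (inclusion hPN))
      obtain ⟨s, hs⟩ := inner_of_perfect (Or.inl ⟨F, iF, fF, hodd, hlarge, ⟨e⟩⟩) f x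
      set y := QuotientGroup.mk' (Cfsg.oddCore ↥N) (inclusion hPN x)
      have h : (s : ↥N ⧸ Cfsg.oddCore ↥N)⁻¹ * y ∈ centralizer (topImage N K : Set _) := by
        refine mem_centralizer_iff.2 fun l hl => ?_
        have h1 : y * l * y⁻¹ = s * l * (s : ↥N ⧸ Cfsg.oddCore ↥N)⁻¹ :=
          by simpa [f, y] using congrArg Subtype.val (DFunLike.congr_fun hs ⟨l, hl⟩)
        calc l * ((s : ↥N ⧸ Cfsg.oddCore ↥N)⁻¹ * y)
            = (s : ↥N ⧸ Cfsg.oddCore ↥N)⁻¹ * (s * l * (s : ↥N ⧸ Cfsg.oddCore ↥N)⁻¹) * y := by group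
          _ = (s : ↥N ⧸ Cfsg.oddCore ↥N)⁻¹ * (y * l * y⁻¹) * y := by rw [h1]
          _ = _ := by group
      rw [hC, mem_bot, inv_mul_eq_one] at h
      exact h ▸ s.2
    -- modulo `K` it lands in the solvable `O(N)`
    haveI : (K.subgroupOf N).Normal := normal_subgroupOf_of_le_normalizer hKn
    let φ : ↥(Cfsg.oddCore ↥N) →* ↥N ⧸ K.subgroupOf N :=
      (QuotientGroup.mk' (K.subgroupOf N)).comp (Cfsg.oddCore ↥N).subtype
    haveI : Group.IsSolvable φ.range :=
      haveI : Group.IsSolvable (Cfsg.oddCore ↥N) :=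
        Cfsg.Agent.S0205.result (ExtremelyClosed.odd_card_oddCore' N)
      Group.isSolvable_of_surjective φ.rangeRestrict_surjective
    have hrange : ∀ x : P, QuotientGroup.mk' (K.subgroupOf N) (inclusion hPN x) ∈ φ.range := by
      intro x
      obtain ⟨o, ho, k, hk, e'⟩ := (mk_mem_topImage_iff hKN _).1 (htop x)
      obtain ⟨o', ho', rfl⟩ := ho
      refine ⟨⟨o', ho'⟩, (QuotientGroup.eq.2 (mem_subgroupOf.2 ?_))⟩
      show (o' : G)⁻¹ * x ∈ K
      rw [show (x : G) = o' * k from e'.symm]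
      simpa using hk
    intro x hx
    have h1 := eq_one_of_perfect (((QuotientGroup.mk' (K.subgroupOf N)).comp
      (inclusion hPN)).codRestrict φ.range hrange) ⟨x, hx⟩
    exact mem_subgroupOf.1 ((QuotientGroup.eq_one_iff _).1 (congrArg Subtype.val h1))
  · exfalso
    have htop := OS.eq_top_of_alt ((hG.dihType.subgroup N).quotient (Cfsg.oddCore ↥N)
      (Nat.coprime_two_right.2 (ExtremelyClosed.odd_card_oddCore' N))) hC e
    set π := QuotientGroup.mk' (Cfsg.oddCore ↥N)
    let E : (↥N ⧸ Cfsg.oddCore ↥N) ≃* alternatingGroup (Fin 7) :=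
      (((MulEquiv.subgroupCongr htop).trans Subgroup.topEquiv).symm).trans e
    refine hG.false_of_altSeven hz hmax hKN hO hcomm
      (mem_of_proj_involution hKN hcomm hzN hz (htop ▸ mem_top _))
      (E.toMonoidHom.comp π) (fun x => ?_) (fun a => ?_) hL.hq hL.hQp hL.hQne hL.hQF
      (le_normalizer.trans hL.hQN) (LocalPre.centralizer_le hG hL)
    · show E (π x) = 1 ↔ _
      rw [MulEquiv.map_eq_one_iff, mk_eq_one_iff_oddOf]
    · have h : E.symm a ∈ topImage N K := htop ▸ mem_top _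
      obtain ⟨x, hx, hxe⟩ := h
      exact ⟨x, hx, by show E (π x) = a; rw [hxe, MulEquiv.apply_symm_apply]⟩

end Minimal

end CfsgLib.GW
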