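import Cfsg.Agent.GW.LocalNormalizer
import Cfsg.Agent.GW.LocalAssembly

/-!
# Gorenstein–Walter 4.1: no fixed subgroup escapes from a maximal involution centralizer
-/

set_option autoImplicit false

open Subgroup

namespace CfsgLib.GW

universe u

/-- **Gorenstein–Walter 4.1.** -/
theorem Minimal.noEscape {G : Type u} [Group G] [Finite G] (hG : Minimal G) {z : G}
    (hz : orderOf z = 2) (hmax : IsCoatom (centralizer ({z} : Set G))) : NoEscape z := by
  by_contra hne
  obtain ⟨b, N, K, F, _, _, h⟩ := hG.exists_local41 hz hmax hne
  exact hG.false_of_local41 hz h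

end CfsgLib.GW
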