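import Cfsg.Agent.GW.LocalComponent
import Cfsg.Agent.GW.CoprimeFitting
import Cfsg.Agent.GW.OSType.LinearField
import Cfsg.Agent.GW.OSType.LinearInner

/-!
# Gorenstein–Walter 4.1: `z` and `b` lie in the component

For a component `K` of `N`: `fit z ⊓ N ≤ O(N) K`, the elements of it fixed by a second involution
lie in `O(N)`, and the fixed primary part `qcore q z ⊓ C(b)` escapes; for a `LocalMax` on it `z` and
`b` lie in `K`.
-/

set_option autoImplicit false
set_option linter.style.haveILetI false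
set_option linter.unusedSectionVars false

open Subgroup
open scoped commutatorElement

namespace CfsgLib.GW

universe u

variable {G : Type u} [Group G] [Finite G]

/-- Odd elements of `C_L(z)` commute. -/
theorem OS.Model.commute_torus {Q : Type*} [Group Q] [Finite Q] {L : Subgroup Q} [L.Normal]
    {F : Type} [Field F] [Fintype F] (m : OS.Model L F) {z x y : Q} (hz : orderOf z = 2)
    (hx : x ∈ L) (hy : y ∈ L) (hzx : Commute z x) (hzy : Commute z y) (hxo : Odd (orderOf x))
    (hyo : Odd (orderOf y)) : Commute x y := by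
  obtain ⟨A, α, hA, hA2, hα, hnA⟩ := OS.Model.exists_rep_involution (m := m) hz
  obtain ⟨X, hX⟩ := OS.Model.mem_diagPart.1 (OS.Model.coe_mem_diagPart (m := m) hx)
  obtain ⟨Y, hY⟩ := OS.Model.mem_diagPart.1 (OS.Model.coe_mem_diagPart (m := m) hy)
  obtain ⟨a, c, hac⟩ := OS.Model.coord_of_commute hA hnA hX hzx hxo
  obtain ⟨a', c', hac'⟩ := OS.Model.coord_of_commute hA hnA hY hzy hyo
  refine OS.Model.commute_of_mat hX hY one_ne_zero ?_
  rw [one_smul, hac, hac']
  simp only [mul_add, add_mul, mul_smul_comm, smul_mul_assoc, mul_one, one_mul]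
  module

/-- A 2-element commuting with a four-group of a group of dihedral type lies in it. -/
theorem mem_four_of_two_element {Q : Type*} [Group Q] [Finite Q] (hQ : DihType Q) {z b d : Q}
    (hz : orderOf z = 2) (hb : orderOf b = 2) (hzb : Commute z b) (hne : b ≠ z) {i : ℕ}
    (hd : d ^ 2 ^ i = 1) (hdz : Commute z d) (hdb : Commute b d) :
    d = 1 ∨ d = z ∨ d = b ∨ d = z * b := by
  haveI : Fact (Nat.Prime 2) := ⟨Nat.prime_two⟩
  obtain ⟨V, -, -, hV4, hVmem, hzV, hbV⟩ := OS.exists_fourGroup hz hb hzb hne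
  have hdV : ∀ v ∈ V, d * v = v * d := fun v hv => by
    rcases hVmem v hv with rfl | rfl | rfl | rfl
    exacts [by simp, hdz.symm, hdb.symm, (hdz.mul_left hdb).symm]
  obtain ⟨j, -, hj⟩ := (Nat.dvd_prime_pow Nat.prime_two).1 (orderOf_dvd_of_pow_eq_one hd)
  have hP : IsPGroup 2 (zpowers d ⊔ V : Subgroup Q) :=
    (IsPGroup.of_card (n := j) (by rw [Nat.card_zpowers, hj])).to_sup_of_normal_right'
      (IsPGroup.of_card (n := 2) (by rw [hV4]; norm_num))
      (zpowers_le.2 (centralizer_le_normalizer _ (mem_centralizer_iff.2 fun v hv => (hdV v hv).symm)))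
  refine hVmem d (hQ.mem_four hP le_sup_right hV4 (fun v hv => ?_)
    (mem_sup_left (mem_zpowers d)) hdV)
  have hzz := Small.mul_self_of_orderOf_two hz
  have hbb := Small.mul_self_of_orderOf_two hb
  rcases hVmem v hv with rfl | rfl | rfl | rfl
  exacts [one_mul 1, hzz, hbb, by rw [hzb.symm.mul_mul_mul_comm, hzz, hbb, mul_one]]

/-- An element lies in a subgroup as soon as its powers of prime power order do. -/
theorem mem_of_primary_pow {x : G} {H : Subgroup G}
    (h : ∀ k p : ℕ, p.Prime → (∃ j, (x ^ k) ^ p ^ j = 1) → x ^ k ∈ H) : x ∈ H := by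
  suffices key : ∀ n : ℕ, ∀ k : ℕ, orderOf (x ^ k) = n → x ^ k ∈ H by
    simpa using key _ 1 rfl
  intro n
  induction n using Nat.strong_induction_on with
  | _ n ih =>
    intro k hk
    rcases eq_or_ne n 1 with rfl | hn1
    · rw [orderOf_eq_one_iff.1 hk]; exact one_mem _
    have hn0 : n ≠ 0 := hk ▸ (orderOf_pos _).ne'
    obtain ⟨p, hp, hpn⟩ := Nat.exists_prime_and_dvd hn1
    obtain ⟨j, m, hm, rfl⟩ := Nat.exists_eq_pow_mul_and_not_dvd hn0 p hp.ne_one
    have hj : j ≠ 0 := fun e => hm (by simpa [e] using hpn)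
    have hm0 : m ≠ 0 := (mul_ne_zero_iff.1 hn0).2
    have hpj : 1 < p ^ j := Nat.one_lt_pow hj hp.one_lt
    have h1 : x ^ (k * m) ∈ H := h _ p hp ⟨j, by
      rw [pow_mul, ← pow_mul _ m, mul_comm m, ← hk, pow_orderOf_eq_one]⟩
    have h2 : x ^ (k * p ^ j) ∈ H := by
      refine ih m ?_ _ ?_
      · exact (lt_mul_iff_one_lt_left (Nat.pos_of_ne_zero hm0)).2 hpj
      · rw [pow_mul, orderOf_pow_of_dvd (pow_ne_zero _ hp.pos.ne') (hk ▸ dvd_mul_right _ _), hk,
          Nat.mul_div_cancel_left _ (by positivity)]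
    obtain ⟨u, v, huv⟩ := Nat.Coprime.isCoprime ((hp.coprime_iff_not_dvd.2 hm).pow_left j)
    have e : x ^ k = (x ^ (k * p ^ j)) ^ u * (x ^ (k * m)) ^ v := by
      rw [← zpow_natCast, ← zpow_natCast, ← zpow_natCast, ← zpow_mul, ← zpow_mul, ← zpow_add]
      congr 1
      push_cast at huv ⊢
      linear_combination (-(k : ℤ)) * huv
    rw [e]
    exact mul_mem (zpow_mem h2 u) (zpow_mem h1 v)

namespace Comp

variable {z b : G} {N K : Subgroup G} {F : Type} [Field F] [Fintype F] (hC : Comp N K F)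
include hC

omit [Finite G] in
theorem oddOf_sup_le : OS.oddOf N ⊔ K ≤ N := sup_le (map_subtype_le _) hC.hKN

omit [Finite G] in
theorem mem_sup_of_proj {n : N}
    (h : QuotientGroup.mk' (Cfsg.oddCore ↥N) n ∈ topImage N K) :
    (n : G) ∈ OS.oddOf N ⊔ K := by
  obtain ⟨o, ho, k, hk, e⟩ := (mk_mem_topImage_iff hC.hKN n).1 h
  exact e ▸ mul_mem (mem_sup_left ho) (mem_sup_right hk)

omit [Finite G] in
theorem proj_of_mem_sup {n : N} (h : (n : G) ∈ OS.oddOf N ⊔ K) :
    QuotientGroup.mk' (Cfsg.oddCore ↥N) n ∈ topImage N K := by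
  have hn : K ≤ normalizer (OS.oddOf N : Set G) := fun k hk => mem_normalizer_iff.2 fun x =>
    ⟨fun hx => OS.conj_mem_oddOf (hC.hKN hk) hx, fun hx => by
      simpa [mul_assoc] using OS.conj_mem_oddOf (inv_mem (hC.hKN hk)) hx⟩
  have hm : (n : G) ∈ ((OS.oddOf N ⊔ K : Subgroup G) : Set G) := h
  rw [coe_mul_of_right_le_normalizer_left (OS.oddOf N) K hn] at hm
  obtain ⟨o, ho, k, hk, e⟩ := Set.mem_mul.1 hm
  exact (mk_mem_topImage_iff hC.hKN n).2 ⟨o, ho, k, hk, e⟩

/-- The component is not centralised by `z`. -/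
theorem not_le_centralizer (hz : orderOf z = 2) (hzN : z ∈ N) :
    ¬ K ≤ centralizer ({z} : Set G) := by
  intro hle
  obtain ⟨m⟩ := hC.model
  have h : QuotientGroup.mk' (Cfsg.oddCore ↥N) ⟨z, hzN⟩ ∈
      centralizer (topImage N K : Set (↥N ⧸ Cfsg.oddCore ↥N)) := by
    refine mem_centralizer_iff.2 ?_
    rintro _ ⟨k, hk, rfl⟩
    rw [← map_mul, ← map_mul]
    exact congrArg _ (Subtype.ext (mem_centralizer_singleton_iff.1 (hle hk)))
  rw [m.cent, mem_bot] at h
  have h2 := orderOf_proj hzN hz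
  rw [h, orderOf_one] at h2
  omega

/-- An odd element of `O(N) K` commuting with a four-group lies in `O(N)`. -/
theorem mem_oddOf_of_commute (hz : orderOf z = 2) (hb : orderOf b = 2) (hne : z ≠ b)
    (hzb : z * b = b * z) (hzN : z ∈ N) (hbN : b ∈ N) (hO : OS.oddOf N ≤ core z) {x : G}
    (hx : x ∈ OS.oddOf N ⊔ K) (hxo : Odd (orderOf x)) (hxz : Commute z x) (hxb : Commute b x) :
    x ∈ OS.oddOf N := by
  obtain ⟨m⟩ := hC.model
  haveI := topImage_normal (K := K) hC.hKn
  set π := QuotientGroup.mk' (Cfsg.oddCore ↥N)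
  have hxN : x ∈ N := hC.oddOf_sup_le hx
  refine (mk_eq_one_iff_oddOf (⟨x, hxN⟩ : N)).1 ?_
  refine OS.Model.eq_one_of_commute_both (m := m) (z := π ⟨z, hzN⟩) (b := π ⟨b, hbN⟩)
    (orderOf_proj hzN hz) (orderOf_proj hbN hb) ((show Commute (⟨z, hzN⟩ : N) ⟨b, hbN⟩ from
      Subtype.ext hzb).map π) (fun e => ?_)
    (OS.Model.coe_mem_diagPart (hC.proj_of_mem_sup (n := ⟨x, hxN⟩) hx))
    ((show Commute (⟨z, hzN⟩ : N) ⟨x, hxN⟩ from Subtype.ext hxz).map π)
    ((show Commute (⟨b, hbN⟩ : N) ⟨x, hxN⟩ from Subtype.ext hxb).map π) ?_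
  · have h1 : z * b ∈ OS.oddOf N := (mk_eq_one_iff_oddOf (⟨z, hzN⟩ * ⟨b, hbN⟩ : N)).1 (by
      rw [map_mul, e, ← map_mul, show (⟨z, hzN⟩ : N) * ⟨z, hzN⟩ = 1 from
        Subtype.ext (Small.mul_self_of_orderOf_two hz), map_one])
    have hzz := Small.mul_self_of_orderOf_two hz
    have hb' : Commute z b := hzb
    refine hne ?_
    have h2 : z * b = 1 := orderOf_eq_one_iff.1 (Nat.eq_one_of_dvd_coprimes
      (Nat.coprime_two_right.2 (odd_orderOf_core (hO h1))) dvd_rfl
      (orderOf_dvd_of_pow_eq_one (by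
        rw [pow_two, ← hb'.mul_mul_mul_comm z b, hzz, Small.mul_self_of_orderOf_two hb, mul_one])))
    rw [← mul_right_inj z, hzz, h2]
  · refine Odd.of_dvd_nat hxo ?_
    rw [← orderOf_mk x hxN]
    exact orderOf_map_dvd π _

/-- **The Fitting part of `N` lies in `O(N) K`.** -/
theorem fit_inf_le (hz : orderOf z = 2) (hzN : z ∈ N) (hO : OS.oddOf N ≤ core z) :
    fit z ⊓ N ≤ OS.oddOf N ⊔ K := by
  obtain ⟨m⟩ := hC.model
  haveI := topImage_normal (K := K) hC.hKn
  set π := QuotientGroup.mk' (Cfsg.oddCore ↥N)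
  set zN : N := ⟨z, hzN⟩
  intro w hw
  refine mem_of_primary_pow fun k r hr hrk => ?_
  haveI := Fact.mk hr
  set e := w ^ k with he
  have heF : e ∈ qcore r z := mem_qcore_of_fit hr (pow_mem hw.1 k) hrk
  have heN : e ∈ N := pow_mem hw.2 k
  set eN : N := ⟨e, heN⟩
  obtain ⟨j, hj⟩ := hrk
  rcases eq_or_ne r 2 with rfl | hr2
  · rw [qcore_two, mem_bot] at heF
    rw [heF]; exact one_mem _
  have heo : Odd (orderOf e) := odd_orderOf_core (qcore_le_core r z heF)
  have hze : Commute z e := (commute_of_mem_core (qcore_le_core r z heF)).symm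
  refine hC.mem_sup_of_proj (n := eN) (m.mem_of_commute_torus (orderOf_proj hzN hz) hr hr2
    ⟨j, by rw [← map_pow, show eN ^ r ^ j = 1 from Subtype.ext hj, map_one]⟩
    ((show Commute zN eN from Subtype.ext hze).map π) fun t htL hzt hto htr => ?_)
  obtain ⟨n, hn, rfl⟩ := htL
  have hnz : Commute (n : G) z := commute_of_proj_z hz hzN hO (by
    rw [map_mul, map_mul, map_inv, ← hzt.eq, mul_inv_cancel_right])
  have hnC : (n : G) ∈ centralizer ({z} : Set G) := mem_centralizer_singleton_iff.2 hnz.eq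
  set c : N := n * eN * n⁻¹ * eN⁻¹
  have hcF : (c : G) ∈ qcore r z := mul_mem
    ((mem_normalizer_iff.1 (centralizer_le_normalizer_qcore r z hnC) e).1 heF) (inv_mem heF)
  have hcL : π c ∈ topImage N K := by
    rw [show c = n * (eN * n⁻¹ * eN⁻¹) by simp only [c, mul_assoc], map_mul]
    refine mul_mem ⟨n, hn, rfl⟩ ?_
    rw [map_mul, map_mul, map_inv π eN]
    exact (topImage_normal hC.hKn).conj_mem _ (by rw [map_inv]; exact inv_mem ⟨n, hn, rfl⟩) _
  have hzc : Commute (π zN) (π c) :=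
    (show Commute zN c from Subtype.ext (commute_of_mem_core (qcore_le_core r z hcF)).symm).map π
  have hco : Odd (orderOf (π c)) := by
    refine Odd.of_dvd_nat (odd_orderOf_core (qcore_le_core r z hcF)) ?_
    rw [orderOf_coe]
    exact orderOf_map_dvd π c
  have hct : Commute (π n) (π c) :=
    m.commute_torus (orderOf_proj hzN hz) ⟨n, hn, rfl⟩ hcL hzt hzc hto hco
  obtain ⟨i, hi⟩ := (qcore_isPGroup (q := r) z) ⟨_, hcF⟩
  exact (show Commute (π n) (π eN) from commute_of_conj_coprime (c := π c) (r := r ^ i)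
    (by rw [← map_pow, show c ^ r ^ i = 1 from Subtype.ext (by simpa using congrArg Subtype.val hi), map_one])
    (htr.pow_right i) hct.eq (by rw [← map_inv, ← map_mul, ← map_mul, ← map_mul]; simp [c])).symm

/-- **Elements of the Fitting part of `N` fixed by a second involution lie in `O(N)`.** -/
theorem fit_fix_le (hz : orderOf z = 2) (hb : orderOf b = 2) (hne : z ≠ b)
    (hzb : z * b = b * z) (hzN : z ∈ N) (hbN : b ∈ N) (hO : OS.oddOf N ≤ core z) :
    fit z ⊓ centralizer ({b} : Set G) ⊓ N ≤ OS.oddOf N := fun x hx =>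
  hC.mem_oddOf_of_commute hz hb hne hzb hzN hbN hO (hC.fit_inf_le hz hzN hO ⟨hx.1.1, hx.2⟩)
    (odd_orderOf_core (fit_le_core z hx.1.1))
    (commute_of_mem_core (fit_le_core z hx.1.1)).symm
    (mem_centralizer_singleton_iff.1 hx.1.2).symm

end Comp

namespace Minimal

variable (hG : Minimal G) {z b : G} {q : ℕ} {Q N K : Subgroup G} {F : Type} [Field F] [Fintype F]
  (hz : orderOf z = 2) (hmax : IsCoatom (centralizer ({z} : Set G)))
include hG hz hmax

/-- The full fixed primary part escapes. -/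
theorem exists_localMax_fixed (hL : LocalMax z b q Q N) :
    ∃ N' : Subgroup G, LocalMax z b q (qcore q z ⊓ centralizer ({b} : Set G)) N' := by
  haveI := Fact.mk hL.hq
  have hzN := LocalPre.z_mem hG hL.toLocalPre
  have hbN := LocalPre.b_mem hG hL.toLocalPre
  have hO := LocalMax.oddCore_le hG hz hmax hL
  obtain ⟨F', _, _, K', hC⟩ := hG.exists_comp hz hmax hL.toLocalPre hO
    (LocalMax.not_isSolvable hG hz hmax hL)
  set Q0 := qcore q z ⊓ centralizer ({b} : Set G)
  have hQ0W : Q0 ≤ fix z b := inf_le_inf_right _ (qcore_le_core q z)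
  have hQ0O : Q0 ≤ OS.oddOf N := fun x hx => hC.fit_fix_le hz hL.hb hL.hbz hL.hzb hzN hbN hO
    ⟨⟨qcore_le_fit hL.hq z hx.1, hx.2⟩, LocalMax.fix_le_N hG hL (hQ0W hx)⟩
  have hQle : Q ≤ Q0 := le_inf (le_qcore hL.hq hL.hQF hL.hQp) (hL.hQW.trans (fix_le z b))
  refine hG.exists_localMax hL.hb hL.hbz hL.hzb hL.hq ((qcore_isPGroup z).to_le inf_le_left)
    (fun h => hL.hQne (eq_bot_iff.2 (h ▸ hQle))) hQ0W
    (inf_le_left.trans (qcore_le_fit hL.hq z)) (fun u hu => ?_) fun hle => ?_
  · refine mem_normalizer_iff.2 fun x => ?_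
    have hb' : u * b = b * u := mem_centralizer_singleton_iff.1 (fix_le z b hu)
    refine and_congr (mem_normalizer_iff.1 (core_le_normalizer_qcore q z (fix_le_core z b hu)) x) ?_
    show x ∈ centralizer ({b} : Set G) ↔ u * x * u⁻¹ ∈ centralizer ({b} : Set G)
    rw [mem_centralizer_singleton_iff, mem_centralizer_singleton_iff]
    constructor
    · intro h
      exact (((show Commute u b from hb').mul_left h).mul_left
        (show Commute u b from hb').inv_left).eq
    · intro h
      simpa [mul_assoc] using (((show Commute u b from hb').inv_left.mul_left h).mul_left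
        (show Commute u b from hb')).eq
  · exact hC.not_le_centralizer hz hzN (fun k hk => hle (mem_centralizer_iff.2 fun o ho =>
      hC.hcomm o (hQ0O ho) k hk))

/-- `z` lies in the component. -/
theorem z_mem_comp (hL : LocalMax z b q (qcore q z ⊓ centralizer ({b} : Set G)) N)
    (hC : Comp N K F) (hO : OS.oddOf N ≤ core z) : z ∈ K := by
  haveI : Fact (Nat.Prime 2) := ⟨Nat.prime_two⟩
  obtain ⟨m⟩ := hC.model
  haveI := topImage_normal (K := K) hC.hKn
  have hzN := LocalPre.z_mem hG hL.toLocalPre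
  have hbN := LocalPre.b_mem hG hL.toLocalPre
  set π := QuotientGroup.mk' (Cfsg.oddCore ↥N)
  haveI : IsSimpleGroup (topImage N K) := OS.isSimpleGroup_of_psl
    (Or.inl ⟨F, _, _, m.odd, m.large, ⟨m.e⟩⟩)
  have h4L : 4 ∣ Nat.card (topImage N K) := by
    have h2 : 2 ∣ Nat.card (topImage N K) := by
      by_contra h2
      haveI : Group.IsSolvable (topImage N K) := Cfsg.Agent.S0205.result
        (Nat.not_even_iff_odd.1 fun h => h2 (even_iff_two_dvd.1 h))
      have hc := CfsgLib.Linear.isSimpleGroup_PSL_of (F := F) 2 le_rfl (fun _ => m.large)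
      haveI : Group.IsPerfect (topImage N K) := isPerfect_iff.2 (by
        rw [topImage, ← map_commutator]
        congr 1
        rw [← map_injective N.subtype_injective |>.eq_iff, map_commutator, subgroupOf_map_subtype,
          inf_eq_left.2 hC.hKN, hC.hperf])
      exact not_perfect_of_solvable (topImage N K) inferInstance
    obtain ⟨v, hv⟩ := exists_prime_orderOf_dvd_card' (G := topImage N K) 2 h2
    obtain ⟨r, hrL, hr, hrv, hcr⟩ := OS.exists_other_involution m.dih m.cent inferInstance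
      (show orderOf (v : ↥N ⧸ Cfsg.oddCore ↥N) = 2 by rw [orderOf_coe, hv]) v.2
    obtain ⟨V, -, -, hV4, hVmem, -, -⟩ := OS.exists_fourGroup
      (show orderOf (v : ↥N ⧸ Cfsg.oddCore ↥N) = 2 by rw [orderOf_coe, hv]) hr hcr hrv
    rw [← hV4]
    refine card_dvd_of_le fun w hw => ?_
    rcases hVmem w hw with rfl | rfl | rfl | rfl
    exacts [one_mem _, v.2, hrL, mul_mem v.2 hrL]
  set M : Subgroup G := ((topImage N K).comap π).map N.subtype
  have hMmem : ∀ n : N, (n : G) ∈ M ↔ π n ∈ topImage N K := fun n =>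
    ⟨fun ⟨a, ha, e⟩ => Subtype.ext e ▸ ha, fun h => ⟨n, h, rfl⟩⟩
  refine mem_of_proj_involution hC.hKN hC.hcomm hzN hz ((hMmem ⟨z, hzN⟩).1 ?_)
  refine hG.z_mem_component hz hL.hb hL.hbz hL.hzb (map_subtype_le _) ?_ ?_ hzN hbN ?_
  · intro n hn
    have hnorm := (topImage_normal hC.hKn).comap π
    refine mem_normalizer_iff.2 fun x => ⟨?_, ?_⟩
    · rintro ⟨a, ha, rfl⟩
      exact ⟨_, hnorm.conj_mem a ha ⟨n, hn⟩, rfl⟩
    · rintro ⟨a, ha, e⟩
      refine ⟨_, hnorm.conj_mem a ha ⟨n, hn⟩⁻¹, ?_⟩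
      replace e : (a : G) = n * x * n⁻¹ := e
      show n⁻¹ * (a : G) * n⁻¹⁻¹ = x
      rw [e]
      group
  · rw [card_map_of_injective N.subtype_injective]
    exact h4L.trans (card_dvd_of_surjective
      ((π.subgroupComap (topImage N K))) (π.subgroupComap_surjective_of_surjective _
        (QuotientGroup.mk'_surjective _)))
  · intro s hsz hsb
    have hsC : s ∈ centralizer ({z} : Set G) :=
      mem_centralizer_singleton_iff.2 (mul_inv_eq_iff_eq_mul.1 hsz)
    refine hL.hQN (mem_normalizer_iff.2 fun x => ?_)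
    refine (and_congr_left' (mem_normalizer_iff.1 (centralizer_le_normalizer_qcore q z hsC) x)).trans
      (and_congr_right fun hx => ?_)
    set y := s * x * s⁻¹ with hy
    have hyz : Commute y z := commute_of_mem_core (qcore_le_core q z hx)
    show x ∈ centralizer ({b} : Set G) ↔ y ∈ centralizer ({b} : Set G)
    rw [mem_centralizer_singleton_iff, mem_centralizer_singleton_iff]
    have e : s * (x * b * x⁻¹) * s⁻¹ = y * (z * b) * y⁻¹ := by
      rw [← hsb, hy]; group
    constructor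
    · intro h
      rw [h, mul_inv_cancel_right, hsb] at e
      have h1 : Commute y (z * b) := mul_inv_eq_iff_eq_mul.1 e.symm
      have h2 := hyz.mul_right h1
      rwa [← mul_assoc, Small.mul_self_of_orderOf_two hz, one_mul] at h2
    · intro h
      rw [(hyz.mul_right h).eq, mul_inv_cancel_right, ← hsb] at e
      exact mul_inv_eq_iff_eq_mul.1 (mul_left_cancel (mul_right_cancel e))

/-- `b` lies in the component. -/
theorem b_mem_comp (hL : LocalMax z b q (qcore q z ⊓ centralizer ({b} : Set G)) N)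
    (hC : Comp N K F) (hO : OS.oddOf N ≤ core z) (hzK : z ∈ K) : b ∈ K := by
  haveI : Fact (Nat.Prime 2) := ⟨Nat.prime_two⟩
  obtain ⟨m⟩ := hC.model
  haveI := topImage_normal (K := K) hC.hKn
  have hzN := LocalPre.z_mem hG hL.toLocalPre
  have hbN := LocalPre.b_mem hG hL.toLocalPre
  set π := QuotientGroup.mk' (Cfsg.oddCore ↥N)
  refine mem_of_proj_involution hC.hKN hC.hcomm hbN hL.hb ?_
  by_contra hbL
  set zN : N := ⟨z, hzN⟩
  set bN : N := ⟨b, hbN⟩
  have hzL : π zN ∈ topImage N K := ⟨zN, hzK, rfl⟩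
  have hzb' : Commute (π bN) (π zN) := (show Commute bN zN from Subtype.ext hL.hzb.symm).map π
  obtain ⟨r, hrL, h, -, j, hr, hrz, hzr, -, -, -, -, hu⟩ := OS.exists_fixed_cycle m.dih m.cent
    (Or.inl ⟨F, _, _, m.odd, m.large, ⟨m.e⟩⟩) (orderOf_proj hbN hL.hb) (orderOf_proj hzN hz) hzb'
    hbL hzL (x := 1) (by simp) (Commute.one_right _) (Commute.one_right _)
  -- an element of the top mapping `b` to `z * b`
  set u := (π bN * r) ^ j with hudef
  have hbb := Small.mul_self_of_orderOf_two (orderOf_proj hbN hL.hb)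
  have hrr := Small.mul_self_of_orderOf_two hr
  have hbu : π bN * u * π bN = u⁻¹ := by
    have h1 : (π bN * r)⁻¹ = π bN * (π bN * r) * (π bN)⁻¹ := by
      rw [mul_inv_rev, inv_eq_of_mul_eq_one_right hrr, inv_eq_of_mul_eq_one_right hbb, ← mul_assoc,
        hbb, one_mul]
    rw [hudef, ← inv_pow, h1, conj_pow, inv_eq_of_mul_eq_one_right hbb]
  have huz : Commute (π zN) u := (hzb'.symm.mul_right hzr).pow_right j
  have hub : u * π bN * u⁻¹ = π zN * π bN := by
    calc u * π bN * u⁻¹ = u * π bN * (π bN * u * π bN) := by rw [hbu]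
      _ = u * (π bN * π bN) * u * π bN := by group
      _ = π zN * π bN := by rw [hbb, mul_one, ← hu]
  have hu4 : u ^ 4 = 1 := by
    rw [show 4 = 2 * 2 from rfl, pow_mul, pow_two u, hu, pow_two,
      Small.mul_self_of_orderOf_two (orderOf_proj hzN hz)]
  obtain ⟨k, hkL, hkz, hkb, hk4⟩ : ∃ k ∈ topImage N K, Commute (π zN) k ∧
      k * π bN * k⁻¹ = π zN * π bN ∧ k ^ 4 = 1 := by
    by_cases huL : u ∈ topImage N K
    · exact ⟨u, huL, huz, hub, hu4⟩
    refine ⟨u * π bN, ?_, huz.mul_right hzb'.symm, ?_, ?_⟩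
    · -- the index of the top in `diagPart` is two
      obtain ⟨B, hB⟩ := OS.Model.mem_diagPart.1
        (OS.Model.involution_mem (m := m) (orderOf_proj hbN hL.hb))
      obtain ⟨U, hU⟩ : ∃ U, m.Rep u U := OS.Model.mem_diagPart.1
        (pow_mem (mul_mem (OS.Model.involution_mem (orderOf_proj hbN hL.hb))
          (OS.Model.coe_mem_diagPart hrL)) j)
      refine OS.Model.mem_of_det (hU.mul hB) ?_
      have hch : ringChar F ≠ 2 := fun e => m.two_ne_zero (by
        haveI := ringChar.of_eq e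
        exact_mod_cast CharP.cast_eq_zero F 2)
      have hU0 := Matrix.GeneralLinearGroup.det_ne_zero U
      have hB0 := Matrix.GeneralLinearGroup.det_ne_zero B
      rw [Units.val_mul, Matrix.det_mul, FiniteField.isSquare_iff hch (mul_ne_zero hU0 hB0), mul_pow,
        (FiniteField.pow_dichotomy hch hU0).resolve_left
          (fun e => huL (OS.Model.mem_of_det hU ((FiniteField.isSquare_iff hch hU0).2 e))),
        (FiniteField.pow_dichotomy hch hB0).resolve_left
          (fun e => hbL (OS.Model.mem_of_det hB ((FiniteField.isSquare_iff hch hB0).2 e)))]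
      norm_num
    · rw [mul_inv_rev, inv_eq_of_mul_eq_one_right hbb]
      calc u * π bN * π bN * (π bN * u⁻¹) = u * (π bN * π bN) * π bN * u⁻¹ := by group
        _ = _ := by rw [hbb, mul_one, hub]
    · rw [show 4 = 2 * 2 from rfl, pow_mul, pow_two (u * π bN),
        show u * π bN * (u * π bN) = u * (π bN * u * π bN) by group, hbu, mul_inv_cancel, one_pow]
  -- elements of the fixed subgroup commute with it
  set W := fix z b
  have hWN : W ≤ N := LocalMax.fix_le_N hG hL
  have hcent : ∀ w : N, (w : G) ∈ W → Commute k (π w) := by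
    intro w hw
    obtain ⟨hwz, hwb, hwo⟩ := (hG.mem_fix hz).1 hw
    have hwz' : Commute (π zN) (π w) := (show Commute zN w from Subtype.ext hwz.symm).map π
    have hwb' : Commute (π bN) (π w) := (show Commute bN w from Subtype.ext hwb.symm).map π
    set y := k * π w * k⁻¹
    have hyz : Commute (π zN) y := (hkz.mul_right hwz').mul_right hkz.inv_right
    have hyb : Commute (π bN) y := by
      have h1 : Commute (π zN * π bN) y := by
        rw [← hkb]
        exact ((hwb'.map (MulAut.conj k).toMonoidHom) : _)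
      have h2 := hyz.mul_left h1
      rwa [← mul_assoc, Small.mul_self_of_orderOf_two (orderOf_proj hzN hz), one_mul] at h2
    set d := y * (π w)⁻¹ with hd
    have hdz : Commute (π zN) d := hyz.mul_right hwz'.inv_right
    have hdb : Commute (π bN) d := hyb.mul_right hwb'.inv_right
    have hdL : d ∈ topImage N K := m.commutator_mem_L k (π w)
    obtain ⟨i, n, hn, hdn⟩ := Nat.exists_eq_two_pow_mul_odd (orderOf_pos d).ne'
    have hd2 : d ^ (2 ^ i) = 1 := by
      refine OS.Model.eq_one_of_commute_both (m := m) (orderOf_proj hzN hz)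
        (orderOf_proj hbN hL.hb) hzb'.symm (fun e => hbL (e ▸ hzL))
        (OS.Model.coe_mem_diagPart (pow_mem hdL _)) (hdz.pow_right _) (hdb.pow_right _) ?_
      rw [orderOf_pow_of_dvd (pow_ne_zero _ two_ne_zero) (hdn ▸ dvd_mul_right _ _), hdn,
        Nat.mul_div_cancel_left _ (by positivity)]
      exact hn
    have hwo' : Odd (orderOf (π w)) := by
      refine Odd.of_dvd_nat hwo ?_
      rw [orderOf_coe]
      exact orderOf_map_dvd π w
    have hdw : Commute d (π w) := by
      rcases mem_four_of_two_element m.dih (orderOf_proj hzN hz) (orderOf_proj hbN hL.hb)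
        hzb'.symm (fun e => hbL (e ▸ hzL)) hd2 hdz hdb with e | e | e | e <;> rw [e]
      exacts [Commute.one_left _, hwz', hwb', hwz'.mul_left hwb']
    have hym : (d * π w) ^ orderOf (π w) = 1 := by
      rw [hd, inv_mul_cancel_right, conj_pow, pow_orderOf_eq_one, mul_one, mul_inv_cancel]
    rw [hdw.mul_pow, pow_orderOf_eq_one, mul_one] at hym
    have hd1 : d = 1 := orderOf_eq_one_iff.1 (Nat.eq_one_of_dvd_coprimes
      ((Nat.coprime_two_right.2 hwo').pow_right i) (orderOf_dvd_of_pow_eq_one hym)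
      (orderOf_dvd_of_pow_eq_one hd2))
    rw [hd, mul_inv_eq_one] at hd1
    exact mul_inv_eq_iff_eq_mul.1 hd1
  -- a 2-element of `K` over it
  obtain ⟨n0, hn0K, hn0⟩ := hkL
  obtain ⟨i, o, ho, hno⟩ := Nat.exists_eq_two_pow_mul_odd (orderOf_pos n0).ne'
  obtain ⟨e, he⟩ : ∃ e : ℕ, (k ^ o) ^ e = k := exists_pow_eq_self_of_coprime
    (Nat.Coprime.coprime_dvd_right (orderOf_dvd_of_pow_eq_one hk4)
      ((Nat.coprime_two_right.2 ho).pow_right 2))
  set n := (n0 ^ o) ^ e with hndef
  have hnK : (n : G) ∈ K := by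
    rw [hndef, SubmonoidClass.coe_pow, SubmonoidClass.coe_pow]
    exact pow_mem (pow_mem hn0K _) _
  have hn2 : (n : G) ^ 2 ^ i = 1 := by
    rw [← SubmonoidClass.coe_pow, hndef, ← pow_mul, ← pow_mul, ← mul_assoc,
      show o * e * 2 ^ i = 2 ^ i * o * e by ring, pow_mul, ← hno, pow_orderOf_eq_one, one_pow,
      OneMemClass.coe_one]
  have hnk : π n = k := by rw [hndef, map_pow, map_pow, hn0, he]
  set H := centralizer (W : Set G) with hHdef
  have hnH : (n : G) ∈ H := mem_centralizer_iff.2 fun w hw => by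
    set wN : N := ⟨w, hWN hw⟩
    set c : N := wN * n * wN⁻¹ * n⁻¹
    have hc1 : π c = 1 := by
      rw [map_mul, map_mul, map_mul, map_inv, map_inv, hnk, ← (hcent wN hw).eq,
        mul_inv_cancel_right, mul_inv_cancel]
    have hcO : (c : G) ∈ OS.oddOf N := (mk_eq_one_iff_oddOf c).1 hc1
    have hcn : Commute (n : G) (c : G) := (hC.hcomm _ hcO _ hnK).symm
    -- `w n w⁻¹ = c n` has the order of `n`
    have hpow : ((c : G) * n) ^ 2 ^ i = 1 := by
      have h1 : (c : G) * n = w * n * w⁻¹ := by simp [c, wN]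
      rw [h1, conj_pow, hn2, mul_one, mul_inv_cancel]
    rw [hcn.symm.mul_pow, hn2, mul_one] at hpow
    have hc' : (c : G) = 1 := orderOf_eq_one_iff.1 (Nat.eq_one_of_dvd_coprimes
      ((Nat.coprime_two_right.2 (OS.odd_orderOf_of_mem (OS.odd_card_oddOf N) hcO)).pow_right i)
      dvd_rfl (orderOf_dvd_of_pow_eq_one hpow))
    have h2 : w * n * w⁻¹ * (n : G)⁻¹ = 1 := hc'
    exact mul_inv_eq_iff_eq_mul.1 (mul_inv_eq_one.1 h2)
  have hbH : b ∈ H := mem_centralizer_iff.2 fun w hw =>
    mem_centralizer_singleton_iff.1 (fix_le z b hw)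
  -- so `z` lies in the derived group of `H`
  have hzH : z ∈ ⁅H, H⁆ := by
    set x : N := n * bN * n⁻¹ * bN⁻¹ * zN⁻¹
    have hxO : (x : G) ∈ OS.oddOf N := (mk_eq_one_iff_oddOf x).1 (by
      rw [map_mul, map_mul, map_mul, map_mul, map_inv, map_inv, map_inv, hnk, hkb,
        mul_inv_cancel_right, mul_inv_cancel])
    have hmem : (x : G) * z ∈ ⁅H, H⁆ := by
      rw [show (x : G) * z = ⁅(n : G), b⁆ by
        rw [commutatorElement_def]; simp [x, bN, zN]]
      exact commutator_mem_commutator hnH hbH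
    have hxz : Commute (x : G) z := commute_of_mem_core (hO hxO)
    obtain ⟨s, hs⟩ := OS.odd_orderOf_of_mem (OS.odd_card_oddOf N) hxO
    have hp := pow_mem hmem (orderOf (x : G))
    rwa [hxz.mul_pow, pow_orderOf_eq_one, one_mul, hs, pow_succ, pow_mul, pow_two,
      Small.mul_self_of_orderOf_two hz, one_pow, one_mul] at hp
  obtain ⟨g, hg1, hg2⟩ := hG.exists_cycle hz hL.hb hL.hbz hL.hzb
  have hgW : W.map (MulAut.conj g).toMonoidHom = W := by
    refine eq_of_le_of_card_ge ?_ (card_map_of_injective (MulAut.conj g).injective).ge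
    rintro _ ⟨w, hw, rfl⟩
    exact hG.conj_mem_fix hz hg1 hg2 hw
  have hgH : H.map (MulAut.conj g).toMonoidHom = H := by
    refine eq_of_le_of_card_ge ?_ (card_map_of_injective (MulAut.conj g).injective).ge
    rintro _ ⟨x, hx, rfl⟩
    refine mem_centralizer_iff.2 fun w hw => ?_
    rw [SetLike.mem_coe, ← hgW] at hw
    obtain ⟨w', hw', rfl⟩ := hw
    rw [← map_mul, ← map_mul, mem_centralizer_iff.1 hx w' hw']
  have hbH2 : b ∈ ⁅H, H⁆ := by
    have := mem_map_of_mem (MulAut.conj g).toMonoidHom hzH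
    rwa [map_commutator, hgH, show (MulAut.conj g).toMonoidHom z = b from hg1] at this
  have hHN : H ≤ N := (centralizer_le (show ((qcore q z ⊓ centralizer ({b} : Set G) : Subgroup G) :
    Set G) ⊆ W from hL.hQW)).trans (LocalPre.centralizer_le hG hL.toLocalPre)
  have hle : ⁅H, H⁆ ≤ ((topImage N K).comap π).map N.subtype := by
    refine commutator_le.2 fun x hx y hy => ?_
    refine ⟨⁅(⟨x, hHN hx⟩ : N), ⟨y, hHN hy⟩⁆, ?_, rfl⟩
    show π ⁅_, _⁆ ∈ topImage N K
    rw [map_commutatorElement, commutatorElement_def]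
    exact m.commutator_mem_L _ _
  obtain ⟨a, ha, e⟩ := hle hbH2
  exact hbL (show π bN ∈ topImage N K from (Subtype.ext e : a = bN) ▸ ha)

end Minimal

end CfsgLib.GW
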