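import Cfsg.Agent.GW.Scalar
import Cfsg.Agent.GW.OSType.Action
import Cfsg.Agent.BenderMethod.Basic

/-!
# Gorenstein–Walter 4.1: a maximal subgroup above an escaping fixed subgroup

`C = C(z)` is maximal, `Q` is a nontrivial primary subgroup of `F(U) ∩ fix z b` and the maximal
subgroup `N` contains its normalizer without being `C`.  Then `F(N) ≤ C`, `O(N) ≤ U` and `N` is not
solvable.
-/

set_option autoImplicit false
set_option linter.style.haveILetI false
set_option linter.unusedSectionVars false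

open Subgroup

namespace CfsgLib.GW

universe u

variable {G : Type u} [Group G] [Finite G]

/-- A maximal subgroup above the normalizer of a primary fixed subgroup, other than `C(z)`. -/
structure LocalPre (z b : G) (q : ℕ) (Q N : Subgroup G) : Prop where
  hb : orderOf b = 2
  hbz : z ≠ b
  hzb : z * b = b * z
  hq : q.Prime
  hQp : IsPGroup q Q
  hQne : Q ≠ ⊥
  hQW : Q ≤ fix z b
  hQF : Q ≤ fit z
  hN : IsCoatom N
  hQN : normalizer (Q : Set G) ≤ N
  hne : N ≠ centralizer ({z} : Set G)

/-- ... where moreover `fix z b` normalises the subgroup. -/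
structure LocalMax (z b : G) (q : ℕ) (Q N : Subgroup G) : Prop extends LocalPre z b q Q N where
  hWQ : fix z b ≤ normalizer (Q : Set G)

/-- A primary subgroup of the Fitting part lies in its primary part. -/
theorem le_qcore_of_le_fit {q : ℕ} (hq : q.Prime) {z : G} {Y : Subgroup G} (hY : Y ≤ fit z)
    (hp : IsPGroup q Y) : Y ≤ qcore q z := by
  haveI := Fact.mk hq
  refine le_trans (OddOrder.nilpotent_le_piCoreOf (OddOrder.isNilpotent_fittingOf _) hY
    (OddOrder.isPiSubgroup_of_isPGroup hp (Set.mem_singleton q))) ?_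
  exact LocalStructure.le_pCoreOf ((OddOrder.piCoreOf_le _ _).trans (OddOrder.fittingOf_le _))
    ((OddOrder.le_normalizer_fittingOf _).trans (OddOrder.normalizer_le_normalizer_piCoreOf _ _))
    (OddOrder.isPGroup_of_isPiSubgroup (OddOrder.isPiSubgroup_piCoreOf _ _))

namespace Minimal

variable (hG : Minimal G)
include hG

/-- A proper non-trivial subgroup has a proper normalizer. -/
theorem normalizer_ne_top {Q : Subgroup G} (hQ : Q ≠ ⊥) (hQ' : Q ≠ ⊤) :
    normalizer (Q : Set G) ≠ ⊤ := fun h => by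
  haveI := hG.simple
  haveI : Q.Normal := normalizer_eq_top_iff.1 h
  rcases (inferInstance : Q.Normal).eq_bot_or_eq_top with h' | h'
  · exact hQ h'
  · exact hQ' h'

/-- An escaping fixed subgroup gives a maximal subgroup as required. -/
theorem exists_localMax {z b : G} {q : ℕ} {Q : Subgroup G} (hb : orderOf b = 2)
    (hbz : z ≠ b) (hzb : z * b = b * z) (hq : q.Prime) (hQp : IsPGroup q Q) (hQne : Q ≠ ⊥)
    (hQW : Q ≤ fix z b) (hQF : Q ≤ fit z) (hWQ : fix z b ≤ normalizer (Q : Set G))
    (hesc : ¬ centralizer (Q : Set G) ≤ centralizer ({z} : Set G)) :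
    ∃ N : Subgroup G, LocalMax z b q Q N := by
  have hQtop : Q ≠ ⊤ := fun h => by
    have h4 := hG.four_dvd
    rw [← card_top, ← h] at h4
    exact Nat.not_even_iff_odd.2 ((odd_core z).of_dvd_nat (card_dvd_of_le (hQW.trans (fix_le_core z b))))
      (even_iff_two_dvd.2 (dvd_trans (by norm_num) h4))
  obtain ⟨N, hN, hle⟩ := (eq_top_or_exists_le_coatom (normalizer (Q : Set G))).resolve_left
    (hG.normalizer_ne_top hQne hQtop)
  exact ⟨N, ⟨hb, hbz, hzb, hq, hQp, hQne, hQW, hQF, hN, hle,
    fun h => hesc (h ▸ (centralizer_le_normalizer _).trans hle)⟩, hWQ⟩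

variable {z b : G} {q : ℕ} {Q N : Subgroup G} (hz : orderOf z = 2)
  (hmax : IsCoatom (centralizer ({z} : Set G))) (hL : LocalPre z b q Q N)
include hz hmax hL

omit hz hmax in
theorem LocalPre.centralizer_le : centralizer (Q : Set G) ≤ N :=
  (centralizer_le_normalizer _).trans hL.hQN

omit hz hmax in
theorem LocalPre.z_mem : z ∈ N :=
  LocalPre.centralizer_le hG hL (mem_centralizer_iff.2 fun _ hx =>
    commute_of_mem_core (fix_le_core z b (hL.hQW hx)))

omit hz hmax in
theorem LocalPre.b_mem : b ∈ N :=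
  LocalPre.centralizer_le hG hL (mem_centralizer_iff.2 fun _ hx =>
    mem_centralizer_singleton_iff.1 (fix_le z b (hL.hQW hx)))


omit hmax in
theorem LocalPre.two_core_ne : Cfsg.pCoreOf 2 (centralizer ({z} : Set G)) ≠ ⊥ := by
  haveI := Fact.mk Nat.prime_two
  intro h
  have hmem : z ∈ Cfsg.pCoreOf 2 (centralizer ({z} : Set G)) :=
    LocalStructure.le_pCoreOf (zpowers_le.2 (mem_centralizer_singleton_iff.2 rfl))
      (le_trans (fun c hc => mem_centralizer_iff.2 fun x hx => by
        obtain ⟨k, rfl⟩ := hx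
        exact ((Commute.symm (mem_centralizer_singleton_iff.1 hc)).zpow_left k).eq)
        (centralizer_le_normalizer _))
      (IsPGroup.of_card (n := 1) (by rw [Nat.card_zpowers, hz, pow_one])) (mem_zpowers z)
  rw [h, mem_bot] at hmem
  exact Small.ne_one_of_orderOf_two hz hmem

omit hz hmax in
theorem LocalPre.qcore_ne : qcore q z ≠ ⊥ := fun h =>
  hL.hQne (le_bot_iff.1 (h ▸ le_qcore_of_le_fit hL.hq hL.hQF hL.hQp))

omit hz hmax in
theorem LocalPre.q_ne_two : q ≠ 2 := fun h =>
  LocalPre.qcore_ne hG hL (h ▸ qcore_two z)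

omit hz hmax in
theorem LocalPre.qcore_le_pCoreOf {u : ℕ} (hu : u.Prime) :
    qcore u z ≤ Cfsg.pCoreOf u (centralizer ({z} : Set G)) := by
  haveI := Fact.mk hu
  exact LocalStructure.le_pCoreOf ((qcore_le_core u z).trans (core_le z))
    (centralizer_le_normalizer_qcore u z) (qcore_isPGroup z)

omit hmax in
theorem LocalPre.leadsTo : Cfsg.leadsTo (centralizer ({z} : Set G)) N := by
  haveI := Fact.mk hL.hq
  exact ⟨Q, hL.hQne, (le_qcore_of_le_fit hL.hq hL.hQF hL.hQp).trans
    ((LocalPre.qcore_le_pCoreOf hG hL hL.hq).trans (Signalizer.pCoreOf_le_fittingOf _ q)),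
    inf_le_right.trans hL.hQN⟩

omit hmax in
/-- `O_s(N)` meets `C` trivially, or lies in it. -/
theorem LocalPre.pCoreOf_cases [IsSimpleGroup G] (hmax : IsCoatom (centralizer ({z} : Set G)))
    {s : ℕ} (hs : s.Prime) :
    Cfsg.pCoreOf s N ≤ centralizer ({z} : Set G) ∨
      (s ≠ 2 ∧ qcore s z = ⊥ ∧ Cfsg.pCoreOf s N ⊓ centralizer ({z} : Set G) = ⊥) := by
  haveI := Fact.mk hs
  haveI := Fact.mk Nat.prime_two
  haveI := Fact.mk hL.hq
  have h2 := LocalPre.two_core_ne hG hz hL
  have hqC : Cfsg.pCoreOf q (centralizer ({z} : Set G)) ≠ ⊥ := fun h =>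
    LocalPre.qcore_ne hG hL (le_bot_iff.1 (h ▸ LocalPre.qcore_le_pCoreOf hG hL hL.hq))
  have hlead := LocalPre.leadsTo hG hz hL
  rcases eq_or_ne s 2 with rfl | hs2
  · exact Or.inl (BenderMethod.pCoreOf_le_of_two hmax hlead (LocalPre.q_ne_two hG hL).symm h2 hqC)
  by_cases hbot : qcore s z = ⊥
  swap
  · exact Or.inl (BenderMethod.pCoreOf_le_of_two hmax hlead hs2
      (fun h => hbot (le_bot_iff.1 (h ▸ LocalPre.qcore_le_pCoreOf hG hL hs))) h2)
  refine Or.inr ⟨hs2, hbot, BenderMethod.pCoreOf_inf_eq_bot hlead ((eq_bot_iff).2 ?_)⟩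
  rw [← hbot]
  refine LocalStructure.le_pCoreOf (fun x hx => hG.mem_core hz (LocalStructure.pCoreOf_le _ hx) ?_)
    ((core_le z).trans (LocalStructure.le_normalizer_pCoreOf _)) (LocalStructure.pCoreOf_isPGroup _)
  obtain ⟨k, hk⟩ := (LocalStructure.pCoreOf_isPGroup (p := s)
    (centralizer ({z} : Set G))).exists_card_eq
  exact ((hs.odd_of_ne_two hs2).pow : Odd (s ^ k)).of_dvd_nat
    (hk ▸ (Cfsg.pCoreOf s _).orderOf_dvd_natCard hx)

omit hmax hL in
/-- The odd core of a subgroup containing `z` with Fitting subgroup in `C` lies in `U`. -/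
theorem oddCore_le_of_fitting {N : Subgroup G} (hzN : z ∈ N)
    (hF : Cfsg.fittingOf N ≤ centralizer ({z} : Set G)) :
    (Cfsg.oddCore N).map N.subtype ≤ core z := by
  set O := (Cfsg.oddCore N).map N.subtype with hO
  have hON : O ≤ N := map_subtype_le _
  have hNn : N ≤ normalizer (O : Set G) := fun n hn => mem_normalizer_iff.2 fun x => by
    constructor
    · rintro ⟨a, ha, rfl⟩
      exact ⟨⟨n, hn⟩ * a * ⟨n, hn⟩⁻¹,
        (inferInstance : (Cfsg.oddCore N).Normal).conj_mem a ha _, rfl⟩
    · rintro ⟨a, ha, e⟩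
      refine ⟨⟨n, hn⟩⁻¹ * a * ⟨n, hn⟩, by
        simpa using (inferInstance : (Cfsg.oddCore N).Normal).conj_mem a ha (⟨n, hn⟩⁻¹), ?_⟩
      have e' : (a : G) = n * x * n⁻¹ := e
      show n⁻¹ * (a : G) * n = x
      rw [e']
      group
  have hOodd : Odd (Nat.card O) := by
    rw [hO, card_map_of_injective N.subtype_injective]
    exact ExtremelyClosed.odd_card_oddCore' _
  set FO := Cfsg.fittingOf O
  have hFC : FO ≤ centralizer ({z} : Set G) :=
    (OddOrder.le_fittingOf ((OddOrder.fittingOf_le _).trans hON)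
      (hNn.trans (OddOrder.normalizer_le_normalizer_fittingOf _))
      (OddOrder.isNilpotent_fittingOf _)).trans hF
  have hzfix : ∀ f ∈ FO, z * f * z⁻¹ = f := fun f hf =>
    mul_inv_eq_iff_eq_mul.2 (mem_centralizer_singleton_iff.1 (hFC hf)).symm
  intro o ho
  have hzz := Small.mul_self_of_orderOf_two hz
  have hzi := Small.inv_eq_self_of_orderOf_two hz
  have hzo : z * o * z⁻¹ ∈ O := (mem_normalizer_iff.1 (hNn hzN) o).1 ho
  set d := o⁻¹ * (z * o * z⁻¹) with hd
  have hdO : d ∈ O := mul_mem (inv_mem ho) hzo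
  have hdF : d ∈ FO := by
    refine OddOrder.inf_centralizer_fittingOf_le (Cfsg.Agent.S0205.result hOodd)
      ⟨hdO, mem_centralizer_iff.2 fun f hf => ?_⟩
    have hof : o * f * o⁻¹ ∈ FO :=
      (mem_normalizer_iff.1 (OddOrder.le_normalizer_fittingOf O ho) f).1 hf
    have e1 : z * o * z⁻¹ * f * (z * o * z⁻¹)⁻¹ = o * f * o⁻¹ := by
      have hzf : z⁻¹ * f * z = f := by
        conv_lhs => rw [← hzfix f hf]
        group
      calc z * o * z⁻¹ * f * (z * o * z⁻¹)⁻¹ = z * (o * (z⁻¹ * f * z) * o⁻¹) * z⁻¹ := by group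
        _ = z * (o * f * o⁻¹) * z⁻¹ := by rw [hzf]
        _ = o * f * o⁻¹ := hzfix _ hof
    calc f * d = o⁻¹ * (o * f * o⁻¹) * (z * o * z⁻¹) := by rw [hd]; group
      _ = o⁻¹ * (z * o * z⁻¹ * f * (z * o * z⁻¹)⁻¹) * (z * o * z⁻¹) := by rw [e1]
      _ = d * f := by rw [hd]; group
  have hdi : z * d * z⁻¹ = d⁻¹ := by
    rw [hd, hzi]
    simp only [mul_inv_rev, inv_inv, hzi, mul_assoc]
    rw [hzz, mul_one]
  have hd1 : d = 1 :=
    OS.Inverts.eq_one hdi (mul_inv_eq_iff_eq_mul.1 (hzfix d hdF)) (OS.odd_orderOf_of_mem hOodd hdO)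
  refine hG.mem_core hz (mem_centralizer_singleton_iff.2 ?_) (OS.odd_orderOf_of_mem hOodd ho)
  rw [hd, inv_mul_eq_one] at hd1
  exact (eq_mul_inv_iff_mul_eq.1 hd1)

end Minimal

namespace Minimal

variable (hG : Minimal G) {z b : G} {q : ℕ} {Q N : Subgroup G} (hz : orderOf z = 2)
  (hmax : IsCoatom (centralizer ({z} : Set G))) (hM : LocalMax z b q Q N)
include hG hz hmax hM

omit hz hmax in
theorem LocalMax.fix_le_N : fix z b ≤ N := hM.hWQ.trans hM.hQN

/-- The Fitting subgroup of `N` lies in `C`. -/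
theorem LocalMax.fitting_le : Cfsg.fittingOf N ≤ centralizer ({z} : Set G) := by
  haveI := hG.simple
  rw [show Cfsg.fittingOf N = Signalizer.fittingOf N from rfl, Signalizer.fittingOf_eq_iSup]
  refine iSup_le fun s => ?_
  obtain ⟨s, hs⟩ := s
  haveI := Fact.mk hs
  rcases LocalPre.pCoreOf_cases hG hz hM.toLocalPre hmax hs with h | ⟨hs2, hbot, hdisj⟩
  · exact h
  set R := Cfsg.pCoreOf s N with hR
  have hRodd : Odd (Nat.card R) := by
    obtain ⟨k, hk⟩ := (LocalStructure.pCoreOf_isPGroup (p := s) N).exists_card_eq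
    rw [hk]
    exact (hs.odd_of_ne_two hs2).pow
  have hzz := Small.mul_self_of_orderOf_two hz
  have hzR : z ∈ normalizer (R : Set G) :=
    LocalStructure.le_normalizer_pCoreOf N (LocalPre.z_mem hG hM.toLocalPre)
  have hbR : b ∈ normalizer (R : Set G) :=
    LocalStructure.le_normalizer_pCoreOf N (LocalPre.b_mem hG hM.toLocalPre)
  have hinv : ∀ y ∈ R, z * y * z⁻¹ = y⁻¹ :=
    inverts_of_fixed_trivial hRodd hzz hzR fun y hy hfx => by
      have hmem : y ∈ R ⊓ centralizer ({z} : Set G) :=
        ⟨hy, mem_centralizer_singleton_iff.2 (mul_inv_eq_iff_eq_mul.1 hfx).symm⟩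
      rwa [hdisj, mem_bot] at hmem
  -- fixed points of an involution `c` of the four-group are trivial
  have key : ∀ c : G, orderOf c = 2 → z ≠ c → z * c = c * z → fix z c ≤ N →
      ∀ y ∈ R, Commute c y → y = 1 := by
    intro c hc hzc hzcc hWN y hy hcy
    have hyo : Odd (orderOf y) := OS.odd_orderOf_of_mem hRodd hy
    have hyU : y ∈ core c := hG.mem_core hc (mem_centralizer_singleton_iff.2 hcy.symm.eq) hyo
    have hzC : z ∈ centralizer ({c} : Set G) := mem_centralizer_singleton_iff.2 hzcc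
    obtain ⟨g, hg1, -⟩ := hG.exists_cycle hz hc hzc hzcc
    -- the `s`-part of `F(U_c)` is trivial
    have hbot' : qcore s c = ⊥ := by
      have hconj : ∀ x ∈ core c, g⁻¹ * x * g ∈ core z := by
        intro x hx
        refine hG.mem_core hz (mem_centralizer_singleton_iff.2 ?_) ?_
        · have h1 : x * c = c * x := commute_of_mem_core hx
          rw [← hg1] at h1
          calc g⁻¹ * x * g * z = g⁻¹ * (x * (g * z * g⁻¹)) * g := by group
            _ = g⁻¹ * (g * z * g⁻¹ * x) * g := by rw [h1]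
            _ = z * (g⁻¹ * x * g) := by group
        · have := Small.orderOf_conj_eq g⁻¹ x
          rw [inv_inv] at this
          rw [this]
          exact odd_orderOf_core hx
      set X := (qcore s c).map (MulAut.conj g⁻¹).toMonoidHom with hX
      have hXle : X ≤ qcore s z := by
        refine LocalStructure.le_pCoreOf ?_ ?_ ((qcore_isPGroup c).map _)
        · rintro _ ⟨x, hx, rfl⟩
          simpa [mul_assoc] using hconj x (qcore_le_core s c hx)
        · intro u hu
          have hgu : g * u * g⁻¹ ∈ centralizer ({c} : Set G) := by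
            refine mem_centralizer_singleton_iff.2 ?_
            rw [← hg1]
            calc g * u * g⁻¹ * (g * z * g⁻¹) = g * (u * z) * g⁻¹ := by group
              _ = g * (z * u) * g⁻¹ := by rw [commute_of_mem_core hu]
              _ = g * z * g⁻¹ * (g * u * g⁻¹) := by group
          refine mem_normalizer_iff.2 fun x => ?_
          have hXmem : ∀ y, y ∈ X ↔ g * y * g⁻¹ ∈ qcore s c := fun y =>
            ⟨by rintro ⟨a, ha, rfl⟩; simpa [mul_assoc] using ha,
              fun h => ⟨_, h, by simp [mul_assoc]⟩⟩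
          have hiff := mem_normalizer_iff.1 (centralizer_le_normalizer_qcore s c hgu) (g * x * g⁻¹)
          rw [hXmem, hXmem, hiff]
          simp [mul_assoc]
      rw [hbot, le_bot_iff] at hXle
      exact (map_eq_bot_iff_of_injective _ (MulAut.conj g⁻¹).injective).1 hXle
    -- `y` centralises every primary part of `F(U_c)`
    have hcent : ∀ r : ℕ, r.Prime → ∀ a ∈ qcore r c, Commute y a := by
      intro r hr
      haveI := Fact.mk hr
      rcases eq_or_ne r s with rfl | hrs
      · intro a ha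
        rw [hbot', mem_bot] at ha
        simp [ha]
      rcases eq_or_ne r 2 with rfl | hr2
      · intro a ha
        rw [qcore_two, mem_bot] at ha
        simp [ha]
      have hco : (orderOf y).Coprime r := by
        obtain ⟨k, hk⟩ := (LocalStructure.pCoreOf_isPGroup (p := s) N).exists_card_eq
        exact Nat.Coprime.coprime_dvd_left (hk ▸ R.orderOf_dvd_natCard hy)
          (((Nat.coprime_primes hs hr).2 hrs.symm).pow_left k)
      refine OS.commute_of_inverts_fixed (qcore_isPGroup c) hr2 hzz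
        (centralizer_le_normalizer_qcore r c hzC) (core_le_normalizer_qcore r c hyU) (hinv y hy)
        hyo hco fun a ha hza => ?_
      have haW : a ∈ fix z c := by
        rw [hG.fix_comm hz hc]
        exact ⟨qcore_le_core r c ha, mem_centralizer_singleton_iff.2 hza.symm.eq⟩
      refine BenderMethod.commute_elem_of_disjoint
        (IsPGroup.disjoint_of_ne _ _ hrs.symm _ _ (LocalStructure.pCoreOf_isPGroup N)
          (qcore_isPGroup c) : Disjoint R (qcore r c)) ?_ ?_
      · have h1 : a * y⁻¹ * a⁻¹ ∈ R :=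
          Signalizer.conj_mem_pCoreOf (hWN haW) (inv_mem hy)
        rw [show y * a * y⁻¹ * a⁻¹ = y * (a * y⁻¹ * a⁻¹) by group]
        exact mul_mem hy h1
      · exact mul_mem ((mem_normalizer_iff.1 (core_le_normalizer_qcore r c hyU) a).1 ha)
          (inv_mem ha)
    -- hence it lies in `F(U_c)`
    have hyF : y ∈ fit c := by
      refine OddOrder.inf_centralizer_fittingOf_le (Cfsg.Agent.S0205.result (odd_core c))
        ⟨hyU, mem_centralizer_iff.2 fun a ha => ?_⟩
      have hle : fit c ≤ centralizer ({y} : Set G) := fit_le_of_qcores fun r hr a ha =>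
        mem_centralizer_singleton_iff.2 (hcent r hr a ha).symm.eq
      exact mem_centralizer_singleton_iff.1 (hle ha)
    have hys : zpowers y ≤ qcore s c := le_qcore_of_le_fit hs (zpowers_le.2 hyF)
      ((LocalStructure.pCoreOf_isPGroup N).to_le (zpowers_le.2 hy))
    rw [hbot', le_bot_iff, zpowers_eq_bot] at hys
    exact hys
  have hfix : fix z (z * b) ≤ N := (hG.fix_mul hz).le.trans (LocalMax.fix_le_N hG hM)
  obtain ⟨hV, -⟩ := hG.four_spec hz hM.hb hM.hbz hM.hzb
  have hzb2 : orderOf (z * b) = 2 := Small.orderOf_eq_two_iff_sq.2 ⟨fun h => hM.hbz (by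
    rw [eq_comm, ← mul_right_inj z, h, hzz]), by
      rw [mul_assoc, ← mul_assoc b, ← hM.hzb, ← mul_assoc, ← mul_assoc, hzz, one_mul,
        Small.mul_self_of_orderOf_two hM.hb]⟩
  refine (OS.le_of_four hz hM.hb hM.hzb hM.hbz.symm hRodd hzR hbR (fun y hy hc => ?_)
    (fun y hy hc => ?_) fun y hy hc => ?_ : R ≤ (⊥ : Subgroup G)).trans bot_le
  · have h : y ∈ R ⊓ centralizer ({z} : Set G) :=
      ⟨hy, mem_centralizer_singleton_iff.2 hc.symm.eq⟩
    rwa [hdisj] at h
  · exact mem_bot.2 (key b hM.hb hM.hbz hM.hzb (LocalMax.fix_le_N hG hM) y hy hc)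
  · exact mem_bot.2 (key (z * b) hzb2 (fun h => Small.ne_one_of_orderOf_two hM.hb
      (mul_eq_left.1 h.symm)) (by rw [← mul_assoc, hzz, one_mul, mul_assoc, ← hM.hzb, ← mul_assoc,
      hzz, one_mul]) hfix y hy hc)

/-- The odd core of `N` lies in `U`. -/
theorem LocalMax.oddCore_le : (Cfsg.oddCore N).map N.subtype ≤ core z :=
  oddCore_le_of_fitting hG hz (LocalPre.z_mem hG hM.toLocalPre) (LocalMax.fitting_le hG hz hmax hM)

/-- `N` is not solvable. -/
theorem LocalMax.not_isSolvable : ¬ Group.IsSolvable N := by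
  intro hsol
  haveI : Fact (Nat.Prime 2) := ⟨Nat.prime_two⟩
  have hzN := LocalPre.z_mem hG hM.toLocalPre
  have hFle := LocalMax.fitting_le hG hz hmax hM
  have hzz := Small.mul_self_of_orderOf_two hz
  set T := Cfsg.pCoreOf 2 N with hT
  have hzT : z ∈ T := Signalizer.mem_pCoreOf_of_mem_fittingOf N
    (OddOrder.inf_centralizer_fittingOf_le hsol ⟨hzN, mem_centralizer_iff.2 fun f hf =>
      mem_centralizer_singleton_iff.1 (hFle hf)⟩) (k := 1) (by rw [pow_one, pow_two, hzz])
  have hTC : T ≤ centralizer ({z} : Set G) :=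
    (Signalizer.pCoreOf_le_fittingOf N 2).trans hFle
  -- a second central involution of `T`
  obtain ⟨n, hn, hnz⟩ : ∃ n ∈ N, n * z * n⁻¹ ≠ z := by
    by_contra hcon
    push Not at hcon
    have hle : N ≤ centralizer ({z} : Set G) := fun n hn =>
      mem_centralizer_singleton_iff.2 (mul_inv_eq_iff_eq_mul.1 (hcon n hn))
    rcases hle.eq_or_lt with h | h
    · exact hM.hne h
    · exact hmax.1 (hM.hN.2 _ h)
  set z' := n * z * n⁻¹ with hz'
  have hz'o : orderOf z' = 2 := by rw [hz', Small.orderOf_conj_eq, hz]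
  have hz'T : z' ∈ T := (mem_normalizer_iff.1 (LocalStructure.le_normalizer_pCoreOf N hn) z).1 hzT
  have hTc : ∀ t ∈ T, t * z' = z' * t := by
    intro t ht
    have h1 : n⁻¹ * t * n ∈ T := by
      simpa using (mem_normalizer_iff.1 (LocalStructure.le_normalizer_pCoreOf N (inv_mem hn)) t).1 ht
    have h2 := mem_centralizer_singleton_iff.1 (hTC h1)
    calc t * z' = n * (n⁻¹ * t * n * z) * n⁻¹ := by rw [hz']; group
      _ = n * (z * (n⁻¹ * t * n)) * n⁻¹ := by rw [h2]
      _ = z' * t := by rw [hz']; group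
  have hzz' : z * z' = z' * z := hTc z hzT
  have hz'C : z' ∈ centralizer ({z} : Set G) := hTC hz'T
  obtain ⟨hV, hVc⟩ := hG.four_spec hz hz'o (Ne.symm hnz) hzz'
  obtain ⟨hV4, hVsq⟩ := TwoGroups.isKleinFour_iff.1 hV
  set V := closure ({z, z'} : Set G)
  have hTV : ∀ t ∈ T, t ∈ V := by
    intro t ht
    refine hG.dihType.mem_four (LocalStructure.pCoreOf_isPGroup N) ((closure_le _).2 ?_) hV4
      (fun x hx => ?_) ht fun v hv => ?_
    · rintro x (rfl | rfl)
      exacts [hzT, hz'T]
    · rcases hVc x hx with rfl | rfl | rfl | rfl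
      · exact one_mul 1
      · exact hzz
      · exact Small.mul_self_of_orderOf_two hz'o
      · calc z * z' * (z * z') = z * (z' * z) * z' := by simp only [mul_assoc]
          _ = z * z * (z' * z') := by rw [← hzz']; simp only [mul_assoc]
          _ = 1 := by rw [hzz, Small.mul_self_of_orderOf_two hz'o, one_mul]
    · have e1 : t * z = z * t := mem_centralizer_singleton_iff.1 (hTC ht)
      rcases hVc v hv with rfl | rfl | rfl | rfl
      · simp
      · exact e1
      · exact hTc t ht
      · exact (Commute.mul_right e1 (hTc t ht)).eq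
  -- elements of odd order of `N ∩ C` centralise `z'`
  have hodd : ∀ a ∈ N, a ∈ centralizer ({z} : Set G) → Odd (orderOf a) → Commute a z' := by
    intro a ha haC hao
    have hza : a * z * a⁻¹ = z := mul_inv_eq_iff_eq_mul.2 (mem_centralizer_singleton_iff.1 haC)
    have himg := hVc _ (hTV _
      ((mem_normalizer_iff.1 (LocalStructure.le_normalizer_pCoreOf N ha) z').1 hz'T))
    rcases himg with h | h | h | h
    · exact absurd (conj_eq_one_iff.1 h) (Small.ne_one_of_orderOf_two hz'o)
    · exact absurd (mul_left_cancel (mul_right_cancel (h.trans hza.symm))) hnz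
    · exact mul_inv_eq_iff_eq_mul.1 h
    · refine OS.commute_of_sq_commute hao (mul_inv_eq_iff_eq_mul.1 ?_)
      rw [show a * a * z' * (a * a)⁻¹ = a * (a * z' * a⁻¹) * a⁻¹ by group, h,
        show a * (z * z') * a⁻¹ = a * z * a⁻¹ * (a * z' * a⁻¹) by group, hza, h, ← mul_assoc, hzz,
        one_mul]
  have hfixq : ∀ r : ℕ, r.Prime → ∀ x ∈ qcore r z, z' * x * z'⁻¹ = x := by
    intro r hr x hx
    haveI := Fact.mk hr
    haveI := Fact.mk hM.hq
    have hin : ∀ y ∈ qcore r z, y ∈ centralizer (Q : Set G) → Commute y z' := fun y hy hyQ =>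
      hodd y (LocalPre.centralizer_le hG hM.toLocalPre hyQ) (core_le z (qcore_le_core r z hy))
        (odd_orderOf_core (qcore_le_core r z hy))
    have hQq := le_qcore_of_le_fit hM.hq hM.hQF hM.hQp
    suffices h : Commute x z' by rw [← h.eq, mul_inv_cancel_right]
    rcases eq_or_ne r q with rfl | hrq
    · refine (mem_centralizer_iff.1 (CharPLocal.commute_of_axb (U := qcore r z) (R := Q) (x := z')
        (qcore_isPGroup z) hM.hQp ?_ (centralizer_le_normalizer_qcore r z hz'C) ?_
        ((fun a ha => core_le_normalizer_qcore r z (fix_le_core z b (hM.hQW ha))))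
        fun y hy hyQ => (hin y hy hyQ).eq) x hx)
      · rw [hz'o]
        exact Nat.coprime_two_left.2 (hr.odd_of_ne_two (LocalPre.q_ne_two hG hM.toLocalPre))
      · exact mem_centralizer_iff.2 fun a ha => (hodd a (hM.hQN (le_normalizer ha))
          (core_le z (fix_le_core z b (hM.hQW ha)))
          (odd_orderOf_core (fix_le_core z b (hM.hQW ha)))).eq
    · refine hin x hx (mem_centralizer_iff.2 fun a ha => ?_)
      exact (BenderMethod.commute_elem_of_disjoint (IsPGroup.disjoint_of_ne _ _ hrq _ _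
        (qcore_isPGroup z) (qcore_isPGroup z) : Disjoint (qcore r z) (qcore q z))
        (by
          rw [show x * a * x⁻¹ * a⁻¹ = x * (a * x⁻¹ * a⁻¹) by group]
          exact mul_mem hx (qcore_conj (core_le z (qcore_le_core q z (hQq ha))) (inv_mem hx)))
        (mul_mem (qcore_conj (core_le z (qcore_le_core r z hx)) (hQq ha))
          (inv_mem (hQq ha)))).symm.eq
  have hcU := centralizes_core_of_fixes hz'C ⟨1, by rw [hz'o, pow_one]⟩ hfixq
  have hW : fix z z' = core z := inf_eq_left.2 fun u hu =>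
    mem_centralizer_singleton_iff.2 (mem_centralizer_iff.1 hcU u hu)
  have hbot := hG.fix_eq_bot_of_normalized hz hmax hz'o (Ne.symm hnz) hzz'
    (hW.symm ▸ centralizer_le_normalizer_core z)
  rw [hW] at hbot
  exact hM.hQne (le_bot_iff.1 (hbot ▸ hM.hQW.trans (fix_le_core z b)))

end Minimal

end CfsgLib.GW
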