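import Cfsg.Agent.MultPSL.Main
import Mathlib.Algebra.Group.Shrink
import Mathlib.GroupTheory.Abelianization.Defs

/-!
# Central extensions of `PSL₂(q)` by groups of odd order

The Schur multiplier of `PSL₂(q)`, `q` odd, `3 < q ≠ 9`, has order two, so a perfect group has no
nontrivial central subgroup of odd order with that quotient.
-/

set_option autoImplicit false
set_option linter.style.haveILetI false

universe u

namespace CfsgLib.GW

theorem center_odd_trivial {K : Type u} [Group K] [Finite K] (hK : Group.IsPerfect K)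
    {Z : Subgroup K} [Z.Normal] (hZ : Z ≤ Subgroup.center K) (hZo : Odd (Nat.card Z))
    {F : Type} [Field F] [Fintype F] (hF : Odd (Fintype.card F)) (h3 : 3 < Fintype.card F)
    (h9 : Fintype.card F ≠ 9)
    (e : (K ⧸ Z) ≃* Matrix.ProjectiveSpecialLinearGroup (Fin 2) F) : Z = ⊥ := by
  classical
  have h5 : 5 ≤ Fintype.card F := by obtain ⟨k, hk⟩ := hF; omega
  have hg : Nat.gcd 2 (Fintype.card F - 1) = 2 := by
    refine Nat.gcd_eq_left ?_
    obtain ⟨k, hk⟩ := hF
    omega
  have hM := CfsgLib.MultPSL.hasCyclicSchurMultiplier_PSL (F := F) 2 le_rfl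
    (fun _ => ⟨h5, h9⟩) (by omega) (by omega)
  rw [hg] at hM
  obtain ⟨n, ⟨eq⟩⟩ := Finite.exists_equiv_fin K
  haveI : Small.{0} K := ⟨⟨Fin n, ⟨eq⟩⟩⟩
  haveI : Finite (Shrink.{0} K) := Finite.of_equiv K (equivShrink K)
  let ι : Shrink.{0} K ≃* K := Shrink.mulEquiv
  let σ : Shrink.{0} K →* Matrix.ProjectiveSpecialLinearGroup (Fin 2) F :=
    e.toMonoidHom.comp ((QuotientGroup.mk' Z).comp ι.toMonoidHom)
  have hker : σ.ker = Z.comap ι.toMonoidHom := by
    ext x
    simp only [σ, MonoidHom.mem_ker, MonoidHom.comp_apply, MulEquiv.coe_toMonoidHom,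
      MulEquiv.map_eq_one_iff, QuotientGroup.mk'_apply, QuotientGroup.eq_one_iff,
      Subgroup.mem_comap]
  have hstem : Cfsg.IsStemExtension σ := by
    refine ⟨e.surjective.comp ((QuotientGroup.mk'_surjective Z).comp ι.surjective), ?_, ?_⟩
    · rw [hker]
      intro x hx
      exact Subgroup.mem_center_iff.2 fun y => ι.injective (by
        simp only [map_mul]
        exact Subgroup.mem_center_iff.1 (hZ hx) (ι y))
    · have htop : commutator (Shrink.{0} K) = ⊤ := by
        refine Subgroup.map_injective ι.injective (f := ι.toMonoidHom) ?_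
        rw [commutator_def, Subgroup.map_commutator,
          Subgroup.map_top_of_surjective _ ι.surjective, ← commutator_def]
        exact hK.commutator_eq_top
      rw [htop]
      exact le_top
  obtain ⟨π, hπ⟩ := hM.2 (Shrink.{0} K) σ hstem
  have h2 : Nat.card σ.ker ∣ 2 := by
    have := Subgroup.card_dvd_of_surjective π hπ
    simpa using this
  have hcard : Nat.card σ.ker = Nat.card Z := by
    rw [hker]
    exact Nat.card_congr (ι.toEquiv.subtypeEquiv fun x => Iff.rfl)
  rw [hcard] at h2
  rcases (Nat.dvd_prime Nat.prime_two).1 h2 with h | h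
  · exact Subgroup.eq_bot_of_card_eq Z h
  · rw [h] at hZo
    exact absurd hZo (by decide)

end CfsgLib.GW
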