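import Cfsg.Agent.GW.LocalInner
import Cfsg.Agent.GW.ComponentOuter
import Cfsg.Agent.GW.PSLCover
import Cfsg.Agent.GW.Inner

/-!
# Gorenstein–Walter 4.1: normalizers of the fixed primary subgroups

If some fixed subgroup escapes there is a maximal `N` with a component `K` containing `z` and `b`
such that `N` contains the normalizers of the non-trivial subgroups of `fit z ⊓ O(N)`, and `K` is
simple: `Local41` holds.
-/

set_option autoImplicit false
set_option linter.style.haveILetI false
set_option linter.unusedSectionVars false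

open Subgroup
open scoped commutatorElement

namespace CfsgLib.GW

universe u

variable {G : Type u} [Group G] [Finite G]

/-- A homomorphism from a component is trivial when `z` maps to an element commuting with the
image. -/
theorem Comp.map_eq_one {z : G} {N K : Subgroup G} {F : Type} [Field F] [Fintype F]
    (hC : Comp N K F) (hz : orderOf z = 2) (hzK : z ∈ K) {A : Type*} [Group A] (φ : K →* A)
    (h : ∀ k : K, φ k * φ ⟨z, hzK⟩ = φ ⟨z, hzK⟩ * φ k) : ∀ k : K, φ k = 1 := by
  obtain ⟨m⟩ := hC.model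
  haveI := topImage_normal (K := K) hC.hKn
  set π := QuotientGroup.mk' (Cfsg.oddCore ↥N)
  haveI : IsSimpleGroup (topImage N K) := OS.isSimpleGroup_of_psl
    (Or.inl ⟨F, _, _, m.odd, m.large, ⟨m.e⟩⟩)
  let ρ : K →* topImage N K := (π.comp (inclusion hC.hKN)).codRestrict (topImage N K)
    fun k => ⟨inclusion hC.hKN k, k.2, rfl⟩
  have hρ : Function.Surjective ρ := by
    rintro ⟨y, n, hn, rfl⟩
    exact ⟨⟨n, hn⟩, Subtype.ext rfl⟩
  haveI : (φ.ker.map ρ).Normal := Normal.map inferInstance ρ hρ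
  haveI : Group.IsPerfect K := isPerfect_iff.2 hC.hperf
  set zK : K := ⟨z, hzK⟩
  rcases IsSimpleGroup.eq_bot_or_eq_top_of_normal (φ.ker.map ρ) inferInstance with hb | ht
  · exfalso
    have hc : ρ zK ∈ Subgroup.center (topImage N K) := by
      refine mem_center_iff.2 fun y => ?_
      obtain ⟨k, rfl⟩ := hρ y
      have hk : k * zK * k⁻¹ * zK⁻¹ ∈ φ.ker := by
        rw [MonoidHom.mem_ker, map_mul, map_mul, map_mul, map_inv, map_inv, h k,
          mul_inv_cancel_right, mul_inv_cancel]
      have h1 := mem_map_of_mem ρ hk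
      rw [hb, mem_bot, map_mul, map_mul, map_mul, map_inv, map_inv, mul_inv_eq_one] at h1
      exact mul_inv_eq_iff_eq_mul.1 h1
    have hc' : (ρ zK : ↥N ⧸ Cfsg.oddCore ↥N) ∈ centralizer (topImage N K : Set _) :=
      mem_centralizer_iff.2 fun l hl => congrArg Subtype.val (mem_center_iff.1 hc ⟨l, hl⟩)
    rw [m.cent, mem_bot] at hc'
    have h2 := orderOf_proj (hC.hKN hzK) hz
    rw [show QuotientGroup.mk' (Cfsg.oddCore ↥N) ⟨z, hC.hKN hzK⟩ = 1 from hc', orderOf_one] at h2
    omega
  · -- the image is a quotient of the abelian group `K ⊓ O(N)`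
    have hsplit : ∀ k : K, ∃ c : K, (c : G) ∈ OS.oddOf N ∧ φ k = φ c := by
      intro k
      obtain ⟨a, ha, e⟩ : ρ k ∈ φ.ker.map ρ := ht ▸ mem_top _
      refine ⟨a⁻¹ * k, (mk_eq_one_iff_oddOf (inclusion hC.hKN (a⁻¹ * k))).1 ?_, ?_⟩
      · have h1 := congrArg Subtype.val (show ρ (a⁻¹ * k) = 1 by rw [map_mul, map_inv, e, inv_mul_cancel])
        exact h1
      · rw [map_mul, map_inv, MonoidHom.mem_ker.1 ha, inv_one, one_mul]
    haveI : Group.IsSolvable φ.range := Group.isSolvable_of_comm fun a b => by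
      obtain ⟨_, k, rfl⟩ := a
      obtain ⟨_, k', rfl⟩ := b
      obtain ⟨c, hc, e⟩ := hsplit k
      refine Subtype.ext ?_
      show φ k * φ k' = φ k' * φ k
      rw [e, ← map_mul, ← map_mul]
      exact congrArg φ (Subtype.ext (hC.hcomm c hc k' k'.2))
    exact fun k => congrArg Subtype.val (eq_one_of_perfect φ.rangeRestrict k)

namespace Minimal

variable (hG : Minimal G) {z b : G} {q : ℕ} {Q N K : Subgroup G} {F : Type} [Field F] [Fintype F]
  (hz : orderOf z = 2) (hmax : IsCoatom (centralizer ({z} : Set G)))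
include hG hz hmax

/-- A maximal subgroup as in `LocalPre` containing the component has its Fitting subgroup in `C`. -/
theorem fitting_le_of_comp {b' : G} {r : ℕ} {X N' : Subgroup G} (hL : LocalPre z b' r X N')
    (hC : Comp N K F) (hzK : z ∈ K) (hKN' : K ≤ N') :
    Cfsg.fittingOf N' ≤ centralizer ({z} : Set G) := by
  haveI := hG.simple
  rw [show Cfsg.fittingOf N' = Signalizer.fittingOf N' from rfl, Signalizer.fittingOf_eq_iSup]
  refine iSup_le fun s => ?_
  obtain ⟨s, hs⟩ := s
  haveI := Fact.mk hs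
  rcases LocalPre.pCoreOf_cases hG hz hL hmax hs with h | ⟨hs2, -, hdisj⟩
  · exact h
  set R := Cfsg.pCoreOf s N' with hR
  have hRodd : Odd (Nat.card R) := by
    obtain ⟨k, hk⟩ := (LocalStructure.pCoreOf_isPGroup (p := s) N').exists_card_eq
    rw [hk]
    exact (hs.odd_of_ne_two hs2).pow
  have hKR : K ≤ normalizer (R : Set G) := hKN'.trans (LocalStructure.le_normalizer_pCoreOf N')
  have hinv : ∀ y ∈ R, z * y * z⁻¹ = y⁻¹ :=
    inverts_of_fixed_trivial hRodd (Small.mul_self_of_orderOf_two hz) (hKR hzK) fun y hy hfx => by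
      have hmem : y ∈ R ⊓ centralizer ({z} : Set G) :=
        ⟨hy, mem_centralizer_singleton_iff.2 (mul_inv_eq_iff_eq_mul.1 hfx).symm⟩
      rwa [hdisj, mem_bot] at hmem
  let φ : K →* MulAut R := (normalizerMonoidHom R).comp (inclusion hKR)
  have hone := hC.map_eq_one hz hzK φ fun k => by
    refine MulEquiv.ext fun y => Subtype.ext ?_
    show (k : G) * (z * y * z⁻¹) * (k : G)⁻¹ = z * ((k : G) * y * (k : G)⁻¹) * z⁻¹
    rw [hinv _ y.2, hinv _ ((mem_normalizer_iff.1 (hKR k.2) _).1 y.2)]
    group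
  intro y hy
  have h0 := congrArg (fun f : MulAut R => (f ⟨y, hy⟩ : G)) (hone ⟨z, hzK⟩)
  have h1 : z * y * z⁻¹ = y := h0
  exact mem_centralizer_singleton_iff.2 (mul_inv_eq_iff_eq_mul.1 h1).symm

variable (hL : LocalMax z b q (qcore q z ⊓ centralizer ({b} : Set G)) N) (hC : Comp N K F)
include hL hC

omit hmax in
/-- A maximal subgroup containing the normalizer of a group between the fixed ones is `N` once it
has a component centralising that group. -/
theorem eq_of_comp {Y N' K' : Subgroup G} {F' : Type} [Field F'] [Fintype F'] (hN' : IsCoatom N')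
    (hKN' : K ≤ N') (hC' : Comp N' K' F') (hY : centralizer (Y : Set G) ≤ N)
    (hYO : Y ≤ OS.oddOf N') : N' = N := by
  haveI := hG.simple
  have h1 : K ≤ K' := hC'.hmaxK K hKN' hC.hperf
  have h2 : K' ≤ N := fun k hk => hY (mem_centralizer_iff.2 fun o ho => hC'.hcomm o (hYO ho) k hk)
  have hKK : K = K' := le_antisymm h1 (hC.hmaxK K' h2 hC'.hperf)
  subst hKK
  have hne : normalizer (K : Set G) ≠ ⊤ := by
    refine hG.normalizer_ne_top (fun h => ?_) fun h => hL.hN.1 (eq_top_iff.2 (h ▸ hC.hKN))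
    exact hC.not_le_centralizer hz (LocalPre.z_mem hG hL.toLocalPre) (h ▸ bot_le)
  have hNK : N = normalizer (K : Set G) := (hL.hN.le_iff.1 hC.hKn).resolve_left hne |>.symm
  exact (hN'.le_iff.1 (hC'.hKn.trans hNK.ge)).resolve_left hL.hN.1 |>.symm

variable (hzK : z ∈ K) (hbK : b ∈ K)
include hzK hbK

omit hmax hbK in
/-- The fixed part of the Fitting subgroup lies in `O(N)`. -/
theorem fix_fit_le (hO : OS.oddOf N ≤ core z) :
    fit z ⊓ centralizer ({b} : Set G) ≤ OS.oddOf N := fun x hx =>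
  hC.fit_fix_le hz hL.hb hL.hbz hL.hzb (hC.hKN hzK) (LocalPre.b_mem hG hL.toLocalPre) hO
    ⟨hx, LocalMax.fix_le_N hG hL ⟨fit_le_core z hx.1, hx.2⟩⟩

/-- **`N` contains the normalizers of the non-trivial fixed primary subgroups.** -/
theorem normalizer_primary_le {u : ℕ} (hu : u.Prime) {X : Subgroup G} (hX : X ≠ ⊥)
    (hXA : X ≤ qcore u z ⊓ centralizer ({b} : Set G)) : normalizer (X : Set G) ≤ N := by
  haveI := Fact.mk hu
  haveI := hG.simple
  have hO := LocalMax.oddCore_le hG hz hmax hL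
  have hzN := hC.hKN hzK
  set Au := qcore u z ⊓ centralizer ({b} : Set G) with hAu
  have hAuW : Au ≤ fix z b := inf_le_inf_right _ (qcore_le_core u z)
  have hAuO : Au ≤ OS.oddOf N := fun x hx =>
    fix_fit_le hG hz hL hC hzK hO ⟨qcore_le_fit hu z hx.1, hx.2⟩
  have hKcent : ∀ {Y : Subgroup G}, Y ≤ Au → K ≤ centralizer (Y : Set G) := fun {Y} hY k hk =>
    mem_centralizer_iff.2 fun o ho => hC.hcomm o (hAuO (hY ho)) k hk
  have hesc : ∀ {Y : Subgroup G}, Y ≤ Au →
      ¬ centralizer (Y : Set G) ≤ centralizer ({z} : Set G) := fun {Y} hY hle =>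
    hC.not_le_centralizer hz hzN ((hKcent hY).trans hle)
  suffices key : ∀ n : ℕ, ∀ Y : Subgroup G, Y ≠ ⊥ → Y ≤ Au → Nat.card Au - Nat.card Y = n →
      normalizer (Y : Set G) ≤ N from key _ X hX hXA rfl
  intro n
  induction n using Nat.strong_induction_on with
  | _ n ih =>
    intro Y hY hYA hn
    rcases eq_or_ne Y Au with rfl | hne
    · -- the whole fixed part: a `LocalMax`
      obtain ⟨N', hL'⟩ := hG.exists_localMax hL.hb hL.hbz hL.hzb hu
        ((qcore_isPGroup z).to_le inf_le_left) hY hAuW (inf_le_left.trans (qcore_le_fit hu z))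
        (fun w hw => mem_normalizer_iff.2 fun x => by
          have hb' : Commute w b := mem_centralizer_singleton_iff.1 (fix_le z b hw)
          refine and_congr (mem_normalizer_iff.1
            (core_le_normalizer_qcore u z (fix_le_core z b hw)) x) ?_
          show x ∈ centralizer ({b} : Set G) ↔ w * x * w⁻¹ ∈ centralizer ({b} : Set G)
          rw [mem_centralizer_singleton_iff, mem_centralizer_singleton_iff]
          exact ⟨fun h => ((hb'.mul_left h).mul_left hb'.inv_left).eq, fun h => by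
            simpa [mul_assoc] using ((hb'.inv_left.mul_left h).mul_left hb').eq⟩)
        (hesc le_rfl)
      have hO' := LocalMax.oddCore_le hG hz hmax hL'
      obtain ⟨F', _, _, K', hC'⟩ := hG.exists_comp hz hmax hL'.toLocalPre hO'
        (LocalMax.not_isSolvable hG hz hmax hL')
      have heq : N' = N := hG.eq_of_comp hz hL hC hL'.hN
        ((hKcent le_rfl).trans (LocalPre.centralizer_le hG hL'.toLocalPre)) hC'
        (LocalPre.centralizer_le hG hL.toLocalPre) fun x hx =>
          hC'.fit_fix_le hz hL.hb hL.hbz hL.hzb (LocalPre.z_mem hG hL'.toLocalPre)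
            (LocalPre.b_mem hG hL'.toLocalPre) hO'
            ⟨⟨qcore_le_fit hL.hq z hx.1, hx.2⟩,
              LocalMax.fix_le_N hG hL' (inf_le_inf_right _ (qcore_le_core q z) hx)⟩
      exact heq ▸ hL'.hQN
    · -- grow inside the fixed part
      have hlt : Y < Au := lt_of_le_of_ne hYA hne
      set Y1 := normalizer (Y : Set G) ⊓ Au
      have hY1 : Y < Y1 := by
        haveI : Group.IsNilpotent Au := ((qcore_isPGroup (q := u) z).to_le inf_le_left).isNilpotent
        have hlt' : Y.subgroupOf Au < ⊤ := lt_top_iff_ne_top.2 fun e =>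
          hlt.not_ge (subgroupOf_eq_top.1 e)
        obtain ⟨⟨g, hgA⟩, hg, hgY⟩ :=
          SetLike.exists_of_lt (Group.normalizerCondition_of_isNilpotent _ hlt')
        refine lt_of_le_of_ne (le_inf le_normalizer hYA) fun e => hgY (mem_subgroupOf.2 ?_)
        rw [e]
        refine ⟨mem_normalizer_iff.2 fun x => ?_, hgA⟩
        constructor
        · intro hx
          exact mem_subgroupOf.1 ((mem_normalizer_iff.1 hg ⟨x, hYA hx⟩).1 (mem_subgroupOf.2 hx))
        · intro hx
          have hxA : x ∈ Au := by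
            have := mul_mem (mul_mem (inv_mem hgA) (hYA hx)) hgA
            simpa [mul_assoc] using this
          exact mem_subgroupOf.1 ((mem_normalizer_iff.1 hg ⟨x, hxA⟩).2 (mem_subgroupOf.2 hx))
      have hY1ne : Y1 ≠ ⊥ := fun h => hY (eq_bot_iff.2 (h ▸ hY1.le))
      have hN1 : normalizer (Y1 : Set G) ≤ N := by
        refine ih _ ?_ Y1 hY1ne inf_le_right rfl
        have h1 : Nat.card Y < Nat.card Y1 :=
          lt_of_le_of_ne (card_le_of_le hY1.le) fun e => hY1.ne (eq_of_le_of_card_ge hY1.le e.ge)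
        have h2 : Nat.card Y1 ≤ Nat.card Au := card_le_of_le inf_le_right
        omega
      have hYtop : Y ≠ ⊤ := fun h => hL.hN.1 (eq_top_iff.2 (h ▸ (hYA.trans (hAuO.trans
        (map_subtype_le _)))))
      obtain ⟨N', hN', hle⟩ := (eq_top_or_exists_le_coatom (normalizer (Y : Set G))).resolve_left
        (hG.normalizer_ne_top hY hYtop)
      have hKN' : K ≤ N' := (hKcent hYA).trans ((centralizer_le_normalizer _).trans hle)
      have hpre : LocalPre z b u Y N' :=
        ⟨hL.hb, hL.hbz, hL.hzb, hu, (qcore_isPGroup z).to_le (hYA.trans inf_le_left), hY,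
          hYA.trans hAuW, hYA.trans (inf_le_left.trans (qcore_le_fit hu z)), hN', hle,
          fun h => hesc hYA (h ▸ (centralizer_le_normalizer _).trans hle)⟩
      have hO' := oddCore_le_of_fitting hG hz (hKN' hzK) (hG.fitting_le_of_comp hz hmax hpre hC hzK hKN')
      have hns : ¬ Group.IsSolvable N' := fun hs => by
        haveI := hs
        haveI : Group.IsSolvable K := Group.isSolvable_of_isSolvable_injective (inclusion_injective hKN')
        haveI : Group.IsPerfect K := isPerfect_iff.2 hC.hperf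
        haveI : Nontrivial K := ⟨⟨z, hzK⟩, 1, fun e =>
          Small.ne_one_of_orderOf_two hz (congrArg Subtype.val e)⟩
        exact not_perfect_of_solvable K inferInstance
      obtain ⟨F', _, _, K', hC'⟩ := hG.exists_comp hz hmax hpre hO' hns
      have heq : N' = N := hG.eq_of_comp hz hL hC hN' hKN' hC'
        ((centralizer_le_normalizer _).trans hN1) fun x hx =>
          hC'.fit_fix_le hz hL.hb hL.hbz hL.hzb (hKN' hzK) (hKN' hbK) hO'
            ⟨⟨qcore_le_fit hu z hx.2.1, hx.2.2⟩, hle hx.1⟩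
      exact heq ▸ hle

/-- **`N` contains the normalizers of the non-trivial subgroups of `fit z ⊓ O(N)`.** -/
theorem normalizer_le_comp {X : Subgroup G} (hX : X ≠ ⊥) (hXA : X ≤ fit z ⊓ OS.oddOf N) :
    normalizer (X : Set G) ≤ N := by
  have hbO : OS.oddOf N ≤ centralizer ({b} : Set G) := fun o ho =>
    mem_centralizer_singleton_iff.2 (hC.hcomm o ho b hbK)
  obtain ⟨u, hu, hne⟩ : ∃ u : ℕ, u.Prime ∧ X ⊓ qcore u z ≠ ⊥ := by
    by_contra hcon
    push Not at hcon
    refine hX (eq_bot_iff.2 fun x hx => mem_of_primary_pow fun k p hp hk => ?_)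
    rw [← hcon p hp]
    exact ⟨pow_mem hx k, mem_qcore_of_fit hp (pow_mem (hXA hx).1 k) hk⟩
  haveI := Fact.mk hu
  refine le_trans ?_ (hG.normalizer_primary_le hz hmax hL hC hzK hbK hu hne
    (le_inf inf_le_right fun x hx => hbO (hXA hx.1).2))
  -- the normalizer of `X` normalises its primary part
  have key : ∀ c ∈ normalizer (X : Set G), ∀ x ∈ X ⊓ qcore u z, c * x * c⁻¹ ∈ X ⊓ qcore u z := by
    intro c hc x hx
    have hcX := (mem_normalizer_iff.1 hc x).1 hx.1
    obtain ⟨i, hi⟩ := qcore_isPGroup (q := u) z ⟨x, hx.2⟩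
    exact ⟨hcX, mem_qcore_of_fit hu (hXA hcX).1 ⟨i, by
      rw [conj_pow, show x ^ u ^ i = 1 from by simpa using congrArg Subtype.val hi, mul_one,
        mul_inv_cancel]⟩⟩
  exact le_normalizer_of_forall key

omit hbK in
/-- `C` is not contained in `N`. -/
theorem not_centralizer_le : ¬ centralizer ({z} : Set G) ≤ N := fun h => by
  rcases hmax.le_iff.1 h with e | e
  · exact hL.hN.1 e
  · exact hL.hne e

/-- **Case 4.1 up to the index of the component.** -/
theorem local41_of_comp :
    ∃ (F' : Type) (_ : Field F') (_ : Fintype F'), Local41 z b N K F' := by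
  have hO := LocalMax.oddCore_le hG hz hmax hL
  obtain ⟨m⟩ := hC.model
  haveI := topImage_normal (K := K) hC.hKn
  set π := QuotientGroup.mk' (Cfsg.oddCore ↥N)
  have hfitN := hC.fit_inf_le hz (hC.hKN hzK) hO
  have hfb := fix_fit_le hG hz hL hC hzK hO
  have hAb : fit z ⊓ centralizer ({b} : Set G) = fit z ⊓ OS.oddOf N := le_antisymm
    (fun x hx => ⟨hx.1, hfb hx⟩) fun x hx =>
      ⟨hx.1, mem_centralizer_singleton_iff.2 (hC.hcomm x hx.2 b hbK)⟩
  have hA : fit z ⊓ OS.oddOf N ≠ ⊥ := fun h => hL.hQne (eq_bot_iff.2 (h ▸ fun x hx =>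
    ⟨hL.hQF hx, hfb ⟨hL.hQF hx, hx.2⟩⟩))
  have hAX := fun X (hX : X ≠ ⊥) (hXA : X ≤ fit z ⊓ OS.oddOf N) =>
    hG.normalizer_le_comp hz hmax hL hC hzK hbK hX hXA
  have hCN := hG.not_centralizer_le hz hmax hL hC hzK
  haveI : Group.IsPerfect K := isPerfect_iff.2 hC.hperf
  set Z := (OS.oddOf N).subgroupOf K with hZ
  haveI : Z.Normal := normal_subgroupOf_of_le_normalizer fun k hk =>
    centralizer_le_normalizer _ (mem_centralizer_iff.2 fun o ho => hC.hcomm o ho k hk)
  have hZc : Z ≤ Subgroup.center K := fun c hc =>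
    mem_center_iff.2 fun k => Subtype.ext (hC.hcomm c hc k k.2).symm
  have hZo : Odd (Nat.card Z) := by
    rw [← card_map_of_injective K.subtype_injective, hZ, subgroupOf_map_subtype]
    exact (OS.odd_card_oddOf N).of_dvd_nat (card_dvd_of_le inf_le_left)
  -- the exceptional field
  have h9 : Fintype.card F ≠ 9 := by
    intro h9
    refine false_of_fit_inf_le hCN hA hAX fun w hw => mem_of_primary_pow fun k r hr hk => ?_
    have hwk : w ^ k ∈ fit z ⊓ N := pow_mem hw k
    have hzN := hC.hKN hzK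
    set e : N := ⟨w ^ k, hwk.2⟩
    refine (mk_eq_one_iff_oddOf e).1 (orderOf_eq_one_iff.1 ?_)
    have ho : Odd (orderOf (π e)) := by
      refine Odd.of_dvd_nat (odd_orderOf_core (fit_le_core z hwk.1)) ?_
      rw [← orderOf_mk (w ^ k) hwk.2]
      exact orderOf_map_dvd π e
    have hmem : π e ∈ centralizer ({π ⟨z, hzN⟩} : Set _) ⊓ topImage N K :=
      ⟨mem_centralizer_singleton_iff.2 ((show Commute e ⟨z, hzN⟩ from
          Subtype.ext (commute_of_mem_core (fit_le_core z hwk.1))).map π).eq,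
        hC.proj_of_mem_sup (hfitN hwk)⟩
    have hd := (centralizer ({π ⟨z, hzN⟩} : Set _) ⊓ topImage N K).orderOf_dvd_natCard hmem
    rcases OS.Model.card_centralizer_inner m (orderOf_proj hzN hz) ⟨⟨z, hzN⟩, hzK, rfl⟩ with
      ⟨-, hc⟩ | ⟨hm4, -⟩
    · rw [hc, h9] at hd
      exact Nat.eq_one_of_dvd_coprimes ((Nat.coprime_two_right.2 ho).pow_right 3) dvd_rfl hd
    · omega
  -- the kernel is trivial
  let ρ : K →* topImage N K := (π.comp (inclusion hC.hKN)).codRestrict (topImage N K)
    fun k => ⟨inclusion hC.hKN k, k.2, rfl⟩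
  have hρ : Function.Surjective ρ := by
    rintro ⟨y, n, hn, rfl⟩
    exact ⟨⟨n, hn⟩, Subtype.ext rfl⟩
  have hker : ρ.ker = Z := by
    ext k
    rw [MonoidHom.mem_ker, hZ, mem_subgroupOf, ← Subtype.val_injective.eq_iff]
    exact mk_eq_one_iff_oddOf (inclusion hC.hKN k)
  have hZbot : Z = ⊥ := center_odd_trivial inferInstance hZc hZo m.odd m.large h9
    (((QuotientGroup.quotientMulEquivOfEq hker.symm).trans
      (QuotientGroup.quotientKerEquivOfSurjective ρ hρ)).trans m.e)
  have hinj : Function.Injective ρ := (MonoidHom.ker_eq_bot_iff ρ).1 (hker.trans hZbot)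
  exact ⟨F, _, _,
    { hb := hL.hb, hbz := hL.hbz, hzb := hL.hzb, hN := hL.hN, hCN := hCN, hO := hO,
      hKN := hC.hKN, hKn := hC.hKn, hperf := hC.hperf, hmaxK := hC.hmaxK, hcomm := hC.hcomm,
      hdisj := disjoint_iff.1 (subgroupOf_eq_bot.1 hZbot)
      iso := ⟨(MulEquiv.ofBijective ρ ⟨hinj, hρ⟩).trans m.e⟩
      model := ⟨m⟩, hzK := hzK, hbK := hbK, hW := LocalMax.fix_le_N hG hL, hA := hA, hAb := hAb,
      hAX := hAX, hfitN := hfitN }⟩

end Minimal

namespace Minimal

variable (hG : Minimal G)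
include hG

/-- **An escaping fixed subgroup gives the configuration of 4.1.** -/
theorem exists_local41 {z : G} (hz : orderOf z = 2)
    (hmax : IsCoatom (centralizer ({z} : Set G))) (hne : ¬ NoEscape z) :
    ∃ (b : G) (N K : Subgroup G) (F : Type) (_ : Field F) (_ : Fintype F),
      Local41 z b N K F := by
  simp only [NoEscape, not_forall] at hne
  obtain ⟨b, hb, hbz, hzb, q, hq, Q, hQp, hQne, hQW, hQF, hWQ, hesc⟩ := hne
  obtain ⟨N₀, hL₀⟩ := hG.exists_localMax hb hbz hzb hq hQp hQne hQW hQF hWQ hesc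
  obtain ⟨N, hL⟩ := hG.exists_localMax_fixed hz hmax hL₀
  have hO := LocalMax.oddCore_le hG hz hmax hL
  obtain ⟨F, _, _, K, hC⟩ := hG.exists_comp hz hmax hL.toLocalPre hO
    (LocalMax.not_isSolvable hG hz hmax hL)
  have hzK := hG.z_mem_comp hz hmax hL hC hO
  have hbK := hG.b_mem_comp hz hmax hL hC hO hzK
  obtain ⟨F', i1, i2, h⟩ := hG.local41_of_comp hz hmax hL hC hzK hbK
  exact ⟨b, N, K, F', i1, i2, h⟩

end Minimal

end CfsgLib.GW
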