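import Cfsg.Agent.GW.Setting
import Cfsg.Agent.OddOrder.BG8.Fitting
import Cfsg.Agent.CharPLocal.Basic

/-!
# Gorenstein–Walter: maximal involution centralizers without escaping fixed subgroups

`NoEscape z`: for every four-group `⟨z, b⟩` the nontrivial primary subgroups of `fix z b` inside
the Fitting subgroup of `core z`, normalised by `fix z b`, have their centralizers inside `C(z)`.
-/

set_option autoImplicit false
set_option linter.style.haveILetI false
set_option linter.unusedSectionVars false

open Subgroup

namespace CfsgLib.GW

universe u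

variable {G : Type u} [Group G]

/-- The Fitting subgroup of the core. -/
noncomputable def fit (z : G) : Subgroup G := Cfsg.fittingOf (core z)

/-- The primary parts of the Fitting subgroup of the core. -/
noncomputable def qcore (q : ℕ) (z : G) : Subgroup G := Cfsg.pCoreOf q (core z)

/-- No fixed subgroup escapes from the centralizer of `z`. -/
def NoEscape (z : G) : Prop :=
  ∀ b : G, orderOf b = 2 → z ≠ b → z * b = b * z → ∀ q : ℕ, q.Prime → ∀ Q : Subgroup G,
    IsPGroup q Q → Q ≠ ⊥ → Q ≤ fix z b → Q ≤ fit z → fix z b ≤ normalizer (Q : Set G) →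
      centralizer (Q : Set G) ≤ centralizer ({z} : Set G)

/-- An element acts as a scalar on every primary part. -/
def Scalar (z s : G) : Prop :=
  ∀ q : ℕ, q.Prime →
    (∀ x ∈ qcore q z, s * x * s⁻¹ = x) ∨ (∀ x ∈ qcore q z, s * x * s⁻¹ = x⁻¹)

variable [Finite G]

theorem fit_le_core (z : G) : fit z ≤ core z := OddOrder.fittingOf_le _

theorem qcore_le_core (q : ℕ) (z : G) : qcore q z ≤ core z := map_subtype_le _

end CfsgLib.GW
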