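import Cfsg.Agent.GW.TwistMain

/-!
# Gorenstein–Walter: no orbit of three linear twists

Sylow order four.  The three twists carried round by the cycling element have the same parities on
every irreducible character, so a character in the support has degree at least fifteen and the
count of pairs is below the one of the trivial twist.
-/

set_option autoImplicit false
set_option linter.style.haveILetI false
set_option linter.unusedSectionVars false

namespace CfsgLib.GW.Tw

open Subgroup Cfsg CfsgLib.Blocks CfsgLib.PrincipalBlock CfsgLib.Characters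
open scoped ComplexConjugate

universe u

variable {G : Type u} [Group G] [Fintype G] {z : G} {U : Subgroup G}
variable (hF : Frame z U) [Fintype (centralizer ({z} : Set G))]
include hF

open Classical in
/-- The test function on the coset of `z` reads off the component at `z`. -/
theorem Frame.coef_eq_mu (hindex : Nat.card (centralizer ({z} : Set G)) = 4 * Nat.card U)
    {φ : centralizer ({z} : Set G) → ℂ}
    (hval : ∀ c : centralizer ({z} : Set G), φ c = if z * (c : G) ∈ U then 4 else 0)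
    (L : Lin z) (hzL : lv L z = 1) (χ : IrrCharacter G) :
    classInner (indFun _ (tw L φ)) (χ : G → ℂ) = conj (mu U L (χ : G → ℂ) z) := by
  have hzC : z ∈ centralizer ({z} : Set G) := mem_centralizer_singleton_iff.2 rfl
  have hzz := Small.mul_self_of_orderOf_two hF.hz
  have hLz : (L ⟨z, hzC⟩ : ℂ) = 1 := by rwa [lv_of_mem L hzC] at hzL
  rw [classInner_indFun _ _ (isClassFunction_of_isIrr χ.2), classInner, hF.mu_eq_sum L, map_mul,
    map_inv₀, map_natCast, map_sum, hindex,
    ← Equiv.sum_comp (Equiv.mulLeft (⟨z, hzC⟩ : centralizer ({z} : Set G)))]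
  have hU : (Nat.card U : ℂ) ≠ 0 := subgroup_card_ne_zero U
  rw [Finset.mul_sum, Finset.mul_sum]
  refine Finset.sum_congr rfl fun u _ => ?_
  have hmem : (z * ((⟨z, hzC⟩ : centralizer ({z} : Set G)) * u : centralizer ({z} : Set G)) ∈ U) ↔
      (u : G) ∈ U := by
    rw [Subgroup.coe_mul, ← mul_assoc, hzz, one_mul]
  simp only [Equiv.coe_mulLeft, tw, hval, map_mul, Units.val_mul, hLz, one_mul, hmem]
  split_ifs with hu
  · rw [map_mul, Complex.conj_conj]
    push_cast
    field_simp
  · simp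

open Classical in
/-- **No orbit of three linear twists.** -/
theorem Frame.orbit_false {M : Ideal AlgInt} [M.IsPrime] (hM : Cfsg.IsPModular 2 M)
    (L : Fin 3 → Lin z) (htriv : ∀ c : centralizer ({z} : Set G), c * c = 1 → L 0 c = 1)
    (hzL : ∀ i, lv (L i) z = 1) (hLne : ∃ u ∈ U, lv (L 0) u ≠ 1)
    (hfus : Fused U (Finset.univ.image L))
    (W : Subgroup G) [Fintype W] (hWU : W ≤ U)
    (hWd : ∀ i j, i ≠ j → ∃ w ∈ W, lv (L i) w ≠ lv (L j) w)
    (hWeq : ∀ (f : G → ℂ), IsClassFunction G f → ∀ i j,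
      classInner (fun w : W => f w) (fun w : W => lv (L i) (w : G)) =
      classInner (fun w : W => f w) (fun w : W => lv (L j) (w : G)))
    (hindex : Nat.card (centralizer ({z} : Set G)) = 4 * Nat.card U)
    (P : Subgroup G) [Fintype P] (hPU : P ≤ U)
    (hbig : Big P (Finset.univ.image L) 6) (hbig1 : Big P ({1} : Finset (Lin z)) 6)
    {φ : centralizer ({z} : Set G) → ℂ} (hφ : Test z U φ)
    (hn : ∃ n : ℤ, n ≤ 4 ∧ classInner φ φ = n) (hφ1 : classInner φ (fun _ => 1) = 1)
    (hval : ∀ c : centralizer ({z} : Set G), φ c = if z * (c : G) ∈ U then 4 else 0) : False := by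
  have hzC : z ∈ centralizer ({z} : Set G) := mem_centralizer_singleton_iff.2 rfl
  have hzord : orderOf z = 2 ^ 1 := by rw [hF.hz, pow_one]
  have hcz : ∀ y ∈ U, y * z = z * y := fun y hy => mem_centralizer_singleton_iff.1 (hF.le hy)
  have hLinj : Function.Injective L := fun i j e => by
    by_contra hne
    obtain ⟨w, -, hw⟩ := hWd i j hne
    exact hw (by rw [e])
  have hdist : ∀ L₁ ∈ Finset.univ.image L, ∀ L₂ ∈ Finset.univ.image L,
      (∀ u ∈ U, lv L₁ u = lv L₂ u) → L₁ = L₂ := by
    intro a ha b hb h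
    obtain ⟨i, -, rfl⟩ := Finset.mem_image.1 ha
    obtain ⟨j, -, rfl⟩ := Finset.mem_image.1 hb
    by_contra hne
    obtain ⟨w, hwW, hw⟩ := hWd i j fun e => hne (congrArg L e)
    exact hw (h w (hWU hwW))
  choose κ hκ hκ1 using hF.coef_small hφ hn (L 0)
  have hmu0 : ∀ χ : IrrCharacter G, mu U (L 0) (χ : G → ℂ) z = (κ χ : ℂ) := fun χ => by
    rw [← Complex.conj_conj (mu U (L 0) (χ : G → ℂ) z), ← hF.coef_eq_mu hindex hval _ (hzL 0) χ,
      hκ, map_intCast]
  -- the support of the first twist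
  have key : ∀ χ : IrrCharacter G, κ χ ≠ 0 → ∃ (d : ℕ) (s : ℤ), 15 ≤ d ∧ |s| ≤ 3 ∧
      (χ : G → ℂ) 1 = d ∧ (χ : G → ℂ) z = s ∧ (s : ℂ) = ∑ i, mu U (L i) (χ : G → ℂ) z := by
    intro χ h0
    have hne : classInner (indFun _ (tw (L 0) φ)) (χ : G → ℂ) ≠ 0 := by
      rw [hκ]; exact_mod_cast h0
    obtain ⟨h₀, hh₀, hh₁⟩ := hF.exists_mu_ne_zero hφ (L 0) χ hne
    have hχ1 : χ ≠ trivChar G := fun e => hne (e ▸ hF.inner_triv hφ (L 0) hLne)
    obtain ⟨d, e, c, hd, hzv, hc, hdvd, hdeg⟩ := hF.bound hM hdist hfus hzord (mem_zpowers z) χ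
      (Finset.mem_image_of_mem L (Finset.mem_univ 0)) hh₀ hh₁
    have hmem : ∀ i, L i ∈ Finset.univ.image L := fun i =>
      Finset.mem_image_of_mem L (Finset.mem_univ i)
    have hpar : ∀ i, (2 : ℤ) ∣ (e (L i) : ℤ) - e (L 0) := by
      intro i
      have hlin : ∀ j, IsIrrCharacter W fun w : W => lv (L j) (w : G) := fun j => by
        have := isIrr_linChar ((L j).comp (inclusion (hWU.trans hF.le)))
        refine (Eq.mp ?_ this)
        congr 1
        funext w
        rw [lv_of_mem (L j) (hF.le (hWU w.2))]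
        rfl
      have hval' : ∀ j, ∃ q : ℕ, classInner (fun w : W => (χ : G → ℂ) w)
          (fun w : W => lv (L j) (w : G)) = (e (L j) : ℂ) + ((2 ^ 1 * q : ℕ) : ℂ) := by
        intro j
        obtain ⟨q, hq⟩ := hdvd W hWU (fun y hy => hcz y (hWU hy)) ⟨_, hlin j⟩
        refine ⟨q, hq.trans ?_⟩
        rw [Finset.sum_image fun a _ b _ h => hLinj h, Finset.sum_eq_single j]
        · have hjj : classInner (fun w : W => lv (L j) (w : G)) (fun w : W => lv (L j) (w : G)) =
              1 := by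
            have := classInner_irr (⟨_, hlin j⟩ : IrrCharacter W) ⟨_, hlin j⟩
            rwa [if_pos rfl] at this
          show (e (L j) : ℂ) * classInner (fun w : W => lv (L j) (w : G))
            (fun w : W => lv (L j) (w : G)) + _ = _
          rw [hjj, mul_one]
        · intro k _ hk
          have := classInner_irr (⟨_, hlin k⟩ : IrrCharacter W) ⟨_, hlin j⟩
          rw [if_neg fun h => ?_] at this
          · show (e (L k) : ℂ) * classInner (fun w : W => lv (L k) (w : G))
              (fun w : W => lv (L j) (w : G)) = 0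
            rw [this, mul_zero]
          · obtain ⟨w, hw, hw'⟩ := hWd k j hk
            exact hw' (congrFun (congrArg Subtype.val h) ⟨w, hw⟩)
        · simp
      obtain ⟨q, hq⟩ := hval' i
      obtain ⟨q', hq'⟩ := hval' 0
      have := hWeq _ (isClassFunction_of_isIrr χ.2) i 0
      rw [hq, hq'] at this
      norm_cast at this
      exact ⟨(q' : ℤ) - q, by omega⟩
    have hc0 : c (L 0) = κ χ := by exact_mod_cast (hc _ (hmem 0)).1.symm.trans (hmu0 χ)
    have hcodd : ∀ i, ¬ (2 : ℤ) ∣ c (L i) := by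
      intro i hdiv
      have h1 := (hc _ (hmem i)).2.2
      have h2 := (hc _ (hmem 0)).2.2
      have h3 := hpar i
      have h4 : (2 : ℤ) ∣ κ χ := by omega
      have h5 := abs_le.1 (hκ1 χ)
      omega
    have hc1 : ∀ i, |c (L i)| ≤ 1 := by
      intro i
      obtain ⟨κ', hκ', hκ'1⟩ := hF.coef_small hφ hn (L i) χ
      rw [hF.coef_eq_mu hindex hval _ (hzL i) χ, (hc _ (hmem i)).1, map_intCast] at hκ'
      rwa [Int.cast_injective hκ']
    have he1 : ∀ i, 1 ≤ e (L i) := by
      intro i
      have h1 := (hc _ (hmem i)).2.1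
      by_contra h
      have h0 : c (L i) = 0 := abs_eq_zero.1 (le_antisymm (by omega) (abs_nonneg _))
      exact hcodd i (by simp [h0])
    have hd15 := hdeg P 6 hPU (fun y hy => hcz y (hPU hy)) hbig hχ1
    rw [Finset.sum_image fun a _ b _ h => hLinj h, Fin.sum_univ_three] at hd15
    rw [Finset.sum_image fun a _ b _ h => hLinj h] at hzv
    refine ⟨d, ∑ i, c (L i), ?_, ?_, hd, hzv, ?_⟩
    · have := he1 0; have := he1 1; have := he1 2
      omega
    · refine (Finset.abs_sum_le_sum_abs _ _).trans ?_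
      rw [Fin.sum_univ_three]
      have := hc1 0; have := hc1 1; have := hc1 2
      omega
    · push_cast
      exact Finset.sum_congr rfl fun i _ => ((hc _ (hmem i)).1).symm
  -- upper bound for the twisted count
  have horth : ∀ i j, ∑ χ : IrrCharacter G, mu U (L i) (χ : G → ℂ) z *
      conj (mu U (L j) (χ : G → ℂ) z) = if i = j then 4 else 0 := by
    intro i j
    rw [hF.orth (L i) (L j) (hzL i) (hzL j), hindex]
    rcases eq_or_ne i j with rfl | hne
    · rw [if_pos fun _ _ => rfl, if_pos rfl]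
      have hU : (Nat.card U : ℂ) ≠ 0 := subgroup_card_ne_zero U
      push_cast
      field_simp
    · obtain ⟨w, hw, hw'⟩ := hWd i j hne
      rw [if_neg fun h => hw' (h w (hWU hw)), if_neg hne]
  have hsum : ∑ χ : IrrCharacter G, ‖∑ i, mu U (L i) (χ : G → ℂ) z‖ ^ 2 = 12 := by
    apply Complex.ofReal_injective
    rw [Complex.ofReal_sum]
    simp only [Complex.ofReal_pow, ← Complex.mul_conj', map_sum, Finset.sum_mul_sum]
    rw [Finset.sum_comm]
    simp only [Finset.sum_comm (γ := IrrCharacter G), horth, Finset.sum_ite_eq, Finset.mem_univ,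
      if_true]
    norm_num
  have hup : ‖count (tw (L 0) φ)‖ ≤ 12 / 15 := by
    rw [count]
    refine (norm_sum_le _ _).trans ?_
    rw [← hsum, Finset.sum_div]
    refine Finset.sum_le_sum fun χ _ => ?_
    by_cases h0 : κ χ = 0
    · rw [hκ, h0]
      simp only [Int.cast_zero, zero_mul, zero_div, norm_zero]
      positivity
    obtain ⟨d, s, hd15, -, hd, hs, hs'⟩ := key χ h0
    rw [hκ, hd, hs, ← hs', norm_div, norm_mul, norm_pow, Complex.norm_natCast, Complex.norm_intCast]
    have hd' : (15 : ℝ) ≤ d := by exact_mod_cast hd15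
    have hk : |(κ χ : ℝ)| ≤ 1 := by exact_mod_cast hκ1 χ
    calc |(κ χ : ℝ)| * ‖(s : ℂ)‖ ^ 2 / d ≤ 1 * ‖(s : ℂ)‖ ^ 2 / d := by gcongr
      _ ≤ _ := by
          rw [one_mul]
          exact div_le_div_of_nonneg_left (by positivity) (by norm_num) hd'
  -- lower bound for the trivial count
  choose κ1 hκ1' hκ11 using hF.coef_small hφ hn 1
  have hzone : lv (1 : Lin z) z = 1 := lv_one hzC
  have hmu1 : ∀ χ : IrrCharacter G, mu U (1 : Lin z) (χ : G → ℂ) z = (κ1 χ : ℂ) := fun χ => by
    rw [← Complex.conj_conj (mu U (1 : Lin z) (χ : G → ℂ) z),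
      ← hF.coef_eq_mu hindex hval _ hzone χ, hκ1', map_intCast]
  have key1 : ∀ χ : IrrCharacter G, χ ≠ trivChar G → κ1 χ ≠ 0 →
      ∃ d : ℕ, 13 ≤ d ∧ (χ : G → ℂ) 1 = d ∧ (χ : G → ℂ) z = (κ1 χ : ℂ) := by
    intro χ hχ h0
    have hne : classInner (indFun _ (tw (1 : Lin z) φ)) (χ : G → ℂ) ≠ 0 := by
      rw [hκ1']; exact_mod_cast h0
    obtain ⟨h₀, hh₀, hh₁⟩ := hF.exists_mu_ne_zero hφ 1 χ hne
    obtain ⟨d, e, c, hd, hzv, hc, -, hdeg⟩ := hF.bound hM
      (fun a ha b hb _ => by rw [Finset.mem_singleton.1 ha, Finset.mem_singleton.1 hb])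
      (fused_one hF) hzord (mem_zpowers z) χ (Finset.mem_singleton_self 1) hh₀ hh₁
    have hd13 := hdeg P 6 hPU (fun y hy => hcz y (hPU hy)) hbig1 hχ
    rw [Finset.sum_singleton] at hd13 hzv
    have hc1 := hc 1 (Finset.mem_singleton_self 1)
    have hc0 : c 1 = κ1 χ := by exact_mod_cast hc1.1.symm.trans (hmu1 χ)
    refine ⟨d, ?_, hd, by rw [hzv, hc0]⟩
    have := hc1.2.1
    have := abs_pos.2 h0
    rw [hc0] at *
    omega
  have ht1 : κ1 (trivChar G) = 1 := by
    have h := hκ1' (trivChar G)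
    rw [tw_one, classInner_indFun _ _ (isClassFunction_of_isIrr (trivChar G).2)] at h
    simp only [trivChar_apply, hφ1] at h
    exact_mod_cast h.symm
  -- squares and degrees
  choose d hd0 hd using fun ψ : IrrCharacter G => exists_degree_pos ψ.2
  have hzero : ∑ ψ, κ1 ψ * (d ψ : ℤ) = 0 := by
    have hgen := isGen_indFun (centralizer ({z} : Set G)) (hF.test_tw hφ (1 : Lin z)).1
    have e := SuzukiWong.eq_sum_cof hgen 1
    rw [indFun_one, (hF.test_tw hφ (1 : Lin z)).2 1 ?_, mul_zero] at e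
    · apply Int.cast_injective (α := ℂ)
      push_cast
      rw [e]
      exact Finset.sum_congr rfl fun ψ _ => by
        rw [← hκ1', SuzukiWong.classInner_eq_cof hgen ψ, hd ψ]
    · rintro ⟨j, hj⟩
      simp only [OneMemClass.coe_one, one_zpow] at hj
      exact Small.ne_one_of_orderOf_two hF.hz hj.symm
  have hsq : ∑ ψ, κ1 ψ ^ 2 = 4 := by
    have h := hF.orth (1 : Lin z) 1 hzone hzone
    rw [if_pos fun _ _ => rfl, hindex] at h
    have hU : (Nat.card U : ℂ) ≠ 0 := subgroup_card_ne_zero U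
    push_cast at h
    simp only [hmu1, map_intCast, mul_div_assoc, div_self hU, mul_one] at h
    apply Int.cast_injective (α := ℂ)
    push_cast
    simp only [sq]
    exact h
  set s := (Finset.univ.erase (trivChar G)).filter fun χ => κ1 χ ≠ 0 with hs
  set p := s.filter fun χ => κ1 χ = 1 with hp
  set m := s.filter fun χ => κ1 χ ≠ 1 with hm
  have hsmem : ∀ χ ∈ s, χ ≠ trivChar G ∧ κ1 χ ≠ 0 := fun χ h =>
    ⟨(Finset.mem_erase.1 (Finset.mem_filter.1 h).1).1, (Finset.mem_filter.1 h).2⟩
  have hm1 : ∀ χ ∈ m, κ1 χ = -1 := fun χ h => by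
    obtain ⟨h1, h2⟩ := Finset.mem_filter.1 h
    have := (hsmem χ h1).2
    have := abs_le.1 (hκ11 χ)
    omega
  have hscard : s.card = 3 := by
    have h := Finset.add_sum_erase Finset.univ (fun ψ => κ1 ψ ^ 2) (Finset.mem_univ (trivChar G))
    simp only [hsq, ht1, one_pow] at h
    have h' : ∑ χ ∈ s, κ1 χ ^ 2 = 3 := by
      rw [hs, Finset.sum_filter_of_ne (p := fun χ => κ1 χ ≠ 0) fun x _ hx h0 => hx (by rw [h0]; norm_num)]
      omega
    rw [Finset.sum_congr rfl (g := fun _ => (1 : ℤ)) fun χ hχ => ?_, Finset.sum_const,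
      nsmul_eq_mul, mul_one] at h'
    · exact_mod_cast h'
    · have := abs_le.1 (hκ11 χ)
      rcases (show κ1 χ = 1 ∨ κ1 χ = -1 by have := (hsmem χ hχ).2; omega) with h1 | h1 <;>
        rw [h1] <;> norm_num
  have hsplit : p.card + m.card = s.card := Finset.card_filter_add_card_filter_not _
  have hmle : m.card ≤ 2 := by
    by_contra hm3
    have hms : m = s := Finset.eq_of_subset_of_card_le (Finset.filter_subset _ _) (by omega)
    have h := Finset.add_sum_erase Finset.univ (fun ψ => κ1 ψ * (d ψ : ℤ))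
      (Finset.mem_univ (trivChar G))
    have hd1 : d (trivChar G) = 1 := by
      have := (hd (trivChar G)).symm
      rw [trivChar_apply] at this
      exact_mod_cast this
    simp only [hzero, ht1, hd1, Nat.cast_one, mul_one] at h
    have h' : ∑ χ ∈ s, κ1 χ * (d χ : ℤ) = -1 := by
      rw [hs, Finset.sum_filter_of_ne (p := fun χ => κ1 χ ≠ 0) fun x _ hx h0 => hx (by rw [h0, zero_mul])]
      omega
    have h'' : ∑ χ ∈ s, κ1 χ * (d χ : ℤ) ≤ ∑ χ ∈ s, (-13 : ℤ) := by
      refine Finset.sum_le_sum fun χ hχ => ?_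
      rw [hm1 χ (hms ▸ hχ)]
      obtain ⟨h1, h2⟩ := hsmem χ hχ
      obtain ⟨d', hd', hd'', -⟩ := key1 χ h1 h2
      have : d χ = d' := by exact_mod_cast (hd χ).symm.trans hd''
      omega
    rw [h', Finset.sum_const, hscard] at h''
    norm_num at h''
  have hlow : (11 : ℝ) / 13 ≤ (count (tw (1 : Lin z) φ)).re := by
    have hcount : count (tw (1 : Lin z) φ) =
        1 + ∑ χ ∈ s, (κ1 χ : ℂ) / ((d χ : ℕ) : ℂ) := by
      rw [count, ← Finset.add_sum_erase _ _ (Finset.mem_univ (trivChar G)), hκ1', ht1]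
      simp only [trivChar_apply, Int.cast_one, one_pow, mul_one, div_one]
      congr 1
      rw [hs, Finset.sum_filter]
      refine Finset.sum_congr rfl fun χ hχ => ?_
      rw [hκ1']
      split_ifs with h0
      · obtain ⟨d', -, hd', hzv⟩ := key1 χ (Finset.ne_of_mem_erase hχ) h0
        have e : d χ = d' := by exact_mod_cast (hd χ).symm.trans hd'
        rw [hzv, hd', e]
        congr 1
        rcases (show κ1 χ = 1 ∨ κ1 χ = -1 by
          have := abs_le.1 (hκ11 χ); omega) with h1 | h1 <;> rw [h1] <;> norm_num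
      · rw [show κ1 χ = 0 by simpa using h0]; simp
    rw [hcount]
    simp only [Complex.add_re, Complex.one_re, Complex.re_sum]
    have hb : ∀ χ ∈ s, (if κ1 χ = 1 then (0 : ℝ) else -(1 / 13)) ≤
        ((κ1 χ : ℂ) / ((d χ : ℕ) : ℂ)).re := by
      intro χ hχ
      obtain ⟨h1, h2⟩ := hsmem χ hχ
      obtain ⟨d', hd', hd'', -⟩ := key1 χ h1 h2
      have e : d χ = d' := by exact_mod_cast (hd χ).symm.trans hd''
      have hd13 : (13 : ℝ) ≤ (d χ : ℝ) := by rw [e]; exact_mod_cast hd'
      rw [Complex.div_natCast_re, Complex.intCast_re]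
      split_ifs with h3
      · rw [h3]; positivity
      · rw [hm1 χ (Finset.mem_filter.2 ⟨hχ, h3⟩)]
        push_cast
        rw [neg_div, neg_le_neg_iff]
        exact div_le_div_of_nonneg_left zero_le_one (by norm_num) hd13
    have h2 : ∑ χ ∈ s, (if κ1 χ = 1 then (0 : ℝ) else -(1 / 13)) = -((m.card : ℝ) / 13) := by
      rw [Finset.sum_ite, Finset.sum_const_zero, zero_add, Finset.sum_const, nsmul_eq_mul, hm]
      ring
    have h3 := (Finset.sum_le_sum hb)
    rw [h2] at h3
    have : (m.card : ℝ) ≤ 2 := by exact_mod_cast hmle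
    linarith
  have e : count (tw (L 0) φ) = count (tw (1 : Lin z) φ) := by
    rw [tw_one]
    exact hF.pairs_eq hφ (L 0) htriv
  rw [e] at hup
  have := (Complex.re_le_norm (count (tw (1 : Lin z) φ))).trans hup
  linarith

end CfsgLib.GW.Tw
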