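import Cfsg.Agent.GW.Scalar
import Cfsg.Agent.GW.Orders
import Cfsg.Agent.GW.TwistExists
import Cfsg.Agent.GW.TwistTest
import Cfsg.Agent.GW.TwistOrbit
import Mathlib.GroupTheory.Complement

/-!
# Gorenstein–Walter 4.2: no fixed subgroup escapes is impossible

`C = C(z)` is maximal, no fixed subgroup escapes from it and the rotations centralise `U = O(C)`.
A Sylow 2-subgroup acts on `U` as `⟨b⟩` does.  With `Y` the primary parts inverted by `b` and
`W = fix z b` we have `U = Y W`; if `W` centralises `Y` the Brauer–Suzuki–Wall configuration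
results, otherwise there is a linear twist, invariant under fusion or one of an orbit of three.
-/

set_option autoImplicit false
set_option linter.style.haveILetI false
set_option linter.unusedSectionVars false

open Subgroup

namespace CfsgLib.GW

universe u

variable {G : Type u} [Group G] [Finite G]

/-- The primary parts of the Fitting subgroup of the core that `b` inverts. -/
noncomputable def invPart (z b : G) : Subgroup G :=
  closure {y | ∃ q : ℕ, q.Prime ∧ (∀ x ∈ qcore q z, b * x * b⁻¹ = x⁻¹) ∧ y ∈ qcore q z}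

theorem invPart_le_core (z b : G) : invPart z b ≤ core z :=
  (closure_le _).2 fun _ ⟨q, _, _, hy⟩ => qcore_le_core q z hy

theorem invPart_comm (z b : G) :
    ∀ x ∈ invPart z b, ∀ y ∈ invPart z b, x * y = y * x := by
  have hgen : ∀ x ∈ {y : G | ∃ q : ℕ, q.Prime ∧ (∀ x ∈ qcore q z, b * x * b⁻¹ = x⁻¹) ∧
      y ∈ qcore q z}, ∀ y ∈ {y : G | ∃ q : ℕ, q.Prime ∧ (∀ x ∈ qcore q z, b * x * b⁻¹ = x⁻¹) ∧
      y ∈ qcore q z}, x * y = y * x := by
    rintro x ⟨q, hq, hqi, hx⟩ y ⟨r, hr, -, hy⟩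
    rcases eq_or_ne q r with rfl | hne
    · have e : b * (x * y) * b⁻¹ = b * x * b⁻¹ * (b * y * b⁻¹) := by group
      rw [hqi _ (mul_mem hx hy), hqi _ hx, hqi _ hy, ← mul_inv_rev] at e
      exact inv_injective e
    · haveI := Fact.mk hq
      haveI := Fact.mk hr
      have hd : qcore q z ⊓ qcore r z = ⊥ := (eq_bot_iff_forall _).2 fun w hw => by
        obtain ⟨i, hi⟩ := (qcore_isPGroup (q := q) z).exists_card_eq
        obtain ⟨j, hj⟩ := (qcore_isPGroup (q := r) z).exists_card_eq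
        exact orderOf_eq_one_iff.1 (Nat.eq_one_of_dvd_coprimes
          (((Nat.coprime_primes hq hr).2 hne).pow i j) (hi ▸ (qcore q z).orderOf_dvd_natCard hw.1)
          (hj ▸ (qcore r z).orderOf_dvd_natCard hw.2))
      have hc := OddOrder.le_centralizer_of_normalize
        ((qcore_le_core q z).trans (core_le_normalizer_qcore r z))
        ((qcore_le_core r z).trans (core_le_normalizer_qcore q z)) hd hx
      exact (mem_centralizer_iff.1 hc y hy).symm
  intro x hx y hy
  have h1 : invPart z b ≤ centralizer (invPart z b : Set G) := by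
    refine (closure_le _).2 fun x hx => mem_centralizer_iff.2 fun y hy => ?_
    have h2 : invPart z b ≤ centralizer ({x} : Set G) :=
      (closure_le _).2 fun y hy => mem_centralizer_singleton_iff.2 (hgen y hy x hx)
    exact mem_centralizer_singleton_iff.1 (h2 hy)
  exact mem_centralizer_iff.1 (h1 hy) x hx

theorem invPart_inverted {z b : G} : ∀ y ∈ invPart z b, b * y * b⁻¹ = y⁻¹ := by
  intro y hy
  induction hy using closure_induction with
  | mem x hx =>
    obtain ⟨q, -, hqi, hxq⟩ := hx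
    exact hqi x hxq
  | one => simp
  | mul x y hx hy h1 h2 =>
    rw [show b * (x * y) * b⁻¹ = b * x * b⁻¹ * (b * y * b⁻¹) by group, h1, h2, ← mul_inv_rev,
      invPart_comm z b x hx y hy]
  | inv x _ h1 =>
    rw [show b * x⁻¹ * b⁻¹ = (b * x * b⁻¹)⁻¹ by group, h1]

theorem centralizer_le_normalizer_invPart (z b : G) :
    centralizer ({z} : Set G) ≤ normalizer (invPart z b : Set G) := by
  have key : ∀ c ∈ centralizer ({z} : Set G), ∀ x ∈ invPart z b, c * x * c⁻¹ ∈ invPart z b := by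
    intro c hc x hx
    induction hx using closure_induction with
    | mem x hx =>
      obtain ⟨q, hq, hqi, hxq⟩ := hx
      exact subset_closure ⟨q, hq, hqi, qcore_conj hc hxq⟩
    | one => simp
    | mul x y _ _ h1 h2 =>
      rw [show c * (x * y) * c⁻¹ = c * x * c⁻¹ * (c * y * c⁻¹) by group]
      exact mul_mem h1 h2
    | inv x _ h1 =>
      rw [show c * x⁻¹ * c⁻¹ = (c * x * c⁻¹)⁻¹ by group]
      exact inv_mem h1
  exact fun c hc => mem_normalizer_iff.2 fun x => ⟨key c hc x, fun h => by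
    simpa [mul_assoc] using key c⁻¹ (inv_mem hc) _ h⟩

theorem odd_invPart (z b : G) : Odd (Nat.card (invPart z b)) :=
  (odd_core z).of_dvd_nat (card_dvd_of_le (invPart_le_core z b))

/-- An element of odd order equal to its inverse is trivial. -/
theorem eq_one_of_odd_eq_inv {x : G} (ho : Odd (orderOf x)) (h : x = x⁻¹) : x = 1 := by
  have h2 : x ^ 2 = 1 := by
    rw [sq]
    exact mul_eq_one_iff_eq_inv.2 h
  exact orderOf_eq_one_iff.1 (Nat.eq_one_of_dvd_coprimes (Nat.coprime_two_right.2 ho) dvd_rfl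
    (orderOf_dvd_of_pow_eq_one h2))

theorem centralizer_le_normalizer_of_sup {z : G} {S W : Subgroup G}
    (hdec : ∀ c ∈ centralizer ({z} : Set G), ∃ u ∈ core z, ∃ s ∈ S, c = u * s)
    (hU : core z ≤ normalizer (W : Set G)) (hS : S ≤ normalizer (W : Set G)) :
    centralizer ({z} : Set G) ≤ normalizer (W : Set G) := by
  intro c hc
  obtain ⟨u, hu, s, hs, rfl⟩ := hdec c hc
  exact mul_mem (hU hu) (hS hs)

namespace Minimal

variable (hG : Minimal G)
include hG

variable {z : G} (hz : orderOf z = 2) (hmax : IsCoatom (centralizer ({z} : Set G)))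
  (hne : NoEscape z)
include hz hmax hne

omit hmax in
/-- The core is the product of the inverted and of the fixed part. -/
theorem core_le_sup {b : G} (hb : orderOf b = 2) (hzb : z * b = b * z) :
    core z ≤ invPart z b ⊔ fix z b := by
  have hbC : b ∈ centralizer ({z} : Set G) := mem_centralizer_singleton_iff.2 hzb.symm
  have hbb := Small.mul_self_of_orderOf_two hb
  have hfit : fit z ≤ invPart z b ⊔ fix z b := fit_le_of_qcores fun q hq => by
    rcases hG.scalar_invol hz hne hb hzb q hq with h | h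
    · exact (show qcore q z ≤ fix z b from fun x hx => ⟨qcore_le_core q z hx,
        mem_centralizer_singleton_iff.2 (mul_inv_eq_iff_eq_mul.1 (h x hx)).symm⟩).trans le_sup_right
    · exact (show qcore q z ≤ invPart z b from fun x hx =>
        subset_closure ⟨q, hq, h, hx⟩).trans le_sup_left
  intro x hx
  have hO := odd_core z
  set a := MulAut.conj b with ha
  have haa : ∀ y, a (a y) = y := fun y => by
    rw [ha, ← MulAut.mul_apply, ← map_mul, hbb, map_one, MulAut.one_apply]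
  have haO : a x ∈ core z := by
    rw [ha, MulAut.conj_apply]
    exact core_conj hbC hx
  have hi : x * (a x)⁻¹ ∈ core z := mul_mem hx (inv_mem haO)
  have hiF : x * (a x)⁻¹ ∈ fit z := by
    have := inv_mem ((hG.scalar_invol hz hne hb hzb).commutator_mem_fit hbC hx)
    rw [ha, MulAut.conj_apply]
    simpa [mul_assoc] using this
  set v := FourFixed.root (core z) (x * (a x)⁻¹) with hv
  have hvF : v ∈ fit z := pow_mem hiF _
  have hvO : v ∈ core z := fit_le_core z hvF
  have hav : a v = v⁻¹ := by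
    rw [hv, FourFixed.map_root, map_mul, map_inv, haa, ← FourFixed.root_inv, mul_inv_rev, inv_inv]
  have hfix : b * (v⁻¹ * x) * b⁻¹ = v⁻¹ * x := by
    show a (v⁻¹ * x) = v⁻¹ * x
    rw [map_mul, map_inv, hav, inv_inv]
    have hvv : v * v = x * (a x)⁻¹ := FourFixed.root_mul_self hO hi
    calc v * a x = v⁻¹ * (v * v) * a x := by group
      _ = v⁻¹ * x := by rw [hvv]; group
  rw [show x = v * (v⁻¹ * x) by group]
  exact mul_mem (hfit hvF) (mem_sup_right ⟨(core z).mul_mem ((core z).inv_mem hvO) hx,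
    mem_centralizer_singleton_iff.2 (mul_inv_eq_iff_eq_mul.1 hfix).symm⟩)

/-- An involution other than `z` commuting with it does not centralise the core. -/
theorem notMem_centralizer_core {b : G} (hb : orderOf b = 2) (hbz : z ≠ b) (hzb : z * b = b * z)
    (hU : core z ≠ ⊥) : b ∉ centralizer (core z : Set G) := by
  intro h
  obtain ⟨q, hq, hbot, hinv⟩ := hG.exists_inverted hz hmax hne hU hb hbz hzb
  refine hbot ((eq_bot_iff_forall _).2 fun x hx => ?_)
  refine eq_one_of_odd_eq_inv (odd_orderOf_core (qcore_le_core q z hx)) ?_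
  conv_lhs => rw [← mul_inv_cancel_right x b, ← show b * x = x * b from
    (mem_centralizer_iff.1 h x (qcore_le_core q z hx)).symm]
  exact hinv x hx

/-- The fixed part moves the inverted part. -/
theorem exists_moved {S : Sylow 2 G} (hzS : z ∈ (S : Subgroup G))
    (hS : ∀ s ∈ (S : Subgroup G), s * z = z * s) {b : G} (hb : orderOf b = 2) (hbz : z ≠ b)
    (hbS : b ∈ (S : Subgroup G)) (hU : core z ≠ ⊥)
    (hact : ∀ s ∈ (S : Subgroup G),
      (∀ u ∈ core z, s * u * s⁻¹ = u) ∨ ∀ u ∈ core z, s * u * s⁻¹ = b * u * b⁻¹)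
    (hcyc : IsCyclic ((S : Subgroup G) ⊓ centralizer (core z : Set G) : Subgroup G)) :
    ∃ w ∈ fix z b, ∃ y ∈ invPart z b, w * y ≠ y * w := by
  by_contra hcon
  push Not at hcon
  have hzb : z * b = b * z := (hS b hbS).symm
  have hbb := Small.mul_self_of_orderOf_two hb
  set W := fix z b with hWdef
  set Y := invPart z b with hYdef
  have hsup := hG.core_le_sup hz hne hb hzb
  have hWfix : ∀ s ∈ (S : Subgroup G), ∀ w ∈ W, s * w * s⁻¹ = w := by
    intro s hs w hw
    rcases hact s hs with h | h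
    · exact h w hw.1
    · rw [h w hw.1, ← mem_centralizer_singleton_iff.1 hw.2, mul_inv_cancel_right]
  have hW : W = ⊥ := by
    refine hG.fix_eq_bot_of_normalized hz hmax hb hbz hzb (centralizer_le_normalizer_of_sup
      (fun c hc => hG.decomp hz hS hc) (hsup.trans (sup_le ?_ le_normalizer)) ?_)
    · exact le_trans (fun y hy => mem_centralizer_iff.2 fun w hw => hcon w hw y hy)
        (centralizer_le_normalizer _)
    · exact le_trans (fun s hs => mem_centralizer_iff.2 fun w hw =>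
        (mul_inv_eq_iff_eq_mul.1 (hWfix s hs w hw)).symm) (centralizer_le_normalizer _)
  have hUY : core z ≤ Y := by
    have h := hsup
    rwa [← hWdef, hW, sup_bot_eq] at h
  have hnot := hG.notMem_centralizer_core hz hmax hne hb hbz hzb hU
  refine hG.false_of_bsw hz S hzS hS (fun _ => ⟨hcyc, ?_⟩) ?_ ?_
  · -- `b` represents the other coset
    refine index_eq_two_iff.2 ⟨⟨b, hbS⟩, fun s => ?_⟩
    simp only [mem_subgroupOf, mem_inf, Subgroup.coe_mul, SetLike.coe_mem, mul_mem s.2 hbS,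
      true_and]
    by_cases hs : (s : G) ∈ centralizer (core z : Set G)
    · refine Or.inr ⟨hs, fun h => hnot ?_⟩
      simpa using mul_mem (inv_mem hs) h
    · refine Or.inl ⟨mem_centralizer_iff.2 fun u hu => ?_, hs⟩
      have h := (hact s s.2).resolve_left fun h => hs (mem_centralizer_iff.2 fun v hv =>
        (mul_inv_eq_iff_eq_mul.1 (h v hv)).symm)
      refine (mul_inv_eq_iff_eq_mul.1 ?_).symm
      rw [show (s : G) * b * u * ((s : G) * b)⁻¹ = (s : G) * (b * u * b⁻¹) * (s : G)⁻¹ by group,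
        h _ (core_conj (hG.sylow_le hS hbS) hu),
        show b * (b * u * b⁻¹) * b⁻¹ = (b * b) * u * (b * b)⁻¹ by group, hbb, one_mul, inv_one,
        mul_one]
  · intro s hs hsc u hu
    rcases hact s hs with h | h
    · exact absurd (mem_centralizer_iff.2 fun v hv => (mul_inv_eq_iff_eq_mul.1 (h v hv)).symm) hsc
    · rw [h u hu, invPart_inverted u (hUY hu)]
  · intro X hX hX0
    refine (hG.normalizer_eq_centralizer hmax hX0 hX (centralizer_le_normalizer_of_sup
      (fun c hc => hG.decomp hz hS hc) ?_ ?_)).le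
    · exact le_trans (fun u hu => mem_centralizer_iff.2 fun x hx =>
        invPart_comm z b x (hUY (hX hx)) u (hUY hu)) (centralizer_le_normalizer _)
    · intro s hs
      rw [mem_normalizer_iff_map_conj_eq]
      refine eq_of_le_of_card_ge ?_ (le_of_eq ?_)
      · rintro _ ⟨x, hx, rfl⟩
        show s * x * s⁻¹ ∈ X
        rcases hact s hs with h | h
        · rwa [h x (hX hx)]
        · rw [h x (hX hx), invPart_inverted x (hUY (hX hx))]
          exact inv_mem hx
      · rw [card_map_of_injective (MulEquiv.injective _)]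

/-- A linear twist, with a moved inverted element. -/
theorem exists_twist_lin {S : Sylow 2 G} (hzS : z ∈ (S : Subgroup G))
    (hS : ∀ s ∈ (S : Subgroup G), s * z = z * s) {b : G} (hb : orderOf b = 2) (hbz : z ≠ b)
    (hbS : b ∈ (S : Subgroup G)) (hU : core z ≠ ⊥)
    (hact : ∀ s ∈ (S : Subgroup G),
      (∀ u ∈ core z, s * u * s⁻¹ = u) ∨ ∀ u ∈ core z, s * u * s⁻¹ = b * u * b⁻¹)
    (hcyc : IsCyclic ((S : Subgroup G) ⊓ centralizer (core z : Set G) : Subgroup G)) :
    (∃ w ∈ core z, w ∈ normalizer (invPart z b : Set G) ∧ ∃ y ∈ invPart z b, w * y ≠ y * w) ∧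
      ∃ L : Tw.Lin z, (∀ c : centralizer ({z} : Set G), c * c = 1 → L c = 1) ∧
        ∃ v ∈ core z, Tw.lv L v ≠ 1 := by
  obtain ⟨w, hw, y, hy, hwy⟩ := hG.exists_moved hz hmax hne hzS hS hb hbz hbS hU hact hcyc
  have hbb := Small.mul_self_of_orderOf_two hb
  refine ⟨⟨w, hw.1, centralizer_le_normalizer_invPart z b (core_le z hw.1), y, hy, hwy⟩,
    exists_twist (Tw.frame_core hG hz) S (hG.sylow_le hS) (fun t ht => ?_)
      (centralizer_le_normalizer_invPart z b) (odd_invPart z b) invPart_inverted hw.1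
      fun h => hwy (mul_inv_eq_iff_eq_mul.1 (h y hy))⟩
  rcases hact t ht with h | h
  · exact Or.inl fun x hx => h x (invPart_le_core z b hx)
  · refine Or.inr fun x hx => ?_
    rw [show b * t * x * (b * t)⁻¹ = b * (t * x * t⁻¹) * b⁻¹ by group,
      h x (invPart_le_core z b hx),
      show b * (b * x * b⁻¹) * b⁻¹ = (b * b) * x * (b * b)⁻¹ by group, hbb, one_mul, inv_one,
      mul_one]

/-- Sylow order at least eight, rotations centralising the core. -/
theorem false_of_eight (hU : core z ≠ ⊥) (h8 : ∀ S : Sylow 2 G, 4 < Nat.card (S : Subgroup G))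
    (hσ : ∀ (P : Sylow 2 G) (σ τ : G) (h : ℕ), Inv54.DihedralBlock.Setup P σ τ h → σ ^ h = z →
      σ ∈ centralizer (core z : Set G)) : False := by
  classical
  haveI : Fintype G := Fintype.ofFinite G
  haveI := hG.simple
  obtain ⟨b, hb, hbz, hzb, -⟩ := hG.exists_bound hz
  obtain ⟨P, σ, τ, h, hSet, hσz, hτb⟩ := hG.exists_setup hz hb hbz hzb h8
  subst hτb
  have hσU := hσ P σ τ h hSet hσz
  have hzS : z ∈ (P : Subgroup G) := hσz ▸ hSet.J_mem
  have hS : ∀ s ∈ (P : Subgroup G), s * z = z * s := fun s hs => hσz ▸ hSet.J_central hs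
  have hσfix : ∀ i : ℕ, ∀ u ∈ core z, σ ^ i * u * (σ ^ i)⁻¹ = u := fun i u hu => by
    rw [mul_inv_eq_iff_eq_mul]
    exact (mem_centralizer_iff.1 (pow_mem hσU i) u hu).symm
  have hact : ∀ s ∈ (P : Subgroup G),
      (∀ u ∈ core z, s * u * s⁻¹ = u) ∨ ∀ u ∈ core z, s * u * s⁻¹ = τ * u * τ⁻¹ := by
    intro s hs
    obtain ⟨i, rfl | rfl⟩ := hSet.elems s hs
    · exact Or.inl (hσfix i)
    · exact Or.inr fun u hu => by
        rw [show τ * σ ^ i * u * (τ * σ ^ i)⁻¹ = τ * (σ ^ i * u * (σ ^ i)⁻¹) * τ⁻¹ by group,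
          hσfix i u hu]
  have hnot := hG.notMem_centralizer_core hz hmax hne hb hbz hzb hU
  have hK : (P : Subgroup G) ⊓ centralizer (core z : Set G) = zpowers σ := by
    refine le_antisymm (fun s hs => ?_) (zpowers_le.2 ⟨hSet.memσ, hσU⟩)
    obtain ⟨i, rfl | rfl⟩ := hSet.elems s hs.1
    · exact pow_mem (mem_zpowers σ) i
    · exact absurd (by
        simpa using (centralizer (core z : Set G)).mul_mem hs.2
          ((centralizer (core z : Set G)).inv_mem (pow_mem hσU i))) hnot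
  obtain ⟨⟨w, hwU, hwY, y, hy, hwy⟩, L, htriv, hLne⟩ := hG.exists_twist_lin hz hmax hne hzS hS hb
    hbz hSet.memτ hU hact (by rw [hK]; infer_instance)
  have hF := Tw.frame_core hG hz
  have hfus : Tw.Fused (core z) ({L} : Finset (Tw.Lin z)) := by
    refine hF.fused_of_cycles (fun x hx => hG.isConj hx hz) fun c hc hzc hzcc => ?_
    obtain ⟨g₀, hg1, hg2⟩ := hG.exists_cycle hz hc hzc hzcc
    obtain ⟨P', σ', τ', h', hSet', hσz', hτ'⟩ := hG.exists_setup hz hc hzc hzcc h8
    subst hτ'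
    have hsU := pow_mem (hσ P' σ' τ' h' hSet' hσz') (h' / 2)
    obtain ⟨j, hj⟩ := hSet'.pow2
    have hh2 : h' / 2 + h' / 2 = h' := by
      have := hSet'.two_le
      rcases j with _ | j
      · rw [pow_zero] at hj; omega
      · rw [pow_succ] at hj; omega
    set s := σ' ^ (h' / 2) with hs
    have hsz : s * z * s⁻¹ = z := by
      rw [← hσz', mul_inv_eq_iff_eq_mul, hs, ← pow_add, ← pow_add, add_comm]
    have hsc : s * τ' * s⁻¹ = z * τ' := by
      have h1 : τ' * s⁻¹ = s * τ' := by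
        have := hSet'.inverts (h' / 2)
        rw [← hs] at this
        calc τ' * s⁻¹ = τ' * (τ' * s * τ'⁻¹) := by rw [this]
          _ = (τ' * τ') * s * τ'⁻¹ := by group
          _ = s * τ' := by
            rw [Small.mul_self_of_orderOf_two hc, one_mul, Small.inv_eq_self_of_orderOf_two hc]
      rw [mul_assoc, h1, ← mul_assoc, hs, ← pow_add, hh2, hσz']
    have hτc := Small.mul_self_of_orderOf_two hc
    have hzz := Small.mul_self_of_orderOf_two hz
    have e0 : g₀⁻¹ * z * g₀ = z * τ' := by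
      have h3 : g₀ * (z * τ') * g₀⁻¹ = z := by
        rw [show g₀ * (z * τ') * g₀⁻¹ = g₀ * z * g₀⁻¹ * (g₀ * τ' * g₀⁻¹) by group, hg1, hg2,
          hzcc, ← mul_assoc, hτc, one_mul]
      conv_lhs => rw [← h3]
      group
    refine ⟨s * (g₀ * s * g₀⁻¹), ?_, fun u hu huc => ?_⟩
    · have e2 : g₀ * s * g₀⁻¹ * z * (g₀ * s * g₀⁻¹)⁻¹ = z * τ' := by
        rw [show g₀ * s * g₀⁻¹ * z * (g₀ * s * g₀⁻¹)⁻¹ =
          g₀ * (s * (g₀⁻¹ * z * g₀) * s⁻¹) * g₀⁻¹ by group, e0,
          show s * (z * τ') * s⁻¹ = s * z * s⁻¹ * (s * τ' * s⁻¹) by group, hsz, hsc,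
          show z * (z * τ') = τ' by rw [← mul_assoc, hzz, one_mul], hg2]
      rw [show s * (g₀ * s * g₀⁻¹) * z * (s * (g₀ * s * g₀⁻¹))⁻¹ =
        s * (g₀ * s * g₀⁻¹ * z * (g₀ * s * g₀⁻¹)⁻¹) * s⁻¹ by group, e2,
        show s * (z * τ') * s⁻¹ = s * z * s⁻¹ * (s * τ' * s⁻¹) by group, hsz, hsc,
        ← mul_assoc, hzz, one_mul]
    · have hgn := hG.cycle_mem_normalizer_fix hz hg1 hg2
      have hu' : u ∈ fix z τ' := ⟨hu, mem_centralizer_singleton_iff.2 huc⟩
      have hw' : g₀⁻¹ * u * g₀ ∈ core z := by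
        have := ((mem_normalizer_iff.1 (inv_mem hgn) u).1 hu').1
        simpa using this
      have h1 := mem_centralizer_iff.1 hsU _ hw'
      have h2 := mem_centralizer_iff.1 hsU u hu
      congr 1
      have h3 : g₀ * s * g₀⁻¹ * u = u * (g₀ * s * g₀⁻¹) := by
        calc g₀ * s * g₀⁻¹ * u = g₀ * (s * (g₀⁻¹ * u * g₀)) * g₀⁻¹ := by group
          _ = g₀ * ((g₀⁻¹ * u * g₀) * s) * g₀⁻¹ := by rw [h1]
          _ = u * (g₀ * s * g₀⁻¹) := by group
      calc (s * (g₀ * s * g₀⁻¹))⁻¹ * u * (s * (g₀ * s * g₀⁻¹))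
          = (g₀ * s * g₀⁻¹)⁻¹ * (s⁻¹ * (u * s)) * (g₀ * s * g₀⁻¹) := by group
        _ = (g₀ * s * g₀⁻¹)⁻¹ * (s⁻¹ * (s * u)) * (g₀ * s * g₀⁻¹) := by rw [h2]
        _ = (g₀ * s * g₀⁻¹)⁻¹ * (u * (g₀ * s * g₀⁻¹)) := by group
        _ = u := by rw [← h3]; group
  obtain ⟨j, hj⟩ := hSet.pow2
  have hord : orderOf σ = 2 ^ (j + 1) := by rw [hSet.ordσ, hj, pow_succ]; ring
  have hzσ : z ∈ zpowers σ := hσz ▸ pow_mem (mem_zpowers σ) h
  obtain ⟨hindex, φ, hφ, hn, hφ1⟩ := hF.exists_test_dihedral (hG.sylow_le hS) hSet.memσ hSet.memτ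
    (Nat.succ_pos j) hord hSet.ordτ hSet.rel hSet.notMem hzσ
    (fun c hc => hG.decomp hz hS hc) (by rw [hSet.card_P, hj, pow_succ]; ring)
  obtain ⟨M, hM⟩ := exists_modular_two
  haveI : M.IsPrime := Blocks.IsPModular.isPrime hM
  haveI := Fintype.ofFinite (invPart z τ)
  have hτC : τ ∈ centralizer ({z} : Set G) := hG.sylow_le hS hSet.memτ
  have hbig : ∀ Θ : Finset (Tw.Lin z), Tw.Big (invPart z τ) Θ 6 := fun Θ =>
    hF.big_moved (invPart_le_core z τ) (invPart_comm z τ) hτC invPart_inverted hwU hwY hy hwy Θ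
  exact hF.twist_false hM L htriv hLne hfus hord hzσ hindex (invPart z τ) (invPart_le_core z τ)
    (fun x hx => mem_centralizer_iff.1 hσU x (invPart_le_core z τ hx))
    (show 5 ≤ 6 by norm_num) (hbig _) (hbig _) hφ hn hφ1

/-- Sylow order four. -/
theorem false_of_four (hU : core z ≠ ⊥) (h4 : ∀ S : Sylow 2 G, Nat.card (S : Subgroup G) = 4) :
    False := by
  classical
  haveI : Fact (Nat.Prime 2) := ⟨Nat.prime_two⟩
  haveI : Fintype G := Fintype.ofFinite G
  haveI := hG.simple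
  obtain ⟨b, hb, hbz, hzb, -⟩ := hG.exists_bound hz
  have hzz := Small.mul_self_of_orderOf_two hz
  have hbb := Small.mul_self_of_orderOf_two hb
  obtain ⟨hV, hcases⟩ := hG.four_spec hz hb hbz hzb
  obtain ⟨hV4, -⟩ := TwoGroups.isKleinFour_iff.1 hV
  obtain ⟨S, hVS, hzS, hS⟩ := hG.exists_sylow_ge hz (IsPGroup.of_card (n := 2) (by rw [hV4]; rfl))
    (fun v hv => mem_centralizer_singleton_iff.2
      (TwoGroups.klein_mul_comm hV hv (subset_closure (by simp))))
  have hbS : b ∈ (S : Subgroup G) := hVS (subset_closure (by simp))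
  have hSV : closure ({z, b} : Set G) = (S : Subgroup G) :=
    eq_of_le_of_card_ge hVS (by rw [h4 S, hV4])
  have hSel : ∀ s ∈ (S : Subgroup G), s = 1 ∨ s = z ∨ s = b ∨ s = z * b :=
    fun s hs => hcases s (hSV ▸ hs)
  have hzfix : ∀ u ∈ core z, z * u * z⁻¹ = u := fun u hu => by
    rw [← commute_of_mem_core hu, mul_inv_cancel_right]
  have hact : ∀ s ∈ (S : Subgroup G),
      (∀ u ∈ core z, s * u * s⁻¹ = u) ∨ ∀ u ∈ core z, s * u * s⁻¹ = b * u * b⁻¹ := by
    intro s hs
    rcases hSel s hs with rfl | rfl | rfl | rfl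
    · exact Or.inl fun u _ => by simp
    · exact Or.inl hzfix
    · exact Or.inr fun u _ => rfl
    · exact Or.inr fun u hu => by
        rw [show z * b * u * (z * b)⁻¹ = z * (b * u * b⁻¹) * z⁻¹ by group,
          hzfix _ (core_conj (hG.sylow_le hS hbS) hu)]
  have hnot := hG.notMem_centralizer_core hz hmax hne hb hbz hzb hU
  have hzK : z ∈ centralizer (core z : Set G) :=
    mem_centralizer_iff.2 fun u hu => commute_of_mem_core hu
  have hK : (S : Subgroup G) ⊓ centralizer (core z : Set G) = zpowers z := by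
    refine le_antisymm (fun s hs => ?_) (zpowers_le.2 ⟨hzS, hzK⟩)
    rcases hSel s hs.1 with rfl | rfl | rfl | rfl
    · exact one_mem _
    · exact mem_zpowers _
    · exact absurd hs.2 hnot
    · exact absurd (by simpa using mul_mem (inv_mem hzK) hs.2) hnot
  obtain ⟨⟨w, hwU, hwY, y, hy, hwy⟩, L, htriv, hLne⟩ := hG.exists_twist_lin hz hmax hne hzS hS hb
    hbz hbS hU hact (by rw [hK]; infer_instance)
  set Y := invPart z b with hYdef
  set W := fix z b with hWdef
  have hF := Tw.frame_core hG hz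
  have hYC : ∀ x ∈ Y, x ∈ centralizer ({z} : Set G) := fun x hx =>
    core_le z (invPart_le_core z b hx)
  have hWC : W ≤ centralizer ({z} : Set G) := (fix_le_core z b).trans (core_le z)
  have hbC : b ∈ centralizer ({z} : Set G) := hG.sylow_le hS hbS
  have hzC : z ∈ centralizer ({z} : Set G) := mem_centralizer_singleton_iff.2 rfl
  -- every involution of `C` other than `z` is conjugate to `b` or `z * b`
  obtain ⟨g, hg1, hg2⟩ := hG.exists_cycle hz hb hbz hzb
  have hgn := hG.cycle_mem_normalizer_fix hz hg1 hg2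
  have hg3 : g⁻¹ * z * g = z * b := by
    have h3 : g * (z * b) * g⁻¹ = z := by
      rw [show g * (z * b) * g⁻¹ = g * z * g⁻¹ * (g * b * g⁻¹) by group, hg1, hg2,
        hzb, ← mul_assoc, hbb, one_mul]
    conv_lhs => rw [← h3]
    group
  have hgW : ∀ u ∈ W, g * u * g⁻¹ ∈ W := fun u hu => (mem_normalizer_iff.1 hgn u).1 hu
  have hgW' : ∀ u ∈ W, g⁻¹ * u * g ∈ W := fun u hu => by
    simpa using (mem_normalizer_iff.1 (inv_mem hgn) u).1 hu
  have hconj : ∀ Θ : Finset (Tw.Lin z),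
      (∀ u ∈ W, Tw.asum Θ (g * u * g⁻¹) = Tw.asum Θ u) → Tw.Fused (core z) Θ := by
    intro Θ hΘ
    refine hF.fused_of_cycles (fun x hx => hG.isConj hx hz) fun c hc hzc hzcc => ?_
    obtain ⟨d, hd, hdS⟩ := exists_conj_mem_sylow S (hG.sylow_le hS)
      (mem_centralizer_singleton_iff.2 hzcc.symm) ⟨1, by rw [hc, pow_one]⟩
    have hdz : d⁻¹ * z * d = z := by
      rw [mul_assoc, ← mem_centralizer_singleton_iff.1 hd, inv_mul_cancel_left]
    -- the cycling element for the conjugate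
    obtain ⟨g', hg'z, hg'W⟩ : ∃ g' : G, g' * z * g'⁻¹ = d * c * d⁻¹ ∧ (g' = g ∨ g' = g⁻¹) := by
      rcases hSel _ hdS with h1 | h1 | h1 | h1
      · exact absurd (conj_eq_one_iff.1 h1) (Small.ne_one_of_orderOf_two hc)
      · refine absurd ?_ hzc
        rw [show c = d⁻¹ * (d * c * d⁻¹) * d by group, h1, hdz]
      · exact ⟨g, by rw [hg1, h1], Or.inl rfl⟩
      · exact ⟨g⁻¹, by rw [inv_inv, hg3, h1], Or.inr rfl⟩
    refine ⟨d⁻¹ * g' * d, ?_, fun u hu huc => ?_⟩
    · have hdz' : d * z * d⁻¹ = z := by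
        rw [mem_centralizer_singleton_iff.1 hd, mul_inv_cancel_right]
      rw [show d⁻¹ * g' * d * z * (d⁻¹ * g' * d)⁻¹ =
        d⁻¹ * (g' * (d * z * d⁻¹) * g'⁻¹) * d by group, hdz', hg'z]
      group
    · have hdU : d * u * d⁻¹ ∈ core z := core_conj hd hu
      have hdc : d * u * d⁻¹ * (d * c * d⁻¹) = d * c * d⁻¹ * (d * u * d⁻¹) := by
        rw [show d * u * d⁻¹ * (d * c * d⁻¹) = d * (u * c) * d⁻¹ by group, huc]
        group
      have hvW : d * u * d⁻¹ ∈ W := by
        refine ⟨hdU, mem_centralizer_singleton_iff.2 ?_⟩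
        rcases hSel _ hdS with h1 | h1 | h1 | h1
        · exact absurd (conj_eq_one_iff.1 h1) (Small.ne_one_of_orderOf_two hc)
        · refine absurd ?_ hzc
          rw [show c = d⁻¹ * (d * c * d⁻¹) * d by group, h1, hdz]
        · rwa [h1] at hdc
        · rw [h1] at hdc
          calc d * u * d⁻¹ * b = d * u * d⁻¹ * (z * (z * b)) := by rw [← mul_assoc z, hzz, one_mul]
            _ = d * u * d⁻¹ * z * (z * b) := by group
            _ = z * (d * u * d⁻¹) * (z * b) := by rw [commute_of_mem_core hdU]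
            _ = z * (z * b * (d * u * d⁻¹)) := by rw [mul_assoc, hdc]
            _ = (z * z) * b * (d * u * d⁻¹) := by group
            _ = b * (d * u * d⁻¹) := by rw [hzz, one_mul]
      have hg'u : g'⁻¹ * (d * u * d⁻¹) * g' ∈ W ∧
          Tw.asum Θ (g'⁻¹ * (d * u * d⁻¹) * g') = Tw.asum Θ (d * u * d⁻¹) := by
        rcases hg'W with rfl | rfl
        · refine ⟨hgW' _ hvW, ?_⟩
          have := hΘ _ (hgW' _ hvW)
          rw [show g' * (g'⁻¹ * (d * u * d⁻¹) * g') * g'⁻¹ = d * u * d⁻¹ by group] at this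
          exact this.symm
        · rw [inv_inv]
          exact ⟨hgW _ hvW, hΘ _ hvW⟩
      rw [show (d⁻¹ * g' * d)⁻¹ * u * (d⁻¹ * g' * d) =
        d⁻¹ * (g'⁻¹ * (d * u * d⁻¹) * g') * (d⁻¹)⁻¹ by group,
        Tw.asum_conj (inv_mem hd) (hWC hg'u.1), hg'u.2, Tw.asum_conj hd (core_le z hu)]
  -- the test function
  have hzord : orderOf z = 2 ^ 1 := by rw [hz, pow_one]
  have hrel : b * z * b⁻¹ = z⁻¹ := by
    rw [← hzb, mul_inv_cancel_right, Small.inv_eq_self_of_orderOf_two hz]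
  have hnmem : b ∉ zpowers z := fun h => hbz
    (Tw.invol_unique hz hb (mem_zpowers z) h)
  obtain ⟨M, hM⟩ := exists_modular_two
  haveI : M.IsPrime := Blocks.IsPModular.isPrime hM
  haveI := Fintype.ofFinite Y
  have hbig : ∀ Θ : Finset (Tw.Lin z), Tw.Big Y Θ 6 := fun Θ =>
    hF.big_moved (invPart_le_core z b) (invPart_comm z b) hbC invPart_inverted hwU hwY hy hwy Θ
  obtain ⟨hindex, φ₀, hφ₀, hn₀, hφ₀1⟩ := hF.exists_test_dihedral (hG.sylow_le hS) hzS hbS le_rfl
    hzord hb hrel hnmem (mem_zpowers z) (fun c hc => hG.decomp hz hS hc) (by rw [h4 S]; rfl)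
  by_cases hinv : ∀ u ∈ W, Tw.lv L (g * u * g⁻¹) = Tw.lv L u
  · exact hF.twist_false hM L htriv hLne
      (hconj _ fun u hu => by simpa [Tw.asum] using hinv u hu) hzord (mem_zpowers z) hindex Y
      (invPart_le_core z b)
      (fun x hx => mem_centralizer_singleton_iff.1 (hYC x hx))
      (show 5 ≤ 6 by norm_num) (hbig _) (hbig _) hφ₀ hn₀ hφ₀1
  push Not at hinv
  -- the retraction on the fixed part
  set C := centralizer ({z} : Set G)
  set K : Subgroup G := Y ⊔ (S : Subgroup G) with hKdef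
  have hSC : (S : Subgroup G) ≤ C := hG.sylow_le hS
  have hKC : K ≤ C := sup_le hYC hSC
  have hSfixW : ∀ s ∈ (S : Subgroup G), ∀ u ∈ W, s * u * s⁻¹ = u := by
    intro s hs u hu
    rcases hact s hs with h | h
    · exact h u hu.1
    · rw [h u hu.1, ← mem_centralizer_singleton_iff.1 hu.2, mul_inv_cancel_right]
  have hYnorm := centralizer_le_normalizer_invPart z b
  have hCWK : C ≤ W ⊔ K := by
    intro c hc
    obtain ⟨u, hu, s, hs, rfl⟩ := hG.decomp hz hS hc
    refine mul_mem ?_ (mem_sup_right (mem_sup_right hs))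
    exact (sup_le (le_sup_left.trans le_sup_right) le_sup_left : Y ⊔ W ≤ W ⊔ K)
      (hG.core_le_sup hz hne hb hzb hu)
  have hCK : C ≤ normalizer (K : Set G) := hCWK.trans (sup_le
    (le_trans (le_inf (hWC.trans hYnorm) (le_trans (fun u hu => mem_centralizer_iff.2 fun s hs =>
      mul_inv_eq_iff_eq_mul.1 (hSfixW s hs u hu)) (centralizer_le_normalizer _)))
      (normalizer_inf_normalizer_le_normalizer_sup (H := Y) (K := (S : Subgroup G))))
    le_normalizer)
  have hYSd : Y ⊓ (S : Subgroup G) = ⊥ := (eq_bot_iff_forall _).2 fun x hx =>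
    orderOf_eq_one_iff.1 (Nat.eq_one_of_dvd_coprimes
      ((Nat.coprime_two_right.2 (odd_core z)).pow_right 2) ((core z).orderOf_dvd_natCard
        (invPart_le_core z b hx.1))
      (((S : Subgroup G).orderOf_dvd_natCard hx.2).trans (dvd_of_eq (by rw [h4 S]))))
  have hWY : W ⊓ K = ⊥ := (eq_bot_iff_forall _).2 fun x hx => by
    obtain ⟨-, hmem⟩ := Tw.card_sup_normalized (hSC.trans hYnorm) hYSd
    obtain ⟨y', hy', s, hs, e⟩ := hmem x hx.2
    have hs1 : s = 1 := by
      have hsU : s ∈ core z := by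
        have := mul_mem (inv_mem (invPart_le_core z b hy')) hx.1.1
        rwa [e, inv_mul_cancel_left] at this
      exact orderOf_eq_one_iff.1 (Nat.eq_one_of_dvd_coprimes
        ((Nat.coprime_two_right.2 (odd_core z)).pow_right 2) ((core z).orderOf_dvd_natCard hsU)
        (((S : Subgroup G).orderOf_dvd_natCard hs).trans (dvd_of_eq (by rw [h4 S]))))
    rw [hs1, mul_one] at e
    refine eq_one_of_odd_eq_inv (odd_orderOf_core hx.1.1) ?_
    conv_lhs => rw [← mul_inv_cancel_right x b, mem_centralizer_singleton_iff.1 hx.1.2]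
    rw [e, invPart_inverted y' hy']
  haveI : (K.subgroupOf C).Normal := ⟨fun x hx c => mem_subgroupOf.2 (by
    push_cast
    exact (mem_normalizer_iff.1 (hCK c.2) x).1 (mem_subgroupOf.1 hx))⟩
  have hcompl : (K.subgroupOf C).IsComplement' (W.subgroupOf C) := by
    refine isComplement'_of_disjoint_and_mul_eq_univ ?_ ?_
    · rw [disjoint_iff, eq_bot_iff_forall]
      intro x hx
      exact Subtype.ext ((eq_bot_iff_forall _).1 hWY x
        ⟨mem_subgroupOf.1 hx.2, mem_subgroupOf.1 hx.1⟩)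
    · rw [← normal_mul, ← subgroupOf_sup hKC hWC, sup_comm K W, subgroupOf_eq_top.2 hCWK, coe_top]
  let π : C →* W := (subgroupOfEquivOfLe hWC).toMonoidHom.comp
    (hcompl.symm.QuotientMulEquiv.toMonoidHom.comp (QuotientGroup.mk' (K.subgroupOf C)))
  have hπK : ∀ c : C, (c : G) ∈ K → π c = 1 := fun c hc => by
    show subgroupOfEquivOfLe hWC (hcompl.symm.QuotientMulEquiv (QuotientGroup.mk c)) = 1
    rw [(QuotientGroup.eq_one_iff c).2 (mem_subgroupOf.2 hc), map_one, map_one]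
  have hπW : ∀ u (hu : u ∈ W), π ⟨u, hWC hu⟩ = ⟨u, hu⟩ := fun u hu => by
    show subgroupOfEquivOfLe hWC
      (hcompl.symm.QuotientMulEquiv (QuotientGroup.mk ⟨u, hWC hu⟩)) = ⟨u, hu⟩
    rw [show (QuotientGroup.mk (⟨u, hWC hu⟩ : C) : C ⧸ K.subgroupOf C) =
        hcompl.symm.QuotientMulEquiv.symm ⟨⟨u, hWC hu⟩, mem_subgroupOf.2 hu⟩ from rfl,
      MulEquiv.apply_symm_apply]
    rfl
  -- the orbit
  have hgiW : ∀ i : ℕ, ∀ u ∈ W, g ^ i * u * (g ^ i)⁻¹ ∈ W := fun i u hu =>
    (mem_normalizer_iff.1 (pow_mem hgn i) u).1 hu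
  let L₀ : W →* ℂˣ := L.comp (inclusion hWC)
  let cg : ℕ → W →* W := fun i =>
    { toFun := fun u => ⟨g ^ i * (u : G) * (g ^ i)⁻¹, hgiW i u u.2⟩
      map_one' := Subtype.ext (by simp)
      map_mul' := fun u v => Subtype.ext (by
        show g ^ i * ((u : G) * v) * (g ^ i)⁻¹ =
          g ^ i * u * (g ^ i)⁻¹ * (g ^ i * v * (g ^ i)⁻¹)
        group) }
  let Ls : Fin 3 → Tw.Lin z := fun i => (L₀.comp (cg i)).comp π
  have hval' : ∀ (i : Fin 3) u, ∀ hu : u ∈ W,
      Tw.lv (Ls i) u = Tw.lv L (g ^ (i : ℕ) * u * (g ^ (i : ℕ))⁻¹) := fun i u hu => by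
    rw [Tw.lv_of_mem _ (hWC hu), Tw.lv_of_mem _ (hWC (hgiW i u hu))]
    show ((L₀ (cg i (π ⟨u, hWC hu⟩)) : ℂˣ) : ℂ) = _
    rw [hπW u hu]
    rfl
  have hg3W : ∀ u ∈ W, Tw.lv L (g ^ 3 * u * (g ^ 3)⁻¹) = Tw.lv L u := by
    intro u hu
    have hgzb : g * (z * b) * g⁻¹ = z := by
      rw [← hg3]
      group
    have e1 : g ^ 3 * z * (g ^ 3)⁻¹ = z := by
      rw [show g ^ 3 * z * (g ^ 3)⁻¹ = g * (g * (g * z * g⁻¹) * g⁻¹) * g⁻¹ by
        simp only [pow_succ, pow_zero, one_mul, mul_inv_rev, mul_assoc], hg1, hg2, hgzb]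
    rw [Tw.lv_conj L (mem_centralizer_singleton_iff.2 (mul_inv_eq_iff_eq_mul.1 e1)) (hWC hu)]
  have hLsS : ∀ (i : Fin 3) (s : G) (hs : s ∈ C), s ∈ K → Ls i ⟨s, hs⟩ = 1 := fun i s hs hsK => by
    show L₀ (cg i (π ⟨s, hs⟩)) = 1
    rw [hπK _ hsK, map_one, map_one]
  have hzK' : z ∈ K := mem_sup_right hzS
  have hzLs : ∀ i, Tw.lv (Ls i) z = 1 := fun i => by
    rw [Tw.lv_of_mem _ hzC, hLsS i z hzC hzK', Units.val_one]
  -- an element of square one is killed
  have htriv' : ∀ c : C, c * c = 1 → Ls 0 c = 1 := by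
    intro c hc
    show L₀ (cg _ (π c)) = 1
    have h1 : π c = 1 := by
      apply Subtype.ext
      refine eq_one_of_odd_eq_inv (odd_orderOf_core (π c).2.1) ?_
      have h2 : π c * π c = 1 := by rw [← map_mul, hc, map_one]
      exact congrArg Subtype.val (eq_inv_of_mul_eq_one_left h2)
    rw [h1, map_one, map_one]
  have hmoved : ∃ u ∈ W, Tw.lv L u ≠ 1 := by
    obtain ⟨u, hu, hne'⟩ := hinv
    by_contra hall
    push Not at hall
    exact hne' (by rw [hall _ (hgW u hu), hall u hu])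
  have hLne' : ∃ u ∈ core z, Tw.lv (Ls 0) u ≠ 1 := by
    obtain ⟨u, hu, hne'⟩ := hmoved
    refine ⟨u, hu.1, ?_⟩
    rw [hval' 0 u hu]
    simpa using hne'
  have hper : ∀ d, (d = 1 ∨ d = 2) → ∃ u ∈ W, Tw.lv L (g ^ d * u * (g ^ d)⁻¹) ≠ Tw.lv L u := by
    rintro d (rfl | rfl)
    · simpa using hinv
    · obtain ⟨u, hu, hne'⟩ := hinv
      by_contra hall
      push Not at hall
      refine hne' ?_
      have h1 := hall _ (hgW u hu)
      rw [show g ^ 2 * (g * u * g⁻¹) * (g ^ 2)⁻¹ = g ^ 3 * u * (g ^ 3)⁻¹ by group, hg3W u hu] at h1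
      exact h1.symm
  have hWd : ∀ i j : Fin 3, i ≠ j → ∃ u ∈ W, Tw.lv (Ls i) u ≠ Tw.lv (Ls j) u := by
    have key : ∀ i j : Fin 3, (i : ℕ) < j → ∃ u ∈ W, Tw.lv (Ls i) u ≠ Tw.lv (Ls j) u := by
      intro i j hij
      obtain ⟨u, hu, hne'⟩ := hper ((j : ℕ) - i) (by omega)
      refine ⟨(g ^ (i : ℕ))⁻¹ * u * g ^ (i : ℕ), ?_, ?_⟩
      · simpa using (mem_normalizer_iff.1 (inv_mem (pow_mem hgn (i : ℕ))) u).1 hu
      · rw [hval' _ _ (by simpa using (mem_normalizer_iff.1 (inv_mem (pow_mem hgn (i : ℕ))) u).1 hu),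
          hval' _ _ (by simpa using (mem_normalizer_iff.1 (inv_mem (pow_mem hgn (i : ℕ))) u).1 hu)]
        have e1 : g ^ (i : ℕ) * ((g ^ (i : ℕ))⁻¹ * u * g ^ (i : ℕ)) * (g ^ (i : ℕ))⁻¹ = u := by
          group
        have e2 : g ^ (j : ℕ) * ((g ^ (i : ℕ))⁻¹ * u * g ^ (i : ℕ)) * (g ^ (j : ℕ))⁻¹ =
            g ^ ((j : ℕ) - i) * u * (g ^ ((j : ℕ) - i))⁻¹ := by
          obtain ⟨d, hd⟩ : ∃ d, (j : ℕ) = d + i := ⟨(j : ℕ) - i, by omega⟩
          rw [hd, Nat.add_sub_cancel, pow_add]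
          group
        rw [e1, e2]
        exact hne'.symm
    intro i j hij
    rcases Nat.lt_or_gt_of_ne (fun h => hij (Fin.ext h)) with h | h
    · exact key i j h
    · obtain ⟨u, hu, hne'⟩ := key j i h
      exact ⟨u, hu, hne'.symm⟩
  have hsum : ∀ u ∈ W, Tw.asum (Finset.univ.image Ls) u =
      Tw.lv L u + Tw.lv L (g * u * g⁻¹) + Tw.lv L (g ^ 2 * u * (g ^ 2)⁻¹) := by
    intro u hu
    rw [Tw.asum, Finset.sum_image fun i _ j _ e => by
      by_contra hij
      obtain ⟨v, -, hv⟩ := hWd i j hij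
      exact hv (by rw [e]), Fin.sum_univ_three, hval' 0 u hu, hval' 1 u hu, hval' 2 u hu]
    simp
  have hfus : Tw.Fused (core z) (Finset.univ.image Ls) := by
    refine hconj _ fun u hu => ?_
    rw [hsum _ (hgW u hu), hsum u hu, show g * (g * u * g⁻¹) * g⁻¹ = g ^ 2 * u * (g ^ 2)⁻¹ by rw [pow_two]; group,
      show g ^ 2 * (g * u * g⁻¹) * (g ^ 2)⁻¹ = g ^ 3 * u * (g ^ 3)⁻¹ by group, hg3W u hu]
    ring
  haveI := Fintype.ofFinite W
  have hWeq : ∀ (f : G → ℂ), Cfsg.IsClassFunction G f → ∀ i j,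
      Cfsg.classInner (fun v : W => f v) (fun v : W => Tw.lv (Ls i) (v : G)) =
      Cfsg.classInner (fun v : W => f v) (fun v : W => Tw.lv (Ls j) (v : G)) := by
    intro f hf
    have key : ∀ i : Fin 3, Cfsg.classInner (fun v : W => f v) (fun v : W => Tw.lv (Ls i) (v : G)) =
        Cfsg.classInner (fun v : W => f v) (fun v : W => Tw.lv L (v : G)) := by
      intro i
      rw [Cfsg.classInner, Cfsg.classInner]
      congr 1
      let e : W ≃ W :=
        { toFun := fun v => cg i v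
          invFun := fun v => ⟨(g ^ (i : ℕ))⁻¹ * v * g ^ (i : ℕ), by
            simpa using (mem_normalizer_iff.1 (inv_mem (pow_mem hgn (i : ℕ))) v).1 v.2⟩
          left_inv := fun v => Subtype.ext (by
            show (g ^ (i : ℕ))⁻¹ * (g ^ (i : ℕ) * (v : G) * (g ^ (i : ℕ))⁻¹) * g ^ (i : ℕ) = v
            group)
          right_inv := fun v => Subtype.ext (by
            show g ^ (i : ℕ) * ((g ^ (i : ℕ))⁻¹ * (v : G) * g ^ (i : ℕ)) * (g ^ (i : ℕ))⁻¹ = v
            group) }
      refine Fintype.sum_equiv e _ _ fun v => ?_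
      show f (v : G) * _ = f (g ^ (i : ℕ) * (v : G) * (g ^ (i : ℕ))⁻¹) *
        starRingEnd ℂ (Tw.lv L (g ^ (i : ℕ) * (v : G) * (g ^ (i : ℕ))⁻¹))
      rw [hval' i v v.2, hf]
    exact fun i j => (key i).trans (key j).symm
  -- the coset of `z`
  have hdisjU : ∀ s ∈ (S : Subgroup G), s ∈ core z → s = 1 := fun s hs hsU =>
    orderOf_eq_one_iff.1 (Nat.eq_one_of_dvd_coprimes
      ((Nat.coprime_two_right.2 (odd_core z)).pow_right 2) ((core z).orderOf_dvd_natCard hsU)
      (((S : Subgroup G).orderOf_dvd_natCard hs).trans (dvd_of_eq (by rw [h4 S]))))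
  have hU4 : ∀ t, orderOf t = 2 → t ∈ (S : Subgroup G) →
      Nat.card (core z ⊔ zpowers t : Subgroup G) = 2 * Nat.card (core z) ∧
      ∀ x ∈ core z ⊔ zpowers t, ∃ u ∈ core z, x = u ∨ x = u * t := by
    intro t ht htS
    have hd : core z ⊓ zpowers t = ⊥ := (eq_bot_iff_forall _).2 fun x hx =>
      hdisjU x (zpowers_le.2 htS hx.2) hx.1
    obtain ⟨hcard, hmem⟩ := Tw.card_sup_normalized
      (zpowers_le.2 (centralizer_le_normalizer_core z (hSC htS))) hd
    refine ⟨by rw [hcard, Nat.card_zpowers, ht, mul_comm], fun x hx => ?_⟩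
    obtain ⟨u, hu, s, ⟨k, rfl⟩, rfl⟩ := hmem x hx
    refine ⟨u, hu, ?_⟩
    have h2 := Small.mul_self_of_orderOf_two ht
    rcases Int.even_or_odd k with ⟨j, rfl⟩ | ⟨j, rfl⟩
    · left; simp only [← two_mul, zpow_mul, zpow_two, h2, one_zpow, mul_one]
    · right; simp only [zpow_add_one, zpow_mul, zpow_two, h2, one_zpow, one_mul]
  obtain ⟨hc1, hm1⟩ := hU4 z hz hzS
  obtain ⟨hc2, hm2⟩ := hU4 b hb hbS
  have hz2 : z ∉ core z ⊔ zpowers b := fun h => by
    obtain ⟨u, hu, e | e⟩ := hm2 z h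
    · exact Small.ne_one_of_orderOf_two hz (hdisjU z hzS (e ▸ hu))
    · have h0 : z * b = u := by
        conv_lhs => rw [e, mul_assoc, hbb, mul_one]
      have h1 : z * b ∈ core z := by rw [h0]; exact hu
      have := hdisjU _ (mul_mem hzS hbS) h1
      exact hbz (by rw [eq_comm, ← mul_right_inj z, this, hzz])
  have hdset : ∀ x ∈ core z ⊔ zpowers z, x ∉ core z → x ∈ Tw.dset z := fun x hx hxU => by
    obtain ⟨u, hu, e | e⟩ := hm1 x hx
    · exact absurd (e ▸ hu) hxU
    · rw [e, commute_of_mem_core hu]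
      exact hF.dset_mul (mem_zpowers z) hu
  obtain ⟨φ, hφ, hn, hφ1, hφv⟩ := hF.exists_test (H1 := core z ⊔ zpowers z)
    (H2 := core z ⊔ zpowers b) (sup_le (core_le z) (zpowers_le.2 hzC))
    (sup_le (core_le z) (zpowers_le.2 hbC)) (by rw [hindex, hc1]; ring) (by rw [hindex, hc2]; ring)
    le_sup_left le_sup_left ⟨z, mem_sup_right (mem_zpowers z), hz2⟩
    (fun x hx hx2 => hdset x hx fun h => hx2 (mem_sup_left h))
  have hvalφ : ∀ c : C, φ c = if z * (c : G) ∈ core z then 4 else 0 := by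
    intro c
    rw [hφv]
    refine if_congr ⟨fun h => ?_, fun h => ⟨?_, fun h2 => hz2 ?_⟩⟩ rfl rfl
    · obtain ⟨u, hu, e | e⟩ := hm1 _ h.1
      · exact absurd (mem_sup_left (e ▸ hu)) h.2
      · rw [e, commute_of_mem_core hu, ← mul_assoc, hzz, one_mul]
        exact hu
    · have := mul_mem (mem_sup_right (mem_zpowers z) : z ∈ core z ⊔ zpowers z) (mem_sup_left h)
      rwa [← mul_assoc, hzz, one_mul] at this
    · have := mul_mem (mem_sup_left h : z * (c : G) ∈ core z ⊔ zpowers b) (inv_mem h2)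
      rwa [mul_inv_cancel_right] at this
  exact hF.orbit_false hM Ls htriv' hzLs hLne' hfus W (fix_le_core z b) hWd hWeq
    (by rw [hindex]; ring) Y (invPart_le_core z b) (hbig _) (hbig _) hφ hn hφ1 hvalφ

/-- The conclusion of 4.2, rotations centralising the core. -/
theorem false_of_noEscape_centralizing
    (hσ : ∀ (P : Sylow 2 G) (σ τ : G) (h : ℕ), Inv54.DihedralBlock.Setup P σ τ h → σ ^ h = z →
      σ ∈ centralizer (core z : Set G)) : False := by
  haveI : Fact (Nat.Prime 2) := ⟨Nat.prime_two⟩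
  by_cases hU : core z = ⊥
  · obtain ⟨S, hzS, hS⟩ := hG.exists_sylow hz
    refine hG.false_of_bsw hz S hzS hS (fun h => absurd hU h)
      (fun s _ hs u hu => absurd (mem_centralizer_iff.2 fun v hv => ?_) hs)
      fun X hX hX0 => absurd (eq_bot_iff.2 (hU ▸ hX)) hX0
    rw [hU] at hv
    simp only [coe_bot, Set.mem_singleton_iff] at hv
    simp [hv]
  by_cases h8 : ∀ S : Sylow 2 G, 4 < Nat.card (S : Subgroup G)
  · exact hG.false_of_eight hz hmax hne hU h8 hσ
  · push Not at h8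
    obtain ⟨S, hS⟩ := h8
    refine hG.false_of_four hz hmax hne hU fun T => ?_
    rw [Nat.card_congr (Sylow.equiv T S).toEquiv]
    obtain ⟨k, hk, hc, -⟩ := hG.card_sylow S
    have : 2 ^ 2 ≤ 2 ^ k := Nat.pow_le_pow_right two_pos hk
    omega

end Minimal

end CfsgLib.GW
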