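import Cfsg.Agent.GW.DihedralType
import Cfsg.Agent.PLocal.PStabilityCor
import Cfsg.Agent.Transfer.ZJFusion
import Cfsg.Agent.OddOrder.ZJ.Main

/-!
# Gorenstein–Walter: groups of dihedral type have no `SL(2, p)` section

So they are stable for every odd prime and Glauberman's theorems apply.
-/

set_option autoImplicit false
set_option linter.style.haveILetI false

open Subgroup

namespace CfsgLib.GW

open scoped MatrixGroups

/-- An element of square one of `SL(2, F)` is central. -/
theorem commute_of_sq_eq_one {F : Type*} [Field F] (h2 : (2 : F) ≠ 0) {x : SL(2, F)}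
    (hx : x * x = 1) (y : SL(2, F)) : Commute x y := by
  have e : x⁻¹ = x := inv_eq_of_mul_eq_one_right hx
  have e' := congrArg (fun t : SL(2, F) => (t : Matrix (Fin 2) (Fin 2) F)) e
  rw [Matrix.SpecialLinearGroup.coe_inv, Matrix.adjugate_fin_two] at e'
  have e00 := congrFun (congrFun e' 0) 0
  have e01 := congrFun (congrFun e' 0) 1
  have e10 := congrFun (congrFun e' 1) 0
  simp at e00 e01 e10
  have b0 : x.1 0 1 = 0 :=
    (mul_eq_zero.1 (show (2 : F) * x.1 0 1 = 0 by linear_combination -e01)).resolve_left h2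
  have c0 : x.1 1 0 = 0 :=
    (mul_eq_zero.1 (show (2 : F) * x.1 1 0 = 0 by linear_combination -e10)).resolve_left h2
  refine Subtype.ext ?_
  ext i j
  fin_cases i <;> fin_cases j <;>
    simp [Matrix.mul_apply, Fin.sum_univ_two, b0, c0, e00] <;> ring

variable {G : Type*} [Group G] [Finite G]

/-- A group of dihedral type has no section isomorphic to `SL(2, p)`, `p` odd. -/
theorem DihType.not_hasSL2Section (hG : DihType G) {p : ℕ} [Fact p.Prime] (hp : p ≠ 2)
    (H : Subgroup G) : ¬ PLocal.HasSL2Section p H := by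
  rintro ⟨K, -, θ, hθ⟩
  obtain ⟨i, j, hi, hj, hji, hnc⟩ := PLocal.exists_sl2_quaternion_pair (p := p) hp
  haveI : Fact (Nat.Prime 2) := ⟨Nat.prime_two⟩
  have h2 : (2 : ZMod p) ≠ 0 := by
    intro h
    have h' : ((2 : ℕ) : ZMod p) = 0 := by simpa using h
    rw [ZMod.natCast_eq_zero_iff, Nat.prime_dvd_prime_iff_eq Fact.out Nat.prime_two] at h'
    exact hp h'
  have h4 : ∀ {g : SL(2, ZMod p)}, g ^ 4 = 1 → IsPGroup 2 (zpowers g) := fun {g} hg =>
    IsPGroup.of_card_dvd_pow (n := 2)
      (Nat.card_zpowers g ▸ orderOf_dvd_of_pow_eq_one (by simpa using hg))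
  have hQ : IsPGroup 2 ↥(zpowers j ⊔ zpowers i) := by
    refine IsPGroup.to_sup_of_normal_right' (h4 hj) (h4 hi) (zpowers_le.mpr ?_)
    rw [mem_normalizer_iff_map_conj_eq]
    show (zpowers i).map (MulAut.conj j).toMonoidHom = zpowers i
    rw [MonoidHom.map_zpowers]
    show zpowers (j * i * j⁻¹) = zpowers i
    rw [hji, zpowers_inv]
  obtain ⟨P, hP, hPQ⟩ := CfsgLib.QdFree.exists_pGroup_map_eq θ hθ _ hQ
  obtain ⟨a, ha, hai⟩ : i ∈ P.map θ := hPQ ▸ mem_sup_right (mem_zpowers i)
  obtain ⟨b, hb, hbj⟩ : j ∈ P.map θ := hPQ ▸ mem_sup_left (mem_zpowers j)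
  obtain ⟨n, f, hf⟩ := hG (P.map K.subtype) (hP.map _)
  set a' : ↥(P.map K.subtype) := ⟨(a : G), a, ha, rfl⟩
  set b' : ↥(P.map K.subtype) := ⟨(b : G), b, hb, rfl⟩
  have hinv : ∀ x : ↥P, f ⟨((x : K) : G), x, x.2, rfl⟩ ∉ rot n → θ x * θ x = 1 := by
    intro x hx
    have h : ((⟨((x : K) : G), x, x.2, rfl⟩ : ↥(P.map K.subtype)) *
        ⟨((x : K) : G), x, x.2, rfl⟩) = 1 :=
      hf (by rw [map_mul, map_one]; exact mul_self_of_notMem_rot _ hx)
    have hx1 : (x : K) * x = 1 := Subtype.ext (congrArg Subtype.val h :)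
    rw [← map_mul, hx1, map_one]
  by_cases hra : f a' ∈ rot n
  · by_cases hrb : f b' ∈ rot n
    · refine hnc ?_
      obtain ⟨u, hu⟩ := mem_zpowers_iff.1 hra
      obtain ⟨v, hv⟩ := mem_zpowers_iff.1 hrb
      have hab : a' * b' = b' * a' := hf (by
        rw [map_mul, map_mul, ← hu, ← hv, ← zpow_add, ← zpow_add, add_comm])
      have hab' : a * b = b * a := Subtype.ext (congrArg Subtype.val hab :)
      rw [← hai, ← hbj]
      exact (show Commute a b from hab').map θ
    · have := hinv ⟨b, hb⟩ hrb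
      rw [hbj] at this
      exact hnc (commute_of_sq_eq_one h2 this i).symm
  · have := hinv ⟨a, ha⟩ hra
    rw [hai] at this
    exact hnc (commute_of_sq_eq_one h2 this j)

/-- A group of dihedral type is stable for every odd prime. -/
theorem DihType.quadraticStable (hG : DihType G) {p : ℕ} [Fact p.Prime] (hp : p ≠ 2) :
    OddOrder.ZJ.QuadraticStable p G :=
  OddOrder.ZJ.quadraticStable_of_isPStableOn
    (PLocal.isPStableOn_of_no_section hp (hG.not_hasSL2Section hp ⊤))

/-- So are its quotients. -/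
theorem DihType.quadraticStable_quotient (hG : DihType G) {p : ℕ} [Fact p.Prime] (R : Subgroup G)
    [R.Normal] (hp : p ≠ 2) : OddOrder.ZJ.QuadraticStable p (G ⧸ R) := by
  refine OddOrder.ZJ.quadraticStable_of_isPStableOn (PLocal.isPStableOn_of_no_section hp ?_)
  intro h
  exact hG.not_hasSL2Section hp ⊤ (PLocal.HasSL2Section.comap (QuotientGroup.mk' R)
    (by rwa [Subgroup.map_top_of_surjective _ (QuotientGroup.mk'_surjective R)]))

end CfsgLib.GW
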