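import Cfsg.Agent.GW.InvolutionBound
import Cfsg.Agent.GW.PSLTorus
import Cfsg.Agent.S5892

/-!
# Overgroups of involution centralisers in `PSL(2,q)`

For odd `q ≥ 5` the centraliser of an involution of `PSL(2,q)` lies in no larger proper subgroup,
unless `q` is 5, 7 or 9.
-/

set_option autoImplicit false
set_option linter.style.haveILetI false

namespace CfsgLib.GW

open Matrix Subgroup
open scoped MatrixGroups

universe u v

/-- The commutant of a non-scalar `2 × 2` matrix has at most `q²` elements. -/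
theorem card_commutant_le {F : Type*} [Field F] [Fintype F] (A : Matrix (Fin 2) (Fin 2) F)
    (hA : ¬ (A 1 0 = 0 ∧ A 0 1 = 0 ∧ A 0 0 = A 1 1)) :
    Nat.card {M : Matrix (Fin 2) (Fin 2) F // M * A = A * M} ≤ Fintype.card F ^ 2 := by
  have hF2 : Nat.card (F × F) = Fintype.card F ^ 2 := by
    rw [Nat.card_prod, Nat.card_eq_fintype_card, pow_two]
  rw [← hF2]
  have hent : ∀ M : {M : Matrix (Fin 2) (Fin 2) F // M * A = A * M}, ∀ i j : Fin 2,
      M.1 i 0 * A 0 j + M.1 i 1 * A 1 j = A i 0 * M.1 0 j + A i 1 * M.1 1 j := fun M i j => by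
    have := congrFun (congrFun M.2 i) j
    simpa [Matrix.mul_apply, Fin.sum_univ_two] using this
  by_cases h10 : A 1 0 = 0
  · by_cases h01 : A 0 1 = 0
    · have hd : A 0 0 - A 1 1 ≠ 0 := sub_ne_zero.2 fun e => hA ⟨h10, h01, e⟩
      refine Nat.card_le_card_of_injective (fun M => (M.1 0 0, M.1 1 1)) fun M N e => ?_
      obtain ⟨e1, e2⟩ := Prod.mk.inj e
      have a1 := hent M 1 0; have a2 := hent M 0 1; have b1 := hent N 1 0; have b2 := hent N 0 1
      simp only [h10, h01] at a1 a2 b1 b2
      have c1 : ∀ x : F, x * (A 0 0 - A 1 1) = 0 → x = 0 := fun x hx =>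
        (mul_eq_zero.1 hx).resolve_right hd
      have m1 := c1 (M.1 1 0) (by linear_combination a1)
      have m2 := c1 (M.1 0 1) (by linear_combination -a2)
      have n1 := c1 (N.1 1 0) (by linear_combination b1)
      have n2 := c1 (N.1 0 1) (by linear_combination -b2)
      refine Subtype.ext (Matrix.ext fun i j => ?_)
      fin_cases i <;> fin_cases j
      exacts [e1, m2.trans n2.symm, m1.trans n1.symm, e2]
    · refine Nat.card_le_card_of_injective (fun M => (M.1 0 0, M.1 0 1)) fun M N e => ?_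
      obtain ⟨e1, e2⟩ := Prod.mk.inj e
      have a1 := hent M 0 0; have a2 := hent M 0 1; have b1 := hent N 0 0; have b2 := hent N 0 1
      have c : ∀ x y : F, A 0 1 * x = A 0 1 * y → x = y := fun x y h => mul_left_cancel₀ h01 h
      have m1 : M.1 1 0 = N.1 1 0 := c _ _ (by
        linear_combination b1 - a1 + A 1 0 * e2)
      have m2 : M.1 1 1 = N.1 1 1 := c _ _ (by
        linear_combination b2 - a2 + A 1 1 * e2 + A 0 1 * e1 - A 0 0 * e2)
      refine Subtype.ext (Matrix.ext fun i j => ?_)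
      fin_cases i <;> fin_cases j
      exacts [e1, e2, m1, m2]
  · refine Nat.card_le_card_of_injective (fun M => (M.1 0 0, M.1 1 0)) fun M N e => ?_
    obtain ⟨e1, e2⟩ := Prod.mk.inj e
    have a1 := hent M 1 0; have a2 := hent M 0 0; have b1 := hent N 1 0; have b2 := hent N 0 0
    have c : ∀ x y : F, A 1 0 * x = A 1 0 * y → x = y := fun x y h => mul_left_cancel₀ h10 h
    have m1 : M.1 0 1 = N.1 0 1 := c _ _ (by linear_combination a2 - b2 + A 0 1 * e2)
    have m2 : M.1 1 1 = N.1 1 1 := c _ _ (by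
      linear_combination a1 - b1 - A 0 0 * e2 + A 1 0 * e1 + A 1 1 * e2)
    refine Subtype.ext (Matrix.ext fun i j => ?_)
    fin_cases i <;> fin_cases j
    exacts [e1, m1, e2, m2]

/-- The centraliser of an involution of `PGL(2,q)` has order at most `2(q + 1)`. -/
theorem card_centralizer_pgl_le {F : Type*} [Field F] [Fintype F]
    (x : Matrix.ProjGenLinGroup (Fin 2) F) (hx1 : x ≠ 1) :
    Nat.card (centralizer ({x} : Set (Matrix.ProjGenLinGroup (Fin 2) F))) ≤
      2 * (Fintype.card F + 1) := by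
  classical
  obtain ⟨A, rfl⟩ := Matrix.ProjGenLinGroup.mk_surjective x
  set π : GL (Fin 2) F →* Matrix.ProjGenLinGroup (Fin 2) F := Matrix.ProjGenLinGroup.mk
  have hsc : ¬ (A.1 1 0 = 0 ∧ A.1 0 1 = 0 ∧ A.1 0 0 = A.1 1 1) := by
    rintro ⟨h10, h01, he⟩
    have hd : A.1 1 1 ≠ 0 := fun hd => by
      have := A.det_ne_zero
      rw [Matrix.det_fin_two] at this
      exact this (by rw [h10, hd]; ring)
    refine hx1 (Matrix.ProjGenLinGroup.mk_eq_one.2 ?_)
    rw [GeneralLinearGroup.center_eq_range_scalar]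
    refine ⟨Units.mk0 _ hd, Units.ext (Matrix.ext fun i j => ?_)⟩
    fin_cases i <;> fin_cases j <;> simp [h10, h01, he]
  set K := (centralizer ({π A} : Set _)).comap π
  set q := Fintype.card F
  -- an element of the preimage multiplies `A` by `±1`
  have hK : ∀ B ∈ K, B.1 * A.1 = A.1 * B.1 ∨ B.1 * A.1 = -(A.1 * B.1) := by
    intro B hB
    have h1 : π (A * B)⁻¹ * π (B * A) = 1 := by
      rw [map_inv, inv_mul_eq_one, map_mul, map_mul]
      exact (mem_centralizer_singleton_iff.1 hB).symm
    rw [← map_mul, Matrix.ProjGenLinGroup.mk_eq_one, GeneralLinearGroup.center_eq_range_scalar] at h1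
    obtain ⟨c, hc⟩ := h1
    have e : B.1 * A.1 = (c : F) • (A.1 * B.1) := by
      have e0 : B * A = A * B * GeneralLinearGroup.scalar (Fin 2) c := by
        rw [hc, mul_inv_cancel_left]
      have e1 := congrArg Units.val e0
      simp only [Units.val_mul, GeneralLinearGroup.coe_scalar, Matrix.scalar_apply] at e1
      rw [e1, ← Matrix.smul_one_eq_diagonal, Matrix.mul_smul, Matrix.mul_one]
    have hdet : ((c : F) - 1) * ((c : F) + 1) = 0 := by
      have e2 := congrArg Matrix.det e
      rw [Matrix.det_smul, Matrix.det_mul, Matrix.det_mul, Fintype.card_fin] at e2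
      have hne : A.1.det * B.1.det ≠ 0 := mul_ne_zero A.det_ne_zero B.det_ne_zero
      refine (mul_eq_zero.1 (?_ : A.1.det * B.1.det * (((c : F) - 1) * ((c : F) + 1)) = 0)).resolve_left
        hne
      linear_combination -e2
    rcases mul_eq_zero.1 hdet with h | h
    · left; rw [e, sub_eq_zero.1 h, one_smul]
    · right; rw [e, eq_neg_of_add_eq_zero_left h, neg_one_smul]
  -- the elements commuting with `A`
  set Z := {M : Matrix (Fin 2) (Fin 2) F // M * A.1 = A.1 * M}
  have hZ : Nat.card Z ≤ q ^ 2 := card_commutant_le A.1 hsc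
  set Zx := {M : Z // M.1 ≠ 0}
  have hZx : Nat.card Zx + 1 ≤ q ^ 2 := by
    refine le_trans ?_ hZ
    rw [← Finite.card_option]
    refine Nat.card_le_card_of_injective
      (fun o => match o with | none => (⟨0, by simp⟩ : Z) | some M => M.1) ?_
    rintro (_ | M) (_ | N) e
    · rfl
    · exact absurd (congrArg Subtype.val e).symm N.2
    · exact absurd (congrArg Subtype.val e) M.2
    · exact congrArg some (Subtype.ext e)
  have hgl : ∀ B : GL (Fin 2) F, B.1 ≠ 0 := fun B h => B.det_ne_zero (by simp [h])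
  have hle : Nat.card K ≤ 2 * Nat.card Zx := by
    obtain ⟨B₀, hB₀⟩ : ∃ B₀ : GL (Fin 2) F, ∀ B ∈ K, ¬ (B.1 * A.1 = A.1 * B.1) →
        (B * B₀).1 * A.1 = A.1 * (B * B₀).1 := by
      by_cases hex : ∃ B ∈ K, ¬ (B.1 * A.1 = A.1 * B.1)
      · obtain ⟨B₀, hB₀K, hB₀⟩ := hex
        refine ⟨B₀, fun B hB h => ?_⟩
        rw [Units.val_mul, mul_assoc, (hK B₀ hB₀K).resolve_left hB₀, mul_neg, ← mul_assoc,
          (hK B hB).resolve_left h, neg_mul, neg_neg, mul_assoc]
      · exact ⟨1, fun B hB h => absurd ⟨B, hB, h⟩ hex⟩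
    let g : K → Fin 2 × Zx := fun B =>
      if h : B.1.1 * A.1 = A.1 * B.1.1 then (0, ⟨⟨B.1.1, h⟩, hgl B.1⟩)
      else (1, ⟨⟨(B.1 * B₀).1, hB₀ B.1 B.2 h⟩, hgl (B.1 * B₀)⟩)
    have hg : Function.Injective g := by
      intro B B' e
      simp only [g] at e
      split_ifs at e with h1 h2 h2
      · exact Subtype.ext (Units.ext (congrArg (fun p => p.2.1.1) e))
      · exact absurd (congrArg Prod.fst e) Fin.zero_ne_one
      · exact absurd (congrArg Prod.fst e) Fin.zero_ne_one.symm
      · exact Subtype.ext (mul_right_cancel (Units.ext (congrArg (fun p => p.2.1.1) e)))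
    refine (Nat.card_le_card_of_injective g hg).trans ?_
    rw [Nat.card_prod, Nat.card_fin]
  have hKc : Nat.card K = Nat.card (centralizer ({π A} : Set _)) * (q - 1) := by
    have hker : (center (GL (Fin 2) F)).subgroupOf K = ((π.comp K.subtype).ker : Subgroup K) := by
      ext B
      rw [mem_subgroupOf, MonoidHom.mem_ker, MonoidHom.comp_apply, coe_subtype]
      exact (Matrix.ProjGenLinGroup.mk_eq_one).symm
    have hcen : center (GL (Fin 2) F) ≤ K := fun B hB => by
      rw [mem_comap, Matrix.ProjGenLinGroup.mk_eq_one.2 hB]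
      exact one_mem _
    have h := ((π.comp K.subtype).ker).card_mul_index
    rw [index_ker, ← hker, Nat.card_congr (subgroupOfEquivOfLe hcen).toEquiv,
      Linear.card_center_GL, MonoidHom.range_comp, range_subtype,
      map_comap_eq_self_of_surjective Matrix.ProjGenLinGroup.mk_surjective] at h
    rw [← h, mul_comm]
  have hq : 1 < q := Fintype.one_lt_card
  rw [hKc] at hle
  obtain ⟨r, hr⟩ : ∃ r, q = r + 1 := ⟨q - 1, by omega⟩
  rw [hr] at hle hZx ⊢
  rw [Nat.add_sub_cancel] at hle
  refine Nat.le_of_mul_le_mul_right (c := r) ?_ (by omega)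
  nlinarith

/-- Involution centralisers of `A₅` have order at most 4. -/
theorem card_centralizer_alt_five_le (x : alternatingGroup (Fin 5)) (hx : x * x = 1) (hx1 : x ≠ 1) :
    Nat.card (centralizer ({x} : Set (alternatingGroup (Fin 5)))) ≤ 4 := by
  have key : ∀ x : alternatingGroup (Fin 5), x * x = 1 → x ≠ 1 →
      (Finset.univ.filter fun g : alternatingGroup (Fin 5) => g * x = x * g).card ≤ 4 := by
    decide +kernel
  refine le_trans (le_of_eq ?_) (key x hx hx1)
  classical
  rw [Nat.card_eq_fintype_card, ← Fintype.card_coe]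
  exact Fintype.card_congr (Equiv.subtypeEquivRight fun g => by
    simp [mem_centralizer_singleton_iff])

/-- An isomorphism carries involution centralisers to involution centralisers. -/
theorem card_centralizer_map {X : Type u} {Y : Type v} [Group X] [Group Y] (e : X ≃* Y) (x : X) :
    Nat.card (centralizer ({x} : Set X)) = Nat.card (centralizer ({e x} : Set Y)) :=
  Nat.card_congr (Equiv.subtypeEquiv e.toEquiv fun a => by
    rw [mem_centralizer_singleton_iff, mem_centralizer_singleton_iff]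
    show _ ↔ e a * e x = e x * e a
    rw [← map_mul, ← map_mul, e.injective.eq_iff])

/-- A proper subgroup properly containing an involution centraliser forces `q ∈ {5, 7, 9}`. -/
theorem psl_card_of_overgroup {F : Type*} [Field F] [Fintype F] (hodd : Odd (Fintype.card F))
    (h5 : 3 < Fintype.card F) {t : Matrix.ProjectiveSpecialLinearGroup (Fin 2) F} (ht : orderOf t = 2)
    {K : Subgroup (Matrix.ProjectiveSpecialLinearGroup (Fin 2) F)}
    (hlt : centralizer ({t} : Set _) < K) (hK : K ≠ ⊤) :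
    Fintype.card F = 5 ∨ Fintype.card F = 7 ∨ Fintype.card F = 9 := by
  classical
  obtain ⟨p, hchar⟩ := CharP.exists F
  haveI := hchar
  obtain ⟨n, hp, hn⟩ := FiniteField.card F p
  haveI : Fact p.Prime := ⟨hp⟩
  obtain ⟨j, hj⟩ := hodd
  obtain ⟨M, hM, hKM⟩ := (eq_top_or_exists_le_coatom K).resolve_left hK
  have hCM : centralizer ({t} : Set _) < M := lt_of_lt_of_le hlt hKM
  set q := Fintype.card F with hq
  set m := Nat.card (centralizer ({t} : Set (Matrix.ProjectiveSpecialLinearGroup (Fin 2) F))) with hm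
  have hdvd : m ∣ Nat.card M := card_dvd_of_le hCM.le
  have hltM : m < Nat.card M := lt_of_le_of_ne (card_le_of_le hCM.le) fun e =>
    hCM.ne (eq_of_le_of_card_ge hCM.le e.ge)
  have hmq : (q % 4 = 1 ∧ m = q - 1) ∨ (q % 4 = 3 ∧ m = q + 1) :=
    card_centralizer_involution_psl ⟨j, hj⟩ ht
  obtain ⟨d, hd⟩ := hdvd
  have hd2 : 2 ≤ d := by
    by_contra hd'
    interval_cases d
    · omega
    · omega
  -- the centraliser of `t` inside `M`
  have htM : t ∈ M := hCM.le (mem_centralizer_singleton_iff.2 rfl)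
  set tM : M := ⟨t, htM⟩
  have htMo : tM * tM = 1 ∧ tM ≠ 1 := by
    refine ⟨Subtype.ext ?_, fun e => Small.ne_one_of_orderOf_two ht (congrArg Subtype.val e)⟩
    exact Small.mul_self_of_orderOf_two ht
  have hCle : m = Nat.card (centralizer ({tM} : Set M)) := by
    rw [hm, ← Nat.card_congr (subgroupOfEquivOfLe hCM.le).toEquiv]
    refine congrArg (fun H : Subgroup M => Nat.card H) (Subgroup.ext fun a => ?_)
    rw [mem_subgroupOf, mem_centralizer_singleton_iff, mem_centralizer_singleton_iff, Subtype.ext_iff]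
    rfl
  rcases Cfsg.Agent.S5892.result p ⟨j, hj⟩ (by omega) M hM with h | h | h | h | h | h | h | h
  · -- a point stabiliser
    exfalso
    change 2 * Nat.card M = q * (q - 1) at h
    rcases hmq with ⟨h4, he⟩ | ⟨h4, he⟩
    · rw [hd, he] at h
      have h' : 2 * d * (q - 1) = q * (q - 1) := by rw [← h]; ring
      have := Nat.eq_of_mul_eq_mul_right (by omega) h'
      omega
    · rw [hd, he] at h
      have hodd' : (q * (q - 1)) % 4 = 2 := by
        rw [Nat.mul_mod, h4, show (q - 1) % 4 = 2 by omega]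
      have : (2 * ((q + 1) * d)) % 4 = 0 := by
        rw [Nat.mul_mod, Nat.mul_mod (q + 1)]
        have : (q + 1) % 4 = 0 := by omega
        simp [this]
      omega
  · obtain ⟨h13, k, hk, ⟨e⟩⟩ := h
    rw [Nat.card_congr e.toEquiv, DihedralGroup.nat_card, hk] at hltM
    omega
  · obtain ⟨-, -, k, hk, ⟨e⟩⟩ := h
    rw [Nat.card_congr e.toEquiv, DihedralGroup.nat_card, hk] at hltM hd
    exfalso
    have : 2 * m ≤ q + 1 := by rw [hd]; nlinarith
    omega
  · obtain ⟨F₀, _, _, hF₀, ⟨e⟩⟩ := h
    have hb := card_centralizer_pgl_le (e tM) fun e1 => htMo.2 ((MulEquiv.map_eq_one_iff e).1 e1)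
    rw [← card_centralizer_map e, ← hCle] at hb
    right; right
    set q₀ := Fintype.card F₀
    have h3 : q₀ ≤ 3 := by
      by_contra h'
      push Not at h'
      have : 4 * q₀ ≤ q₀ ^ 2 := by rw [pow_two]; exact Nat.mul_le_mul_right _ h'
      omega
    replace hF₀ : q = q₀ ^ 2 := hF₀
    rw [hF₀] at hj h5 ⊢
    interval_cases q₀ <;> omega
  · obtain ⟨F₀, _, _, r, hr, hro, hF₀, ⟨e⟩⟩ := h
    exfalso
    set q₀ := Fintype.card F₀
    replace hF₀ : q = q₀ ^ r := hF₀
    have hodd₀ : Odd q₀ := by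
      refine Nat.not_even_iff_odd.1 fun he => ?_
      have : Even q := by rw [hF₀]; exact he.pow_of_ne_zero hr.ne_zero
      exact Nat.not_even_iff_odd.2 ⟨j, hj⟩ this
    have hb := card_centralizer_psl_le hodd₀ (e tM) (by rw [← map_mul, htMo.1, map_one])
      fun e1 => htMo.2 ((MulEquiv.map_eq_one_iff e).1 e1)
    rw [← card_centralizer_map e, ← hCle] at hb
    have hr3 : 3 ≤ r := by
      rcases hro with ⟨i, rfl⟩
      have := hr.two_le
      omega
    have h2 : 2 ≤ q₀ := Fintype.one_lt_card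
    have : q₀ ^ 3 ≤ q := by rw [hF₀]; exact Nat.pow_le_pow_right (by omega) hr3
    have : 4 * q₀ ≤ q₀ ^ 3 := by
      have h22 : 2 * 2 ≤ q₀ * q₀ := Nat.mul_le_mul h2 h2
      calc 4 * q₀ ≤ q₀ * q₀ * q₀ := Nat.mul_le_mul_right _ h22
        _ = q₀ ^ 3 := by ring
    omega
  · obtain ⟨h10, -, ⟨e⟩⟩ := h
    have hb := card_centralizer_alt_five_le (e tM) (by rw [← map_mul, htMo.1, map_one])
      fun e1 => htMo.2 ((MulEquiv.map_eq_one_iff e).1 e1)
    rw [← card_centralizer_map e, ← hCle] at hb
    omega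
  · obtain ⟨-, h8, -, ⟨e⟩⟩ := h
    have hc : Nat.card M = 12 := by
      rw [Nat.card_congr e.toEquiv, nat_card_alternatingGroup, Nat.card_fin]; rfl
    rw [hc] at hd
    have : 2 * m ≤ 12 := by rw [hd]; nlinarith
    omega
  · obtain ⟨hqp, h8, ⟨e⟩⟩ := h
    have hc : Nat.card M = 24 := by
      rw [Nat.card_congr e.toEquiv, Nat.card_perm, Nat.card_fin]; rfl
    rw [hc] at hd
    have : 2 * m ≤ 24 := by rw [hd]; nlinarith
    omega

end CfsgLib.GW
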