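import Cfsg.Agent.GW.CaseTwo
import Mathlib.Data.ZMod.Basic
import Mathlib.LinearAlgebra.Matrix.SpecialLinearGroup

/-!
# Gorenstein–Walter 4.1: the commutator pairing of the extraspecial group

For `|Y| = r³` with commutators in `Z` of order `r`: a surjection `coord : Y → (ℤ/r)²` with kernel
`Z`, and the action of elements centralising `Z` by matrices of determinant one.
-/

set_option autoImplicit false
set_option linter.style.haveILetI false

open Subgroup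
open scoped commutatorElement MatrixGroups Matrix

namespace CfsgLib.GW

variable {G : Type*} [Group G] [Finite G]

/-- The data of an extraspecial group of order `r³`. -/
structure Extra (Y Z : Subgroup G) (r : ℕ) (x₀ y₀ : G) : Prop where
  hr : r.Prime
  cardY : Nat.card Y = r ^ 3
  cardZ : Nat.card Z = r
  le : Z ≤ Y
  hexp : ∀ y ∈ Y, y ^ r = 1
  hcen : ∀ w ∈ Z, ∀ y ∈ Y, w * y = y * w
  hcomm : ∀ x ∈ Y, ∀ y ∈ Y, ⁅x, y⁆ ∈ Z
  hx : x₀ ∈ Y
  hy : y₀ ∈ Y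
  hne : ⁅x₀, y₀⁆ ≠ 1

/-- The discrete logarithm to the base `z₀`, zero off the powers of `z₀`. -/
noncomputable def dlog (r : ℕ) (z₀ w : G) : ZMod r :=
  open Classical in if h : ∃ i : ℕ, z₀ ^ i = w then (h.choose : ZMod r) else 0

/-- The commutator pairing. -/
noncomputable def pairing (r : ℕ) (x₀ y₀ a b : G) : ZMod r := dlog r ⁅x₀, y₀⁆ ⁅a, b⁆

/-- The coordinates modulo `Z`. -/
noncomputable def coord (r : ℕ) (x₀ y₀ y : G) : Fin 2 → ZMod r :=
  ![pairing r x₀ y₀ y y₀, pairing r x₀ y₀ x₀ y]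

omit [Finite G] in
theorem dlog_pow {r : ℕ} {z₀ : G} (h : orderOf z₀ = r) (i : ℕ) : dlog r z₀ (z₀ ^ i) = i := by
  classical
  have hex : ∃ j : ℕ, z₀ ^ j = z₀ ^ i := ⟨i, rfl⟩
  rw [dlog, dif_pos hex]
  have := pow_eq_pow_iff_modEq.1 hex.choose_spec
  rw [h] at this
  exact (ZMod.natCast_eq_natCast_iff _ _ _).2 this

namespace Extra

variable {Y Z : Subgroup G} {r : ℕ} {x₀ y₀ : G} (E : Extra Y Z r x₀ y₀)
include E

theorem order_z : orderOf ⁅x₀, y₀⁆ = r := by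
  haveI : Fact r.Prime := ⟨E.hr⟩
  exact orderOf_eq_prime (E.hexp _ (E.le (E.hcomm _ E.hx _ E.hy))) E.hne

theorem exists_pow {w : G} (hw : w ∈ Z) : ∃ i : ℕ, ⁅x₀, y₀⁆ ^ i = w := by
  have e : zpowers ⁅x₀, y₀⁆ = Z := eq_of_le_of_card_ge (zpowers_le.2 (E.hcomm _ E.hx _ E.hy))
    (by rw [Nat.card_zpowers, E.order_z, E.cardZ])
  rw [← e] at hw
  exact mem_powers_iff_mem_zpowers.2 hw

theorem dlog_mul {u v : G} (hu : u ∈ Z) (hv : v ∈ Z) :
    dlog r ⁅x₀, y₀⁆ (u * v) = dlog r ⁅x₀, y₀⁆ u + dlog r ⁅x₀, y₀⁆ v := by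
  obtain ⟨i, rfl⟩ := E.exists_pow hu
  obtain ⟨j, rfl⟩ := E.exists_pow hv
  rw [← pow_add, dlog_pow E.order_z, dlog_pow E.order_z, dlog_pow E.order_z, Nat.cast_add]

theorem dlog_one : dlog r ⁅x₀, y₀⁆ 1 = 0 := by
  have h := dlog_pow E.order_z 0
  simpa using h

theorem dlog_eq_zero {w : G} (hw : w ∈ Z) (h : dlog r ⁅x₀, y₀⁆ w = 0) : w = 1 := by
  obtain ⟨i, rfl⟩ := E.exists_pow hw
  rw [dlog_pow E.order_z, CharP.cast_eq_zero_iff (ZMod r) r] at h
  rwa [← orderOf_dvd_iff_pow_eq_one, E.order_z]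

theorem pair_mul_left {a b c : G} (ha : a ∈ Y) (hb : b ∈ Y) (hc : c ∈ Y) :
    pairing r x₀ y₀ (a * b) c = pairing r x₀ y₀ a c + pairing r x₀ y₀ b c := by
  rw [pairing, pairing, pairing, show ⁅a * b, c⁆ = a * ⁅b, c⁆ * a⁻¹ * ⁅a, c⁆ by
      rw [commutatorElement_def, commutatorElement_def, commutatorElement_def]; group,
    ← E.hcen _ (E.hcomm _ hb _ hc) a ha, mul_inv_cancel_right,
    E.dlog_mul (E.hcomm _ hb _ hc) (E.hcomm _ ha _ hc), add_comm]

theorem pair_mul_right {a b c : G} (ha : a ∈ Y) (hb : b ∈ Y) (hc : c ∈ Y) :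
    pairing r x₀ y₀ a (b * c) = pairing r x₀ y₀ a b + pairing r x₀ y₀ a c := by
  rw [pairing, pairing, pairing, show ⁅a, b * c⁆ = ⁅a, b⁆ * (b * ⁅a, c⁆ * b⁻¹) by
      rw [commutatorElement_def, commutatorElement_def, commutatorElement_def]; group,
    ← E.hcen _ (E.hcomm _ ha _ hc) b hb, mul_inv_cancel_right,
    E.dlog_mul (E.hcomm _ ha _ hb) (E.hcomm _ ha _ hc)]

theorem pair_swap {a b : G} (ha : a ∈ Y) (hb : b ∈ Y) :
    pairing r x₀ y₀ b a = - pairing r x₀ y₀ a b := by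
  refine eq_neg_of_add_eq_zero_left ?_
  rw [pairing, pairing, ← E.dlog_mul (E.hcomm _ hb _ ha) (E.hcomm _ ha _ hb),
    show ⁅b, a⁆ * ⁅a, b⁆ = 1 by rw [commutatorElement_def, commutatorElement_def]; group, E.dlog_one]

theorem pair_self (a : G) : pairing r x₀ y₀ a a = 0 := by
  rw [pairing, commutatorElement_self, E.dlog_one]

theorem pair_x_y : pairing r x₀ y₀ x₀ y₀ = 1 := by
  have h := dlog_pow E.order_z 1
  rw [pow_one, Nat.cast_one] at h
  exact h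

theorem pair_central {a w : G} (ha : a ∈ Y) (hw : w ∈ Z) : pairing r x₀ y₀ w a = 0 := by
  rw [pairing, commutatorElement_eq_one_iff_commute.2 (show Commute w a from E.hcen _ hw _ ha),
    E.dlog_one]

theorem coord_mul {a b : G} (ha : a ∈ Y) (hb : b ∈ Y) :
    coord r x₀ y₀ (a * b) = coord r x₀ y₀ a + coord r x₀ y₀ b := by
  ext i
  fin_cases i
  · simpa [coord] using E.pair_mul_left ha hb E.hy
  · simpa [coord] using E.pair_mul_right E.hx ha hb

theorem coord_one : coord r x₀ y₀ 1 = 0 := by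
  have h := E.coord_mul (one_mem Y) (one_mem Y)
  rw [mul_one] at h
  exact left_eq_add.1 h

theorem coord_inv {a : G} (ha : a ∈ Y) : coord r x₀ y₀ a⁻¹ = - coord r x₀ y₀ a := by
  refine eq_neg_of_add_eq_zero_left ?_
  rw [← E.coord_mul (inv_mem ha) ha, inv_mul_cancel, E.coord_one]

theorem coord_pow {a : G} (ha : a ∈ Y) (n : ℕ) :
    coord r x₀ y₀ (a ^ n) = (n : ZMod r) • coord r x₀ y₀ a := by
  induction n with
  | zero => simp [E.coord_one]
  | succ n ih =>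
    rw [pow_succ, E.coord_mul (pow_mem ha n) ha, ih, Nat.cast_succ, add_smul, one_smul]

theorem coord_x : coord r x₀ y₀ x₀ = ![1, 0] := by
  rw [coord, E.pair_x_y, E.pair_self]

theorem coord_y : coord r x₀ y₀ y₀ = ![0, 1] := by
  rw [coord, E.pair_x_y, E.pair_self]

/-- A representative of given coordinates. -/
theorem coord_rep (v : Fin 2 → ZMod r) :
    coord r x₀ y₀ (x₀ ^ (v 0).val * y₀ ^ (v 1).val) = v := by
  haveI : NeZero r := ⟨E.hr.pos.ne'⟩
  rw [E.coord_mul (pow_mem E.hx _) (pow_mem E.hy _), E.coord_pow E.hx, E.coord_pow E.hy, E.coord_x,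
    E.coord_y, ZMod.natCast_zmod_val, ZMod.natCast_zmod_val]
  ext i
  fin_cases i <;> simp

/-- The kernel of `coord` is `Z`. -/
theorem coord_eq_zero {y : G} (hy : y ∈ Y) : coord r x₀ y₀ y = 0 ↔ y ∈ Z := by
  haveI : NeZero r := ⟨E.hr.pos.ne'⟩
  have hZ0 : ∀ w ∈ Z, coord r x₀ y₀ w = 0 := fun w hw => by
    ext i
    fin_cases i
    · simpa [coord] using E.pair_central E.hy hw
    · simp only [coord, Matrix.cons_val_one, Matrix.cons_val_zero, Pi.zero_apply, Fin.mk_one]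
      rw [E.pair_swap (E.le hw) E.hx, E.pair_central E.hx hw, neg_zero]
  refine ⟨fun h => ?_, hZ0 y⟩
  let φ : Y →* Multiplicative (Fin 2 → ZMod r) :=
    { toFun := fun a => Multiplicative.ofAdd (coord r x₀ y₀ (a : G))
      map_one' := by simp [E.coord_one]
      map_mul' := fun a b => by simp [E.coord_mul a.2 b.2] }
  have hsur : Function.Surjective φ := fun v => ⟨⟨x₀ ^ ((Multiplicative.toAdd v) 0).val *
    y₀ ^ ((Multiplicative.toAdd v) 1).val, mul_mem (pow_mem E.hx _) (pow_mem E.hy _)⟩,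
      congrArg Multiplicative.ofAdd (E.coord_rep _)⟩
  have hc := φ.ker.card_mul_index
  rw [index_ker, MonoidHom.range_eq_top.2 hsur, card_top, E.cardY] at hc
  have h2 : Nat.card (Multiplicative (Fin 2 → ZMod r)) = r ^ 2 := by
    rw [Nat.card_congr Multiplicative.toAdd, Nat.card_fun, Nat.card_zmod, Nat.card_fin]
  rw [h2, pow_succ r 2, mul_comm _ r] at hc
  have hk := Nat.eq_of_mul_eq_mul_right (pow_pos E.hr.pos 2) hc
  have e : Z.subgroupOf Y = φ.ker := by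
    refine eq_of_le_of_card_ge (fun a ha => ?_) ?_
    · exact congrArg Multiplicative.ofAdd (hZ0 _ (mem_subgroupOf.1 ha))
    · rw [hk, Nat.card_congr (subgroupOfEquivOfLe E.le).toEquiv, E.cardZ]
  have : (⟨y, hy⟩ : Y) ∈ φ.ker := congrArg Multiplicative.ofAdd h
  rw [← e] at this
  exact this

theorem pair_coord {a b : G} (ha : a ∈ Y) (hb : b ∈ Y) :
    pairing r x₀ y₀ a b = coord r x₀ y₀ a 0 * coord r x₀ y₀ b 1 -
      coord r x₀ y₀ a 1 * coord r x₀ y₀ b 0 := by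
  haveI : NeZero r := ⟨E.hr.pos.ne'⟩
  set i := (coord r x₀ y₀ a 0).val
  set j := (coord r x₀ y₀ a 1).val
  have hp : x₀ ^ i * y₀ ^ j ∈ Y := mul_mem (pow_mem E.hx _) (pow_mem E.hy _)
  have hw : a * (x₀ ^ i * y₀ ^ j)⁻¹ ∈ Z := (E.coord_eq_zero (mul_mem ha (inv_mem hp))).1 (by
    rw [E.coord_mul ha (inv_mem hp), E.coord_inv hp, E.coord_rep, add_neg_cancel])
  have hpow : ∀ (c : G), c ∈ Y → ∀ n : ℕ,
      pairing r x₀ y₀ (c ^ n) b = (n : ZMod r) * pairing r x₀ y₀ c b := fun c hc n => by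
    induction n with
    | zero => simp [pairing, commutatorElement_one_left, E.dlog_one]
    | succ n ih => rw [pow_succ, E.pair_mul_left (pow_mem hc n) hc hb, ih, Nat.cast_succ]; ring
  have h := E.pair_mul_left (E.le hw) hp hb
  rw [inv_mul_cancel_right, E.pair_central hb hw, zero_add,
    E.pair_mul_left (pow_mem E.hx _) (pow_mem E.hy _) hb, hpow _ E.hx, hpow _ E.hy,
    ZMod.natCast_zmod_val, ZMod.natCast_zmod_val] at h
  rw [h, show pairing r x₀ y₀ x₀ b = coord r x₀ y₀ b 1 from rfl, E.pair_swap hb E.hy,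
    show pairing r x₀ y₀ b y₀ = coord r x₀ y₀ b 0 from rfl]
  ring

/-- The matrix of an automorphism of `Y` given on the two generators. -/
noncomputable def mat (_E : Extra Y Z r x₀ y₀) (u : G) : Matrix (Fin 2) (Fin 2) (ZMod r) :=
  Matrix.of fun i k => coord r x₀ y₀ (u * (![x₀, y₀] k) * u⁻¹) i

variable {u : G} (hu : ∀ y, y ∈ Y ↔ u * y * u⁻¹ ∈ Y) (huZ : ∀ w ∈ Z, u * w = w * u)
include hu huZ

theorem coord_conj {y : G} (hy : y ∈ Y) :
    coord r x₀ y₀ (u * y * u⁻¹) = E.mat u *ᵥ coord r x₀ y₀ y := by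
  haveI : NeZero r := ⟨E.hr.pos.ne'⟩
  set i := (coord r x₀ y₀ y 0).val
  set j := (coord r x₀ y₀ y 1).val
  have hp : x₀ ^ i * y₀ ^ j ∈ Y := mul_mem (pow_mem E.hx _) (pow_mem E.hy _)
  have hw : y * (x₀ ^ i * y₀ ^ j)⁻¹ ∈ Z := (E.coord_eq_zero (mul_mem hy (inv_mem hp))).1 (by
    rw [E.coord_mul hy (inv_mem hp), E.coord_inv hp, E.coord_rep, add_neg_cancel])
  have e : u * y * u⁻¹ = (y * (x₀ ^ i * y₀ ^ j)⁻¹) *
      ((u * x₀ * u⁻¹) ^ i * (u * y₀ * u⁻¹) ^ j) := by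
    conv_lhs => rw [← inv_mul_cancel_right y (x₀ ^ i * y₀ ^ j)]
    rw [← mul_assoc u, huZ _ hw, conj_pow, conj_pow]
    group
  have h1 := (hu x₀).1 E.hx
  have h2 := (hu y₀).1 E.hy
  rw [e, E.coord_mul (E.le hw) (mul_mem (pow_mem h1 _) (pow_mem h2 _)),
    (E.coord_eq_zero (E.le hw)).2 hw, zero_add, E.coord_mul (pow_mem h1 _) (pow_mem h2 _),
    E.coord_pow h1, E.coord_pow h2, ZMod.natCast_zmod_val, ZMod.natCast_zmod_val]
  ext k
  simp [mat, Matrix.mulVec, dotProduct, Fin.sum_univ_two]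
  ring

theorem det_mat : (E.mat u).det = 1 := by
  rw [Matrix.det_fin_two]
  show coord r x₀ y₀ (u * x₀ * u⁻¹) 0 * coord r x₀ y₀ (u * y₀ * u⁻¹) 1 -
    coord r x₀ y₀ (u * y₀ * u⁻¹) 0 * coord r x₀ y₀ (u * x₀ * u⁻¹) 1 = 1
  have h := E.pair_coord ((hu x₀).1 E.hx) ((hu y₀).1 E.hy)
  have e : pairing r x₀ y₀ (u * x₀ * u⁻¹) (u * y₀ * u⁻¹) = pairing r x₀ y₀ x₀ y₀ := by
    rw [pairing, pairing, ← commutatorElement_conj, huZ _ (E.hcomm _ E.hx _ E.hy),
      mul_inv_cancel_right]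
  rw [e, E.pair_x_y] at h
  rw [h]
  ring

end Extra

end CfsgLib.GW
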