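import Cfsg.Agent.GW.PhiTrick.Core
import Cfsg.Agent.GW.PhiTrick.Induced
import Cfsg.Agent.GW.PhiTrick.Psl
import Cfsg.Agent.GW.PhiTrick.Degree
import Cfsg.Agent.GW.PhiTrick.Theta

/-!
# Gorenstein–Walter 4.1 (II), last case: the Φ-trick

`N = A × L`, `L ≅ PSL₂(q)`, is the normalizer of the subgroup `⟨a⟩` of order `r` of the odd cyclic
group `A`; `ζ ∈ ⟨a⟩·L` of order `r` is inverted in `G`, some element maps `a` to `a·ζ` fixing `ζ`;
`U = O(C(z))` is centralised by `σ` and has a subgroup `F` of index at most `d ≤ (r + 1) / 2` whose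
commutators are central in `U` and inverted by `b`.  No such simple group exists.
-/

set_option autoImplicit false
set_option linter.unusedSectionVars false
set_option linter.style.haveILetI false

namespace CfsgLib.GW.PhiTrick

open Cfsg CfsgLib.Characters CfsgLib.SuzukiWong CfsgLib.PrincipalBlock Subgroup

universe u

variable {G : Type u} [Group G] [Finite G]

/-- A nontrivial irreducible character of a simple group is faithful. -/
theorem faithful [Fintype G] [IsSimpleGroup G] {χ : IrrCharacter G}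
    (hχ : χ ≠ trivChar G) {g : G} (hg : g ≠ 1) : (χ : G → ℂ) g ≠ (χ : G → ℂ) 1 := by
  intro h
  rcases (IsSimpleGroup.eq_bot_or_eq_top_of_normal (charKer χ) inferInstance) with e | e
  · exact hg (mem_bot.1 (e ▸ (mem_charKer.2 h : g ∈ charKer χ)))
  obtain ⟨ψ, hψ, hψχ⟩ := exists_irr_quotient (charKer χ) χ.2 fun k hk => mem_charKer.1 hk
  refine hχ (Subtype.ext (funext fun x => ?_))
  haveI : Subsingleton (G ⧸ charKer χ) := QuotientGroup.subsingleton_iff.2 e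
  haveI := Fintype.ofFinite (G ⧸ charKer χ)
  rw [trivChar_apply, hψχ x, show (x : G ⧸ charKer χ) = 1 from Subsingleton.elim _ _,
    TwoClasses.irr_degree_one_of_comm (fun a b => Subsingleton.elim _ _) hψ]

/-- The numerical bound. -/
theorem numeric {r h d q : ℕ} (hr : Odd r) (hr3 : 3 ≤ r) (hh : 1 ≤ h) (hd : Odd d)
    (hdr : 2 * d ≤ r + 1) (hq : 4 * h * r ≤ q + 1) (hqodd : Odd q) :
    1 + 4 * h * d ^ 2 < r * ((q - 1) / 2) ∧ 4 * h ≤ r * ((q - 1) / 2) := by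
  obtain ⟨m, hm⟩ := hqodd
  have hB : 2 * h * r ≤ (q - 1) / 2 + 1 := by
    have : 2 * (2 * h * r) = 4 * h * r := by ring
    omega
  set B := (q - 1) / 2
  have hrh : r ≤ h * r := Nat.le_mul_of_pos_left r hh
  obtain ⟨i, rfl⟩ := hr
  obtain ⟨j, rfl⟩ := hd
  have hji : 2 * j ≤ i := by omega
  have h1 : (2 * i + 1) * (2 * h * (2 * i + 1)) ≤ (2 * i + 1) * (B + 1) := Nat.mul_le_mul_left _ hB
  have h2 : (2 * j + 1) ^ 2 ≤ (i + 1) ^ 2 := Nat.pow_le_pow_left (by omega) 2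
  have h3 : 4 * h * (2 * j + 1) ^ 2 ≤ 4 * h * (i + 1) ^ 2 := Nat.mul_le_mul_left _ h2
  rcases Nat.lt_or_ge i 2 with hi | hi
  · obtain rfl : i = 1 := by omega
    obtain rfl : j = 0 := by omega
    constructor <;> nlinarith
  · constructor
    · nlinarith [Nat.mul_le_mul hh (Nat.mul_le_mul hi hi), Nat.mul_le_mul hh hi]
    · nlinarith [Nat.mul_le_mul hh (Nat.mul_le_mul hi hi), Nat.mul_le_mul hh hi]

/-- **The Φ-trick.** -/
theorem false_of_phi [IsSimpleGroup G] {z σ : G} {U : Subgroup G} {h : ℕ}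
    (hD : Data z σ U h) {b : G} (hb : b ∈ centralizer ({z} : Set G))
    {N A L : Subgroup G} (hAN : A ≤ N) (hLN : L ≤ N) (hcomm : ∀ x ∈ A, ∀ l ∈ L, x * l = l * x)
    (hdisj : ∀ x ∈ A, x ∈ L → x = 1) (hgen : ∀ n ∈ N, ∃ x ∈ A, ∃ l ∈ L, n = x * l)
    (hA : Odd (Nat.card A)) (hAc : IsCyclic A)
    {r : ℕ} (hr : r.Prime) (hr2 : r ≠ 2) {a : G} (haA : a ∈ A) (ha : orderOf a = r)
    (hnorm : normalizer (zpowers a : Set G) ≤ N)
    {K : Type} [Field K] [Fintype K] (f : L ≃* Matrix.ProjectiveSpecialLinearGroup (Fin 2) K)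
    (hK : Odd (Fintype.card K))
    (hrq : (Fintype.card K % 4 = 1 ∧ r ∣ Fintype.card K - 1) ∨
      (Fintype.card K % 4 = 3 ∧ r ∣ Fintype.card K + 1))
    (hq : 4 * h * r ≤ Fintype.card K + 1)
    {ζ l y w : G} (k : ℤ) (hl : l ∈ L) (hζ : ζ = a ^ k * l) (hζo : orderOf ζ = r)
    (hya : y * a * y⁻¹ = a * ζ) (hyζ : y * ζ * y⁻¹ = ζ) (hw : w * ζ * w⁻¹ = ζ⁻¹)
    {F : Subgroup G} {d : ℕ} (hd : F.relIndex U = d) (hdr : 2 * d ≤ r + 1)
    (hF : ∀ x ∈ F, ∀ x' ∈ F,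
      (∀ u ∈ U, u * (x * x' * x⁻¹ * x'⁻¹) = x * x' * x⁻¹ * x'⁻¹ * u) ∧
        b * (x * x' * x⁻¹ * x'⁻¹) * b⁻¹ = (x * x' * x⁻¹ * x'⁻¹)⁻¹) : False := by
  classical
  haveI := Fintype.ofFinite G
  haveI := Fintype.ofFinite U
  haveI := Fintype.ofFinite (zpowers σ)
  haveI := Fintype.ofFinite L
  haveI := hAc
  obtain ⟨φ, e, hφ, he, her, hsupp, h2, htriv⟩ := exists_norm_two f hK hr hr2 hrq
  obtain ⟨Φ, hΦ, hvan, hΦ1, hn4, ht, hp⟩ :=
    exists_induced hAN hLN hcomm hdisj hgen hA hr haA ha hnorm hφ he her hsupp h2 htriv hD.hz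
  have hdodd : Odd d := by
    rw [← hd]
    exact hD.odd.of_dvd_nat (index_dvd_card _)
  have hr3 : 3 ≤ r := by have := hr.two_le; omega
  obtain ⟨hn1, hn2⟩ := numeric (hr.odd_of_ne_two hr2) hr3 hD.hpos hdodd hdr hq hK
  refine hD.false_of_four hb (dd := d) (fun θ hθ => theta_bound U F hD.odd (hD.normal b hb) hF hd.le θ hθ)
    hΦ (fun g hg => hvan g ?_) hΦ1 hn4 ht hp (fun χ hχ _ n hn => ?_) hn1 hn2
  · obtain ⟨x, hx, hx1, u, hu, rfl⟩ := hg
    obtain ⟨i, hi⟩ := hD.exists_order hx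
    rcases i with _ | i
    · exact absurd (orderOf_eq_one_iff.1 (by simpa using hi)) hx1
    have hco : (orderOf x).Coprime (orderOf u) := by
      rw [hi]
      exact Nat.Coprime.pow_left _ (Nat.coprime_two_left.2
        (hD.odd.of_dvd_nat (U.orderOf_dvd_natCard hu)))
    rw [(show Commute x u from hD.comm_zpowers hx hu).orderOf_mul_eq_mul_orderOf_of_coprime hco, hi]
    exact (Nat.even_pow.2 ⟨even_two, Nat.succ_ne_zero i⟩).mul_right _
  · refine degree_bound hr hr2 ha L (fun l hl => hcomm a haA l hl)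
      (fun θ hθ m hm => degree_ge f hK θ.2 hθ hm) k hl hζ (by rw [← hζo, pow_orderOf_eq_one]) hya hyζ hw
      (faithful hχ fun h1 => ?_) hn
    rw [h1, orderOf_one] at hζo
    exact hr.one_lt.ne hζo

end CfsgLib.GW.PhiTrick
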