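import Cfsg.Agent.GW.Setting
import Cfsg.Agent.SuzukiWong.Sections
import Cfsg.Agent.BlocksFrobenius.KleinShape
import Cfsg.Agent.Characters.FixedPoints

/-!
# Gorenstein–Walter: degrees in the principal block

A principal block character takes the value `χ z` on the products of an involution of the four-group
`⟨z, b⟩` with the elements of `W = fix z b`; so its non-trivial multiplicities on `W` are divisible
by four.
-/

set_option autoImplicit false
set_option linter.style.haveILetI false
set_option linter.unusedSectionVars false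

open Subgroup
open scoped ComplexConjugate

namespace CfsgLib.GW

open Cfsg CfsgLib.Characters CfsgLib.PrincipalBlock

universe u

variable {G : Type u} [Group G]

theorem core_normal_subgroupOf [Finite G] (z : G) :
    ((core z).subgroupOf (centralizer ({z} : Set G))).Normal :=
  ⟨fun x hx g => by
    rw [mem_subgroupOf] at hx ⊢
    push_cast
    exact core_conj g.2 hx⟩

namespace Minimal

variable [Fintype G] (hG : Minimal G) {M : Ideal AlgInt} [M.IsPrime]
include hG

/-- Principal block characters are constant on an involution times the odd elements commuting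
with it. -/
theorem apply_invol_mul (hM : Cfsg.IsPModular 2 M) {χ : IrrCharacter G}
    (hχ : χ ∈ Cfsg.principalBlock M G) {v w : G} (hv : orderOf v = 2) (hc : w * v = v * w)
    (hw : Odd (orderOf w)) : (χ : G → ℂ) (v * w) = (χ : G → ℂ) v := by
  haveI : Fact (Nat.Prime 2) := ⟨Nat.prime_two⟩
  exact SuzukiWong.apply_mul_core hM ⟨1, by rw [hv, pow_one]⟩ (core v) (core_le v)
    (core_normal_subgroupOf v) (odd_core v).not_two_dvd_nat hχ
    (hG.mem_core hv (mem_centralizer_singleton_iff.2 hc) hw)

open Classical in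
/-- Multiplicities on `fix z b` of a principal block character. -/
theorem four_dvd_inner (hM : Cfsg.IsPModular 2 M) {z b : G} (hz : orderOf z = 2)
    (hb : orderOf b = 2) (hne : z ≠ b) (hzb : z * b = b * z) [Fintype (fix z b)]
    {χ : IrrCharacter G} (hχ : χ ∈ Cfsg.principalBlock M G) (μ : IrrCharacter (fix z b)) :
    ∃ m : ℕ, classInner (fun w : fix z b => (χ : G → ℂ) w) (μ : fix z b → ℂ) +
      (if μ = trivChar _ then 3 * (χ : G → ℂ) z else 0) = 4 * (m : ℂ) := by
  haveI : Fact (Nat.Prime 2) := ⟨Nat.prime_two⟩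
  obtain ⟨hV, hcases⟩ := hG.four_spec hz hb hne hzb
  set V := closure ({z, b} : Set G) with hVdef
  haveI := Fintype.ofFinite V
  have hV4 : Nat.card V = 4 := (TwoGroups.isKleinFour_iff.1 hV).1
  have hzb2 : orderOf (z * b) = 2 := orderOf_eq_prime (by
      rw [pow_two, mul_assoc, ← mul_assoc b, ← hzb, mul_assoc, Small.mul_self_of_orderOf_two hb,
        mul_one, Small.mul_self_of_orderOf_two hz])
    fun e => hne (by
      rw [eq_inv_of_mul_eq_one_left e, Small.inv_eq_self_of_orderOf_two hb])
  have hcomm : ∀ (v : V) (w : fix z b), Commute (V.subtype v) ((fix z b).subtype w) := by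
    intro v w
    obtain ⟨h1, h2, -⟩ := (hG.mem_fix hz).1 w.2
    show (v : G) * (w : G) = (w : G) * (v : G)
    rcases hcases v v.2 with e | e | e | e <;> rw [e]
    · rw [one_mul, mul_one]
    · exact h1.symm
    · exact h2.symm
    · rw [mul_assoc, ← h2, ← mul_assoc, ← h1, mul_assoc]
  set f : V × fix z b →* G := MonoidHom.noncommCoprod V.subtype (fix z b).subtype hcomm with hf
  obtain ⟨m, hm⟩ := classInner_characters
    (isCharacter_comp f (isCharacter_of_isIrr χ.2))
    (isCharacter_comp (MonoidHom.snd V (fix z b)) (isCharacter_of_isIrr μ.2))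
  refine ⟨m, ?_⟩
  have hval : ∀ (v : V) (w : fix z b), (χ : G → ℂ) (f (v, w)) =
      (χ : G → ℂ) z + if v = 1 then (χ : G → ℂ) w - (χ : G → ℂ) z else 0 := by
    intro v w
    show (χ : G → ℂ) ((v : G) * (w : G)) = _
    split_ifs with hv
    · rw [hv, OneMemClass.coe_one, one_mul]; ring
    · have hv2 : orderOf (v : G) = 2 := by
        rcases hcases v v.2 with e | e | e | e
        · exact absurd (Subtype.ext e) hv
        all_goals rw [e]; assumption
      obtain ⟨g, hg⟩ := isConj_iff.1 (hG.isConj hz hv2)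
      rw [hG.apply_invol_mul hM hχ hv2 (show (w : G) * v = v * w from (hcomm v w).symm.eq)
        (odd_orderOf_core (fix_le_core z b w.2)), add_zero, ← hg]
      exact isClassFunction_of_isIrr χ.2 z g
  have hsum : ∑ w : fix z b, conj ((μ : fix z b → ℂ) w) =
      (Nat.card (fix z b) : ℂ) * (if μ = trivChar _ then 1 else 0) := by
    have h0 := classInner_irr (trivChar (fix z b)) μ
    simp only [Cfsg.classInner, trivChar_apply, one_mul] at h0
    rw [inv_mul_eq_iff_eq_mul₀ (Nat.cast_ne_zero.2 Nat.card_pos.ne')] at h0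
    rw [h0]
    simp only [eq_comm]
  have hN : (Nat.card (V × fix z b) : ℂ) = 4 * Nat.card (fix z b) := by
    rw [Nat.card_prod, hV4]; push_cast; rfl
  rw [← hm]
  simp only [Cfsg.classInner, hN, MonoidHom.coe_snd, Fintype.sum_prod_type, hval, add_mul,
    Finset.sum_add_distrib, ite_mul, zero_mul, sub_mul]
  have hV4' : (Finset.univ : Finset V).card = 4 := by
    rw [Finset.card_univ, ← Nat.card_eq_fintype_card, hV4]
  rw [Finset.sum_comm (f := fun v w => ite _ _ _)]
  simp only [Finset.sum_ite_eq', Finset.mem_univ, if_true, Finset.sum_sub_distrib, ← Finset.mul_sum,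
    Finset.sum_const, hV4', hsum, nsmul_eq_mul]
  have hW : (Nat.card (fix z b) : ℂ) ≠ 0 := Nat.cast_ne_zero.2 Nat.card_pos.ne'
  split_ifs <;> field_simp <;> push_cast <;> ring

/-- A real non-trivial principal block character has degree at least eight more than its
multiplicity of the trivial character of `fix z b`. -/
theorem degree_real (hM : Cfsg.IsPModular 2 M) {z b : G} (hz : orderOf z = 2)
    (hb : orderOf b = 2) (hne : z ≠ b) (hzb : z * b = b * z) (hW : fix z b ≠ ⊥)
    {χ : IrrCharacter G} (hχ : χ ∈ Cfsg.principalBlock M G) (hχ1 : χ ≠ trivChar G)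
    (hreal : ∀ g, conj ((χ : G → ℂ) g) = (χ : G → ℂ) g) {d : ℕ} {s : ℤ}
    (hd : (χ : G → ℂ) 1 = d) (hs : (χ : G → ℂ) z = s) :
    ∃ m₀ k : ℕ, d = m₀ + 4 * k ∧ 2 ≤ k ∧ (4 : ℤ) ∣ (m₀ : ℤ) - s := by
  classical
  haveI := Fintype.ofFinite (fix z b)
  set W := fix z b with hWdef
  set θ : W → ℂ := fun w => (χ : G → ℂ) w with hθ
  have hθc : IsCharacter W θ := isCharacter_comp W.subtype (isCharacter_of_isIrr χ.2)
  obtain ⟨m, hm⟩ := exists_nat_coeff hθc
  have hcoef : ∀ μ : IrrCharacter W, classInner θ (μ : W → ℂ) = m μ := fun μ => by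
    rw [hm, classInner_irr_coeff]
  choose n hn using fun μ : IrrCharacter W => hG.four_dvd_inner hM hz hb hne hzb hχ μ
  have hn' : ∀ μ, μ ≠ trivChar W → m μ = 4 * n μ := fun μ hμ => by
    have e := hn μ
    rw [if_neg hμ, add_zero, hcoef] at e
    exact_mod_cast e
  have h0 : (4 : ℤ) ∣ (m (trivChar W) : ℤ) - s := by
    have e := hn (trivChar W)
    rw [if_pos rfl, hcoef, hs] at e
    have e' : (m (trivChar W) : ℤ) + 3 * s = 4 * n (trivChar W) := by
      apply Int.cast_injective (α := ℂ); push_cast; linear_combination e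
    exact ⟨n (trivChar W) - s, by linarith⟩
  -- the restriction is not trivial
  obtain ⟨μ, hμ1, hμ⟩ : ∃ μ, μ ≠ trivChar W ∧ 0 < n μ := by
    by_contra hno
    push Not at hno
    have hconst : ∀ w : W, θ w = (m (trivChar W) : ℂ) := fun w => by
      rw [hm, Finset.sum_apply, Finset.sum_eq_single (trivChar W)]
      · simp
      · intro μ _ hμ
        simp [hn' μ hμ, Nat.le_zero.1 (hno μ hμ)]
      · simp
    haveI := hG.simple
    rcases (charKer_normal χ).eq_bot_or_eq_top with h | h
    · refine hW (eq_bot_iff.2 fun w hw => ?_)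
      rw [← h, mem_charKer]
      exact (hconst ⟨w, hw⟩).trans (hconst 1).symm
    · exact hχ1 (eq_trivChar_of_charKer_eq_top h)
  let μc : IrrCharacter W := ⟨fun w => conj ((μ : W → ℂ) w), isIrr_conj μ.2⟩
  have hμc1 : μc ≠ trivChar W := fun e => hμ1 (Subtype.ext (funext fun w => by
    have := congrFun (congrArg Subtype.val e) w
    simp only [μc, trivChar_apply] at this ⊢
    rw [← Complex.conj_conj ((μ : W → ℂ) w), this, map_one]))
  have hμne : μc ≠ μ := fun e => hμ1 (Subtype.ext (eq_one_of_real_of_odd (odd_fix z b) μ.2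
    fun w => Complex.conj_eq_iff_im.1 (congrFun (congrArg Subtype.val e) w)))
  have hmc : m μc = m μ := by
    have e := classInner_conj_conj θ (μ : W → ℂ)
    rw [show (fun w => conj (θ w)) = θ from funext fun w => hreal _, hcoef, map_natCast] at e
    exact_mod_cast (hcoef μc).symm.trans e
  choose e he0 he using fun ν : IrrCharacter W => exists_degree_pos ν.2
  have hd' : d = m (trivChar W) + ∑ ν ∈ Finset.univ.erase (trivChar W), 4 * (n ν * e ν) := by
    have h1 : ((d : ℕ) : ℂ) = ((∑ ν : IrrCharacter W, m ν * e ν : ℕ) : ℂ) := by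
      rw [← hd, show (χ : G → ℂ) 1 = θ 1 by simp [hθ], hm, Finset.sum_apply]
      push_cast
      exact Finset.sum_congr rfl fun ν _ => by rw [Pi.smul_apply, smul_eq_mul, he]
    have he1 : e (trivChar W) = 1 := by
      have := he (trivChar W)
      rw [trivChar_apply] at this
      exact_mod_cast this.symm
    rw [Nat.cast_inj.1 h1, ← Finset.add_sum_erase _ _ (Finset.mem_univ (trivChar W)), he1, mul_one]
    congr 1
    exact Finset.sum_congr rfl fun ν hν => by rw [hn' ν (Finset.ne_of_mem_erase hν), mul_assoc]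
  refine ⟨_, ∑ ν ∈ Finset.univ.erase (trivChar W), n ν * e ν, by rw [hd', Finset.mul_sum], ?_, h0⟩
  have hnc : n μc = n μ := by
    have := hn' μ hμ1; have := hn' μc hμc1; omega
  calc 2 ≤ n μc * e μc + n μ * e μ := by
        have h1 : 1 ≤ n μ * e μ := Nat.mul_pos hμ (he0 μ)
        have h2 : 1 ≤ n μc * e μc := Nat.mul_pos (hnc ▸ hμ) (he0 μc)
        omega
    _ = ∑ ν ∈ ({μc, μ} : Finset _), n ν * e ν := (Finset.sum_pair hμne (f := fun ν => n ν * e ν)).symm
    _ ≤ _ := Finset.sum_le_sum_of_subset (Finset.insert_subset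
        (Finset.mem_erase.2 ⟨hμc1, Finset.mem_univ _⟩)
        (Finset.singleton_subset_iff.2 (Finset.mem_erase.2 ⟨hμ1, Finset.mem_univ _⟩)))

end Minimal

end CfsgLib.GW
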