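import Cfsg.Agent.GW.TwistSep
import Cfsg.Agent.SuzukiWong.TI

/-!
# Gorenstein–Walter: pairs and degrees for the linear twists

The elements having `z` as a power form a trivial intersection set of `C = C(z)`.  Induction from
it is an isometry; pairs of conjugates of `z` do not see a linear twist trivial on involutions; an
irreducible character with a twisted component has large degree.
-/

set_option autoImplicit false
set_option linter.style.haveILetI false
set_option linter.unusedSectionVars false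

namespace CfsgLib.GW.Tw

open Subgroup Cfsg CfsgLib.Blocks CfsgLib.PrincipalBlock CfsgLib.Characters CfsgLib.CharactersDeep.ClassPairs
open scoped ComplexConjugate

universe u

variable {G : Type u} [Group G]

/-- Two involutions of a cyclic group are equal. -/
theorem invol_unique [Finite G] {x a b : G} (ha : orderOf a = 2) (hb : orderOf b = 2)
    (hax : a ∈ zpowers x) (hbx : b ∈ zpowers x) : a = b := by
  classical
  haveI := Fintype.ofFinite (zpowers x)
  haveI : IsCyclic (zpowers x) := inferInstance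
  have h2 := IsCyclic.card_pow_eq_one_le (α := zpowers x) (n := 2) two_pos
  by_contra hne
  have hsub : ({1, ⟨a, hax⟩, ⟨b, hbx⟩} : Finset (zpowers x)) ⊆
      Finset.univ.filter fun y => y ^ 2 = 1 := by
    intro y hy
    simp only [Finset.mem_insert, Finset.mem_singleton] at hy
    refine Finset.mem_filter.2 ⟨Finset.mem_univ _, ?_⟩
    rcases hy with rfl | rfl | rfl
    · exact one_pow _
    · exact Subtype.ext (by push_cast; rw [← ha, pow_orderOf_eq_one])
    · exact Subtype.ext (by push_cast; rw [← hb, pow_orderOf_eq_one])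
  have h3 := (Finset.card_le_card hsub).trans h2
  rw [Finset.card_insert_of_notMem, Finset.card_pair] at h3
  · omega
  · exact fun e => hne (congrArg Subtype.val e)
  · simp only [Finset.mem_insert, Finset.mem_singleton, not_or]
    constructor <;> intro e
    · rw [← show (1 : G) = a from congrArg Subtype.val e, orderOf_one] at ha
      omega
    · rw [← show (1 : G) = b from congrArg Subtype.val e, orderOf_one] at hb
      omega

/-- `Θ` restricted to `P` misses constituents of total degree at least `N` in every nontrivial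
irreducible character. -/
def Big [Fintype G] {z : G} (P : Subgroup G) [Fintype P] (Θ : Finset (Lin z)) (N : ℕ) : Prop :=
  ∀ χ : IrrCharacter G, χ ≠ trivChar G → ∃ s : Finset (IrrCharacter P),
    (∀ ν ∈ s, (∀ L ∈ Θ, (ν : P → ℂ) ≠ fun y : P => lv L (y : G)) ∧
      classInner (fun y : P => (χ : G → ℂ) y) (ν : P → ℂ) ≠ 0) ∧
    N ≤ ∑ ν ∈ s, Cfsg.charDegree (ν : P → ℂ)

/-- A twisted class function. -/
noncomputable def tw {z : G} (L : Lin z) (φ : centralizer ({z} : Set G) → ℂ) :
    centralizer ({z} : Set G) → ℂ := fun c => (L c : ℂ) * φ c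

/-- A class function on the centralizer, supported where `z` is a power, constant on the cosets of
`U`, with integral coefficients. -/
structure Test (z : G) (U : Subgroup G) (φ : centralizer ({z} : Set G) → ℂ) : Prop where
  gen : IsGeneralizedCharacter (centralizer ({z} : Set G)) φ
  supp : ∀ c : centralizer ({z} : Set G), (c : G) ∉ dset z → φ c = 0
  coset : ∀ c u : centralizer ({z} : Set G), (u : G) ∈ U → φ (c * u) = φ c

variable {z : G} {U : Subgroup G} [Fintype G] (hF : Frame z U)
include hF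

theorem Frame.ti : SuzukiWong.TI (centralizer ({z} : Set G)) (centralizer ({z} : Set G)) (dset z) where
  le := le_rfl
  normal m hm h hh := mul_mem (mul_mem hm hh) (inv_mem hm)
  sub := dset_le
  stable m hm g hg := by
    obtain ⟨k, hk⟩ := hg
    replace hk : g ^ k = z := hk
    refine ⟨k, ?_⟩
    show (m * g * m⁻¹) ^ k = z
    rw [conj_zpow, hk, mem_centralizer_singleton_iff.1 hm, mul_inv_cancel_right]
  fusion g hg x hx := by
    obtain ⟨k, hk⟩ := hg
    replace hk : g ^ k = z := hk
    refine mem_centralizer_singleton_iff.2 (mul_inv_eq_iff_eq_mul.1 ?_)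
    refine invol_unique (x := x * g * x⁻¹) ?_ hF.hz ⟨k, ?_⟩ hx
    · rw [Small.orderOf_conj_eq, hF.hz]
    · show (x * g * x⁻¹) ^ k = x * z * x⁻¹
      rw [conj_zpow, hk]

variable [Fintype (centralizer ({z} : Set G))]

/-- Induction from the trivial intersection set is an isometry. -/
theorem Frame.inner {f f' : centralizer ({z} : Set G) → ℂ}
    (hf' : IsClassFunction (centralizer ({z} : Set G)) f')
    (hs : ∀ c : centralizer ({z} : Set G), (c : G) ∉ dset z → f c = 0)
    (hs' : ∀ c : centralizer ({z} : Set G), (c : G) ∉ dset z → f' c = 0) :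
    classInner (indFun _ f) (indFun _ f') = classInner f f' := by
  classical
  rw [hF.ti.inner hs hs', Finset.sum_congr rfl (g := fun g : G =>
    if g ∈ centralizer ({z} : Set G) then classInner f f' else 0) fun g _ => ?_, ← Finset.sum_filter,
    Finset.sum_const, nsmul_eq_mul, ← mul_assoc]
  · rw [show ((Finset.univ.filter fun g : G => g ∈ centralizer ({z} : Set G)).card : ℂ) =
      (Nat.card (centralizer ({z} : Set G)) : ℂ) by
        rw [Nat.card_eq_fintype_card, Fintype.card_subtype],
      inv_mul_cancel₀ (subgroup_card_ne_zero _), one_mul]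
  · split_ifs with hg
    · congr 1
      funext c
      have e : g⁻¹ * (c : G) * g = ((⟨g, hg⟩⁻¹ * c * ⟨g, hg⟩ : centralizer ({z} : Set G)) : G) :=
        rfl
      rw [SuzukiWong.conjOn, e, extendByZero_coe]
      simpa using hf' c (⟨g, hg⟩ : centralizer ({z} : Set G))⁻¹
    · rfl

theorem Frame.test_tw {φ : centralizer ({z} : Set G) → ℂ} (hφ : Test z U φ) (L : Lin z) :
    IsGeneralizedCharacter (centralizer ({z} : Set G)) (tw L φ) ∧
      ∀ c : centralizer ({z} : Set G), (c : G) ∉ dset z → tw L φ c = 0 :=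
  ⟨isGen_mul (isGen_of_isIrr (isIrr_linChar L)) hφ.gen, fun c hc => by
    rw [tw, hφ.supp c hc, mul_zero]⟩

/-- The norm of a twisted function. -/
theorem Frame.norm_tw {φ : centralizer ({z} : Set G) → ℂ} (hφ : Test z U φ) (L : Lin z) :
    classInner (indFun _ (tw L φ)) (indFun _ (tw L φ)) = classInner φ φ := by
  rw [hF.inner (isClassFunction_of_isGen (hF.test_tw hφ L).1) (hF.test_tw hφ L).2
    (hF.test_tw hφ L).2, classInner, classInner]
  congr 1
  refine Finset.sum_congr rfl fun c _ => ?_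
  rw [tw, map_mul, mul_mul_mul_comm, SuzukiWong.norm_linear, one_mul]

/-- Pairs of involutions do not see the twist. -/
theorem Frame.pairs_eq {φ : centralizer ({z} : Set G) → ℂ} (hφ : Test z U φ) (L : Lin z)
    (htriv : ∀ c : centralizer ({z} : Set G), c * c = 1 → L c = 1) :
    ∑ χ : IrrCharacter G, classInner (indFun _ (tw L φ)) (χ : G → ℂ) * (χ : G → ℂ) z ^ 2 /
        (χ : G → ℂ) 1 =
      ∑ χ : IrrCharacter G, classInner (indFun _ φ) (χ : G → ℂ) * (χ : G → ℂ) z ^ 2 /
        (χ : G → ℂ) 1 := by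
  classical
  have hz2 : z * z = 1 := Small.mul_self_of_orderOf_two hF.hz
  have hinv : ∀ g ∈ dset z, ∀ i : G, IsConj z i → i * g * i⁻¹ = g⁻¹ →
      i ∈ centralizer ({z} : Set G) := by
    rintro g ⟨k, hk⟩ i - hi
    replace hk : g ^ k = z := hk
    refine mem_centralizer_singleton_iff.2 (mul_inv_eq_iff_eq_mul.1 ?_)
    rw [← hk, ← conj_zpow, hi, inv_zpow, hk, inv_eq_of_mul_eq_one_right hz2]
  have e1 := SuzukiWong.pair_count
    (isClassFunction_indFun (centralizer ({z} : Set G)) (tw L φ)) z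
  have e2 := SuzukiWong.pair_count (isClassFunction_indFun (centralizer ({z} : Set G)) φ) z
  rw [hF.ti.pairs (hF.test_tw hφ L).2 hz2 hinv] at e1
  rw [hF.ti.pairs hφ.supp hz2 hinv] at e2
  have heq : ∀ p ∈ SuzukiWong.inM (centralizer ({z} : Set G)) z ×ˢ
      SuzukiWong.inM (centralizer ({z} : Set G)) z,
      extendByZero (centralizer ({z} : Set G)) (tw L φ) (p.1 * p.2) =
        extendByZero (centralizer ({z} : Set G)) φ (p.1 * p.2) := by
    intro p hp
    obtain ⟨h1, h2⟩ := Finset.mem_product.1 hp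
    obtain ⟨a1, b1⟩ := SuzukiWong.mem_inM.1 h1
    obtain ⟨a2, b2⟩ := SuzukiWong.mem_inM.1 h2
    rw [extendByZero_of_mem _ _ (mul_mem b1 b2), extendByZero_of_mem _ _ (mul_mem b1 b2), tw,
      show (⟨p.1 * p.2, mul_mem b1 b2⟩ : centralizer ({z} : Set G)) = ⟨p.1, b1⟩ * ⟨p.2, b2⟩ from rfl,
      map_mul, htriv _ (Subtype.ext (SuzukiWong.mul_self_of_isConj hz2 a1)),
      htriv _ (Subtype.ext (SuzukiWong.mul_self_of_isConj hz2 a2)), mul_one, Units.val_one, one_mul]
  rw [Finset.sum_congr rfl heq, e2] at e1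
  exact mul_left_cancel₀ (pow_ne_zero 2 (Nat.cast_ne_zero.2
    (Finset.card_ne_zero.2 ⟨z, mem_classSet.2 (IsConj.refl z)⟩))) e1.symm

/-- A constituent of a twisted function has a nonzero component. -/
theorem Frame.exists_mu_ne_zero {φ : centralizer ({z} : Set G) → ℂ} (hφ : Test z U φ) (L : Lin z)
    (χ : IrrCharacter G) (hne : classInner (indFun _ (tw L φ)) (χ : G → ℂ) ≠ 0) :
    ∃ h ∈ dset z, mu U L (χ : G → ℂ) h ≠ 0 := by
  classical
  by_contra hcon
  push Not at hcon
  apply hne
  obtain ⟨n, hn, -, hmu⟩ := hF.exists_expansion (isCharacter_of_isIrr χ.2)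
  rw [classInner_indFun _ _ (isClassFunction_of_isIrr χ.2)]
  -- average over the cosets
  have hU : (Nat.card U : ℂ) ≠ 0 := subgroup_card_ne_zero U
  have hshift : ∀ u : centralizer ({z} : Set G), (u : G) ∈ U →
      ∑ c, tw L φ c * conj ((χ : G → ℂ) (c : G)) =
      ∑ c : centralizer ({z} : Set G),
        (L c : ℂ) * φ c * ((L u : ℂ) * conj ((χ : G → ℂ) ((c : G) * u))) := by
    intro u hu
    refine (Fintype.sum_equiv (Equiv.mulRight u) _ _ fun c => ?_).symm
    rw [Equiv.coe_mulRight, tw, hφ.coset c u hu, map_mul, Units.val_mul]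
    push_cast
    ring
  have hsum : (Nat.card U : ℂ) * ∑ c, tw L φ c * conj ((χ : G → ℂ) (c : G)) =
      ∑ c : centralizer ({z} : Set G), (L c : ℂ) * φ c *
        ((Nat.card U : ℂ) * conj (mu U L (χ : G → ℂ) c)) := by
    calc _ = ∑ u : centralizer ({z} : Set G), (if (u : G) ∈ U then
          ∑ c, tw L φ c * conj ((χ : G → ℂ) (c : G)) else 0) := by
          rw [← Finset.sum_filter, Finset.sum_const, nsmul_eq_mul]
          congr 2
          rw [← Nat.card_congr (subgroupOfEquivOfLe hF.le).toEquiv, Nat.card_eq_fintype_card,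
            Fintype.card_subtype]
          simp [mem_subgroupOf]
      _ = ∑ c : centralizer ({z} : Set G), ∑ u : centralizer ({z} : Set G), (if (u : G) ∈ U then
            (L c : ℂ) * φ c * ((L u : ℂ) * conj ((χ : G → ℂ) ((c : G) * u))) else 0) := by
          rw [Finset.sum_comm]
          refine Finset.sum_congr rfl fun u _ => ?_
          split_ifs with hu
          · exact hshift u hu
          · simp
      _ = _ := by
          refine Finset.sum_congr rfl fun c _ => ?_
          rw [hF.mu_eq_sum L (χ : G → ℂ) c, map_mul, map_inv₀, map_natCast,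
            mul_inv_cancel_left₀ hU, map_sum, Finset.mul_sum]
          refine Finset.sum_congr rfl fun u _ => ?_
          split_ifs
          · rw [map_mul, Complex.conj_conj]; ring
          · simp
  have h0 : ∑ c, tw L φ c * conj ((χ : G → ℂ) (c : G)) = 0 := by
    refine (mul_eq_zero.1 (hsum.trans (Finset.sum_eq_zero fun c _ => ?_))).resolve_left hU
    by_cases hc : (c : G) ∈ dset z
    · rw [hcon _ hc]; simp
    · rw [hφ.supp c hc]; simp
  rw [classInner, h0, mul_zero]

/-- The twisted function has no trivial constituent. -/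
theorem Frame.inner_triv {φ : centralizer ({z} : Set G) → ℂ} (hφ : Test z U φ) (L : Lin z)
    (hL : ∃ u ∈ U, lv L u ≠ 1) :
    classInner (indFun _ (tw L φ)) ((trivChar G : IrrCharacter G) : G → ℂ) = 0 := by
  classical
  obtain ⟨u, hu, hLu⟩ := hL
  rw [classInner_indFun _ _ (isClassFunction_of_isIrr (trivChar G).2), classInner]
  rw [lv_of_mem L (hF.le hu)] at hLu
  have e : (L ⟨u, hF.le hu⟩ : ℂ) * ∑ c, tw L φ c *
      conj (((trivChar G : IrrCharacter G) : G → ℂ) (c : G)) =
      ∑ c, tw L φ c * conj (((trivChar G : IrrCharacter G) : G → ℂ) (c : G)) := by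
    rw [Finset.mul_sum]
    refine Fintype.sum_equiv (Equiv.mulRight ⟨u, hF.le hu⟩) _ _ fun c => ?_
    simp only [Equiv.coe_mulRight, tw, hφ.coset c ⟨u, hF.le hu⟩ hu, map_mul, Units.val_mul,
      trivChar_apply, map_one, mul_one]
    ring
  rcases eq_or_ne (∑ c, tw L φ c *
    conj (((trivChar G : IrrCharacter G) : G → ℂ) (c : G))) 0 with h0 | h0
  · rw [h0, mul_zero]
  · exact absurd ((mul_eq_right₀ h0).1 e) hLu

open Classical in
/-- The components at `z` are orthogonal of square length the index of `U`. -/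
theorem Frame.orth (L L' : Lin z) (hzL : lv L z = 1) (hzL' : lv L' z = 1) :
    ∑ χ : IrrCharacter G, mu U L (χ : G → ℂ) z * conj (mu U L' (χ : G → ℂ) z) =
      if ∀ u ∈ U, lv L u = lv L' u then
        ((Nat.card (centralizer ({z} : Set G)) : ℂ) / (Nat.card U : ℂ)) else 0 := by
  set K : ℂ := (Nat.card (centralizer ({z} : Set G)) : ℂ) / (Nat.card U : ℂ) with hK
  have hU : (Nat.card U : ℂ) ≠ 0 := subgroup_card_ne_zero U
  have hC : (Nat.card (centralizer ({z} : Set G)) : ℂ) ≠ 0 := subgroup_card_ne_zero _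
  have hzC : z ∈ centralizer ({z} : Set G) := mem_centralizer_singleton_iff.2 rfl
  let f : Lin z → centralizer ({z} : Set G) → ℂ := fun L c =>
    if z⁻¹ * (c : G) ∈ U then K * (L c : ℂ) else 0
  have hfc : ∀ L, IsClassFunction (centralizer ({z} : Set G)) (f L) := by
    intro L c d
    have e : z⁻¹ * ((d * c * d⁻¹ : centralizer ({z} : Set G)) : G) =
        (d : G) * (z⁻¹ * c) * (d : G)⁻¹ := by
      push_cast
      calc z⁻¹ * ((d : G) * c * (d : G)⁻¹) = z⁻¹ * (d : G) * c * (d : G)⁻¹ := by group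
        _ = (d : G) * z⁻¹ * c * (d : G)⁻¹ := by
          rw [((show Commute (d : G) z from mem_centralizer_singleton_iff.1 d.2).inv_right).eq]
        _ = _ := by group
    have hiff : z⁻¹ * ((d * c * d⁻¹ : centralizer ({z} : Set G)) : G) ∈ U ↔ z⁻¹ * (c : G) ∈ U := by
      rw [e]
      refine ⟨fun h => ?_, hF.conj_mem d d.2 _⟩
      have := hF.conj_mem _ (inv_mem d.2) _ h
      simpa [mul_assoc] using this
    simp only [f, hiff, map_mul, map_inv, mul_inv_cancel_comm]
  have hfs : ∀ L, ∀ c : centralizer ({z} : Set G), (c : G) ∉ dset z → f L c = 0 := fun L c hc => by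
    simp only [f]
    refine if_neg fun h => hc ?_
    have := hF.dset_mul (h := z) (mem_zpowers z) h
    rwa [mul_inv_cancel_left] at this
  have hsum : ∀ (φ : centralizer ({z} : Set G) → ℂ),
      ∑ c : centralizer ({z} : Set G), (if z⁻¹ * (c : G) ∈ U then φ c else 0) =
        ∑ u : centralizer ({z} : Set G), (if (u : G) ∈ U then φ (⟨z, hzC⟩ * u) else 0) := fun φ =>
    Fintype.sum_equiv (Equiv.mulLeft ⟨z, hzC⟩⁻¹) _ _ fun c => by
      simp only [Equiv.coe_mulLeft, mul_inv_cancel_left]
      push_cast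
      rfl
  have hval : ∀ (L : Lin z), lv L z = 1 → ∀ χ : IrrCharacter G,
      classInner (indFun _ (f L)) (χ : G → ℂ) = conj (mu U L (χ : G → ℂ) z) := by
    intro L hL χ
    rw [classInner_indFun _ _ (isClassFunction_of_isIrr χ.2), hF.mu_eq_sum, map_mul, map_inv₀,
      map_natCast, map_sum, classInner]
    simp only [f, ite_mul, zero_mul]
    rw [hsum fun c => K * (L c : ℂ) * conj ((χ : G → ℂ) (c : G)), Finset.mul_sum, Finset.mul_sum]
    refine Finset.sum_congr rfl fun u _ => ?_
    rw [lv_of_mem L hzC] at hL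
    split_ifs
    · rw [map_mul, Units.val_mul, hL, one_mul, map_mul, Complex.conj_conj, hK]
      push_cast
      field_simp
    · simp
  have e := hF.inner (f := f L') (f' := f L) (hfc L) (hfs L') (hfs L)
  rw [classInner_eq_sum (isClassFunction_indFun _ _)] at e
  simp only [hval L hzL, hval L' hzL', Complex.conj_conj] at e
  rw [Finset.sum_congr rfl fun (χ : IrrCharacter G) _ => mul_comm (mu U L (χ : G → ℂ) z)
    (conj (mu U L' (χ : G → ℂ) z)), e, classInner]
  simp only [f, ite_mul, zero_mul, apply_ite conj, map_zero, mul_ite, mul_zero, ← ite_and,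
    and_self]
  rw [hsum fun c => K * (L' c : ℂ) * conj (K * (L c : ℂ)),
    Finset.sum_congr rfl (g := fun u : centralizer ({z} : Set G) => K * K *
      (if (u : G) ∈ U then (L' u : ℂ) * conj ((L u : ℂ)) else 0)) fun u _ => ?_, ← Finset.mul_sum]
  · let ξ : IrrCharacter (centralizer ({z} : Set G)) := ⟨fun c => (L' c : ℂ), isIrr_linChar L'⟩
    have e0 := hF.sum_over L ξ 1
    simp only [ξ, one_mul, map_one, Units.val_one, mul_one] at e0
    rw [e0]
    have hiff : Over U L ξ ↔ ∀ u ∈ U, lv L u = lv L' u := by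
      constructor
      · intro h u hu
        have := h 1 ⟨u, hF.le hu⟩ hu
        simp only [ξ, one_mul, map_one, Units.val_one] at this
        rw [lv_of_mem L (hF.le hu), lv_of_mem L' (hF.le hu), this]
      · intro h c u hu
        simp only [ξ, map_mul, Units.val_mul]
        have := h u hu
        rw [lv_of_mem L u.2, lv_of_mem L' u.2] at this
        rw [this]
    rw [if_congr hiff rfl rfl]
    split_ifs
    · rw [hK]
      field_simp
    · simp
  · split_ifs
    · rw [lv_of_mem L hzC] at hzL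
      rw [lv_of_mem L' hzC] at hzL'
      rw [map_mul L', map_mul L, Units.val_mul, Units.val_mul, hzL, hzL', one_mul, one_mul,
        map_mul, show conj K = K by rw [hK]; simp]
      ring
    · simp

omit hF in
/-- A character at a central involution. -/
theorem invol_split {C : Type*} [Group C] [Fintype C] {t : C} (ht : t * t = 1)
    (htc : t ∈ center C) (ξ : IrrCharacter C) :
    ∃ a b : ℕ, (ξ : C → ℂ) 1 = (a : ℂ) + b ∧ (ξ : C → ℂ) t = (a : ℂ) - b := by
  obtain ⟨n, ρ, hρ, hρc⟩ := ξ.2
  haveI := nontrivial_of_isIrreducible ρ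
  obtain ⟨c, hc⟩ := central_scalar ρ htc
  have hn : ρ.character (1 : C) = (n : ℂ) := by
    rw [Representation.char_one]; simp
  have hcc : c * c = 1 := by
    have h1 : ρ t * ρ t = 1 := by rw [← map_mul, ht, map_one]
    obtain ⟨v, hv⟩ := exists_ne (0 : Fin n → ℂ)
    have h2 := LinearMap.congr_fun h1 v
    rw [hc] at h2
    simp only [Module.End.mul_apply, LinearMap.smul_apply, LinearMap.id_apply, smul_smul,
      Module.End.one_apply] at h2
    have h3 : (c * c - 1) • v = 0 := by rw [sub_smul, h2, one_smul, sub_self]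
    exact sub_eq_zero.1 ((smul_eq_zero.1 h3).resolve_right hv)
  have ht' : ρ.character t = c * (n : ℂ) := by
    rw [Representation.character, hc, map_smul, smul_eq_mul]
    simp [LinearMap.trace_id]
  rw [← hρc]
  rcases mul_self_eq_one_iff.1 hcc with e | e
  · exact ⟨n, 0, by rw [hn]; simp, by rw [ht', e]; simp⟩
  · exact ⟨0, n, by rw [hn]; simp, by rw [ht', e]; simp⟩

open Classical in
/-- **Degrees.** -/
theorem Frame.bound {M : Ideal AlgInt} [M.IsPrime] (hM : Cfsg.IsPModular 2 M)
    {Θ : Finset (Lin z)}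
    (hdist : ∀ L ∈ Θ, ∀ L' ∈ Θ, (∀ u ∈ U, lv L u = lv L' u) → L = L')
    (hfus : Fused U Θ) {σ : G} {k : ℕ} (hσ : orderOf σ = 2 ^ k) (hzσ : z ∈ zpowers σ)
    (χ : IrrCharacter G) {L₀ : Lin z} (hL₀ : L₀ ∈ Θ) {h₀ : G} (hh₀ : h₀ ∈ dset z)
    (hne : mu U L₀ (χ : G → ℂ) h₀ ≠ 0) :
    ∃ (d : ℕ) (e : Lin z → ℕ) (c : Lin z → ℤ), (χ : G → ℂ) 1 = d ∧
      (χ : G → ℂ) z = ((∑ L ∈ Θ, c L : ℤ) : ℂ) ∧
      (∀ L ∈ Θ, mu U L (χ : G → ℂ) z = (c L : ℂ) ∧ |c L| ≤ e L ∧ (2 : ℤ) ∣ (e L : ℤ) - c L) ∧
      (∀ (P : Subgroup G) [Fintype P], P ≤ U → (∀ y ∈ P, y * σ = σ * y) →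
        ∀ ν : IrrCharacter P, ∃ q : ℕ, classInner (fun y : P => (χ : G → ℂ) y) (ν : P → ℂ) =
          ∑ L ∈ Θ, (e L : ℂ) * classInner (fun y : P => lv L (y : G)) (ν : P → ℂ) +
            ((2 ^ k * q : ℕ) : ℂ)) ∧
      ∀ (P : Subgroup G) [Fintype P] (N : ℕ), P ≤ U → (∀ y ∈ P, y * σ = σ * y) →
        Big P Θ N → χ ≠ trivChar G → 2 ^ k * N + ∑ L ∈ Θ, e L ≤ d := by
  obtain ⟨n, hn, -, hmu⟩ := hF.exists_expansion (isCharacter_of_isIrr χ.2)
  have hzC : z ∈ centralizer ({z} : Set G) := mem_centralizer_singleton_iff.2 rfl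
  have hzc : (⟨z, hzC⟩ : centralizer ({z} : Set G)) ∈ center (centralizer ({z} : Set G)) :=
    mem_center_iff.2 fun g => Subtype.ext (mem_centralizer_singleton_iff.1 g.2)
  have hz2 : (⟨z, hzC⟩ : centralizer ({z} : Set G)) * ⟨z, hzC⟩ = 1 :=
    Subtype.ext (Small.mul_self_of_orderOf_two hF.hz)
  choose a b hab1 habz using fun ξ => invol_split hz2 hzc ξ
  let e : Lin z → ℕ := fun L => ∑ ξ, if Over U L ξ then n ξ * (a ξ + b ξ) else 0
  let c : Lin z → ℤ := fun L => ∑ ξ, if Over U L ξ then (n ξ : ℤ) * ((a ξ : ℤ) - b ξ) else 0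
  have he : ∀ L, mu U L (χ : G → ℂ) ((1 : centralizer ({z} : Set G)) : G) = (e L : ℂ) := fun L => by
    rw [hmu L 1]
    simp only [e, Nat.cast_sum]
    refine Finset.sum_congr rfl fun ξ _ => ?_
    split_ifs
    · rw [hab1]; push_cast; ring
    · simp
  have hc : ∀ L, mu U L (χ : G → ℂ) z = (c L : ℂ) := fun L => by
    refine (hmu L ⟨z, hzC⟩).trans ?_
    simp only [c, Int.cast_sum]
    refine Finset.sum_congr rfl fun ξ _ => ?_
    split_ifs
    · rw [habz]; push_cast; ring
    · simp
  -- the part outside the twists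
  set R : centralizer ({z} : Set G) → ℂ :=
    ∑ ξ, (if ∃ L ∈ Θ, Over U L ξ then 0 else (n ξ : ℂ)) •
      (ξ : centralizer ({z} : Set G) → ℂ) with hR
  have hRc : IsCharacter (centralizer ({z} : Set G)) R := isCharacter_sum _ _ fun ξ _ => by
    split_ifs
    · rw [zero_smul]; exact isCharacter_zero
    · exact isCharacter_natCast_smul (isCharacter_of_isIrr ξ.2) _
  have hsplit : ∀ g : centralizer ({z} : Set G),
      (χ : G → ℂ) g = ∑ L ∈ Θ, mu U L (χ : G → ℂ) g + R g := by
    intro g
    rw [hn g, Finset.sum_congr rfl fun L _ => hmu L g, Finset.sum_comm, hR]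
    simp only [Finset.sum_apply, Pi.smul_apply, smul_eq_mul, ← Finset.sum_add_distrib]
    refine Finset.sum_congr rfl fun ξ _ => ?_
    split_ifs with h
    · obtain ⟨L, hL, hOv⟩ := h
      rw [Finset.sum_eq_single L, if_pos hOv]
      · ring
      · exact fun L' hL' hne' => if_neg fun h' => hne' (hF.over_unique hdist hL' hL h' hOv)
      · exact fun h' => absurd hL h'
    · rw [Finset.sum_eq_zero fun L hL => if_neg fun h' => h ⟨L, hL, h'⟩, zero_add]
  have hvan : ∀ g : centralizer ({z} : Set G), (g : G) ∈ dset z → R g = 0 := fun g hg => by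
    have e1 := hsplit g
    rw [hF.separation hdist hM hfus χ hL₀ hh₀ hne hg] at e1
    linear_combination -e1
  have hlin : ∀ L, ∀ y : G, ∀ hy : y ∈ U, mu U L (χ : G → ℂ) y = (e L : ℂ) * lv L y := by
    intro L y hy
    rw [← he L, hmu L 1, show y = ((⟨y, hF.le hy⟩ : centralizer ({z} : Set G)) : G) from rfl,
      hmu L ⟨y, hF.le hy⟩, Finset.sum_mul, lv_of_mem L (⟨y, hF.le hy⟩ : centralizer _).2]
    refine Finset.sum_congr rfl fun ξ _ => ?_
    split_ifs with h
    · have := h 1 ⟨y, hF.le hy⟩ hy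
      rw [one_mul] at this
      rw [this, mul_assoc]
    · rw [zero_mul]
  -- powers of `σ`
  have hσD : ∀ s ∈ zpowers σ, s ≠ 1 → s ∈ dset z := by
    intro s hs hs1
    obtain ⟨j, -, hj⟩ := (Nat.dvd_prime_pow Nat.prime_two).1
      (hσ ▸ (Nat.card_zpowers σ ▸ (zpowers σ).orderOf_dvd_natCard hs : orderOf s ∣ orderOf σ))
    have h2 : 2 ∣ orderOf s := by
      rw [hj]
      refine dvd_pow_self 2 fun h0 => hs1 ?_
      rw [← orderOf_eq_one_iff, hj, h0, pow_zero]
    obtain ⟨w, hw, hwo⟩ : ∃ w ∈ zpowers s, orderOf w = 2 :=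
      ⟨s ^ (orderOf s / 2), pow_mem (mem_zpowers s) _, by
        rw [orderOf_pow_of_dvd (Nat.div_pos (Nat.le_of_dvd (orderOf_pos s) h2) two_pos).ne'
          (Nat.div_dvd_of_dvd h2), Nat.div_div_self h2 (orderOf_pos s).ne']⟩
    exact (invol_unique hwo hF.hz ((zpowers_le.2 hs) hw) hzσ) ▸ hw
  have hdvd : ∀ (P : Subgroup G) [Fintype P], P ≤ U → (∀ y ∈ P, y * σ = σ * y) →
      ∀ ν : IrrCharacter P, ∃ q : ℕ, classInner (fun y : P => (χ : G → ℂ) y) (ν : P → ℂ) =
        ∑ L ∈ Θ, (e L : ℂ) * classInner (fun y : P => lv L (y : G)) (ν : P → ℂ) +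
          ((2 ^ k * q : ℕ) : ℂ) := by
    intro P _ hPU hPσ ν
    haveI := Fintype.ofFinite (zpowers σ)
    have hσC : zpowers σ ≤ centralizer ({z} : Set G) := by
      rw [zpowers_le]
      obtain ⟨j, hj⟩ := hzσ
      exact mem_centralizer_singleton_iff.2 (hj ▸ (Commute.self_zpow σ j).eq)
    let f : P × zpowers σ →* centralizer ({z} : Set G) :=
      { toFun := fun x => ⟨(x.1 : G) * (x.2 : G),
          mul_mem (hF.le (hPU x.1.2)) (hσC x.2.2)⟩
        map_one' := Subtype.ext (by simp)
        map_mul' := fun x y => Subtype.ext (by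
          obtain ⟨j, hj⟩ := x.2.2
          have hc : Commute (y.1 : G) (x.2 : G) :=
            hj ▸ (show Commute (y.1 : G) σ from hPσ _ y.1.2).zpow_right j
          push_cast
          exact hc.mul_mul_mul_comm _ _) }
    have hη : IsIrrCharacter (P × zpowers σ) fun x => (ν : P → ℂ) x.1 :=
      isIrr_comp (MonoidHom.fst P (zpowers σ)) (fun y => ⟨(y, 1), rfl⟩) ν.2
    obtain ⟨q, hq⟩ := classInner_characters (isCharacter_comp f hRc) (isCharacter_of_isIrr hη)
    refine ⟨q, ?_⟩
    have hz0 : ∀ y : P, ∀ s : zpowers σ, (s : G) ≠ 1 → R (f (y, s)) = 0 := fun y s hs => by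
      refine hvan _ ?_
      show (y : G) * (s : G) ∈ dset z
      obtain ⟨j, hj⟩ := s.2
      have hc : Commute (y : G) (s : G) :=
        hj ▸ (show Commute (y : G) σ from hPσ _ y.2).zpow_right j
      rw [hc.eq]
      exact hF.dset_mul (hσD _ s.2 hs) (hPU y.2)
    have hqR : ((2 ^ k * q : ℕ) : ℂ) =
        classInner (fun y : P => R ⟨y, hF.le (hPU y.2)⟩) (ν : P → ℂ) := by
      have hk : (Nat.card (P × zpowers σ) : ℂ) = (Nat.card P : ℂ) * (2 ^ k : ℕ) := by
        rw [Nat.card_prod, Nat.card_zpowers, hσ, Nat.cast_mul]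
      rw [Nat.cast_mul, ← hq, classInner, classInner, hk, Fintype.sum_prod_type,
        Finset.sum_congr rfl (g := fun y : P => R ⟨y, hF.le (hPU y.2)⟩ * conj ((ν : P → ℂ) y))
          fun y _ => ?_]
      · have h1 : (Nat.card P : ℂ) ≠ 0 := subgroup_card_ne_zero P
        have h2 : ((2 ^ k : ℕ) : ℂ) ≠ 0 := Nat.cast_ne_zero.2 (pow_ne_zero k two_ne_zero)
        field_simp
      · rw [Finset.sum_eq_single (1 : zpowers σ)]
        · congr 2
          exact Subtype.ext (mul_one _)
        · intro s _ hs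
          rw [hz0 y s fun h => hs (Subtype.ext h), zero_mul]
        · simp
    rw [hqR]
    simp only [classInner]
    rw [Finset.sum_congr rfl fun L _ => mul_left_comm _ _ _, ← Finset.mul_sum, ← mul_add]
    congr 1
    rw [Finset.sum_congr rfl fun L _ => Finset.mul_sum .., Finset.sum_comm,
      ← Finset.sum_add_distrib]
    refine Finset.sum_congr rfl fun y _ => ?_
    rw [show (χ : G → ℂ) (y : G) = (χ : G → ℂ) ((⟨(y : G), hF.le (hPU y.2)⟩ : centralizer ({z} : Set G)) : G) from rfl,
      hsplit, Finset.sum_congr rfl fun L _ => hlin L _ (hPU y.2), add_mul, Finset.sum_mul]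
    congr 1
    exact Finset.sum_congr rfl fun L _ => by ring
  obtain ⟨d, hd⟩ := exists_degree (isCharacter_of_isIrr χ.2)
  refine ⟨d, e, c, hd, ?_, fun L _ => ⟨hc L, ?_, ?_⟩, hdvd, ?_⟩
  · rw [hF.separation hdist hM hfus χ hL₀ hh₀ hne (mem_zpowers z),
      Finset.sum_congr rfl fun L _ => hc L]
    push_cast
    rfl
  · simp only [e, c, Nat.cast_sum]
    refine (Finset.abs_sum_le_sum_abs _ _).trans (Finset.sum_le_sum fun ξ _ => ?_)
    split_ifs
    · push_cast
      rw [abs_mul, abs_of_nonneg (Int.natCast_nonneg _)]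
      refine mul_le_mul_of_nonneg_left (abs_le.2 ⟨?_, ?_⟩) (Int.natCast_nonneg _) <;> omega
    · simp
  · simp only [e, c, Nat.cast_sum, ← Finset.sum_sub_distrib]
    refine Finset.dvd_sum fun ξ _ => ?_
    split_ifs
    · exact ⟨(n ξ : ℤ) * b ξ, by push_cast; ring⟩
    · simp
  · intro P _ N hPU hPσ hbig hχ
    obtain ⟨s, hs, hN⟩ := hbig χ hχ
    choose q hq using hdvd P hPU hPσ
    have hPc : IsCharacter P fun y : P => (χ : G → ℂ) y :=
      isCharacter_restrict P (isCharacter_of_isIrr χ.2)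
    have hdeg := congrFun (character_expansion hPc) 1
    simp only [Finset.sum_apply, Pi.smul_apply, smul_eq_mul, OneMemClass.coe_one, hd, hq,
      add_mul, Finset.sum_add_distrib, Finset.sum_mul] at hdeg
    rw [Finset.sum_comm] at hdeg
    have hL1 : ∀ L ∈ Θ, ∑ ν : IrrCharacter P, (e L : ℂ) *
        classInner (fun y : P => lv L (y : G)) (ν : P → ℂ) * (ν : P → ℂ) 1 = (e L : ℂ) := by
      intro L _
      have hl : IsCharacter P fun y : P => lv L (y : G) := by
        have := isCharacter_comp (inclusion (hPU.trans hF.le)) (isCharacter_of_isIrr (isIrr_linChar L))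
        refine (Eq.mp ?_ this)
        congr 1
        funext y
        rw [lv_of_mem L (hF.le (hPU y.2))]
        rfl
      have := congrFun (character_expansion hl) 1
      simp only [Finset.sum_apply, Pi.smul_apply, smul_eq_mul, OneMemClass.coe_one] at this
      rw [Finset.sum_congr rfl fun ν _ => mul_assoc _ _ _, ← Finset.mul_sum, ← this,
        lv_of_mem L (one_mem _)]
      rw [show (⟨1, one_mem _⟩ : centralizer ({z} : Set G)) = 1 from rfl, map_one, Units.val_one,
        mul_one]
    rw [Finset.sum_congr rfl hL1] at hdeg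
    have hd' : ∀ ν : IrrCharacter P, (ν : P → ℂ) 1 = (Cfsg.charDegree (ν : P → ℂ) : ℂ) := fun ν =>
      (Codegree.exists_degree ν).2
    have hnat : d = ∑ L ∈ Θ, e L + ∑ ν : IrrCharacter P, 2 ^ k * q ν * Cfsg.charDegree (ν : P → ℂ) := by
      apply Nat.cast_injective (R := ℂ)
      rw [hdeg]
      push_cast
      congr 1
      exact Finset.sum_congr rfl fun ν _ => by rw [hd']
    rw [hnat, add_comm (∑ L ∈ Θ, e L)]
    refine Nat.add_le_add_right ?_ _
    refine ((Nat.mul_le_mul_left _ hN).trans (le_of_eq (Finset.mul_sum ..))).trans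
      ((Finset.sum_le_sum fun ν hν => ?_).trans (Finset.sum_le_univ_sum_of_nonneg fun _ => Nat.zero_le _))
    obtain ⟨h1, h2⟩ := hs ν hν
    refine Nat.mul_le_mul_right _ (Nat.le_mul_of_pos_right _ (Nat.pos_of_ne_zero fun h0 => h2 ?_))
    rw [hq ν, h0, mul_zero, Nat.cast_zero, add_zero, Finset.sum_eq_zero fun L hL => ?_]
    have hl : IsIrrCharacter P fun y : P => lv L (y : G) := by
      have := isIrr_linChar (L.comp (inclusion (hPU.trans hF.le)))
      refine (Eq.mp ?_ this)
      congr 1
      funext y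
      rw [lv_of_mem L (hF.le (hPU y.2))]
      rfl
    rw [classInner_isIrr_ne hl ν.2 (h1 L hL).symm, mul_zero]

end CfsgLib.GW.Tw
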