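import Cfsg.Agent.GW.Setting
import Cfsg.Agent.GW.Orders
import Cfsg.Agent.PLocal.CommutatorFacts

/-!
# Gorenstein–Walter: maximal overgroups with two classes of involutions, the data

`TwoClass M z b τ A B e N` records what is used about a subgroup `M` with two classes of
involutions whose quotient by the odd core is `S₄` or an extension of `PGL₂(q)` of odd index `e`:
`A = q - ε` and `B = q + ε` are half the orders of the centralizers in `PGL₂(q)` of an inner and an
outer involution, `N` is the order of `PSL₂(q)`.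
-/

set_option autoImplicit false
set_option linter.style.haveILetI false
set_option linter.unusedSectionVars false

open Subgroup

namespace CfsgLib.GW

universe u

variable {G : Type u} [Group G]

/-- The odd core of a subgroup, as a subgroup of the whole group. -/
noncomputable def oddIn (M : Subgroup G) : Subgroup G := (Cfsg.oddCore M).map M.subtype

/-- `x` is conjugate to `z` under `M`. -/
def Fused (M : Subgroup G) (z x : G) : Prop := ∃ m ∈ M, m * z * m⁻¹ = x

/-- A subgroup with two classes of involutions. -/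
structure TwoClass (M : Subgroup G) (z b τ : G) (A B e N : ℕ) : Prop where
  zM : z ∈ M
  bM : b ∈ M
  tM : τ ∈ M
  oz : orderOf z = 2
  ob : orderOf b = 2
  ot : orderOf τ = 2
  comm_zb : z * b = b * z
  comm_zt : z * τ = τ * z
  ne_zb : z ≠ b
  fus_b : Fused M z b
  fus_zb : Fused M z (z * b)
  fus_zt : ∃ m ∈ M, m * τ * m⁻¹ = z * τ
  not_fus : ¬ Fused M z τ
  four : ∀ x ∈ M, orderOf x = 2 → z * x = x * z → x ≠ z → ∃ m ∈ M, m * z * m⁻¹ = z ∧
    (m * x * m⁻¹ = b ∨ m * x * m⁻¹ = z * b ∨ m * x * m⁻¹ = τ ∨ m * x * m⁻¹ = z * τ)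
  mul_outer : ∀ x ∈ M, ∀ y ∈ M, orderOf x = 2 → orderOf y = 2 → x * y = y * x → x ≠ y →
    ¬ Fused M z x → ¬ Fused M z y → Fused M z (x * y)
  e_odd : Odd e
  four_dvd : 4 ∣ A
  dvd_AB : B ∣ A → B = 2
  half : ∃ t, Odd t ∧ B = 2 * t
  small : B = 2 → A = 4 ∧ N = 12 ∧ e = 1
  six : B = 6 → (A = 4 ∧ N = 60) ∨ (A = 8 ∧ N = 168)
  card_all : Nat.card M = Nat.card (oddIn M) * (2 * e * N)
  card_z : Nat.card (M ⊓ centralizer ({z} : Set G) : Subgroup G) =
    Nat.card (oddIn M ⊓ centralizer ({z} : Set G) : Subgroup G) * (2 * e * A)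
  card_t : Nat.card (M ⊓ centralizer ({τ} : Set G) : Subgroup G) =
    Nat.card (oddIn M ⊓ centralizer ({τ} : Set G) : Subgroup G) * (2 * e * B)
  card_zb : Nat.card (M ⊓ centralizer ({z} : Set G) ⊓ centralizer ({b} : Set G) : Subgroup G) =
    Nat.card (oddIn M ⊓ centralizer ({z} : Set G) ⊓ centralizer ({b} : Set G) : Subgroup G) *
      (4 * e)
  card_zt : Nat.card (M ⊓ centralizer ({z} : Set G) ⊓ centralizer ({τ} : Set G) : Subgroup G) =
    Nat.card (oddIn M ⊓ centralizer ({z} : Set G) ⊓ centralizer ({τ} : Set G) : Subgroup G) *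
      (4 * e)
  core_cent : ∀ Y : Subgroup G, Y ≤ M → M ⊓ centralizer ({τ} : Set G) ≤ Y →
    (∀ x ∈ Y, orderOf x = 2 → z * x = x * z → x ≠ z → ¬ Fused M z x) →
    ∀ y ∈ Y, y * τ * y⁻¹ * τ ∈ oddIn M

/-! ## General lemmas -/

section General

variable [Finite G]

/-- Two involutions with product of odd order are conjugate by a power of it. -/
theorem exists_conj_of_odd {x y : G} (hx : x * x = 1) (hy : y * y = 1)
    (ho : Odd (orderOf (x * y))) : ∃ w ∈ zpowers (x * y), w * y * w⁻¹ = x := by
  obtain ⟨k, hk⟩ := ho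
  set r := x * y with hr
  have hinv : y * r * y⁻¹ = r⁻¹ := by
    rw [hr, mul_inv_rev, inv_eq_of_mul_eq_one_right hy, inv_eq_of_mul_eq_one_right hx,
      mul_assoc, mul_assoc x y y, hy, mul_one]
  have hc : ∀ i : ℕ, y * r ^ i * y⁻¹ = (r ^ i)⁻¹ := fun i => by
    rw [← conj_pow, hinv, inv_pow]
  refine ⟨r ^ (k + 1), pow_mem (mem_zpowers r) _, ?_⟩
  have h1 : r ^ (k + 1) * r ^ (k + 1) = r := by
    rw [← pow_add, show k + 1 + (k + 1) = orderOf r + 1 by omega, pow_succ, pow_orderOf_eq_one,
      one_mul]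
  have h2 : y * (r ^ (k + 1))⁻¹ = r ^ (k + 1) * y := by
    rw [← hc (k + 1)]
    simp only [← mul_assoc]
    rw [hy, one_mul, inv_eq_of_mul_eq_one_right hy]
  calc r ^ (k + 1) * y * (r ^ (k + 1))⁻¹ = r ^ (k + 1) * (y * (r ^ (k + 1))⁻¹) := by group
    _ = r * y := by rw [h2, ← mul_assoc, h1]
    _ = x := by rw [hr, mul_assoc, hy, mul_one]

theorem map_conj_centralizer (g x : G) :
    (centralizer ({x} : Set G)).map (MulAut.conj g).toMonoidHom =
      centralizer ({g * x * g⁻¹} : Set G) := by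
  ext c
  simp only [mem_map, mem_centralizer_singleton_iff, MulEquiv.coe_toMonoidHom, MulAut.conj_apply]
  constructor
  · rintro ⟨a, ha, rfl⟩
    calc g * a * g⁻¹ * (g * x * g⁻¹) = g * (a * x) * g⁻¹ := by group
      _ = g * (x * a) * g⁻¹ := by rw [ha]
      _ = _ := by group
  · intro hc
    refine ⟨g⁻¹ * c * g, ?_, by group⟩
    calc g⁻¹ * c * g * x = g⁻¹ * (c * (g * x * g⁻¹)) * g := by group
      _ = g⁻¹ * ((g * x * g⁻¹) * c) * g := by rw [hc]
      _ = _ := by group

theorem card_map_conj (g : G) (H : Subgroup G) :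
    Nat.card (H.map (MulAut.conj g).toMonoidHom) = Nat.card H :=
  card_map_of_injective (MulAut.conj g).injective

theorem map_conj_inf (g : G) (H K : Subgroup G) :
    (H ⊓ K).map (MulAut.conj g).toMonoidHom =
      H.map (MulAut.conj g).toMonoidHom ⊓ K.map (MulAut.conj g).toMonoidHom :=
  map_inf_eq _ _ _ (MulAut.conj g).injective

theorem card_centralizer_pair_conj (g x y : G) :
    Nat.card (centralizer ({g * x * g⁻¹} : Set G) ⊓ centralizer ({g * y * g⁻¹} : Set G) :
        Subgroup G) =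
      Nat.card (centralizer ({x} : Set G) ⊓ centralizer ({y} : Set G) : Subgroup G) := by
  rw [← map_conj_centralizer, ← map_conj_centralizer, ← map_conj_inf, card_map_conj]

theorem map_conj_of_mem {H : Subgroup G} {g : G} (hg : g ∈ normalizer (H : Set G)) :
    H.map (MulAut.conj g).toMonoidHom = H := by
  ext c
  simp only [mem_map, MulEquiv.coe_toMonoidHom, MulAut.conj_apply]
  refine ⟨fun ⟨a, ha, e⟩ => e ▸ (mem_normalizer_iff.1 hg a).1 ha, fun hc =>
    ⟨g⁻¹ * c * g, ?_, by group⟩⟩
  have := (mem_normalizer_iff.1 (inv_mem hg) c).1 hc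
  simpa using this

/-- A normal subgroup of index a power of two contains the elements of odd order. -/
theorem odd_mem_of_card {H K : Subgroup G} (hKH : K ≤ H) (hn : H ≤ normalizer (K : Set G)) {j : ℕ}
    (hc : Nat.card H = Nat.card K * 2 ^ j) {g : G} (hg : g ∈ H) (ho : Odd (orderOf g)) :
    g ∈ K := by
  haveI := normal_subgroupOf_of_le_normalizer hn
  have hidx : (K.subgroupOf H).index = 2 ^ j := by
    have := PLocal.card_mul_relIndex hKH
    rw [hc] at this
    exact Nat.eq_of_mul_eq_mul_left Nat.card_pos this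
  have h1 : g ^ 2 ^ j ∈ K := by
    have := (K.subgroupOf H).pow_index_mem ⟨g, hg⟩
    rw [hidx, mem_subgroupOf] at this
    exact this
  have h2 : g ∈ zpowers (g ^ 2 ^ j) := by
    have hcop : Nat.Coprime (orderOf g) (2 ^ j) := (Nat.coprime_two_right.2 ho).pow_right j
    obtain ⟨i, hi⟩ := exists_pow_eq_self_of_coprime hcop.symm
    exact ⟨i, by simpa using hi⟩
  exact zpowers_le.2 h1 h2

theorem odd_oddIn (M : Subgroup G) : Odd (Nat.card (oddIn M)) := by
  rw [oddIn, card_map_of_injective M.subtype_injective]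
  exact ExtremelyClosed.odd_card_oddCore' _

theorem oddIn_le (M : Subgroup G) : oddIn M ≤ M := map_subtype_le _

theorem le_normalizer_oddIn (M : Subgroup G) : M ≤ normalizer (oddIn M : Set G) := by
  haveI : (Cfsg.oddCore M).Normal := inferInstance
  intro m hm
  refine mem_normalizer_iff.2 fun k => ⟨?_, fun h => ?_⟩
  · rintro ⟨k', hk', rfl⟩
    exact ⟨⟨m, hm⟩ * k' * ⟨m, hm⟩⁻¹, Normal.conj_mem inferInstance k' hk' _, rfl⟩
  · obtain ⟨k', hk', e⟩ := h
    refine ⟨⟨m, hm⟩⁻¹ * k' * ⟨m, hm⟩,
      by simpa using Normal.conj_mem inferInstance k' hk' (⟨m, hm⟩ : M)⁻¹, ?_⟩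
    simp only [coe_subtype, Subgroup.coe_mul, InvMemClass.coe_inv] at e ⊢
    rw [e]
    group

/-- An odd subgroup of `M` normalised by `M` lies in the odd core. -/
theorem le_oddIn {M K : Subgroup G} (hK : K ≤ M) (hn : M ≤ normalizer (K : Set G))
    (ho : Odd (Nat.card K)) : K ≤ oddIn M := by
  haveI := normal_subgroupOf_of_le_normalizer hn
  intro k hk
  refine ⟨⟨k, hK hk⟩, ExtremelyClosed.le_oddCore_of_odd (N := K.subgroupOf M) inferInstance ?_
    (mem_subgroupOf.2 hk), rfl⟩
  rwa [Nat.card_congr (subgroupOfEquivOfLe hK).toEquiv]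

/-- The centralizer of a four-group from two of its involutions. -/
theorem centralizer_mul_left {z b : G} :
    centralizer ({z} : Set G) ⊓ centralizer ({z * b} : Set G) =
      centralizer ({z} : Set G) ⊓ centralizer ({b} : Set G) := by
  ext g
  simp only [mem_inf, mem_centralizer_singleton_iff]
  refine and_congr_right fun h => ⟨fun h' => ?_, fun h' => ?_⟩
  · have : z * (g * b) = z * (b * g) := by rw [← mul_assoc, ← h, mul_assoc, h', mul_assoc]
    exact mul_left_cancel this
  · rw [← mul_assoc, h, mul_assoc, h', mul_assoc]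

end General

namespace Minimal

variable [Finite G] (hG : Minimal G)
include hG

/-- The centralizer of a four-group. -/
theorem card_pair {z b : G} (hz : orderOf z = 2) (hb : orderOf b = 2) (hne : z ≠ b)
    (hzb : z * b = b * z) :
    Nat.card (centralizer ({z} : Set G) ⊓ centralizer ({b} : Set G) : Subgroup G) =
      4 * Nat.card (fix z b) := by
  obtain ⟨hV, hcases⟩ := hG.four_spec hz hb hne hzb
  obtain ⟨hV4, hV2⟩ := TwoGroups.isKleinFour_iff.1 hV
  set V := closure ({z, b} : Set G)
  set K := centralizer ({z} : Set G) ⊓ centralizer ({b} : Set G)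
  have hzV : z ∈ V := subset_closure (by simp)
  have hbV : b ∈ V := subset_closure (by simp)
  have hVK : V ≤ K := le_inf
    (fun v hv => mem_centralizer_singleton_iff.2 (TwoGroups.klein_mul_comm hV hv hzV))
    (fun v hv => mem_centralizer_singleton_iff.2 (TwoGroups.klein_mul_comm hV hv hbV))
  obtain ⟨S, hVS, hzS, hS⟩ := hG.exists_sylow_ge hz (IsPGroup.of_card (n := 2) (by rw [hV4]; rfl))
    (hVK.trans inf_le_left)
  have hfK : fix z b ≤ K := le_inf ((fix_le_core z b).trans (core_le z)) (fix_le z b)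
  have hn : K ≤ normalizer (fix z b : Set G) := by
    intro k hk
    have key : ∀ k ∈ K, ∀ g ∈ fix z b, k * g * k⁻¹ ∈ fix z b := fun k hk g hg =>
      ⟨core_conj hk.1 (fix_le_core z b hg),
        (centralizer ({b} : Set G)).mul_mem ((centralizer ({b} : Set G)).mul_mem hk.2 (fix_le z b hg))
          ((centralizer ({b} : Set G)).inv_mem hk.2)⟩
    exact mem_normalizer_iff.2 fun g => ⟨key k hk g, fun h => by
      simpa [mul_assoc] using key k⁻¹ (inv_mem hk) _ h⟩
  have hsup : V ⊔ fix z b = K := by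
    refine le_antisymm (sup_le hVK hfK) fun g hg => ?_
    obtain ⟨u, hu, s, hs, rfl⟩ := hG.decomp hz hS hg.1
    have hgb : u * s * b = b * (u * s) := mem_centralizer_singleton_iff.1 hg.2
    -- `[s, b]` lies in the core and in the Sylow subgroup
    have hcore : s * b * s⁻¹ * b⁻¹ ∈ core z := by
      have e : s * b * s⁻¹ * b⁻¹ = u⁻¹ * (b * u * b⁻¹) := by
        calc s * b * s⁻¹ * b⁻¹ = u⁻¹ * (u * s * b) * s⁻¹ * b⁻¹ := by group
          _ = u⁻¹ * (b * (u * s)) * s⁻¹ * b⁻¹ := by rw [hgb]
          _ = _ := by group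
      rw [e]
      exact mul_mem (inv_mem hu) (core_conj
        (mem_centralizer_singleton_iff.2 hzb.symm) hu)
    have hP : s * b * s⁻¹ * b⁻¹ ∈ (S : Subgroup G) :=
      mul_mem (mul_mem (mul_mem hs (hVS hbV)) (inv_mem hs)) (inv_mem (hVS hbV))
    have h1 : s * b * s⁻¹ * b⁻¹ = 1 := by
      obtain ⟨j, hj⟩ := IsPGroup.iff_orderOf.1 S.isPGroup' ⟨_, hP⟩
      rw [orderOf_mk] at hj
      exact orderOf_eq_one_iff.1 (Nat.eq_one_of_dvd_coprimes
        ((Nat.coprime_two_left.2 (odd_orderOf_core hcore)).pow_left j) hj.dvd dvd_rfl)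
    have hsb : s * b = b * s := by
      rw [mul_inv_eq_one, mul_inv_eq_iff_eq_mul] at h1
      exact h1
    have hsV : s ∈ V := hG.dihType.mem_four S.isPGroup' hVS hV4 hV2 hs fun v hv => by
      rcases hcases v hv with rfl | rfl | rfl | rfl
      · simp
      · exact hS s hs
      · exact hsb
      · rw [← mul_assoc, hS s hs, mul_assoc, hsb, mul_assoc]
    have huK : u ∈ fix z b := ⟨hu, by
      have := mul_mem hg (inv_mem (hVK hsV))
      rw [mul_inv_cancel_right] at this
      exact this.2⟩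
    exact mul_mem (mem_sup_right huK) (mem_sup_left hsV)
  have hbot : V ⊓ fix z b = ⊥ := disjoint_iff.1 (disjoint_of_coprime_natCard (by
    rw [hV4]
    exact (Nat.coprime_two_left.2 (odd_fix z b)).pow_left 2))
  have h := PLocal.card_sup_mul_card_inf (A := V) (B := fix z b) (hVK.trans hn)
  rw [hsup, hbot, card_bot, mul_one, hV4] at h
  exact h

/-- Conjugation maps the core of `z` into the core of the conjugate. -/
theorem conj_core {z g k : G} (hz : orderOf z = 2) (hk : k ∈ core z) :
    g * k * g⁻¹ ∈ core (g * z * g⁻¹) := by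
  refine hG.mem_core (by rw [Small.orderOf_conj_eq, hz]) (mem_centralizer_singleton_iff.2 ?_)
    (by rw [Small.orderOf_conj_eq]; exact odd_orderOf_core hk)
  calc g * k * g⁻¹ * (g * z * g⁻¹) = g * (k * z) * g⁻¹ := by group
    _ = g * (z * k) * g⁻¹ := by rw [commute_of_mem_core hk]
    _ = _ := by group

end Minimal

end CfsgLib.GW
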