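import Cfsg.Agent.GW.TwoClass
import Cfsg.Agent.GW.FixedPointCount

/-!
# Gorenstein–Walter: counting in a maximal overgroup with two classes of involutions

With `a = |C_O(z)|`, `c = |C_O(τ)|`, `v = |C_O(z, b)|`, `d = |C_O(z, τ)|` the four-group formula
gives `a d = v c`; either the two four-groups have centralizers of equal order or `c (q + ε) / 2`
divides `a`.  In particular the fused four-group has the larger centralizer.
-/

set_option autoImplicit false
set_option linter.style.haveILetI false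
set_option linter.unusedSectionVars false

open Subgroup

namespace CfsgLib.GW

universe u

variable {G : Type u} [Group G] [Finite G]

/-- The order of the centralizer of `x` in the odd core of `M`. -/
noncomputable def oc (M : Subgroup G) (x : G) : ℕ :=
  Nat.card (oddIn M ⊓ centralizer ({x} : Set G) : Subgroup G)

/-- The order of the common centralizer of `x` and `y` in the odd core of `M`. -/
noncomputable def oc2 (M : Subgroup G) (x y : G) : ℕ :=
  Nat.card (oddIn M ⊓ centralizer ({x} : Set G) ⊓ centralizer ({y} : Set G) : Subgroup G)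

theorem oc_pos (M : Subgroup G) (x : G) : 0 < oc M x := Nat.card_pos

theorem odd_oc (M : Subgroup G) (x : G) : Odd (oc M x) :=
  (odd_oddIn M).of_dvd_nat (card_dvd_of_le inf_le_left)

theorem oc2_pos (M : Subgroup G) (x y : G) : 0 < oc2 M x y := Nat.card_pos

theorem oc_conj {M : Subgroup G} {m : G} (hm : m ∈ M) (x : G) :
    oc M (m * x * m⁻¹) = oc M x := by
  unfold oc
  rw [← map_conj_centralizer]
  conv_lhs => rw [← map_conj_of_mem (le_normalizer_oddIn M hm), ← map_conj_inf, card_map_conj]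

theorem Fused.conj {M : Subgroup G} {z x m : G} (h : Fused M z x) (hm : m ∈ M) :
    Fused M z (m * x * m⁻¹) := by
  obtain ⟨n, hn, rfl⟩ := h
  exact ⟨m * n, mul_mem hm hn, by group⟩

theorem Fused.of_conj {M : Subgroup G} {z x m : G} (h : Fused M z (m * x * m⁻¹)) (hm : m ∈ M) :
    Fused M z x := by
  have := h.conj (inv_mem hm)
  rwa [show m⁻¹ * (m * x * m⁻¹) * m⁻¹⁻¹ = x by group] at this

theorem Fused.self (M : Subgroup G) (z : G) : Fused M z z := ⟨1, one_mem M, by group⟩

theorem conj_comm {x y : G} (g : G) (h : x * y = y * x) :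
    g * x * g⁻¹ * (g * y * g⁻¹) = g * y * g⁻¹ * (g * x * g⁻¹) := by
  calc g * x * g⁻¹ * (g * y * g⁻¹) = g * (x * y) * g⁻¹ := by group
    _ = g * (y * x) * g⁻¹ := by rw [h]
    _ = _ := by group

theorem orderOf_mul_two {x y : G} (hx : orderOf x = 2) (hy : orderOf y = 2) (h : x * y = y * x)
    (hne : x ≠ y) : orderOf (x * y) = 2 := by
  have hxx := Small.mul_self_of_orderOf_two hx
  have hyy := Small.mul_self_of_orderOf_two hy
  refine Small.orderOf_eq_two_iff_sq.2 ⟨fun h1 => hne ?_, ?_⟩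
  · rw [eq_inv_of_mul_eq_one_left h1, inv_eq_of_mul_eq_one_right hyy]
  · rw [show x * y * (x * y) = x * (y * x) * y by group, ← h,
      show x * (x * y) * y = x * x * (y * y) by group, hxx, hyy, one_mul]

namespace TwoClass

variable {M : Subgroup G} {z b τ : G} {A B e N : ℕ} (hT : TwoClass M z b τ A B e N)
include hT

theorem ne_zt : z ≠ τ := fun h => hT.not_fus (h ▸ Fused.self M z)

theorem not_fus_zt : ¬ Fused M z (z * τ) := fun h => by
  obtain ⟨m, hm, e⟩ := hT.fus_zt
  exact hT.not_fus (Fused.of_conj (e ▸ h) hm)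

theorem e_pos : 0 < e := hT.e_odd.pos

theorem oc_b : oc M b = oc M z := by
  obtain ⟨m, hm, e⟩ := hT.fus_b
  rw [← e, oc_conj hm]

theorem oc_zb : oc M (z * b) = oc M z := by
  obtain ⟨m, hm, e⟩ := hT.fus_zb
  rw [← e, oc_conj hm]

theorem oc_zt : oc M (z * τ) = oc M τ := by
  obtain ⟨m, hm, e⟩ := hT.fus_zt
  rw [← e, oc_conj hm]

theorem wielandt_zb :
    Nat.card (oddIn M) * oc2 M z b ^ 2 = oc M z * oc M z * oc M z := by
  have h := FourFixed.card_mul_centralizer_sq (odd_oddIn M)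
    (Small.mul_self_of_orderOf_two hT.oz) (Small.mul_self_of_orderOf_two hT.ob) hT.comm_zb
    (le_normalizer_oddIn M hT.zM) (le_normalizer_oddIn M hT.bM)
  change Nat.card (oddIn M) * oc2 M z b ^ 2 = oc M z * oc M b * oc M (z * b) at h
  rwa [hT.oc_b, hT.oc_zb] at h

theorem wielandt_zt :
    Nat.card (oddIn M) * oc2 M z τ ^ 2 = oc M z * oc M τ * oc M τ := by
  have h := FourFixed.card_mul_centralizer_sq (odd_oddIn M)
    (Small.mul_self_of_orderOf_two hT.oz) (Small.mul_self_of_orderOf_two hT.ot) hT.comm_zt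
    (le_normalizer_oddIn M hT.zM) (le_normalizer_oddIn M hT.tM)
  change Nat.card (oddIn M) * oc2 M z τ ^ 2 = oc M z * oc M τ * oc M (z * τ) at h
  rwa [hT.oc_zt] at h

/-- `a d = v c`. -/
theorem ad_eq : oc M z * oc2 M z τ = oc2 M z b * oc M τ := by
  refine Nat.pow_left_injective two_ne_zero ?_
  show (oc M z * oc2 M z τ) ^ 2 = (oc2 M z b * oc M τ) ^ 2
  refine Nat.eq_of_mul_eq_mul_left
    (Nat.mul_pos (Nat.card_pos (α := oddIn M)) (oc_pos M z)) ?_
  calc Nat.card (oddIn M) * oc M z * (oc M z * oc2 M z τ) ^ 2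
      = oc M z * oc M z * oc M z * (Nat.card (oddIn M) * oc2 M z τ ^ 2) := by ring
    _ = Nat.card (oddIn M) * oc2 M z b ^ 2 * (oc M z * oc M τ * oc M τ) := by
      rw [hT.wielandt_zt, hT.wielandt_zb]
    _ = _ := by ring

/-- The centralizer of a four-group through `z` in `M`, for a fused second involution. -/
theorem pair_fused {x : G} (hx : x ∈ M) (ho : orderOf x = 2) (hc : z * x = x * z) (hne : x ≠ z)
    (hf : Fused M z x) :
    Nat.card (centralizer ({z} : Set G) ⊓ centralizer ({x} : Set G) : Subgroup G) =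
      Nat.card (centralizer ({z} : Set G) ⊓ centralizer ({b} : Set G) : Subgroup G) := by
  obtain ⟨m, hm, hmz, h⟩ := hT.four x hx ho hc hne
  rw [← card_centralizer_pair_conj m z x, hmz]
  rcases h with h | h | h | h
  · rw [h]
  · rw [h, centralizer_mul_left]
  · exact absurd (h ▸ hf.conj hm) hT.not_fus
  · exact absurd (h ▸ hf.conj hm) hT.not_fus_zt

/-- The centralizer of a four-group through `z` in `M`, for a second involution not fused. -/
theorem pair_not_fused {x : G} (hx : x ∈ M) (ho : orderOf x = 2) (hc : z * x = x * z)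
    (hne : x ≠ z) (hf : ¬ Fused M z x) :
    Nat.card (centralizer ({z} : Set G) ⊓ centralizer ({x} : Set G) : Subgroup G) =
      Nat.card (centralizer ({z} : Set G) ⊓ centralizer ({τ} : Set G) : Subgroup G) := by
  obtain ⟨m, hm, hmz, h⟩ := hT.four x hx ho hc hne
  rw [← card_centralizer_pair_conj m z x, hmz]
  rcases h with h | h | h | h
  · exact absurd (Fused.of_conj (h.symm ▸ hT.fus_b) hm) hf
  · exact absurd (Fused.of_conj (h.symm ▸ hT.fus_zb) hm) hf
  · rw [h]
  · rw [h, centralizer_mul_left]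

section WithC

variable (hCM : centralizer ({z} : Set G) ≤ M)
include hCM

theorem card_centralizer : Nat.card (centralizer ({z} : Set G)) = oc M z * (2 * e * A) := by
  conv_lhs => rw [← inf_eq_right.2 hCM]
  exact hT.card_z

theorem card_cent_zb : Nat.card (centralizer ({z} : Set G) ⊓ centralizer ({b} : Set G) :
    Subgroup G) = oc2 M z b * (4 * e) := by
  conv_lhs => rw [← inf_eq_right.2 (inf_le_left.trans hCM :
    centralizer ({z} : Set G) ⊓ centralizer ({b} : Set G) ≤ M), ← inf_assoc]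
  exact hT.card_zb

theorem card_cent_zt : Nat.card (centralizer ({z} : Set G) ⊓ centralizer ({τ} : Set G) :
    Subgroup G) = oc2 M z τ * (4 * e) := by
  conv_lhs => rw [← inf_eq_right.2 (inf_le_left.trans hCM :
    centralizer ({z} : Set G) ⊓ centralizer ({τ} : Set G) ≤ M), ← inf_assoc]
  exact hT.card_zt

theorem card_fix_b (hG : Minimal G) : Nat.card (fix z b) = oc2 M z b * e := by
  have h := hG.card_pair hT.oz hT.ob hT.ne_zb hT.comm_zb
  rw [hT.card_cent_zb hCM] at h
  linarith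

theorem card_fix_t (hG : Minimal G) : Nat.card (fix z τ) = oc2 M z τ * e := by
  have h := hG.card_pair hT.oz hT.ot hT.ne_zt hT.comm_zt
  rw [hT.card_cent_zt hCM] at h
  linarith

/-- `|C_M(τ)|` divides `|C(z)|`. -/
theorem dvd_centralizer (hG : Minimal G) :
    oc M τ * (2 * e * B) ∣ oc M z * (2 * e * A) := by
  obtain ⟨g, hg⟩ := isConj_iff.1 (hG.isConj hT.oz hT.ot)
  have h : Nat.card (M ⊓ centralizer ({τ} : Set G) : Subgroup G) ∣
      Nat.card (centralizer ({z} : Set G)) := by
    rw [← card_map_conj g (centralizer ({z} : Set G)), map_conj_centralizer, hg]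
    exact card_dvd_of_le inf_le_right
  rw [hT.card_t, hT.card_centralizer hCM] at h
  exact h

/-- Equal four-group centralizers force `q = 3`. -/
theorem two_of_eq (hG : Minimal G) (h : oc2 M z b = oc2 M z τ) :
    oc M z = oc M τ ∧ B = 2 := by
  have hac : oc M z = oc M τ := by
    have := hT.ad_eq
    rw [h, mul_comm] at this
    exact Nat.eq_of_mul_eq_mul_left (oc2_pos M z τ) this
  refine ⟨hac, hT.dvd_AB ?_⟩
  have := hT.dvd_centralizer hCM hG
  rw [hac] at this
  exact Nat.dvd_of_mul_dvd_mul_left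
    (Nat.mul_pos two_pos hT.e_pos) (Nat.dvd_of_mul_dvd_mul_left (oc_pos M τ) this)

omit hCM in
/-- A subgroup mapping into the centralizer of `τ` modulo the odd core. -/
theorem exists_factor {K : Subgroup G} (hK : K ≤ M) {y : G} (hy : y ∈ K)
    (h : y * τ * y⁻¹ * τ ∈ oddIn M) :
    ∃ w ∈ oddIn M, ∃ u ∈ M ⊓ centralizer ({τ} : Set G), y = w * u ∧
      (y * z = z * y → w * z = z * w ∧ u * z = z * u) := by
  have hτ := Small.mul_self_of_orderOf_two hT.ot
  have hx : y * τ * y⁻¹ * (y * τ * y⁻¹) = 1 := by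
    rw [show y * τ * y⁻¹ * (y * τ * y⁻¹) = y * (τ * τ) * y⁻¹ by group, hτ, mul_one, mul_inv_cancel]
  obtain ⟨w, hw, hwe⟩ := exists_conj_of_odd hx hτ
    ((odd_oddIn M).of_dvd_nat ((oddIn M).orderOf_dvd_natCard h))
  have hwO : w ∈ oddIn M := zpowers_le.2 h hw
  have hwM : w ∈ M := oddIn_le M hwO
  refine ⟨w, hwO, w⁻¹ * y,
    mem_inf.2 ⟨mul_mem (inv_mem hwM) (hK hy), mem_centralizer_singleton_iff.2 ?_⟩,
    by group, fun hyz => ?_⟩
  · calc w⁻¹ * y * τ = w⁻¹ * (y * τ * y⁻¹) * y := by group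
      _ = w⁻¹ * (w * τ * w⁻¹) * y := by rw [hwe]
      _ = _ := by group
  · have hc : Commute (y * τ * y⁻¹ * τ) z :=
      ((Commute.mul_left hyz (hT.comm_zt.symm : Commute τ z)).mul_left
        (Commute.inv_left hyz)).mul_left (hT.comm_zt.symm : Commute τ z)
    obtain ⟨i, rfl⟩ := hw
    have hwz : Commute ((y * τ * y⁻¹ * τ) ^ i) z := hc.zpow_left i
    exact ⟨hwz, (hwz.inv_left.mul_left hyz)⟩

omit hCM in
/-- Without a four-group fused in `M`, an intersection with a conjugate of `M` centralizes `τ`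
modulo the odd core. -/
theorem not_fused_inter (hne : oc2 M z b ≠ oc2 M z τ)
    (hCM : centralizer ({z} : Set G) ≤ M) {h : G} (h1 : h * z * h⁻¹ = τ)
    (h2 : h * τ * h⁻¹ = z * τ) :
    ∀ x ∈ M ⊓ M.map (MulAut.conj h).toMonoidHom, orderOf x = 2 → z * x = x * z → x ≠ z →
      ¬ Fused M z x := by
  rintro x ⟨hxM, x', hx'M, hx'⟩ ho hc hne' hf
  simp only [MulEquiv.coe_toMonoidHom, MulAut.conj_apply] at hx'
  -- the pair pulled back
  have h3 : h * (z * τ) * h⁻¹ = z := by
    rw [show h * (z * τ) * h⁻¹ = (h * z * h⁻¹) * (h * τ * h⁻¹) by group, h1, h2, hT.comm_zt,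
      ← mul_assoc, Small.mul_self_of_orderOf_two hT.ot, one_mul]
  have hztM : z * τ ∈ M := mul_mem hT.zM hT.tM
  have hzt2 : orderOf (z * τ) = 2 := orderOf_mul_two hT.oz hT.ot hT.comm_zt hT.ne_zt
  have ho' : orderOf x' = 2 := by rw [← ho, ← hx', Small.orderOf_conj_eq]
  have hc' : z * τ * x' = x' * (z * τ) := by
    have := conj_comm h⁻¹ hc
    rw [← hx', show h⁻¹ * z * h⁻¹⁻¹ = z * τ by
        calc h⁻¹ * z * h⁻¹⁻¹ = h⁻¹ * (h * (z * τ) * h⁻¹) * h⁻¹⁻¹ := by rw [h3]
          _ = _ := by group,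
      show h⁻¹ * (h * x' * h⁻¹) * h⁻¹⁻¹ = x' by group] at this
    exact this
  have hne2 : x' ≠ z * τ := fun e => hne' (by rw [← hx', e, h3])
  -- one of `x'` and `x' * z τ` is fused
  have key : ∀ y ∈ M, orderOf y = 2 → z * τ * y = y * (z * τ) → y ≠ z * τ → Fused M z y →
      Nat.card (centralizer ({z * τ} : Set G) ⊓ centralizer ({y} : Set G) : Subgroup G) =
      Nat.card (centralizer ({z} : Set G) ⊓ centralizer ({τ} : Set G) : Subgroup G) := by
    rintro y hyM hy hyc hyne ⟨m, hm, rfl⟩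
    have hm' := inv_mem hm
    rw [← card_centralizer_pair_conj m⁻¹ (z * τ), show m⁻¹ * (m * z * m⁻¹) * m⁻¹⁻¹ = z by group,
      inf_comm]
    refine hT.pair_not_fused (mul_mem (mul_mem hm' hztM) (inv_mem hm')) ?_ ?_ ?_ ?_
    · rw [Small.orderOf_conj_eq, hzt2]
    · have := conj_comm m⁻¹ hyc
      rw [show m⁻¹ * (m * z * m⁻¹) * m⁻¹⁻¹ = z by group] at this
      exact this.symm
    · intro e
      apply hyne
      calc m * z * m⁻¹ = m * (m⁻¹ * (z * τ) * m⁻¹⁻¹) * m⁻¹ := by rw [e]
        _ = z * τ := by group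
    · exact fun hf' => hT.not_fus_zt (hf'.of_conj hm')
  have hback : Nat.card (centralizer ({z} : Set G) ⊓ centralizer ({x} : Set G) : Subgroup G) =
      Nat.card (centralizer ({z * τ} : Set G) ⊓ centralizer ({x'} : Set G) : Subgroup G) := by
    rw [← card_centralizer_pair_conj h (z * τ) x', h3, hx']
  have hzb' := hT.pair_fused hxM ho hc hne' hf
  have hzt : Nat.card (centralizer ({z * τ} : Set G) ⊓ centralizer ({x'} : Set G) : Subgroup G) =
      Nat.card (centralizer ({z} : Set G) ⊓ centralizer ({τ} : Set G) : Subgroup G) := by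
    by_cases hf' : Fused M z x'
    · exact key x' hx'M ho' hc' hne2 hf'
    · have hu := hT.mul_outer (z * τ) hztM x' hx'M hzt2 ho' hc' hne2.symm hT.not_fus_zt hf'
      rw [← centralizer_mul_left (z := z * τ) (b := x')]
      refine key _ (mul_mem hztM hx'M) (orderOf_mul_two hzt2 ho' hc' hne2.symm) ?_ ?_ hu
      · rw [← mul_assoc, Small.mul_self_of_orderOf_two hzt2, one_mul, mul_assoc, ← hc',
          ← mul_assoc, Small.mul_self_of_orderOf_two hzt2, one_mul]
      · intro e
        exact Small.ne_one_of_orderOf_two ho' (mul_eq_left.1 e)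
  rw [hback, hzt, hT.card_cent_zb hCM, hT.card_cent_zt hCM] at hzb'
  exact hne (Nat.eq_of_mul_eq_mul_right (Nat.mul_pos (by norm_num) hT.e_pos) hzb'.symm)

/-- Elements of the intersection with a conjugate centralize `τ` modulo the odd core. -/
theorem inter_core (hne : oc2 M z b ≠ oc2 M z τ) {h : G}
    (h1 : h * z * h⁻¹ = τ) (h2 : h * τ * h⁻¹ = z * τ) :
    ∀ y ∈ M ⊓ M.map (MulAut.conj h).toMonoidHom, y * τ * y⁻¹ * τ ∈ oddIn M := by
  refine hT.core_cent _ inf_le_left (le_inf inf_le_left ?_)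
    (hT.not_fused_inter hne hCM h1 h2)
  have := Subgroup.map_mono (f := (MulAut.conj h).toMonoidHom) hCM
  rw [map_conj_centralizer, h1] at this
  exact inf_le_right.trans this

omit hCM in
/-- The centralizer of `z` in a conjugate of `M`. -/
theorem card_inter {h : G} (h1 : h * z * h⁻¹ = τ) (h2 : h * τ * h⁻¹ = z * τ) :
    Nat.card (centralizer ({z} : Set G) ⊓ M.map (MulAut.conj h).toMonoidHom : Subgroup G) =
      oc M τ * (2 * e * B) := by
  have h3 : h⁻¹ * z * h⁻¹⁻¹ = z * τ := by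
    have h4 : h * (z * τ) * h⁻¹ = z := by
      rw [show h * (z * τ) * h⁻¹ = (h * z * h⁻¹) * (h * τ * h⁻¹) by group, h1, h2, hT.comm_zt,
        ← mul_assoc, Small.mul_self_of_orderOf_two hT.ot, one_mul]
    calc h⁻¹ * z * h⁻¹⁻¹ = h⁻¹ * (h * (z * τ) * h⁻¹) * h⁻¹⁻¹ := by rw [h4]
      _ = _ := by group
  obtain ⟨m, hm, hme⟩ := hT.fus_zt
  have e2 : (M ⊓ centralizer ({τ} : Set G)).map (MulAut.conj m).toMonoidHom =
      M ⊓ centralizer ({z * τ} : Set G) := by
    rw [map_conj_inf, map_conj_centralizer, hme, map_conj_of_mem (le_normalizer hm)]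
  have e3 : (M ⊓ centralizer ({z * τ} : Set G)).map (MulAut.conj h).toMonoidHom =
      centralizer ({z} : Set G) ⊓ M.map (MulAut.conj h).toMonoidHom := by
    rw [map_conj_inf, map_conj_centralizer, ← h3, inf_comm]
    congr 2
    group
  rw [← e3, card_map_conj, ← e2, card_map_conj, hT.card_t]
  rfl

/-- `c (q + ε) / 2` divides `a` unless the four-group centralizers have equal order. -/
theorem ct_dvd (hne : oc2 M z b ≠ oc2 M z τ) (hG : Minimal G) {t : ℕ}
    (hB : B = 2 * t) : oc M τ * t ∣ oc M z := by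
  obtain ⟨h, h1, h2⟩ := hG.exists_cycle hT.oz hT.ot hT.ne_zt hT.comm_zt
  set O := oddIn M
  set H := centralizer ({z} : Set G) ⊓ M.map (MulAut.conj h).toMonoidHom
  set C2 := centralizer ({z} : Set G) ⊓ centralizer ({τ} : Set G)
  set K := O ⊓ centralizer ({z} : Set G) with hK
  have hH : Nat.card H = oc M τ * (2 * e * B) := hT.card_inter h1 h2
  -- `H` lies in `C_O(z) C_M(z, τ)`
  have hle : H ≤ C2 ⊔ K := by
    rintro y ⟨hyz, hyh⟩
    have hyM : y ∈ M := hCM hyz
    obtain ⟨w, hw, u, hu, rfl, hwu⟩ := hT.exists_factor (inf_le_left (b := M.map _))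
      (show y ∈ M ⊓ M.map (MulAut.conj h).toMonoidHom from ⟨hyM, hyh⟩)
      (hT.inter_core hCM hne h1 h2 y ⟨hyM, hyh⟩)
    obtain ⟨hwz, huz⟩ := hwu (mem_centralizer_singleton_iff.1 hyz)
    exact mul_mem (mem_sup_right ⟨hw, mem_centralizer_singleton_iff.2 hwz⟩)
      (mem_sup_left ⟨mem_centralizer_singleton_iff.2 huz, hu.2⟩)
  have hn : C2 ≤ normalizer (K : Set G) := fun g hg => by
    have key : ∀ g ∈ C2, ∀ k ∈ K, g * k * g⁻¹ ∈ K := fun g hg k hk =>
      ⟨(mem_normalizer_iff.1 (le_normalizer_oddIn M (hCM hg.1)) k).1 hk.1,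
        (centralizer ({z} : Set G)).mul_mem ((centralizer ({z} : Set G)).mul_mem hg.1 hk.2)
          ((centralizer ({z} : Set G)).inv_mem hg.1)⟩
    exact mem_normalizer_iff.2 fun k => ⟨key g hg k, fun hk => by
      simpa [mul_assoc] using key g⁻¹ (inv_mem hg) _ hk⟩
  have hsup := PLocal.card_sup_mul_card_inf hn
  have hinf : Nat.card (C2 ⊓ K : Subgroup G) = oc2 M z τ := by
    rw [show C2 ⊓ K = oddIn M ⊓ centralizer ({z} : Set G) ⊓ centralizer ({τ} : Set G) from
      SetLike.ext fun g => by simp only [C2, hK, O, mem_inf]; tauto]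
    rfl
  have hC2 : Nat.card C2 = oc2 M z τ * (4 * e) := hT.card_cent_zt hCM
  have hKc : Nat.card K = oc M z := rfl
  rw [hinf, hC2, hKc] at hsup
  have hcard : Nat.card (C2 ⊔ K : Subgroup G) = oc M z * (4 * e) :=
    Nat.eq_of_mul_eq_mul_left (oc2_pos M z τ) (by linarith)
  have hdiv := card_dvd_of_le hle
  rw [hH, hcard, hB, show oc M τ * (2 * e * (2 * t)) = oc M τ * t * (4 * e) by ring] at hdiv
  exact Nat.dvd_of_mul_dvd_mul_right (Nat.mul_pos (by norm_num) hT.e_pos) hdiv

/-- The fused four-group has the larger centralizer. -/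
theorem le_pair (hG : Minimal G) : oc2 M z τ ≤ oc2 M z b := by
  by_contra hlt
  push Not at hlt
  obtain ⟨t, -, hB⟩ := hT.half
  have hca := (dvd_mul_right (oc M τ) t).trans (hT.ct_dvd hCM hlt.ne hG hB)
  have h1 : oc M τ ≤ oc M z := Nat.le_of_dvd (oc_pos M z) hca
  have h2 := hT.ad_eq
  have : oc2 M z b * oc M τ < oc2 M z τ * oc M z :=
    Nat.mul_lt_mul_of_lt_of_le hlt h1 (oc_pos M z)
  rw [← h2, mul_comm] at this
  exact lt_irrefl _ this

end WithC

end TwoClass

end CfsgLib.GW
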