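import Cfsg.Agent.GW.TwoThree
import Cfsg.Agent.GW.FusionOne

/-!
# Gorenstein–Walter: two classes of involutions are impossible

When `z` centralizes the odd core `O` of order `a = 3 c`, the subgroup `I = C_O(τ)` is normalized
by `C(z)` and by the element cycling `⟨z, τ⟩`; a maximal subgroup above its normalizer would have
the ratio of its four-groups reversed.  So `I = 1`, `|O| = 3` and `|G| = 35 · 72 = 2520`.
-/

set_option autoImplicit false
set_option linter.style.haveILetI false
set_option linter.unusedSectionVars false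

open Subgroup

namespace CfsgLib.GW

universe u

variable {G : Type u} [Group G] [Finite G]

/-- A subgroup of index three in a group of odd order is normal. -/
theorem le_normalizer_of_index_three {I K : Subgroup G} (hIK : I ≤ K) (hK : Odd (Nat.card K))
    (h : Nat.card I * 3 = Nat.card K) : K ≤ normalizer (I : Set G) := by
  have hidx : (I.subgroupOf K).index = 3 := by
    have := PLocal.card_mul_relIndex hIK
    rw [← h] at this
    exact Nat.eq_of_mul_eq_mul_left (Nat.card_pos (α := I)) this
  haveI : (I.subgroupOf K).Normal := normal_of_index_eq_minFac_card (by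
    rw [hidx]
    have hne1 : Nat.card K ≠ 1 := by
      have := Nat.card_pos (α := I)
      omega
    have h3le : 3 ≤ (Nat.card K).minFac := by
      have h2 := (Nat.minFac_prime hne1).two_le
      have : (Nat.card K).minFac ≠ 2 := fun e => hK.not_two_dvd_nat (e ▸ Nat.minFac_dvd _)
      omega
    have := Nat.minFac_le_of_dvd (show 2 ≤ 3 by norm_num)
      (⟨Nat.card I, by rw [mul_comm]; exact h.symm⟩ : 3 ∣ Nat.card K)
    omega)
  exact (normal_subgroupOf_iff_le_normalizer hIK).1 inferInstance

/-- A 2-group quotient does not fuse the three involutions of a four-group cyclically. -/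
theorem no_cycle_two_quotient {M : Subgroup G} (hN : IsPGroup 2 (↥M ⧸ Cfsg.oddCore ↥M))
    {z τ h : G} (hz : orderOf z = 2) (hzM : z ∈ M) (hτM : τ ∈ M) (hh : h ∈ M)
    (h1 : h * z * h⁻¹ = τ) (h2 : h * τ * h⁻¹ = z * τ) : False := by
  set π := QuotientGroup.mk' (Cfsg.oddCore ↥M)
  set z' := π ⟨z, hzM⟩ with hz'
  set t' := π ⟨τ, hτM⟩ with ht'
  set g := π ⟨h, hh⟩
  have hzne : z' ≠ 1 := fun e => by
    have hmem := (QuotientGroup.eq_one_iff _).1 e
    have := (ExtremelyClosed.odd_card_oddCore' ↥M).of_dvd_nat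
      ((Cfsg.oddCore ↥M).orderOf_dvd_natCard hmem)
    rw [orderOf_mk, hz] at this
    exact (by decide : ¬ Odd 2) this
  have hzz : z' * z' = 1 := by
    rw [hz', ← map_mul, show (⟨z, hzM⟩ : M) * ⟨z, hzM⟩ = 1 from
      Subtype.ext (Small.mul_self_of_orderOf_two hz), map_one]
  have e1 : g * z' * g⁻¹ = t' := by
    rw [hz', ht', ← map_mul, ← map_inv, ← map_mul]
    exact congrArg π (Subtype.ext h1)
  have e2 : g * t' * g⁻¹ = z' * t' := by
    rw [hz', ht', ← map_mul, ← map_inv, ← map_mul, ← map_mul]
    exact congrArg π (Subtype.ext h2)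
  have e3 : g ^ 3 * z' * (g ^ 3)⁻¹ = z' := by
    calc g ^ 3 * z' * (g ^ 3)⁻¹ = g * (g * (g * z' * g⁻¹) * g⁻¹) * g⁻¹ := by
          rw [pow_succ, pow_two]; group
      _ = g * (z' * t') * g⁻¹ := by rw [e1, e2]
      _ = (g * z' * g⁻¹) * (g * t' * g⁻¹) := by group
      _ = z' := by
        rw [e1, e2, ← mul_assoc]
        have : t' * t' = 1 := by rw [← e1, show g * z' * g⁻¹ * (g * z' * g⁻¹) = g * (z' * z') * g⁻¹ by
          group, hzz, mul_one, mul_inv_cancel]
        have hcomm : t' * z' = z' * t' := by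
          rw [hz', ht', ← map_mul, ← map_mul]
          refine congrArg π (Subtype.ext ?_)
          show τ * z = z * τ
          have h3 : h * τ * h⁻¹ * (h * τ * h⁻¹) = 1 := by
            rw [show h * τ * h⁻¹ * (h * τ * h⁻¹) = h * (τ * τ) * h⁻¹ by group, ← h1,
              show h * z * h⁻¹ * (h * z * h⁻¹) = h * (z * z) * h⁻¹ by group,
              Small.mul_self_of_orderOf_two hz]
            group
          rw [h2] at h3
          have hτ : τ * τ = 1 := by
            rw [← h1, show h * z * h⁻¹ * (h * z * h⁻¹) = h * (z * z) * h⁻¹ by group,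
              Small.mul_self_of_orderOf_two hz, mul_one, mul_inv_cancel]
          calc τ * z = τ⁻¹ * z⁻¹ := by
                rw [inv_eq_of_mul_eq_one_right hτ,
                  inv_eq_of_mul_eq_one_right (Small.mul_self_of_orderOf_two hz)]
            _ = (z * τ)⁻¹ := (mul_inv_rev z τ).symm
            _ = z * τ := inv_eq_of_mul_eq_one_right h3
        rw [hcomm, mul_assoc, this, mul_one]
  -- the cube generates
  obtain ⟨k, hk⟩ := IsPGroup.iff_orderOf.1 hN g
  obtain ⟨i, hi⟩ := exists_pow_eq_self_of_coprime (x := g) (n := 3)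
    (by rw [hk]; exact (by norm_num : Nat.Coprime 3 2).pow_right k)
  have hc : Commute (g ^ 3) z' := mul_inv_eq_iff_eq_mul.1 e3
  have hc' : Commute g z' := hi ▸ hc.pow_left i
  have hzt : z' = t' := by rw [← e1, hc'.eq, mul_inv_cancel_right]
  rw [← hzt, hc'.eq, mul_inv_cancel_right, hzz] at e2
  exact hzne e2

namespace TwoClass

variable {M : Subgroup G} {z b τ : G} {A B e N : ℕ} (hT : TwoClass M z b τ A B e N)
include hT

/-- **Two classes of involutions are impossible**, given the classification of the maximal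
overgroups of `C(z)`. -/
theorem false_of_classify (hG : Minimal G) (hM : IsCoatom M)
    (hCM : centralizer ({z} : Set G) ≤ M)
    (hcl : ∀ H : Subgroup G, H ≠ ⊤ → centralizer ({z} : Set G) ≤ H →
      IsPGroup 2 (↥H ⧸ Cfsg.oddCore ↥H) ∨
      (∀ a c, a ∈ H → c ∈ H → orderOf a = 2 → orderOf c = 2 → ∃ m ∈ H, m * a * m⁻¹ = c) ∨
      ∃ (b' t' : G) (A' B' e' N' : ℕ), TwoClass H z b' t' A' B' e' N') : False := by
  haveI := hG.simple
  by_cases heq : oc2 M z b = oc2 M z τ
  · exact hT.false_of_eq (hT.two_of_eq hCM hG heq).2 hCM hG hM heq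
  have hB := hT.small_of_ne hCM hG heq
  obtain ⟨hA, hN, he⟩ := hT.small hB
  obtain ⟨ha, hv, -, -⟩ := hT.ratio_three hCM hG heq
  obtain ⟨hD, -⟩ := hT.three_group hB hCM hG hM heq
  have hOz := hT.le_centralizer hB hCM hG hM heq
  set O := oddIn M with hO
  have hcore : core z = O := (hT.core_z hB hCM hG).trans (inf_eq_left.2 hOz)
  have haO : oc M z = Nat.card O := by rw [oc, inf_eq_left.2 hOz]
  -- `b` centralizes `O`
  have hOb : O ≤ centralizer ({b} : Set G) := by
    have hW := hT.wielandt_zb
    rw [haO] at hW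
    have hsq : oc2 M z b ^ 2 = Nat.card O ^ 2 := by
      refine Nat.eq_of_mul_eq_mul_left (Nat.card_pos (α := O)) ?_
      rw [hW]
      ring
    have hvO := Nat.pow_left_injective two_ne_zero hsq
    have h : O ⊓ centralizer ({z} : Set G) ⊓ centralizer ({b} : Set G) = O :=
      eq_of_le_of_card_ge (inf_le_left.trans inf_le_left) hvO.ge
    exact h ▸ inf_le_right
  set I := O ⊓ centralizer ({τ} : Set G) with hI
  have hfix : fix z τ = I := by rw [fix, hcore]
  have hIc : Nat.card I * 3 = Nat.card O := by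
    rw [← haO, ha, mul_comm]
    rfl
  -- `C(z)` normalizes `I`
  have hCI : centralizer ({z} : Set G) ≤ normalizer (I : Set G) := by
    set V := closure ({z, τ} : Set G)
    obtain ⟨hV, hcases⟩ := hG.four_spec hT.oz hT.ot hT.ne_zt hT.comm_zt
    obtain ⟨hV4, -⟩ := TwoGroups.isKleinFour_iff.1 hV
    have hzV : z ∈ V := subset_closure (by simp)
    have htV : τ ∈ V := subset_closure (by simp)
    have hcen : ∀ x : G, (∀ k ∈ I, k * x = x * k) → x ∈ normalizer (I : Set G) := fun x hx => by
      refine mem_normalizer_iff.2 fun k => ⟨fun hk => ?_, fun hk => ?_⟩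
      · rwa [← hx k hk, mul_inv_cancel_right]
      · have h := hx _ hk
        have : k = x * k * x⁻¹ := by
          refine mul_left_cancel (a := x) ?_
          calc x * k = x * k * x⁻¹ * x := by group
            _ = x * (x * k * x⁻¹) := h
        rw [this]
        exact hk
    have hVC : V ≤ centralizer ({z} : Set G) := (closure_le _).2 (by
      rintro x (rfl | rfl)
      exacts [mem_centralizer_singleton_iff.2 rfl,
        mem_centralizer_singleton_iff.2 hT.comm_zt.symm])
    have hVM : V ≤ M := hVC.trans hCM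
    have hVI : V ≤ normalizer (I : Set G) := (closure_le _).2 (by
      rintro x (rfl | rfl)
      · exact hcen _ fun k hk => mem_centralizer_singleton_iff.1 (hOz hk.1)
      · exact hcen _ fun k hk => mem_centralizer_singleton_iff.1 hk.2)
    have hbI : b ∈ normalizer (I : Set G) :=
      hcen _ fun k hk => mem_centralizer_singleton_iff.1 (hOb hk.1)
    have hOI : O ≤ normalizer (I : Set G) :=
      le_normalizer_of_index_three inf_le_left (odd_oddIn M) hIc
    set H1 := V ⊔ O
    set H := H1 ⊔ zpowers b
    have hbC : b ∈ centralizer ({z} : Set G) := mem_centralizer_singleton_iff.2 hT.comm_zb.symm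
    have hHC : H ≤ centralizer ({z} : Set G) := sup_le (sup_le hVC hOz) (zpowers_le.2 hbC)
    have hHI : H ≤ normalizer (I : Set G) := sup_le (sup_le hVI hOI) (zpowers_le.2 hbI)
    have hVn : V ≤ normalizer (O : Set G) := hVM.trans (le_normalizer_oddIn M)
    have hsup := PLocal.card_sup_mul_card_inf hVn
    have hbot : V ⊓ O = ⊥ := disjoint_iff.1 (disjoint_of_coprime_natCard (by
      rw [hV4]
      exact (Nat.coprime_two_left.2 (odd_oddIn M)).pow_left 2))
    rw [hbot, card_bot, mul_one, hV4] at hsup
    -- `b` is outside `V O`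
    have hb1 : b ∉ H1 := by
      intro hb
      rw [show H1 = O ⊔ V from sup_comm V O, ← SetLike.mem_coe,
        Subgroup.coe_mul_of_right_le_normalizer_left _ _ hVn] at hb
      obtain ⟨o, ho, v, hv, hov⟩ := hb
      simp only at hov
      have hodd : Odd (orderOf o) := (odd_oddIn M).of_dvd_nat (O.orderOf_dvd_natCard ho)
      have hbb := Small.mul_self_of_orderOf_two hT.ob
      rcases hcases v hv with ev | ev | ev | ev <;> rw [ev] at hov
      · rw [mul_one] at hov
        exact (by decide : ¬ Odd 2) (hT.ob ▸ hov ▸ hodd)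
      · have : orderOf o = 2 := by
          have ho' : o = b * z := by
            rw [← hov, mul_assoc, Small.mul_self_of_orderOf_two hT.oz, mul_one]
          rw [ho']
          exact orderOf_mul_two hT.ob hT.oz hT.comm_zb.symm hT.ne_zb.symm
        exact (by decide : ¬ Odd 2) (this ▸ hodd)
      · have hvv := Small.mul_self_of_orderOf_two hT.ot
        have hbv : b * τ = o := by rw [← hov, mul_assoc, hvv, mul_one]
        obtain ⟨w, hw, hwe⟩ := exists_conj_of_odd hbb hvv (hbv ▸ hodd)
        exact hT.not_fus (Fused.of_conj (hwe.symm ▸ hT.fus_b)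
          (oddIn_le M (zpowers_le.2 (hbv ▸ ho) hw)))
      · have hvv := Small.mul_self_of_orderOf_two
          (orderOf_mul_two hT.oz hT.ot hT.comm_zt hT.ne_zt)
        have hbv : b * (z * τ) = o := by rw [← hov, mul_assoc, hvv, mul_one]
        obtain ⟨w, hw, hwe⟩ := exists_conj_of_odd hbb hvv (hbv ▸ hodd)
        exact hT.not_fus_zt (Fused.of_conj (hwe.symm ▸ hT.fus_b)
          (oddIn_le M (zpowers_le.2 (hbv ▸ ho) hw)))
    have hlt : H1 < H := lt_of_le_of_ne le_sup_left fun e =>
      hb1 (e ▸ mem_sup_right (mem_zpowers b))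
    have hcC : Nat.card (centralizer ({z} : Set G)) = 8 * Nat.card O := by
      rw [hT.card_centralizer hCM, haO, hA, he]
      ring
    have hdv1 := card_dvd_of_le (le_sup_left : H1 ≤ H)
    have hdv2 := card_dvd_of_le hHC
    have hlt' : Nat.card H1 < Nat.card H :=
      lt_of_le_of_ne (card_le_of_le hlt.le) fun e => hlt.ne (eq_of_le_of_card_ge hlt.le e.ge)
    obtain ⟨r, hr⟩ := hdv1
    obtain ⟨s, hs⟩ := hdv2
    rw [hsup] at hr hlt'
    have hr2 : r * s = 2 := by
      refine Nat.eq_of_mul_eq_mul_left (Nat.mul_pos four_pos (Nat.card_pos (α := O))) ?_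
      rw [← mul_assoc, ← hr, ← hs, hcC]
      ring
    have hr1 : r ≠ 1 := fun e => by
      rw [e, mul_one] at hr
      exact absurd hr hlt'.ne'
    have hs1 : s = 1 := by
      rcases (Nat.dvd_prime Nat.prime_two).1 (Dvd.intro s hr2) with h | h
      · exact absurd h hr1
      · rw [h] at hr2
        omega
    have : H = centralizer ({z} : Set G) := eq_of_le_of_card_ge hHC (by rw [hs, hs1, mul_one])
    exact this ▸ hHI
  obtain ⟨h, h1, h2⟩ := hG.exists_cycle hT.oz hT.ot hT.ne_zt hT.comm_zt
  have hhM : h ∉ M := fun hm => hT.not_fus ⟨h, hm, h1⟩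
  have hhI : h ∈ normalizer (I : Set G) := by
    refine mem_normalizer_iff_map_conj_eq.2 (eq_of_le_of_card_ge ?_ (card_map_conj h I).ge)
    rintro _ ⟨w, hw, rfl⟩
    rw [← hfix] at hw ⊢
    exact hG.conj_mem_fix hT.oz h1 h2 hw
  by_cases hI1 : I = ⊥
  · rw [hI1, card_bot, one_mul] at hIc
    refine hG.card_ne ?_
    rw [← M.card_mul_index, hT.card_all_three hB, ← hO, ← hIc, hD]
  · -- a maximal subgroup above the normalizer
    have hne : normalizer (I : Set G) ≠ ⊤ := fun e => by
      rcases (normalizer_eq_top_iff.1 e).eq_bot_or_eq_top with hb | ht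
      · exact hI1 hb
      · exact hM.1 (top_le_iff.1 (ht ▸ inf_le_left.trans (oddIn_le M)))
    obtain ⟨H, hH, hNH⟩ := (IsCoatomic.eq_top_or_exists_le_coatom
      (normalizer (I : Set G))).resolve_left hne
    have hCH : centralizer ({z} : Set G) ≤ H := hCI.trans hNH
    have hhH : h ∈ H := hNH hhI
    have hzH : z ∈ H := hCH (mem_centralizer_singleton_iff.2 rfl)
    have hτH : τ ∈ H := hCH (mem_centralizer_singleton_iff.2 hT.comm_zt.symm)
    have hbH : b ∈ H := hCH (mem_centralizer_singleton_iff.2 hT.comm_zb.symm)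
    rcases hcl H hH.1 hCH with h2g | hone | ⟨b', t', A', B', e', N', hT'⟩
    · exact no_cycle_two_quotient h2g hT.oz hzH hτH hhH h1 h2
    · refine hG.not_one_class hT.oz hH (lt_of_le_of_ne hCH fun e => ?_) hone
      exact hhM (hCM (e.symm ▸ hhH))
    · -- the ratio is reversed
      have hf : Fused H z τ := ⟨h, hhH, h1⟩
      have eτ := hT'.pair_fused hτH hT.ot hT.comm_zt hT.ne_zt.symm hf
      rw [hT.card_cent_zt hCM, hT'.card_cent_zb hCH] at eτ
      have hv' : oc2 M z b * (4 * e) = 3 * (oc2 M z τ * (4 * e)) := by rw [hv]; ring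
      by_cases hfb : Fused H z b
      · have eb := hT'.pair_fused hbH hT.ob hT.comm_zb hT.ne_zb.symm hfb
        rw [hT.card_cent_zb hCM, hT'.card_cent_zb hCH, hv', eτ] at eb
        have := Nat.mul_pos (oc2_pos H z b') (Nat.mul_pos four_pos hT'.e_pos)
        omega
      · have eb := hT'.pair_not_fused hbH hT.ob hT.comm_zb hT.ne_zb.symm hfb
        rw [hT.card_cent_zb hCM, hT'.card_cent_zt hCH, hv', eτ] at eb
        have hle := Nat.mul_le_mul_right (4 * e') (hT'.le_pair hCH hG)
        have := Nat.mul_pos (oc2_pos H z b') (Nat.mul_pos four_pos hT'.e_pos)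
        omega

end TwoClass

end CfsgLib.GW
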