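import Cfsg.Agent.GW.TwoQuot
import Cfsg.Agent.GW.OSType.LinearInner
import Cfsg.Agent.DGroupCent.TorusCases
import Cfsg.Agent.DGroupCent.Cases
import Cfsg.Agent.GW.Known
import Cfsg.Agent.GW.FourFixed

/-!
# Gorenstein–Walter: an odd extension of `PGL₂(q)` has two classes of involutions

For a group of dihedral type with a self-centralizing normal `PSL₂(q)` and an involution outside
it, the elements acting as matrices form `PGL₂(q)`, with odd index `e`.
-/

set_option autoImplicit false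
set_option linter.style.haveILetI false
set_option linter.unusedSectionVars false

open Subgroup
open scoped MatrixGroups

namespace CfsgLib.GW.OS

namespace Model

variable {Q : Type*} [Group Q] [Finite Q] {L : Subgroup Q} [L.Normal] {F : Type} [Field F] [Fintype F]
variable {m : Model L F}

local notation "GLT" => GL (Fin 2) F
local notation "M₂" => Matrix (Fin 2) (Fin 2) F

/-- A nontrivial element of odd order of `diagPart` commutes with at most one involution. -/
theorem invol_eq_of_commute {v v' y : Q} (hv : orderOf v = 2) (hv' : orderOf v' = 2)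
    (hy : y ∈ m.diagPart) (hy1 : y ≠ 1) (ho : Odd (orderOf y)) (hc : Commute v y)
    (hc' : Commute v' y) : v = v' := by
  obtain ⟨A, α, hA, hA2, hα, hnA⟩ := exists_rep_involution (m := m) hv
  obtain ⟨A', α', hA', hA'2, hα', hnA'⟩ := exists_rep_involution (m := m) hv'
  obtain ⟨Y, hY⟩ := mem_diagPart.1 hy
  obtain ⟨a, b, hab⟩ := coord_of_commute hA hnA hY hc ho
  have hb : b ≠ 0 := fun e => hy1 (hY.eq_one_of_scalar (c := a) (by rw [hab, e, zero_smul, add_zero]))
  have h := rep_commute_odd hA' hY hc' ho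
  rw [hab, mul_add, add_mul, mul_smul_comm, mul_smul_comm, smul_mul_assoc, smul_mul_assoc, mul_one,
    one_mul, add_right_inj] at h
  obtain ⟨c, d, hcd⟩ := hnA.exists_coord (smul_right_injective _ hb h).symm
  have ht := hnA'.trace_zero hA'2
  rw [hcd, Matrix.trace_add, Matrix.trace_smul, Matrix.trace_smul, hnA.trace_zero hA2, smul_zero,
    add_zero, Matrix.trace_one, smul_eq_mul, Fintype.card_fin] at ht
  have hc0 : c = 0 := (mul_eq_zero.1 ht).resolve_right (by exact_mod_cast m.two_ne_zero)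
  rw [hc0, zero_smul, zero_add] at hcd
  have hd : d ≠ 0 := fun e => hnA' 0 (by rw [hcd, e, zero_smul, zero_smul])
  exact (eq_of_rep_smul hA' hA hd hcd).symm

theorem isSquare_neg_mul {x y : F} (hodd : Odd (Fintype.card F)) (hx : x ≠ 0) (hy : y ≠ 0)
    (h : ¬ IsSquare x) (h' : ¬ IsSquare y) : IsSquare (x * y) := by
  have hp : ringChar F ≠ 2 := fun e => by
    have := FiniteField.even_card_of_char_two e
    obtain ⟨k, hk⟩ := hodd
    omega
  rw [FiniteField.isSquare_iff hp hx] at h
  rw [FiniteField.isSquare_iff hp hy] at h'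
  rw [FiniteField.isSquare_iff hp (mul_ne_zero hx hy), mul_pow,
    (FiniteField.pow_dichotomy hp hx).resolve_left h, (FiniteField.pow_dichotomy hp hy).resolve_left h']
  norm_num

theorem det_ne (M : GLT) : M.1.det ≠ 0 := fun e => M.det.ne_zero e

variable (m) in
/-- The elements whose matrices commute with `A`, one half of the centralizer of `A`'s involution. -/
def torus (A : GLT) : Subgroup Q where
  carrier := {g | ∃ X : GLT, m.Rep g X ∧ Commute X A}
  one_mem' := ⟨1, rep_one, Commute.one_left A⟩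
  mul_mem' := fun ⟨X, hX, h⟩ ⟨Y, hY, h'⟩ => ⟨X * Y, hX.mul hY, h.mul_left h'⟩
  inv_mem' := fun ⟨X, hX, h⟩ => ⟨X⁻¹, hX.inv, h.inv_left⟩

theorem mem_torus {A : GLT} {g : Q} :
    g ∈ torus m A ↔ ∃ X : GLT, m.Rep g X ∧ X.1 * A.1 = A.1 * X.1 :=
  exists_congr fun X => and_congr_right fun _ =>
    ⟨fun h => congrArg Units.val h, fun h => Units.ext h⟩

variable {t₀ : Q} (ht₀ : orderOf t₀ = 2) (ht₀L : t₀ ∉ L)
include ht₀ ht₀L

/-- Every invertible matrix is the matrix of an element. -/
theorem rep_surj (T : M₂) (hT : T.det ≠ 0) : ∃ (g : Q) (T' : GLT), m.Rep g T' ∧ T'.1 = T := by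
  have h1 : ∀ S : M₂, (1 : GLT).1 * S = (1 : F) • (S * (1 : GLT).1) := fun S => by simp
  by_cases hsq : IsSquare T.det
  · obtain ⟨g, T', -, hg, hT', -⟩ :=
      exists_mem_of_mat (m := m) rep_one hsq hT one_ne_zero (h1 T)
    exact ⟨g, T', hg, hT'⟩
  · obtain ⟨U, hU⟩ := mem_diagPart.1 (involution_mem (m := m) ht₀)
    have hUsq : ¬ IsSquare U.1.det := fun h => ht₀L (mem_of_det hU h)
    obtain ⟨g, T', -, hg, hT', -⟩ := exists_mem_of_mat (m := m) (T := T * U.1) rep_one
      (by rw [Matrix.det_mul]; exact isSquare_neg_mul m.odd hT (det_ne U) hsq hUsq)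
      (by rw [Matrix.det_mul]; exact mul_ne_zero hT (det_ne U)) one_ne_zero (h1 _)
    refine ⟨g * t₀⁻¹, T' * U⁻¹, hg.mul hU.inv, ?_⟩
    rw [Units.val_mul, hT', mul_assoc, ← Units.val_mul, mul_inv_cancel, Units.val_one, mul_one]

/-- The order of the centralizer in `diagPart` of an involution. -/
theorem card_diag_centralizer {s w : Q} (hs : orderOf s = 2) (hw : orderOf w = 2) (hne : w ≠ s)
    (hc : Commute s w) {A : GLT} {α : F} (hA : m.Rep s A) (hA2 : A.1 * A.1 = α • 1) (hα : α ≠ 0)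
    (hnA : NonSc A.1) :
    (IsSquare α → Nat.card (m.diagPart ⊓ centralizer ({s} : Set Q) : Subgroup Q) =
      2 * (Fintype.card F - 1)) ∧
    (¬ IsSquare α → Nat.card (m.diagPart ⊓ centralizer ({s} : Set Q) : Subgroup Q) =
      2 * (Fintype.card F + 1)) := by
  classical
  obtain ⟨W, β, hW, hW2, hβ, hnW⟩ := exists_rep_involution (m := m) hw
  have hanti := anticomm hA hW hnA (hnA.trace_zero hA2) hW2 hnW hc hne
  set D := m.diagPart ⊓ centralizer ({s} : Set Q)
  set T := torus m A
  have hTD : T ≤ D := fun g hg => by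
    obtain ⟨X, hX, h⟩ := mem_torus.1 hg
    exact ⟨mem_diagPart.2 ⟨X, hX⟩,
      mem_centralizer_singleton_iff.2 (commute_of_mat hX hA one_ne_zero (by rw [one_smul, h])).eq⟩
  have hwT : w ∉ T := fun h => by
    obtain ⟨X, hX, hXA⟩ := mem_torus.1 h
    obtain ⟨u, rfl⟩ := Rep.unique hX hW
    rw [smul_one_mul_units, smul_mul_assoc, mul_smul_comm, hanti, smul_neg,
      eq_neg_iff_add_eq_zero, ← add_smul, smul_eq_zero] at hXA
    rcases hXA with h | h
    · exact mul_ne_zero m.two_ne_zero u.ne_zero (by linear_combination h)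
    · exact (W * A : GLT).ne_zero h
  have hidx : (T.subgroupOf D).index = 2 := by
    refine index_eq_two_iff.2 ⟨⟨w, mem_diagPart.2 ⟨W, hW⟩,
      mem_centralizer_singleton_iff.2 hc.symm.eq⟩, fun g => ?_⟩
    simp only [mem_subgroupOf, Subgroup.coe_mul]
    by_cases hg : (g : Q) ∈ T
    · exact Or.inr ⟨hg, fun h => hwT ((mul_mem_cancel_left hg).1 h)⟩
    · refine Or.inl ⟨?_, hg⟩
      obtain ⟨X, hX⟩ := mem_diagPart.1 g.2.1
      obtain ⟨l, hl | hl, h⟩ := rep_commute hA hX (mem_centralizer_singleton_iff.1 g.2.2).symm <;>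
        subst hl
      · exact absurd (mem_torus.2 ⟨X, hX, by rw [h, one_smul]⟩) hg
      · rw [neg_one_smul] at h
        refine mem_torus.2 ⟨X * W, hX.mul hW, ?_⟩
        rw [Units.val_mul, mul_assoc, ← neg_neg (W.1 * A.1), ← hanti, mul_neg, ← mul_assoc,
          ← mul_assoc, h, neg_mul]
  have hcard : Nat.card D = 2 * Nat.card T := by
    have := (T.subgroupOf D).card_mul_index
    rw [hidx, Nat.card_congr (subgroupOfEquivOfLe hTD).toEquiv] at this
    omega
  -- the coordinates
  let R := {a : F // a * a ≠ α}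
  have hdet : ∀ a : F, ((a • (1 : M₂) + (1 : F) • A.1)).det = a * a - α := fun a => by
    have hd := hnA.det_eq hA2
    have ht := hnA.trace_zero hA2
    rw [Matrix.det_fin_two] at hd ⊢
    rw [Matrix.trace_fin_two] at ht
    simp
    linear_combination hd + a * ht
  have hsome : ∀ a : R, ∃ g ∈ T, ∃ X : GLT, m.Rep g X ∧ X.1 = a.1 • 1 + (1 : F) • A.1 := fun a => by
    obtain ⟨g, X, hX, hXT⟩ := rep_surj (m := m) ht₀ ht₀L (a.1 • 1 + (1 : F) • A.1)
      (by rw [hdet]; exact sub_ne_zero.2 a.2)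
    exact ⟨g, mem_torus.2 ⟨X, hX, by rw [hXT]; simp [add_mul, mul_add]⟩, X, hX, hXT⟩
  choose g hgT X hX hXv using hsome
  let f : Option R → T := fun o => o.elim 1 fun a => ⟨g a, hgT a⟩
  have hne1 : ∀ a, g a ≠ 1 := fun a e => by
    obtain ⟨u, hu⟩ := Rep.unique (e ▸ hX a) rep_one
    have h := congrArg Units.val hu
    rw [smul_one_mul_units, hXv] at h
    exact one_ne_zero (hnA.coord_eq_zero (a := a.1 - (u : F)) (b := 1) (by
      rw [sub_smul, Units.val_one] at *
      rw [sub_add_eq_add_sub, h, sub_self])).2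
  have hf : Function.Bijective f := by
    refine ⟨fun o o' h => ?_, fun ⟨x, hx⟩ => ?_⟩
    · rcases o with _ | a <;> rcases o' with _ | a'
      · rfl
      · exact absurd (congrArg Subtype.val h).symm (hne1 a')
      · exact absurd (congrArg Subtype.val h) (hne1 a)
      · have hg : g a = g a' := congrArg Subtype.val h
        have hga := hX a
        rw [hg] at hga
        obtain ⟨u, hu⟩ := Rep.unique hga (hX a')
        have h' := congrArg Units.val hu
        rw [smul_one_mul_units, hXv, hXv, smul_add, smul_smul, smul_smul, mul_one] at h'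
        obtain ⟨h1, h2⟩ := hnA.coord_eq_zero (a := a.1 - (u : F) * a'.1) (b := 1 - (u : F)) (by
          rw [sub_smul, sub_smul]
          calc _ = (a.1 • (1 : M₂) + (1 : F) • A.1) - (((u : F) * a'.1) • 1 + (u : F) • A.1) := by
                abel
            _ = 0 := by rw [h', sub_self])
        refine congrArg some (Subtype.ext ?_)
        linear_combination h1 - a'.1 * h2
    · obtain ⟨Y, hY, hYA⟩ := mem_torus.1 hx
      obtain ⟨a, b, hab⟩ := hnA.exists_coord hYA.symm
      by_cases hb : b = 0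
      · refine ⟨none, Subtype.ext ?_⟩
        exact (hY.eq_one_of_scalar (c := a) (by rw [hab, hb, zero_smul, add_zero])).symm
      · have e : Y.1 = b • ((a / b) • (1 : M₂) + (1 : F) • A.1) := by
          rw [hab, smul_add, smul_smul, smul_smul, mul_div_cancel₀ _ hb, mul_one]
        have hr : a / b * (a / b) ≠ α := fun h => det_ne Y (by
          rw [e, Matrix.det_smul, hdet, h, sub_self, mul_zero])
        refine ⟨some ⟨a / b, hr⟩, Subtype.ext ?_⟩
        exact (eq_of_rep_smul hY (hX ⟨a / b, hr⟩) hb (by rw [e, hXv])).symm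
  have hTcard : Nat.card T = Nat.card R + 1 := by
    rw [← Nat.card_eq_of_bijective f hf, Finite.card_option]
  have hsplit : Nat.card R + Nat.card {a : F // a * a = α} = Fintype.card F := by
    rw [← Nat.card_eq_fintype_card, ← Nat.card_sum]
    exact Nat.card_congr ((Equiv.sumComm _ _).trans (Equiv.sumCompl fun a : F => a * a = α))
  constructor
  · rintro ⟨c, hc⟩
    have h2 : Nat.card {a : F // a * a = α} = 2 := by
      have hc0 : c ≠ 0 := fun e => hα (by rw [hc, e, mul_zero])
      have hset : ({a : F | a * a = α} : Set F) = {c, -c} := by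
        ext a
        simp [hc, mul_self_eq_mul_self_iff]
      show Nat.card ({a : F | a * a = α} : Set F) = 2
      rw [hset, Nat.card_coe_set_eq, Set.ncard_pair]
      intro e
      exact hc0 ((mul_eq_zero.1 (show (2 : F) * c = 0 by linear_combination e)).resolve_left
        m.two_ne_zero)
    rw [hcard, hTcard]
    omega
  · intro hns
    haveI : IsEmpty {a : F // a * a = α} := ⟨fun a => hns ⟨a.1, a.2.symm⟩⟩
    rw [Nat.card_of_isEmpty (α := {a : F // a * a = α})] at hsplit
    rw [hcard, hTcard]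
    omega

end Model

end CfsgLib.GW.OS

namespace CfsgLib.GW

open CfsgLib.GW.OS

/-- The parameters of `PGL₂(q)`. -/
theorem exists_params {F : Type*} [Field F] [Fintype F] (hodd : Odd (Fintype.card F))
    (h3 : 3 < Fintype.card F) :
    ∃ A B N : ℕ, (Fintype.card F % 4 = 1 ∧ A = Fintype.card F - 1 ∧ B = Fintype.card F + 1 ∨
        Fintype.card F % 4 = 3 ∧ A = Fintype.card F + 1 ∧ B = Fintype.card F - 1) ∧
      4 ∣ A ∧ (B ∣ A → B = 2) ∧ (∃ s, Odd s ∧ B = 2 * s) ∧ (B = 2 → A = 4 ∧ N = 12 ∧ (1 : ℕ) = 1) ∧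
      4 ≤ B ∧ (B = 6 → (A = 4 ∧ N = 60) ∨ (A = 8 ∧ N = 168)) ∧ (∃ k, Odd k ∧ N = A * k) ∧
      N = Nat.card (Matrix.ProjectiveSpecialLinearGroup (Fin 2) F) := by
  have hN := Linear.card_PSL_two_odd hodd
  generalize Nat.card (Matrix.ProjectiveSpecialLinearGroup (Fin 2) F) = N at hN
  generalize Fintype.card F = q at hN hodd h3
  obtain ⟨j, rfl⟩ := hodd
  have hsq : (2 * j + 1) ^ 2 - 1 = 4 * (j * (j + 1)) := Nat.sub_eq_of_eq_add (by ring)
  rw [hsq] at hN
  obtain ⟨i, rfl | rfl⟩ := Nat.even_or_odd' j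
  · refine ⟨4 * i, 4 * i + 2, N, Or.inl ⟨by omega, by omega, by omega⟩, dvd_mul_right 4 i, ?_,
      ⟨2 * i + 1, odd_two_mul_add_one i, by ring⟩, by omega, by omega, ?_,
      ⟨(4 * i + 1) * (2 * i + 1), (by simp [Nat.odd_mul, Nat.odd_iff, Nat.add_mod, Nat.mul_mod]),
        by linarith⟩, rfl⟩
    · intro h
      have := Nat.le_of_dvd (by omega) h
      omega
    · intro h
      obtain rfl : i = 1 := by omega
      left
      omega
  · refine ⟨4 * i + 4, 4 * i + 2, N, Or.inr ⟨by omega, by omega, by omega⟩, ⟨i + 1, by ring⟩, ?_,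
      ⟨2 * i + 1, odd_two_mul_add_one i, by ring⟩, by omega, by omega, ?_,
      ⟨(4 * i + 3) * (2 * i + 1), (by simp [Nat.odd_mul, Nat.odd_iff, Nat.add_mod, Nat.mul_mod]),
        by linarith⟩, rfl⟩
    · intro h
      have h2 : 4 * i + 2 ∣ 2 := by
        have := Nat.dvd_sub h dvd_rfl
        rwa [show 4 * i + 4 - (4 * i + 2) = 2 by omega] at this
      have := Nat.le_of_dvd two_pos h2
      omega
    · intro h
      obtain rfl : i = 1 := by omega
      right
      omega

set_option maxHeartbeats 1600000 in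
/-- A self-centralizing `PSL₂(q)` with an outer involution gives the quotient data. -/
theorem twoQuot_of_model {Q : Type*} [Group Q] [Finite Q] {L : Subgroup Q} [L.Normal] {F : Type}
    [Field F] [Fintype F] (m : Model L F) {t₀ : Q} (ht₀ : orderOf t₀ = 2) (ht₀L : t₀ ∉ L) :
    ∃ A B e N, TwoQuot L A B e N := by
  classical
  haveI : Fact (Nat.Prime 2) := ⟨Nat.prime_two⟩
  obtain ⟨X0, hX0⟩ : ∃ X0 : Subgroup Q, X0 = m.diagPart := ⟨_, rfl⟩
  haveI : X0.Normal := hX0 ▸ Model.diagPart_normal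
  have hXd : ∀ {x : Q}, x ∈ X0 → x ∈ m.diagPart := fun h => hX0 ▸ h
  have hLX : L ≤ X0 := fun l hl => hX0 ▸ Model.coe_mem_diagPart hl
  have hinv : ∀ {x : Q}, orderOf x = 2 → x ∈ X0 := fun h => hX0 ▸ Model.involution_mem h
  -- products of elements outside `L`
  have htwo : ∀ x ∈ X0, ∀ y ∈ X0, x ∉ L → y ∉ L → x * y ∈ L := by
    intro x hx y hy hxL hyL
    obtain ⟨X, hX⟩ := Model.mem_diagPart.1 (hXd hx)
    obtain ⟨Y, hY⟩ := Model.mem_diagPart.1 (hXd hy)
    refine Model.mem_of_det (hX.mul hY) ?_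
    rw [Units.val_mul, Matrix.det_mul]
    exact Model.isSquare_neg_mul m.odd (Model.det_ne X) (Model.det_ne Y)
      (fun h => hxL (Model.mem_of_det hX h)) fun h => hyL (Model.mem_of_det hY h)
  have hLcard : Nat.card L = Nat.card (Matrix.ProjectiveSpecialLinearGroup (Fin 2) F) :=
    Nat.card_congr m.e.toEquiv
  obtain ⟨A, B, N, hAB, hA4, hdvd, hhalf, hsmall, hB4, hsix, hk, hN⟩ := exists_params m.odd m.large
  have hX0card : Nat.card X0 = 2 * N := by
    have hi : (L.subgroupOf X0).index = 2 := by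
      refine index_eq_two_iff.2 ⟨⟨t₀, hinv ht₀⟩, fun g => ?_⟩
      simp only [mem_subgroupOf, Subgroup.coe_mul]
      by_cases hg : (g : Q) ∈ L
      · exact Or.inr ⟨hg, fun h => ht₀L ((mul_mem_cancel_left hg).1 h)⟩
      · exact Or.inl ⟨htwo _ g.2 _ (hinv ht₀) hg ht₀L, hg⟩
    have := (L.subgroupOf X0).card_mul_index
    rw [hi, Nat.card_congr (subgroupOfEquivOfLe hLX).toEquiv, hLcard, ← hN] at this
    omega
  -- one class in `L`
  have hone : ∀ x y, orderOf x = 2 → orderOf y = 2 → x ∈ L → y ∈ L →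
      ∃ g ∈ L, g * x * g⁻¹ = y := by
    intro x y hx hy hxL hyL
    have h2 := Linear.two_ne_zero_of_odd m.odd
    have hl : ∀ v (hv : v ∈ L), orderOf v = 2 → ∃ a : SL(2, F),
        Forms.KleinPSL.projHom a = m.e ⟨v, hv⟩ ∧ a * a = -1 := fun v hv ov => by
      have ho : orderOf (m.e ⟨v, hv⟩) = 2 := by rw [MulEquiv.orderOf_eq, orderOf_mk, ov]
      exact Forms.KleinPSL.exists_lift_of_orderOf_two h2 (Small.ne_one_of_orderOf_two ho)
        (Small.mul_self_of_orderOf_two ho)
    obtain ⟨a, ha, ha2⟩ := hl x hxL hx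
    obtain ⟨b, hb, hb2⟩ := hl y hyL hy
    obtain ⟨c, hc⟩ := isConj_iff.1 (Inv53.sl2_isConj h2 ha2 hb2)
    refine ⟨_, (m.e.symm (Forms.KleinPSL.projHom c)).2, ?_⟩
    have e0 := congrArg Forms.KleinPSL.projHom hc
    rw [map_mul, map_mul, map_inv, ha, hb] at e0
    have e1 := congrArg m.e.symm e0
    rw [map_mul, map_mul, map_inv, m.e.symm_apply_apply, m.e.symm_apply_apply] at e1
    exact congrArg Subtype.val e1
  -- a four-group in `L`
  obtain ⟨v₀, hv₀, hv₀w, hv₀c⟩ := DGroupCent.Torus.exists_four (F := F) m.odd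
  set z : Q := ((m.e.symm DGroupCent.Psl.w : L) : Q) with hz
  set b : Q := ((m.e.symm v₀ : L) : Q) with hb
  have oz : orderOf z = 2 := by rw [hz, orderOf_coe, MulEquiv.orderOf_eq, DGroupCent.Torus.orderOf_w]
  have ob : orderOf b = 2 := by rw [hb, orderOf_coe, MulEquiv.orderOf_eq, hv₀]
  have hzL : z ∈ L := SetLike.coe_mem _
  have hbL : b ∈ L := SetLike.coe_mem _
  have hzb : z * b = b * z := by
    rw [hz, hb, ← Subgroup.coe_mul, ← Subgroup.coe_mul, ← map_mul, ← map_mul, hv₀c]
  have hbz : b ≠ z := fun h => hv₀w (m.e.symm.injective (Subtype.ext h))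
  -- a central involution of a Sylow subgroup
  have hsylow : ∀ s : Q, orderOf s = 2 → ∃ (P : Sylow 2 Q) (c : Q), s ∈ (P : Subgroup Q) ∧
      orderOf c = 2 ∧ c ∈ (P : Subgroup Q) ∧ (∀ x ∈ (P : Subgroup Q), x * c = c * x) ∧
      ∃ z' ∈ (P : Subgroup Q), z' ∈ L ∧ orderOf z' = 2 := by
    intro s hs
    obtain ⟨P, hP⟩ := (IsPGroup.of_card (n := 1) (by rw [Nat.card_zpowers, hs]; rfl) :
      IsPGroup 2 (zpowers s)).exists_le_sylow
    haveI : Nontrivial (P : Subgroup Q) := ⟨⟨s, hP (mem_zpowers s)⟩, 1, fun h =>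
      Small.ne_one_of_orderOf_two hs (congrArg Subtype.val h)⟩
    haveI := P.isPGroup'.center_nontrivial
    obtain ⟨i, hi0, hi⟩ := (P.isPGroup'.to_subgroup (center (P : Subgroup Q))).nontrivial_iff_card.1
      inferInstance
    obtain ⟨c, hc⟩ := exists_prime_orderOf_dvd_card' (G := center (P : Subgroup Q)) 2
      (hi ▸ dvd_pow_self 2 hi0.ne')
    obtain ⟨P', hP'⟩ := (IsPGroup.of_card (n := 1) (by rw [Nat.card_zpowers, oz]; rfl) :
      IsPGroup 2 (zpowers z)).exists_le_sylow
    obtain ⟨g, hg⟩ := MulAction.exists_smul_eq Q P' P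
    refine ⟨P, _, hP (mem_zpowers s), by rw [orderOf_coe, orderOf_coe, hc], (c : (P : Subgroup Q)).2,
      fun x hx => congrArg Subtype.val (mem_center_iff.1 c.2 ⟨x, hx⟩), g * z * g⁻¹, ?_,
      (inferInstance : L.Normal).conj_mem _ hzL g, by rw [Small.orderOf_conj_eq, oz]⟩
    rw [← hg, Sylow.coe_subgroup_smul]
    exact ⟨z, hP' (mem_zpowers z), rfl⟩
  have hpartner : ∀ s : Q, orderOf s = 2 → ∃ w, orderOf w = 2 ∧ w ≠ s ∧ Commute s w := by
    intro s hs
    by_cases hsL : s ∈ L
    · obtain ⟨g, -, hg⟩ := hone z s oz hs hzL hsL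
      refine ⟨g * b * g⁻¹, by rw [Small.orderOf_conj_eq, ob],
        fun h => hbz (mul_left_cancel (mul_right_cancel (h.trans hg.symm))), ?_⟩
      rw [← hg]
      exact (show Commute z b from hzb).map (MulAut.conj g).toMonoidHom
    · obtain ⟨P, c, hsP, oc, hcP, hcen, z', hz'P, hz'L, oz'⟩ := hsylow s hs
      by_cases hcs : c = s
      · exact ⟨z', oz', fun h => hsL (h ▸ hz'L), (hcs ▸ hcen z' hz'P : z' * s = s * z').symm⟩
      · exact ⟨c, oc, hcs, hcen s hsP⟩
  -- centralizers in `X0`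
  have hcount : ∀ s : Q, orderOf s = 2 →
      (s ∈ L → Nat.card (X0 ⊓ centralizer ({s} : Set Q) : Subgroup Q) = 2 * A) ∧
      (s ∉ L → Nat.card (X0 ⊓ centralizer ({s} : Set Q) : Subgroup Q) = 2 * B) := by
    intro s hs
    obtain ⟨w, hw, hws, hsw⟩ := hpartner s hs
    obtain ⟨M, α, hM, hM2, hα, hnM⟩ := Model.exists_rep_involution (m := m) hs
    obtain ⟨hsq, hns⟩ := Model.card_diag_centralizer ht₀ ht₀L hs hw hws hsw hM hM2 hα hnM
    rw [← hX0] at hsq hns
    have hiff := Model.involution_mem_iff hM hM2 hnM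
    have hneg : ∀ x : F, x ≠ 0 → (IsSquare (-1 : F) → (IsSquare (-x) ↔ IsSquare x)) ∧
        (¬ IsSquare (-1 : F) → (IsSquare (-x) ↔ ¬ IsSquare x)) := fun x hx => by
      refine ⟨fun h1 => ⟨fun h => by simpa using h1.mul h, fun h => by simpa using h1.mul h⟩,
        fun h1 => ⟨fun h h' => ?_, fun h => ?_⟩⟩
      · obtain ⟨a, ha⟩ := h
        obtain ⟨c, hc⟩ := h'
        have hc0 : c ≠ 0 := fun e => hx (by rw [hc, e, mul_zero])
        exact h1 ⟨a / c, by field_simp; linear_combination ha + hc⟩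
      · simpa using Model.isSquare_neg_mul m.odd (neg_ne_zero.2 one_ne_zero) hx h1 h
    rcases hAB with ⟨hq, rfl, rfl⟩ | ⟨hq, rfl, rfl⟩
    · have h1 : IsSquare (-1 : F) := FiniteField.isSquare_neg_one_iff.2 (by omega)
      exact ⟨fun h => hsq (((hneg α hα).1 h1).1 (hiff.1 h)),
        fun h => hns fun h' => h (hiff.2 (((hneg α hα).1 h1).2 h'))⟩
    · have h1 : ¬ IsSquare (-1 : F) := fun h => by
        have := FiniteField.isSquare_neg_one_iff.1 h
        omega
      exact ⟨fun h => hns (((hneg α hα).2 h1).1 (hiff.1 h)),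
        fun h => hsq (not_not.1 fun h' => h (hiff.2 (((hneg α hα).2 h1).2 h')))⟩
  -- Sylow subgroups lie in `X0`
  have hidx : Odd X0.index := by
    obtain ⟨P, hP⟩ := (show IsPGroup 2 (closure ({z, b} : Set Q)) from fun v => ⟨1, Subtype.ext (by
      rw [pow_one, Subgroup.coe_pow, sq]
      rcases DGroupCent.sq_eq_one_of_mem_closure_pair (Small.mul_self_of_orderOf_two oz)
        (Small.mul_self_of_orderOf_two ob) hzb v v.2 with e | e | e | e <;> rw [e]
      · simp
      · exact Small.mul_self_of_orderOf_two oz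
      · exact Small.mul_self_of_orderOf_two ob
      · rw [mul_assoc, ← mul_assoc b z b, ← hzb, mul_assoc z b b, Small.mul_self_of_orderOf_two ob,
          mul_one, Small.mul_self_of_orderOf_two oz]
        rfl)⟩).exists_le_sylow
    obtain ⟨n, f, hf⟩ := m.dih P P.isPGroup'
    have hzP : z ∈ (P : Subgroup Q) := hP (subset_closure (by simp))
    have hbP : b ∈ (P : Subgroup Q) := hP (subset_closure (by simp))
    have hsqP : ∀ x : (P : Subgroup Q), f x ∉ rot n → x * x = 1 := fun x hx => hf (by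
      rw [map_mul, map_one]; exact mul_self_of_notMem_rot _ hx)
    obtain ⟨r, hr⟩ : ∃ r, f r ∉ rot n := by
      by_contra h
      have h := not_exists_not.1 h
      rcases eq_of_mem_rot_of_sq (h ⟨z, hzP⟩) (h ⟨b, hbP⟩)
        (by rw [← map_mul, ← map_one f]
            exact congrArg f (Subtype.ext (Small.mul_self_of_orderOf_two oz)))
        (by rw [← map_mul, ← map_one f]
            exact congrArg f (Subtype.ext (Small.mul_self_of_orderOf_two ob))) with e | e | e
      · exact Small.ne_one_of_orderOf_two oz (congrArg Subtype.val (hf (e.trans f.map_one.symm)))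
      · exact Small.ne_one_of_orderOf_two ob (congrArg Subtype.val (hf (e.trans f.map_one.symm)))
      · exact hbz (congrArg Subtype.val (hf e)).symm
    have hout : ∀ x : (P : Subgroup Q), f x ∉ rot n → (x : Q) ∈ X0 := fun x hx => by
      have hx1 : (x : Q) ≠ 1 := fun e => hx (by
        rw [show x = 1 from Subtype.ext e, map_one]; exact one_mem _)
      exact hinv (orderOf_eq_prime (by rw [pow_two]; exact congrArg Subtype.val (hsqP x hx)) hx1)
    have hPX : (P : Subgroup Q) ≤ X0 := fun x hx => by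
      by_cases h : f ⟨x, hx⟩ ∈ rot n
      · have h' : f (⟨x, hx⟩ * r) ∉ rot n := by
          rw [map_mul]; exact fun e => hr ((mul_mem_cancel_left h).1 e)
        have hm : (x * (r : Q)) * ((r : Q))⁻¹ ∈ X0 := mul_mem (hout _ h') (inv_mem (hout r hr))
        rwa [mul_inv_cancel_right] at hm
      · exact hout _ h
    exact Nat.odd_iff.2 (Nat.two_dvd_ne_zero.1 fun h =>
      P.not_dvd_index (h.trans (index_dvd_of_le hPX)))
  set e := X0.index with he
  have hall : Nat.card Q = 2 * e * N := by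
    rw [← X0.card_mul_index, hX0card, ← he]
    ring
  -- an outer involution commuting with `z`
  obtain ⟨t, ot, htL, hzt⟩ : ∃ t, orderOf t = 2 ∧ t ∉ L ∧ z * t = t * z := by
    obtain ⟨P, c, htP, oc, hcP, hcen, -⟩ := hsylow t₀ ht₀
    have hcL : c ∈ L := by
      by_contra hcL
      obtain ⟨k, -, hk⟩ := hk
      obtain ⟨s, hs, hBs⟩ := hhalf
      obtain ⟨a, ha⟩ := hA4
      have h8 : 8 ∣ Nat.card Q := ⟨e * a * k, by rw [hall, hk, ha]; ring⟩
      have h8P : 8 ∣ Nat.card (P : Subgroup Q) := by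
        obtain ⟨i, hi⟩ : 2 ^ 3 ∣ 2 ^ (Nat.card Q).factorization 2 := Nat.pow_dvd_pow 2
          ((Nat.Prime.pow_dvd_iff_le_factorization Nat.prime_two Nat.card_pos.ne').1 h8)
        exact ⟨i, by rw [Sylow.card_eq_multiplicity]; exact hi⟩
      have hle : Nat.card (centralizer ({c} : Set Q)) ∣
          e * Nat.card (X0 ⊓ centralizer ({c} : Set Q) : Subgroup Q) := by
        have h1 := PLocal.card_sup_mul_card_inf (A := centralizer ({c} : Set Q)) (B := X0)
          (fun x _ => by rw [normalizer_eq_top]; exact mem_top x)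
        have h2 : Nat.card (centralizer ({c} : Set Q) ⊔ X0 : Subgroup Q) ∣ Nat.card Q :=
          card_subgroup_dvd_card _
        rw [inf_comm] at h1
        have h3 : Nat.card (centralizer ({c} : Set Q)) * Nat.card X0 ∣
            Nat.card Q * Nat.card (X0 ⊓ centralizer ({c} : Set Q) : Subgroup Q) :=
          h1 ▸ Nat.mul_dvd_mul_right h2 _
        rw [← X0.card_mul_index, ← he, mul_assoc] at h3
        rw [mul_comm] at h3
        exact (Nat.mul_dvd_mul_iff_left Nat.card_pos).1 h3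
      have h := (h8P.trans (card_dvd_of_le fun x hx =>
        (mem_centralizer_singleton_iff.2 (hcen x hx) : x ∈ centralizer ({c} : Set Q)))).trans hle
      rw [(hcount c oc).2 hcL, hBs] at h
      obtain ⟨d, hd⟩ := h
      have : e * s = 2 * d := by linarith
      exact Nat.not_even_iff_odd.2 (hidx.mul hs) ⟨d, by omega⟩
    obtain ⟨g, -, hg⟩ := hone c z oc oz hcL hzL
    refine ⟨g * t₀ * g⁻¹, by rw [Small.orderOf_conj_eq, ht₀], fun h => ht₀L ?_, ?_⟩
    · have := (inferInstance : L.Normal).conj_mem _ h g⁻¹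
      simpa [mul_assoc] using this
    · rw [← hg, show g * c * g⁻¹ * (g * t₀ * g⁻¹) = g * (c * t₀) * g⁻¹ by group, ← hcen t₀ htP]
      group
  -- conjugation inside `X0 ∩ C(z)`
  have htz : t ≠ z := fun h => htL (h ▸ hzL)
  have h8C : 8 ∣ Nat.card (X0 ⊓ centralizer ({z} : Set Q) : Subgroup Q) := by
    obtain ⟨a, ha⟩ := hA4
    exact ⟨a, by rw [(hcount z oz).1 hzL, ha]; ring⟩
  have hmemD : ∀ x, orderOf x = 2 → z * x = x * z → x ∈ X0 ⊓ centralizer ({z} : Set Q) :=
    fun x ox hx => ⟨hinv ox, mem_centralizer_singleton_iff.2 hx.symm⟩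
  have hin : ∀ x x', orderOf x = 2 → orderOf x' = 2 → z * x = x * z → z * x' = x' * z → x ≠ z →
      x' ≠ z → (x ∈ L ↔ x' ∈ L) →
      ∃ d ∈ X0 ⊓ centralizer ({z} : Set Q), d * x * d⁻¹ = x' := by
    intro x x' ox ox' hx hx' nx nx' hs
    have hC : ∀ c ∈ X0 ⊓ centralizer ({z} : Set Q), c * z = z * c := fun c hc =>
      mem_centralizer_singleton_iff.1 hc.2
    by_cases hxL : x ∈ L
    · exact conj_of_same_side m.dih L oz hC (hmemD z oz rfl) h8C (hmemD x ox hx) (hmemD x' ox' hx')
        (hmemD t ot hzt) ox ox' ot nx nx' htz hs fun h => htL (h.1 hxL)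
    · exact conj_of_same_side m.dih L oz hC (hmemD z oz rfl) h8C (hmemD x ox hx) (hmemD x' ox' hx')
        (hmemD b ob hzb) ox ox' ob nx nx' hbz hs fun h => hxL (h.2 hbL)
  have houter : ∀ t', orderOf t' = 2 → t' ∉ L → ∃ g ∈ X0, g * t' * g⁻¹ = t := by
    intro t' ot' ht'L
    obtain ⟨P, c, htP, oc, hcP, hcen, -⟩ := hsylow t' ot'
    -- some inner involution commutes with `t'`
    obtain ⟨c', oc', hc'L, hc'⟩ : ∃ c', orderOf c' = 2 ∧ c' ∈ L ∧ Commute c' t' := by
      by_cases hcL : c ∈ L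
      · exact ⟨c, oc, hcL, (hcen t' htP).symm⟩
      · obtain ⟨w, hw, hwt, htw⟩ := hpartner t' ot'
        by_cases hwL : w ∈ L
        · exact ⟨w, hw, hwL, htw.symm⟩
        · refine ⟨t' * w, orderOf_eq_prime ?_ fun h => hwt ?_,
            htwo _ (hinv ot') _ (hinv hw) ht'L hwL, (Commute.refl t').mul_left htw.symm⟩
          · rw [htw.mul_pow, pow_two, pow_two, Small.mul_self_of_orderOf_two ot',
              Small.mul_self_of_orderOf_two hw, one_mul]
          · rw [← inv_eq_of_mul_eq_one_right h,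
              inv_eq_of_mul_eq_one_right (Small.mul_self_of_orderOf_two ot')]
    obtain ⟨g, hgL, hg⟩ := hone c' z oc' oz hc'L hzL
    have hzt' : z * (g * t' * g⁻¹) = g * t' * g⁻¹ * z := by
      rw [← hg]
      exact (hc'.map (MulAut.conj g).toMonoidHom).eq
    have hnL : g * t' * g⁻¹ ∉ L := fun h => ht'L (by
      have := (inferInstance : L.Normal).conj_mem _ h g⁻¹
      simpa [mul_assoc] using this)
    obtain ⟨d, hd, hdt⟩ := hin _ t (by rw [Small.orderOf_conj_eq, ot']) ot hzt' hzt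
      (fun h => hnL (h ▸ hzL)) htz (iff_of_false hnL htL)
    exact ⟨d * g, mul_mem hd.1 (hLX hgL), by rw [← hdt]; group⟩
  -- passing from `X0` to `Q`
  have hfull : ∀ (C : Subgroup Q) (s : Q), (∀ g ∈ C, ∃ d ∈ X0 ⊓ C, d * s * d⁻¹ = g * s * g⁻¹) →
      Nat.card (C ⊓ centralizer ({s} : Set Q) : Subgroup Q) * Nat.card (X0 ⊓ C : Subgroup Q) =
        Nat.card C * Nat.card (X0 ⊓ (C ⊓ centralizer ({s} : Set Q)) : Subgroup Q) := by
    intro C s h
    set Cs := C ⊓ centralizer ({s} : Set Q)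
    have hn : Cs ≤ normalizer ((X0 ⊓ C : Subgroup Q) : Set Q) := fun x hx => by
      have key : ∀ x ∈ C, ∀ v ∈ X0 ⊓ C, x * v * x⁻¹ ∈ X0 ⊓ C := fun x hx v hv =>
        ⟨(inferInstance : X0.Normal).conj_mem _ (mem_inf.1 hv).1 x,
          mul_mem (mul_mem hx (mem_inf.1 hv).2) (C.inv_mem hx)⟩
      exact mem_normalizer_iff.2 fun v => ⟨key x (mem_inf.1 hx).1 v, fun hv => by
        simpa [mul_assoc] using key x⁻¹ (C.inv_mem (mem_inf.1 hx).1) _ hv⟩
    have hsup : Cs ⊔ (X0 ⊓ C) = C := by
      refine le_antisymm (sup_le inf_le_left inf_le_right) fun g hg => ?_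
      obtain ⟨d, hd, hds⟩ := h g hg
      have : d⁻¹ * g ∈ Cs := ⟨mul_mem (C.inv_mem (mem_inf.1 hd).2) hg, mem_centralizer_singleton_iff.2 (by
        calc d⁻¹ * g * s = d⁻¹ * (g * s * g⁻¹) * g := by group
          _ = d⁻¹ * (d * s * d⁻¹) * g := by rw [hds]
          _ = s * (d⁻¹ * g) := by group)⟩
      simpa using mul_mem (mem_sup_right (S := Cs) hd) (mem_sup_left (T := X0 ⊓ C) this)
    have h1 := PLocal.card_sup_mul_card_inf (A := Cs) (B := X0 ⊓ C) hn
    rw [hsup] at h1
    rw [← h1]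
    rw [show X0 ⊓ Cs = Cs ⊓ (X0 ⊓ C) from le_antisymm (fun x hx => ⟨hx.2, hx.1, hx.2.1⟩)
      fun x hx => ⟨hx.2.1, hx.1⟩]
  have hX0e : ∀ s, (∀ g, ∃ d ∈ X0, d * s * d⁻¹ = g * s * g⁻¹) →
      Nat.card (centralizer ({s} : Set Q)) =
        e * Nat.card (X0 ⊓ centralizer ({s} : Set Q) : Subgroup Q) := by
    intro s h
    have h1 := hfull ⊤ s (fun g _ => by simpa using h g)
    rw [top_inf_eq, inf_top_eq, card_top, ← X0.card_mul_index, ← he] at h1
    exact Nat.eq_of_mul_eq_mul_right Nat.card_pos (h1.trans (by ring))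
  have hpos : ∀ K : Subgroup Q, 0 < Nat.card K := fun K => Nat.card_pos
  refine ⟨A, B, e, N,
    { normal := inferInstance
      dih := m.dih
      two := fun x y ox oy hx hy => htwo x (hinv ox) y (hinv oy) hx hy
      one := fun x y ox oy hx hy => (hone x y ox oy hx hy).imp fun g hg => hg.2
      exist := ⟨z, b, t, oz, ob, ot, hzL, hbL, htL, hbz.symm, hzb, hzt⟩
      e_odd := hidx
      four_dvd := hA4
      dvd_AB := hdvd
      half := hhalf
      small := fun h => by omega
      six := hsix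
      mul_odd := hk
      card_all := hall
      card_z := ?_
      card_t := ?_
      card_pair := ?_
      core_cent := ?_ }⟩
  · intro s os hsL
    rw [hX0e s, (hcount s os).1 hsL]
    · ring
    · intro g
      obtain ⟨d, hd, hds⟩ := hone s _ os (by rw [Small.orderOf_conj_eq, os]) hsL
        ((inferInstance : L.Normal).conj_mem _ hsL g)
      exact ⟨d, hLX hd, hds⟩
  · intro s os hsL
    rw [hX0e s, (hcount s os).2 hsL]
    · ring
    · intro g
      have hgL : g * s * g⁻¹ ∉ L := fun h => hsL (by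
        have := (inferInstance : L.Normal).conj_mem _ h g⁻¹
        simpa [mul_assoc] using this)
      obtain ⟨d, hd, hd'⟩ := houter s os hsL
      obtain ⟨d', hd'', hd3⟩ := houter _ (by rw [Small.orderOf_conj_eq, os]) hgL
      refine ⟨d'⁻¹ * d, mul_mem (inv_mem hd'') hd, ?_⟩
      calc d'⁻¹ * d * s * (d'⁻¹ * d)⁻¹ = d'⁻¹ * (d * s * d⁻¹) * d' := by group
        _ = d'⁻¹ * (d' * (g * s * g⁻¹) * d'⁻¹) * d' := by rw [hd', hd3]
        _ = g * s * g⁻¹ := by group
  · intro z₁ x₁ oz₁ hz₁L ox₁ hzx₁ hne₁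
    obtain ⟨g, -, hg⟩ := hone z₁ z oz₁ oz hz₁L hzL
    set x := g * x₁ * g⁻¹ with hx
    have ox : orderOf x = 2 := by rw [hx, Small.orderOf_conj_eq, ox₁]
    have hzx : z * x = x * z := by
      rw [← hg]
      exact ((show Commute z₁ x₁ from hzx₁).map (MulAut.conj g).toMonoidHom).eq
    have hxz : x ≠ z := fun h => hne₁ (mul_left_cancel (mul_right_cancel (hg.trans h.symm)))
    rw [← card_centralizer_pair_conj g z₁ x₁, hg, ← hx]
    set C := centralizer ({z} : Set Q)
    have h4 : Nat.card (X0 ⊓ (C ⊓ centralizer ({x} : Set Q)) : Subgroup Q) = 4 := by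
      set V := X0 ⊓ (C ⊓ centralizer ({x} : Set Q))
      have hV : IsPGroup 2 V := by
        intro v
        obtain ⟨i, j, hj, hij⟩ := Nat.exists_eq_two_pow_mul_odd (orderOf_pos v).ne'
        refine ⟨i, ?_⟩
        have hvi := pow_mem v.2 (2 ^ i)
        have ho : Odd (orderOf ((v : Q) ^ 2 ^ i)) := by
          rw [orderOf_pow_of_dvd (by positivity) (by rw [orderOf_coe, hij]; exact dvd_mul_right _ _),
            orderOf_coe, hij, Nat.mul_div_cancel_left _ (by positivity)]
          exact hj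
        refine Subtype.ext (Model.eq_one_of_commute_both (m := m) oz ox hzx hxz (hXd hvi.1)
          (mem_centralizer_singleton_iff.1 hvi.2.1).symm (mem_centralizer_singleton_iff.1 hvi.2.2).symm
          ho)
      have hcl := DGroupCent.sq_eq_one_of_mem_closure_pair (Small.mul_self_of_orderOf_two oz)
        (Small.mul_self_of_orderOf_two ox) hzx
      set U := closure ({z, x} : Set Q)
      have hUV : U ≤ V := (closure_le _).2 (by
        rintro v (rfl | rfl)
        · exact ⟨hinv oz, mem_centralizer_singleton_iff.2 rfl,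
            mem_centralizer_singleton_iff.2 hzx⟩
        · exact ⟨hinv ox, mem_centralizer_singleton_iff.2 hzx.symm,
            mem_centralizer_singleton_iff.2 rfl⟩)
      have hU2 : ∀ v ∈ U, v * v = 1 := fun v hv => by
        rcases hcl v hv with rfl | rfl | rfl | rfl
        · exact one_mul 1
        · exact Small.mul_self_of_orderOf_two oz
        · exact Small.mul_self_of_orderOf_two ox
        · calc z * x * (z * x) = z * (x * z) * x := by group
            _ = (z * z) * (x * x) := by rw [← hzx]; group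
            _ = 1 := by rw [Small.mul_self_of_orderOf_two oz, Small.mul_self_of_orderOf_two ox, one_mul]
      have hU4 : Nat.card U = 4 := by
        have hset : ((U : Subgroup Q) : Set Q) = ↑({1, z, x, z * x} : Finset Q) := by
          ext v
          refine ⟨fun hv => by simpa using hcl v hv, fun hv => ?_⟩
          simp only [Finset.coe_insert, Finset.coe_singleton, Set.mem_insert_iff,
            Set.mem_singleton_iff] at hv
          rcases hv with rfl | rfl | rfl | rfl
          exacts [one_mem _, subset_closure (by simp), subset_closure (by simp),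
            mul_mem (subset_closure (by simp)) (subset_closure (by simp))]
        show Nat.card (U : Set Q) = 4
        rw [hset, Nat.card_coe_set_eq, Set.ncard_coe_finset]
        have h1 := Small.ne_one_of_orderOf_two oz
        have h2 := Small.ne_one_of_orderOf_two ox
        have h3 : z * x ≠ 1 := fun h => hxz (by
          rw [← inv_eq_of_mul_eq_one_right h,
            inv_eq_of_mul_eq_one_right (Small.mul_self_of_orderOf_two oz)])
        simp [h1.symm, h2.symm, h3.symm, hxz.symm, h1, h2]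
      have : V ≤ U := fun v hv => m.dih.mem_four hV hUV hU4 hU2 hv fun u hu => by
        have h1 := mem_centralizer_singleton_iff.1 hv.2.1
        have h2 := mem_centralizer_singleton_iff.1 hv.2.2
        rcases hcl u hu with rfl | rfl | rfl | rfl
        · simp
        · exact h1
        · exact h2
        · exact (show Commute v z from h1).mul_right h2
      rw [le_antisymm this hUV, hU4]
    have h1 := hfull C x fun g' hg' => by
      have hz' : z * (g' * x * g'⁻¹) = g' * x * g'⁻¹ * z := by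
        have := ((show Commute z x from hzx).map (MulAut.conj g').toMonoidHom).eq
        simpa [mem_centralizer_singleton_iff.1 hg', mul_assoc] using this
      exact hin x _ ox (by rw [Small.orderOf_conj_eq, ox]) hzx hz' hxz
        (fun h => hxz (by
          calc x = g'⁻¹ * (g' * x * g'⁻¹) * g' := by group
            _ = g'⁻¹ * (g' * z) := by rw [h, mem_centralizer_singleton_iff.1 hg']; group
            _ = z := by group))
        ⟨fun h => (inferInstance : L.Normal).conj_mem _ h g', fun h => by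
          have := (inferInstance : L.Normal).conj_mem _ h g'⁻¹
          simpa [mul_assoc] using this⟩
    rw [h4, hX0e z (fun g' => by
      obtain ⟨d, hd, hds⟩ := hone z _ oz (by rw [Small.orderOf_conj_eq, oz]) hzL
        ((inferInstance : L.Normal).conj_mem _ hzL g')
      exact ⟨d, hLX hd, hds⟩)] at h1
    exact Nat.eq_of_mul_eq_mul_right (hpos (X0 ⊓ C)) (h1.trans (by ring))
  · intro z₁ t₁ oz₁ hz₁L ot₁ ht₁L hzt₁ Y hCY hY y hy
    have hz₁Y : z₁ ∈ Y := hCY (mem_centralizer_singleton_iff.2 hzt₁)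
    have ht₁Y : t₁ ∈ Y := hCY (mem_centralizer_singleton_iff.2 rfl)
    -- an element of odd order of `C_L(t₁)`
    set CL := L ⊓ centralizer ({t₁} : Set Q)
    have hCL : Nat.card CL = B := by
      set D := X0 ⊓ centralizer ({t₁} : Set Q)
      have hle : CL ≤ D := inf_le_inf_right _ hLX
      have hi : (CL.subgroupOf D).index = 2 := by
        refine index_eq_two_iff.2 ⟨⟨t₁, hinv ot₁, mem_centralizer_singleton_iff.2 rfl⟩, fun g => ?_⟩
        simp only [mem_subgroupOf, Subgroup.coe_mul]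
        have hgt : (g : Q) * t₁ ∈ centralizer ({t₁} : Set Q) :=
          mul_mem g.2.2 (mem_centralizer_singleton_iff.2 rfl)
        by_cases hg : (g : Q) ∈ L
        · exact Or.inr ⟨⟨hg, g.2.2⟩, fun h => ht₁L ((mul_mem_cancel_left hg).1 h.1)⟩
        · exact Or.inl ⟨⟨htwo _ g.2.1 _ (hinv ot₁) hg ht₁L, hgt⟩, fun h => hg h.1⟩
      have := (CL.subgroupOf D).card_mul_index
      rw [hi, Nat.card_congr (subgroupOfEquivOfLe hle).toEquiv, (hcount t₁ ot₁).2 ht₁L] at this
      omega
    obtain ⟨s, hs, hBs⟩ := hhalf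
    obtain ⟨p, hp, hps⟩ := Nat.exists_prime_and_dvd (n := s) (by omega)
    haveI : Fact p.Prime := ⟨hp⟩
    obtain ⟨n₀, hn₀⟩ := exists_prime_orderOf_dvd_card' (G := CL) p
      (by rw [hCL, hBs]; exact hps.mul_left 2)
    have hpodd : Odd p := hs.of_dvd_nat hps
    have hn₀o : Odd (orderOf (n₀ : Q)) := by rw [orderOf_coe, hn₀]; exact hpodd
    have hn₀1 : (n₀ : Q) ≠ 1 := fun h => hp.one_lt.ne' (by
      rw [← hn₀, ← orderOf_coe, h, orderOf_one])
    have hn₀t : Commute t₁ (n₀ : Q) := (mem_centralizer_singleton_iff.1 (mem_inf.1 n₀.2).2).symm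
    -- the odd normal subgroup
    set K := L.subgroupOf Y
    set n₁ : Y := ⟨n₀, hCY (mem_inf.1 n₀.2).2⟩
    set z₂ : Y := ⟨z₁, hz₁Y⟩
    obtain ⟨O, hOn, hOodd, hOL, hOmem⟩ : ∃ O : Subgroup Y, O.Normal ∧ Odd (Nat.card O) ∧ O ≤ K ∧
        n₁ ∈ O := by
      have hKn : K.Normal := Normal.subgroupOf inferInstance Y
      refine ⟨(Cfsg.oddCore K).map K.subtype, PLocal.normal_map_subtype K _, ?_, map_subtype_le _, ?_⟩
      · rw [card_map_of_injective K.subtype_injective]
        exact TwoGroups.odd_card_oddCore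
      have hzK : z₂ ∈ K := hz₁L
      obtain ⟨S, hS⟩ := (IsPGroup.of_card (n := 1) (by
        rw [Nat.card_zpowers, orderOf_mk, orderOf_mk, oz₁]; rfl) :
        IsPGroup 2 (zpowers (⟨z₂, hzK⟩ : K))).exists_le_sylow
      have hzS : (⟨z₂, hzK⟩ : K) ∈ (S : Subgroup K) := hS (mem_zpowers _)
      -- an involution commuting with `z₁` is `z₁`
      have huniq : ∀ v : K, orderOf v = 2 → v * ⟨z₂, hzK⟩ = ⟨z₂, hzK⟩ * v → v = ⟨z₂, hzK⟩ :=
        fun v ov hv => Subtype.ext (Subtype.ext (hY _ (v : Y).2 (by rw [orderOf_coe, orderOf_coe, ov])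
          (congrArg (fun u : K => ((u : Y) : Q)) hv).symm v.2))
      have hcyc : IsCyclic (S : Subgroup K) := by
        rcases (DihType.subgroup (DihType.subgroup m.dih Y) K).cyclic_or_dihedral S with h | ⟨k, hk, ⟨eS⟩⟩
        · exact h
        exfalso
        obtain ⟨a, c, ha, hc, ha1, hc1, hac, hcomm⟩ := exists_four_of_dihedral hk S.isPGroup' eS
        haveI : Nontrivial (S : Subgroup K) := ⟨a, 1, ha1⟩
        haveI := S.isPGroup'.center_nontrivial
        obtain ⟨i, hi0, hi⟩ := (S.isPGroup'.to_subgroup (center (S : Subgroup K))).nontrivial_iff_card.1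
          inferInstance
        obtain ⟨u, hu⟩ := exists_prime_orderOf_dvd_card' (G := center (S : Subgroup K)) 2
          (hi ▸ dvd_pow_self 2 hi0.ne')
        have huz : ((u : (S : Subgroup K)) : K) = ⟨z₂, hzK⟩ := huniq _ (by
          rw [orderOf_coe, orderOf_coe, hu])
          (congrArg Subtype.val (mem_center_iff.1 u.2 ⟨_, hzS⟩)).symm
        have hS1 : ∀ v : (S : Subgroup K), v * v = 1 → v ≠ 1 → (v : K) = ⟨z₂, hzK⟩ := fun v hv hv1 =>
          huniq _ (orderOf_eq_prime (by rw [pow_two]; exact congrArg Subtype.val hv)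
            fun h => hv1 (Subtype.ext h)) (by
              rw [← huz]; exact congrArg Subtype.val (mem_center_iff.1 u.2 v))
        exact hac (Subtype.ext ((hS1 a ha ha1).trans (hS1 c hc hc1).symm))
      haveI : Fact (Nat.Prime 2) := ⟨Nat.prime_two⟩
      set π := QuotientGroup.mk' (Cfsg.oddCore K)
      have h2 : IsPGroup 2 (K ⧸ Cfsg.oddCore K) := by
        refine isPGroup_of_cyclic_sylow (S.mapSurjective (f := π) (QuotientGroup.mk'_surjective _)) ?_
          (CfsgLib.PLocal.pPrimeCore_quotient_pPrimeCore_eq_bot 2 K)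
        rw [Sylow.coe_mapSurjective]
        exact isCyclic_of_surjective (π.subgroupMap (S : Subgroup K)) (π.subgroupMap_surjective _)
      refine ⟨⟨n₁, (mem_inf.1 n₀.2).1⟩, (QuotientGroup.eq_one_iff _).1 ?_, rfl⟩
      obtain ⟨i, hi⟩ := IsPGroup.iff_orderOf.1 h2 (π ⟨n₁, (mem_inf.1 n₀.2).1⟩)
      have hdvd : orderOf (π ⟨n₁, (mem_inf.1 n₀.2).1⟩) ∣ p := by
        refine (orderOf_map_dvd π _).trans ?_
        rw [← orderOf_coe, ← orderOf_coe]
        show orderOf ((n₀ : CL) : Q) ∣ p
        rw [orderOf_coe, hn₀]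
      exact orderOf_eq_one_iff.1 (Nat.eq_one_of_dvd_coprimes
        ((Nat.coprime_two_right.2 hpodd).pow_right i) hdvd hi.dvd)
    haveI := hOn
    -- an abelian normal subgroup
    haveI : Nontrivial O := ⟨⟨n₁, hOmem⟩, 1, fun h =>
      hn₀1 (congrArg (fun v : O => ((v : Y) : Q)) h)⟩
    haveI := DGroupCent.solvable_of_odd hOodd
    obtain ⟨N₁, hN₁c, hN₁ne, hN₁ab⟩ : ∃ N₁ : Subgroup O, N₁.Characteristic ∧ N₁ ≠ ⊥ ∧
        IsMulCommutative N₁ := by
      have hs := Group.IsSolvable.solvable (G := O)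
      obtain ⟨j, hj⟩ : ∃ j, derivedSeries O j = ⊥ := hs
      have h0 : derivedSeries O 0 ≠ ⊥ := by rw [derivedSeries_zero]; exact top_ne_bot
      classical
      have hex : ∃ j, derivedSeries O j = ⊥ := ⟨j, hj⟩
      have hpos : Nat.find hex ≠ 0 := fun h => h0 (h ▸ Nat.find_spec hex)
      refine ⟨derivedSeries O (Nat.find hex - 1), derivedSeries_characteristic _ _,
        Nat.find_min hex (by omega), ⟨⟨fun a c => Subtype.ext ?_⟩⟩⟩
      have h := Nat.find_spec hex
      rw [show Nat.find hex = Nat.find hex - 1 + 1 by omega, derivedSeries_succ, eq_bot_iff] at h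
      exact commutatorElement_eq_one_iff_mul_comm.1 (mem_bot.1 (h (commutator_mem_commutator a.2 c.2)))
    haveI := hN₁c
    set N₂ : Subgroup Q := (N₁.map O.subtype).map Y.subtype with hN₂
    haveI : (N₁.map O.subtype).Normal := PLocal.normal_map_subtype O N₁
    have hN₂X : ∀ v ∈ N₂, v ∈ X0 := by
      rintro _ ⟨v, ⟨v', -, rfl⟩, rfl⟩
      exact hLX (hOL v'.2)
    have hN₂n : ∀ v ∈ Y, v ∈ normalizer (N₂ : Set Q) := fun v hv =>
      le_normalizer_map Y.subtype ⟨⟨v, hv⟩, by
        rw [normalizer_eq_top]; exact mem_top _, rfl⟩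
    have hodd₂ : Odd (Nat.card N₂) := by
      rw [hN₂, card_map_of_injective Y.subtype_injective, card_map_of_injective O.subtype_injective]
      exact hOodd.of_dvd_nat (card_subgroup_dvd_card _)
    have hab₂ : ∀ u ∈ N₂, ∀ v ∈ N₂, u * v = v * u := by
      rintro _ ⟨_, ⟨u, hu, rfl⟩, rfl⟩ _ ⟨_, ⟨v, hv, rfl⟩, rfl⟩
      exact congrArg (fun w : O => ((w : Y) : Q))
        (congrArg Subtype.val (hN₁ab.is_comm.comm ⟨u, hu⟩ ⟨v, hv⟩))
    obtain ⟨w, ow, hwY, hwzt, n, hn, hn1, hwn⟩ : ∃ w, orderOf w = 2 ∧ w ∈ Y ∧ Commute w t₁ ∧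
        ∃ n ∈ N₂, n ≠ 1 ∧ Commute w n := by
      by_contra hcon
      have hone' : ∀ w, orderOf w = 2 → w ∈ Y → Commute w t₁ →
          N₂ ⊓ centralizer ({w} : Set Q) = ⊥ := fun w ow hwY hwt =>
        (eq_bot_iff_forall _).2 fun n hn => by
          by_contra hn1
          exact hcon ⟨w, ow, hwY, hwt, n, hn.1, hn1, (mem_centralizer_singleton_iff.1 hn.2).symm⟩
      have hzt₂ : orderOf (z₁ * t₁) = 2 := by
        refine orderOf_eq_prime ?_ fun h => ht₁L ?_
        · rw [Commute.mul_pow hzt₁, pow_two, pow_two, Small.mul_self_of_orderOf_two oz₁,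
            Small.mul_self_of_orderOf_two ot₁, one_mul]
        · rw [← inv_eq_of_mul_eq_one_right h, inv_eq_of_mul_eq_one_right (Small.mul_self_of_orderOf_two oz₁)]
          exact hz₁L
      have h := FourFixed.card_mul_centralizer_sq hodd₂ (Small.mul_self_of_orderOf_two oz₁)
        (Small.mul_self_of_orderOf_two ot₁) hzt₁ (hN₂n _ hz₁Y) (hN₂n _ ht₁Y)
      rw [hone' z₁ oz₁ hz₁Y hzt₁, hone' t₁ ot₁ ht₁Y rfl, hone' (z₁ * t₁) hzt₂ (mul_mem hz₁Y ht₁Y)
        ((show Commute z₁ t₁ from hzt₁).mul_left (Commute.refl t₁)), bot_inf_eq, card_bot, one_pow,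
        mul_one, one_mul, one_mul] at h
      refine hN₁ne ?_
      have h' := (Subgroup.eq_bot_of_card_eq N₂ h)
      rwa [hN₂, map_eq_bot_iff_of_injective _ Y.subtype_injective,
        map_eq_bot_iff_of_injective _ O.subtype_injective] at h'
    have hodd' : ∀ v ∈ N₂, Odd (orderOf v) := fun v hv => hodd₂.of_dvd_nat (N₂.orderOf_dvd_natCard hv)
    have hN₂w : ∀ v ∈ N₂, Commute w v := by
      intro v hv
      obtain ⟨W, β, hW, hW2, -, hnW⟩ := Model.exists_rep_involution (m := m) ow
      obtain ⟨X₁, hX₁⟩ := Model.mem_diagPart.1 (hXd (hN₂X n hn))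
      obtain ⟨X₂, hX₂⟩ := Model.mem_diagPart.1 (hXd (hN₂X v hv))
      obtain ⟨a, c, hac⟩ := Model.coord_of_commute hW hnW hX₁ hwn (hodd' n hn)
      have hc : c ≠ 0 := fun e => hn1 (hX₁.eq_one_of_scalar (c := a)
        (by rw [hac, e, zero_smul, add_zero]))
      have h := Model.rep_commute_odd hX₁ hX₂ (hab₂ n hn v hv) (hodd' v hv)
      rw [hac, mul_add, add_mul, mul_smul_comm, mul_smul_comm, smul_mul_assoc, smul_mul_assoc,
        mul_one, one_mul, add_right_inj] at h
      exact Model.commute_of_mat hW hX₂ one_ne_zero (by rw [one_smul]; exact smul_right_injective _ hc h)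
    -- `O` centralises `w`
    have hOw : ∀ u : O, Commute w ((u : Y) : Q) := by
      intro u
      have hu := hN₂n _ (u : Y).2
      have hc : ∀ v ∈ N₂, Commute (((u : Y) : Q) * w * ((u : Y) : Q)⁻¹) v := fun v hv => by
        have := (hN₂w _ ((mem_normalizer_iff.1 (inv_mem hu) v).1 hv)).map
          (MulAut.conj ((u : Y) : Q)).toMonoidHom
        simpa [mul_assoc] using this
      have := Model.invol_eq_of_commute (m := m) (by rw [Small.orderOf_conj_eq, ow]) ow
        (hXd (hN₂X n hn)) hn1 (hodd' n hn) (hc n hn) hwn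
      exact (mul_inv_eq_iff_eq_mul.1 this).symm
    have hwt : t₁ = w := Model.invol_eq_of_commute (m := m) ot₁ ow
      (hXd (hLX (mem_inf.1 n₀.2).1)) hn₀1 hn₀o hn₀t (hOw ⟨n₁, hOmem⟩)
    subst hwt
    have hc : Commute (y * t₁ * y⁻¹) (n₀ : Q) := by
      have h' := (hOw ⟨_, hOn.conj_mem _ hOmem (⟨y, hy⟩ : Y)⁻¹⟩).map (MulAut.conj y).toMonoidHom
      simpa [n₁, mul_assoc] using h'
    exact mul_inv_eq_iff_eq_mul.1 (Model.invol_eq_of_commute (m := m)
      (by rw [Small.orderOf_conj_eq, ot₁]) ot₁ (hXd (hLX (mem_inf.1 n₀.2).1)) hn₀1 hn₀o hc hn₀t)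

end CfsgLib.GW
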