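import Cfsg.Agent.GW.TwoClass
import Cfsg.Agent.GW.DihedralType
import Cfsg.Agent.DGroupCent.Basic

/-!
# Gorenstein–Walter: two classes of involutions, the quotient and the lifting

`TwoQuot L A B e N` is the information about `X = M/O(M)` from which `TwoClass` follows: `L` is a
normal subgroup with one class of involutions, the involutions outside `L` are the second class.
-/

set_option autoImplicit false
set_option linter.style.haveILetI false
set_option linter.unusedSectionVars false

open Subgroup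

namespace CfsgLib.GW

universe u

/-- The quotient data of a subgroup with two classes of involutions. -/
structure TwoQuot {X : Type*} [Group X] (L : Subgroup X) (A B e N : ℕ) : Prop where
  normal : L.Normal
  dih : DihType X
  two : ∀ x y : X, orderOf x = 2 → orderOf y = 2 → x ∉ L → y ∉ L → x * y ∈ L
  one : ∀ x y : X, orderOf x = 2 → orderOf y = 2 → x ∈ L → y ∈ L → ∃ g, g * x * g⁻¹ = y
  exist : ∃ z b t : X, orderOf z = 2 ∧ orderOf b = 2 ∧ orderOf t = 2 ∧ z ∈ L ∧ b ∈ L ∧ t ∉ L ∧
    z ≠ b ∧ z * b = b * z ∧ z * t = t * z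
  e_odd : Odd e
  four_dvd : 4 ∣ A
  dvd_AB : B ∣ A → B = 2
  half : ∃ s, Odd s ∧ B = 2 * s
  small : B = 2 → A = 4 ∧ N = 12 ∧ e = 1
  six : B = 6 → (A = 4 ∧ N = 60) ∨ (A = 8 ∧ N = 168)
  mul_odd : ∃ k, Odd k ∧ N = A * k
  card_all : Nat.card X = 2 * e * N
  card_z : ∀ z : X, orderOf z = 2 → z ∈ L → Nat.card (centralizer ({z} : Set X)) = 2 * e * A
  card_t : ∀ t : X, orderOf t = 2 → t ∉ L → Nat.card (centralizer ({t} : Set X)) = 2 * e * B
  card_pair : ∀ z x : X, orderOf z = 2 → z ∈ L → orderOf x = 2 → z * x = x * z → z ≠ x →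
    Nat.card (centralizer ({z} : Set X) ⊓ centralizer ({x} : Set X) : Subgroup X) = 4 * e
  core_cent : ∀ z t : X, orderOf z = 2 → z ∈ L → orderOf t = 2 → t ∉ L → z * t = t * z →
    ∀ Y : Subgroup X, centralizer ({t} : Set X) ≤ Y →
      (∀ x ∈ Y, orderOf x = 2 → z * x = x * z → x ∈ L → x = z) → ∀ y ∈ Y, y * t = t * y

section Classes

variable {X : Type*} [Group X] [Finite X]

/-- In the centralizer of an involution `z` there are only two classes of other involutions. -/
theorem conj_of_same_side (hX : DihType X) (L : Subgroup X) [L.Normal] {z : X} (hz : orderOf z = 2)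
    {C : Subgroup X} (hC : ∀ c ∈ C, c * z = z * c) (hzC : z ∈ C) (h8 : 8 ∣ Nat.card C)
    {x x' y : X} (hx : x ∈ C) (hx' : x' ∈ C) (hy : y ∈ C) (ox : orderOf x = 2) (ox' : orderOf x' = 2)
    (oy : orderOf y = 2) (nx : x ≠ z) (nx' : x' ≠ z) (ny : y ≠ z) (hs : x ∈ L ↔ x' ∈ L)
    (hd : ¬ (x ∈ L ↔ y ∈ L)) : ∃ c ∈ C, c * x * c⁻¹ = x' := by
  classical
  haveI : Fact (Nat.Prime 2) := ⟨Nat.prime_two⟩
  obtain ⟨S⟩ : Nonempty (Sylow 2 C) := inferInstance
  -- a conjugate in `S`
  have hmv : ∀ w ∈ C, orderOf w = 2 → ∃ c ∈ C, ∃ hm : c * w * c⁻¹ ∈ C,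
      (⟨c * w * c⁻¹, hm⟩ : C) ∈ (S : Subgroup C) := by
    intro w hw ow
    have hp : IsPGroup 2 (zpowers (⟨w, hw⟩ : C)) := IsPGroup.of_card (n := 1) (by
      rw [Nat.card_zpowers, orderOf_mk, ow]; rfl)
    obtain ⟨P, hP⟩ := hp.exists_le_sylow
    obtain ⟨c, hc⟩ := MulAction.exists_smul_eq C P S
    refine ⟨c, c.2, mul_mem (mul_mem c.2 hw) (inv_mem c.2), ?_⟩
    rw [← hc, Sylow.coe_subgroup_smul]
    exact ⟨⟨w, hw⟩, hP (mem_zpowers _), rfl⟩
  have hzS : (⟨z, hzC⟩ : C) ∈ (S : Subgroup C) := by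
    obtain ⟨c, hc, hm, h⟩ := hmv z hzC hz
    convert h using 1
    exact Subtype.ext (show z = c * z * c⁻¹ by rw [hC c hc, mul_inv_cancel_right])
  set P : Subgroup X := (S : Subgroup C).map C.subtype
  have hP : IsPGroup 2 P := S.isPGroup'.map _
  have hzP : z ∈ P := ⟨_, hzS, rfl⟩
  have hPC : P ≤ C := map_subtype_le _
  have h8P : 8 ∣ Nat.card P := by
    rw [card_map_of_injective C.subtype_injective, Sylow.card_eq_multiplicity]
    obtain ⟨i, hi⟩ : 2 ^ 3 ∣ 2 ^ (Nat.card C).factorization 2 := by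
      refine Nat.pow_dvd_pow 2 ?_
      exact (Nat.Prime.pow_dvd_iff_le_factorization Nat.prime_two Nat.card_pos.ne').1 h8
    exact ⟨i, hi⟩
  obtain ⟨n, f, hf⟩ := hX P hP
  set K : Subgroup P := (rot n).comap f
  have hzz := Small.mul_self_of_orderOf_two hz
  have hzK : (⟨z, hzP⟩ : P) ∈ K := by
    by_contra hzK
    have hall : ∀ s ∈ P, s * s = 1 := fun s hs => by
      have h : f ⟨s, hs⟩ * f ⟨s, hs⟩ = 1 := mul_self_of_commute _ _ hzK (by
        show f _ * f _ = f _ * f _
        rw [← map_mul, ← map_mul]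
        exact congrArg f (Subtype.ext (hC s (hPC hs))))
      rw [← map_mul, ← map_one f] at h
      exact congrArg Subtype.val (hf h)
    have := hX.card_le_four P hall
    have := Nat.le_of_dvd Nat.card_pos h8P
    omega
  -- the centralizer of a noncentral involution
  have hnot : ∀ (w : X) (hw : w ∈ P), orderOf w = 2 → w ≠ z → (⟨w, hw⟩ : P) ∉ K := by
    intro w hw ow nw hwK
    rcases eq_of_mem_rot_of_sq hzK hwK
      (by rw [← map_mul, ← map_one f]; exact congrArg f (Subtype.ext hzz))
      (by rw [← map_mul, ← map_one f]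
          exact congrArg f (Subtype.ext (Small.mul_self_of_orderOf_two ow))) with h | h | h
    · rw [← map_one f] at h
      exact Small.ne_one_of_orderOf_two hz (congrArg Subtype.val (hf h))
    · rw [← map_one f] at h
      exact Small.ne_one_of_orderOf_two ow (congrArg Subtype.val (hf h))
    · exact nw (congrArg Subtype.val (hf h)).symm
  have hclass : ∀ (w : X) (hw : w ∈ P), orderOf w = 2 → w ≠ z →
      Nat.card P = 4 * Nat.card {v : P // ∃ s : P, s * ⟨w, hw⟩ * s⁻¹ = v} := by
    intro w hw ow nw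
    have hww := Small.mul_self_of_orderOf_two ow
    have hwz : w * z = z * w := hC w (hPC hw)
    obtain ⟨V, hV4, hV2, hzV, hwV, hVle⟩ : ∃ V : Subgroup X, Nat.card V = 4 ∧
        (∀ v ∈ V, v * v = 1) ∧ z ∈ V ∧ w ∈ V ∧ ∀ v ∈ V, v = 1 ∨ v = z ∨ v = w ∨ v = z * w := by
      have hcl := DGroupCent.sq_eq_one_of_mem_closure_pair hzz hww hwz.symm
      refine ⟨closure {z, w}, ?_, ?_, subset_closure (by simp), subset_closure (by simp), hcl⟩
      · have hset : ((closure ({z, w} : Set X) : Subgroup X) : Set X) = {1, z, w, z * w} := by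
          ext v
          refine ⟨fun hv => by simpa using hcl v hv, fun hv => ?_⟩
          simp only [Set.mem_insert_iff, Set.mem_singleton_iff] at hv
          rcases hv with rfl | rfl | rfl | rfl
          exacts [one_mem _, subset_closure (by simp), subset_closure (by simp),
            mul_mem (subset_closure (by simp)) (subset_closure (by simp))]
        have hzw : z * w ≠ 1 := fun e => nw (by
          rw [← inv_eq_of_mul_eq_one_right e, inv_eq_of_mul_eq_one_right hzz])
        show Nat.card ((closure ({z, w} : Set X) : Subgroup X) : Set X) = 4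
        rw [hset, Nat.card_coe_set_eq, Set.ncard_eq_toFinset_card']
        have h1 := Small.ne_one_of_orderOf_two hz
        have h2 := Small.ne_one_of_orderOf_two ow
        simp [Finset.card_insert_of_notMem, h1.symm, h2.symm, hzw.symm, nw.symm, h1, h2]
      · intro v hv
        rcases hcl v hv with rfl | rfl | rfl | rfl
        · exact one_mul 1
        · exact hzz
        · exact hww
        · calc z * w * (z * w) = z * (w * z) * w := by group
            _ = (z * z) * (w * w) := by rw [hwz]; group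
            _ = 1 := by rw [hzz, hww, one_mul]
    have hVP : V ≤ P := fun v hv => by
      rcases hVle v hv with rfl | rfl | rfl | rfl
      exacts [one_mem P, hzP, hw, mul_mem hzP hw]
    have hcent : centralizer ({⟨w, hw⟩} : Set P) = V.subgroupOf P := by
      ext s
      rw [mem_centralizer_singleton_iff, mem_subgroupOf, Subtype.ext_iff]
      constructor
      · intro h
        refine hX.mem_four hP hVP hV4 hV2 s.2 fun v hv => ?_
        have hsz := hC _ (hPC s.2)
        rcases hVle v hv with rfl | rfl | rfl | rfl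
        · simp
        · exact hsz
        · exact h
        · calc (s : X) * (z * w) = (s : X) * z * w := by group
            _ = z * ((s : X) * w) := by rw [hsz]; group
            _ = z * w * s := by rw [show (s : X) * w = w * s from h]; group
      · intro h
        show (s : X) * w = w * s
        rcases hVle _ h with e | e | e | e <;> rw [e]
        · simp
        · exact hwz.symm
        · rw [mul_assoc, ← mul_assoc w z, hwz, mul_assoc]
    have h := (centralizer ({⟨w, hw⟩} : Set P)).card_mul_index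
    rw [← h, hcent, Nat.card_congr (subgroupOfEquivOfLe hVP).toEquiv, hV4, ← hcent]
    congr 1
    have hconj : (centralizer ({⟨w, hw⟩} : Set P)).index =
        Nat.card (MulAction.orbit (ConjAct P) (⟨w, hw⟩ : P)) := by
      rw [Nat.card_coe_set_eq, ← MulAction.index_stabilizer]
      congr 1
      ext s
      rw [mem_centralizer_singleton_iff]
      show _ ↔ ConjAct.toConjAct s • _ = _
      rw [ConjAct.smul_def, ConjAct.ofConjAct_toConjAct, mul_inv_eq_iff_eq_mul]
    rw [hconj]
    refine Nat.card_congr (Equiv.subtypeEquivRight fun v => ?_)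
    rw [MulAction.mem_orbit_iff]
    exact ⟨fun ⟨s, e⟩ => ⟨ConjAct.ofConjAct s, by rw [← e, ConjAct.smul_def]⟩,
      fun ⟨s, e⟩ => ⟨ConjAct.toConjAct s, by rw [← e, ConjAct.smul_def]; rfl⟩⟩
  -- move the three involutions into `P`
  obtain ⟨c, hc, hm, hcx⟩ := hmv x hx ox
  obtain ⟨c', hc', hm', hcx'⟩ := hmv x' hx' ox'
  obtain ⟨d, hd', hmd, hdy⟩ := hmv y hy oy
  have hxP : c * x * c⁻¹ ∈ P := ⟨_, hcx, rfl⟩
  have hxP' : c' * x' * c'⁻¹ ∈ P := ⟨_, hcx', rfl⟩
  have hyP : d * y * d⁻¹ ∈ P := ⟨_, hdy, rfl⟩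
  have hne : ∀ g ∈ C, ∀ w : X, w ≠ z → g * w * g⁻¹ ≠ z := fun g hg w hw e => hw (by
    calc w = g⁻¹ * (g * w * g⁻¹) * g := by group
      _ = g⁻¹ * (g * z) := by rw [e, hC g hg]; group
      _ = z := by group)
  set R := fun (w : X) (hw : w ∈ P) => {v : P | ∃ s : P, s * ⟨w, hw⟩ * s⁻¹ = v}
  have hR : ∀ (w : X) (hw : w ∈ P), orderOf w = 2 → w ≠ z →
      (R w hw).ncard * 4 = Nat.card P ∧ Disjoint (R w hw) (K : Set P) := by
    intro w hw ow nw
    refine ⟨by rw [← Nat.card_coe_set_eq, mul_comm]; exact (hclass w hw ow nw).symm,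
      Set.disjoint_left.2 ?_⟩
    rintro _ ⟨s, rfl⟩ hK
    refine hnot _ (mul_mem (mul_mem s.2 hw) (inv_mem s.2)) ?_ (hne _ (hPC s.2) _ nw) hK
    rw [Small.orderOf_conj_eq, ow]
  obtain ⟨hRx, hKx⟩ := hR _ hxP (by rw [Small.orderOf_conj_eq, ox]) (hne c hc x nx)
  obtain ⟨hRy, hKy⟩ := hR _ hyP (by rw [Small.orderOf_conj_eq, oy]) (hne d hd' y ny)
  have hside : ∀ (g w : X), g * w * g⁻¹ ∈ L ↔ w ∈ L := fun g w =>
    ⟨fun h => by
      have := (inferInstance : L.Normal).conj_mem _ h g⁻¹
      simpa [mul_assoc] using this, fun h => (inferInstance : L.Normal).conj_mem _ h g⟩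
  have hdisj : Disjoint (R _ hxP) (R _ hyP) := by
    rw [Set.disjoint_left]
    rintro _ ⟨s, rfl⟩ ⟨s', e⟩
    refine hd ?_
    rw [← hside c x, ← hside (s : X), ← hside d y, ← hside (s' : X) (d * y * d⁻¹)]
    exact iff_of_eq (congrArg (fun v : P => (v : X) ∈ L) e.symm)
  -- the complement of `K` is the union of the two classes
  have hKidx : 2 * (Set.univ \ (K : Set P)).ncard ≤ Nat.card P := by
    have hi : K.index ≤ 2 := by
      by_cases hK : K = ⊤
      · simp [hK]
      · obtain ⟨s, hs⟩ : ∃ s, s ∉ K := by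
          by_contra h
          exact hK ((eq_top_iff' K).2 (not_exists_not.1 h))
        refine le_of_eq (index_eq_two_iff.2 ⟨s, fun v => ?_⟩)
        by_cases hv : v ∈ K
        · exact Or.inr ⟨hv, fun h => hs ((mul_mem_cancel_left hv).1 h)⟩
        · refine Or.inl ⟨?_, hv⟩
          show f (v * s) ∈ rot n
          rw [map_mul]
          exact mul_mem_rot _ _ hv hs
    have h1 := K.card_mul_index
    have h2 : (Set.univ \ (K : Set P)).ncard + (K : Set P).ncard = Nat.card P := by
      rw [← Set.ncard_univ]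
      exact Set.ncard_diff_add_ncard_of_subset (Set.subset_univ _)
    rw [← Nat.card_coe_set_eq (K : Set P)] at h2
    change _ + Nat.card K = _ at h2
    have : Nat.card K * K.index ≤ Nat.card K * 2 := Nat.mul_le_mul_left _ hi
    omega
  have hunion : R _ hxP ∪ R _ hyP = Set.univ \ (K : Set P) := by
    refine Set.eq_of_subset_of_ncard_le ?_ ?_
    · rintro v (hv | hv)
      exacts [⟨trivial, fun h => Set.disjoint_left.1 hKx hv h⟩,
        ⟨trivial, fun h => Set.disjoint_left.1 hKy hv h⟩]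
    · rw [Set.ncard_union_eq hdisj]
      omega
  have hx'mem : (⟨_, hxP'⟩ : P) ∈ Set.univ \ (K : Set P) :=
    ⟨trivial, hnot _ hxP' (by rw [Small.orderOf_conj_eq, ox']) (hne c' hc' x' nx')⟩
  rw [← hunion] at hx'mem
  rcases hx'mem with ⟨s, hs'⟩ | ⟨s, hs'⟩
  · refine ⟨c'⁻¹ * s * c, mul_mem (mul_mem (inv_mem hc') (hPC s.2)) hc, ?_⟩
    have e : (s : X) * (c * x * c⁻¹) * (s : X)⁻¹ = c' * x' * c'⁻¹ := congrArg Subtype.val hs'
    calc c'⁻¹ * s * c * x * (c'⁻¹ * s * c)⁻¹ = c'⁻¹ * ((s : X) * (c * x * c⁻¹) * (s : X)⁻¹) * c' := by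
          group
      _ = x' := by rw [e]; group
  · refine absurd ?_ hd
    rw [hs, ← hside c' x', ← hside d y, ← hside (s : X) (d * y * d⁻¹)]
    exact iff_of_eq (congrArg (fun v : P => (v : X) ∈ L) hs'.symm)

end Classes

section Lift

variable {X Q : Type*} [Group X] [Finite X] [Group Q] {π : X →* Q}

/-- An involution in the image of a subgroup lifts to an involution of the subgroup. -/
theorem exists_lift_inv (hodd : Odd (Nat.card π.ker)) {K : Subgroup X} {q : Q} (hq : q ∈ K.map π)
    (oq : orderOf q = 2) : ∃ x ∈ K, orderOf x = 2 ∧ π x = q := by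
  obtain ⟨c, hc, rfl⟩ := hq
  obtain ⟨i, m, hm, hcm⟩ := Nat.exists_eq_two_pow_mul_odd (orderOf_pos c).ne'
  obtain ⟨j, rfl⟩ := hm
  have hi : i ≠ 0 := by
    rintro rfl
    have h : Odd (orderOf (π c)) := by
      refine Odd.of_dvd_nat ?_ (orderOf_map_dvd π c)
      rw [hcm]
      simp
    rw [oq] at h
    exact absurd h (by decide)
  set x := c ^ (2 * j + 1) with hx
  have hπx : π x = π c := by
    rw [hx, map_pow, pow_succ, pow_mul, ← oq, pow_orderOf_eq_one, one_pow, one_mul]
  have hxo : orderOf x = 2 ^ i := by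
    rw [hx, orderOf_pow_of_dvd (by omega) (hcm ▸ dvd_mul_left _ _), hcm,
      Nat.mul_div_cancel _ (by omega)]
  refine ⟨x, pow_mem hc _, ?_, hπx⟩
  have hx2 : x * x = 1 := by
    have hk : x * x ∈ π.ker := by
      rw [MonoidHom.mem_ker, map_mul, hπx, Small.mul_self_of_orderOf_two oq]
    have h1 : orderOf (x * x) ∣ 2 ^ i := hxo ▸ (by rw [← pow_two]; exact orderOf_pow_dvd 2)
    have h2 : Odd (orderOf (x * x)) := hodd.of_dvd_nat (π.ker.orderOf_dvd_natCard hk)
    exact orderOf_eq_one_iff.1 (Nat.eq_one_of_dvd_coprimes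
      ((Nat.coprime_two_right.2 h2).pow_right i) dvd_rfl h1)
  refine orderOf_eq_prime (by rw [pow_two, hx2]) fun h => ?_
  rw [h, map_one] at hπx
  exact Small.ne_one_of_orderOf_two oq hπx.symm

/-- Involutions of a subgroup with the same image are conjugate by an element of the kernel. -/
theorem exists_ker_conj (hodd : Odd (Nat.card π.ker)) {K : Subgroup X} {x y : X} (hx : x ∈ K)
    (hy : y ∈ K) (ox : orderOf x = 2) (oy : orderOf y = 2) (h : π x = π y) :
    ∃ w ∈ K, π w = 1 ∧ w * y * w⁻¹ = x := by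
  have hk : x * y ∈ π.ker := by
    rw [MonoidHom.mem_ker, map_mul, h, ← map_mul, Small.mul_self_of_orderOf_two oy, map_one]
  obtain ⟨w, hw, e⟩ := exists_conj_of_odd (Small.mul_self_of_orderOf_two ox)
    (Small.mul_self_of_orderOf_two oy) (hodd.of_dvd_nat (π.ker.orderOf_dvd_natCard hk))
  exact ⟨w, zpowers_le.2 (mul_mem hx hy) hw, zpowers_le.2 hk hw, e⟩

/-- The image of a centralizer. -/
theorem map_inf_centralizer (hodd : Odd (Nat.card π.ker)) (K : Subgroup X) {b : X} (hb : b ∈ K)
    (ob : orderOf b = 2) :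
    (K ⊓ centralizer ({b} : Set X)).map π = K.map π ⊓ centralizer ({π b} : Set Q) := by
  refine le_antisymm (fun _ h => ?_) fun q hq => ?_
  · obtain ⟨k, hk, rfl⟩ := h
    exact ⟨⟨k, hk.1, rfl⟩, mem_centralizer_singleton_iff.2 (by
      rw [← map_mul, mem_centralizer_singleton_iff.1 hk.2, map_mul])⟩
  · obtain ⟨⟨k, hk, rfl⟩, hc⟩ := hq
    obtain ⟨w, hw, hw1, e⟩ := exists_ker_conj hodd (π := π) hb (mul_mem (mul_mem hk hb) (inv_mem hk)) ob
      (by rw [Small.orderOf_conj_eq, ob]) (by
        rw [map_mul, map_mul, map_inv, mem_centralizer_singleton_iff.1 hc, mul_inv_cancel_right])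
    refine ⟨w * k, ⟨mul_mem hw hk, mem_centralizer_singleton_iff.2 ?_⟩, by rw [map_mul, hw1, one_mul]⟩
    calc w * k * b = w * (k * b * k⁻¹) * w⁻¹ * (w * k) := by group
      _ = b * (w * k) := by rw [e]

theorem card_eq_ker_mul (K : Subgroup X) :
    Nat.card K = Nat.card (π.ker ⊓ K : Subgroup X) * Nat.card (K.map π) := by
  have h := (π.subgroupMap K).ker.card_mul_index
  rw [index_ker, MonoidHom.range_eq_top.2 (π.subgroupMap_surjective K), card_top] at h
  rw [← h]
  congr 1
  exact Nat.card_congr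
    { toFun := fun x => ⟨(x.1 : X), congrArg Subtype.val (MonoidHom.mem_ker.1 x.2), x.1.2⟩
      invFun := fun x => ⟨⟨x, x.2.2⟩, Subtype.ext x.2.1⟩
      left_inv := fun x => rfl
      right_inv := fun x => rfl }

end Lift

namespace Minimal

variable {G : Type u} [Group G] [Finite G] (hG : Minimal G)
include hG

/-- The lifting of the quotient data. -/
theorem twoClass_of_twoQuot {z : G} (hz : orderOf z = 2) {M : Subgroup G}
    (hCM : centralizer ({z} : Set G) ≤ M) {A B e N : ℕ}
    {L : Subgroup (↥M ⧸ Cfsg.oddCore ↥M)} (hQ : TwoQuot L A B e N) :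
    ∃ b t : G, TwoClass M z b t A B e N := by
  classical
  haveI : Fact (Nat.Prime 2) := ⟨Nat.prime_two⟩
  haveI := hQ.normal
  set π := QuotientGroup.mk' (Cfsg.oddCore ↥M) with hπ
  have hker : π.ker = Cfsg.oddCore ↥M := QuotientGroup.ker_mk' _
  have hodd : Odd (Nat.card π.ker) := by rw [hker]; exact ExtremelyClosed.odd_card_oddCore' _
  have hsurj : Function.Surjective π := QuotientGroup.mk'_surjective _
  have honto : ∀ q, q ∈ (⊤ : Subgroup ↥M).map π := fun q => by
    rw [map_top_of_surjective π hsurj]; exact mem_top q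
  have hcent : ∀ {x : ↥M}, orderOf x = 2 →
      (centralizer ({x} : Set ↥M)).map π = centralizer ({π x} : Set _) := fun {x} hx => by
    have := map_inf_centralizer hodd ⊤ (mem_top x) hx
    rwa [top_inf_eq, map_top_of_surjective π hsurj, top_inf_eq] at this
  have him : ∀ {x : ↥M}, orderOf x = 2 → orderOf (π x) = 2 := fun {x} hx =>
    DGroupCent.orderOf_map_involution hodd hx
  set z' : ↥M := ⟨z, hCM (mem_centralizer_singleton_iff.2 rfl)⟩
  have oz' : orderOf z' = 2 := by rw [orderOf_mk, hz]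
  -- `z` lies in `L`
  have hzL : π z' ∈ L := by
    by_contra hzL
    obtain ⟨S, -, hS⟩ := hG.exists_sylow hz
    obtain ⟨-, b0, -, ob0, -, -, -, -, -, -⟩ := hQ.exist
    obtain ⟨s, hs, hBs⟩ := hQ.half
    obtain ⟨k, -, hN⟩ := hQ.mul_odd
    obtain ⟨a, hA⟩ := hQ.four_dvd
    set SM := (S : Subgroup G).subgroupOf M
    have hSle : (S : Subgroup G) ≤ M := (hG.sylow_le hS).trans hCM
    have h8 : 8 ∣ Nat.card SM := by
      have h1 : 8 ∣ Nat.card (↥M ⧸ Cfsg.oddCore ↥M) := ⟨e * a * k, by
        rw [hQ.card_all, hN, hA]; ring⟩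
      have h2 : 8 ∣ Nat.card G :=
        (h1.trans (card_quotient_dvd_card _)).trans (card_subgroup_dvd_card M)
      rw [Nat.card_congr (subgroupOfEquivOfLe hSle).toEquiv]
      obtain ⟨i, hi⟩ : 2 ^ 3 ∣ 2 ^ (Nat.card G).factorization 2 := Nat.pow_dvd_pow 2
        ((Nat.Prime.pow_dvd_iff_le_factorization Nat.prime_two Nat.card_pos.ne').1 h2)
      exact ⟨i, by rw [Sylow.card_eq_multiplicity]; exact hi⟩
    have h2p : IsPGroup 2 SM := S.isPGroup'.comap_subtype
    have hbot : π.ker ⊓ SM = ⊥ := (inf_comm _ _).trans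
      (PLocal.disjoint_of_isPGroup_of_coprime (p := 2) h2p (Nat.coprime_two_right.2 hodd))
    have h3 : 8 ∣ Nat.card (centralizer ({π z'} : Set (↥M ⧸ Cfsg.oddCore ↥M))) := by
      have h := card_eq_ker_mul (π := π) SM
      rw [hbot, card_bot, one_mul] at h
      refine (h ▸ h8).trans (card_dvd_of_le ?_)
      rw [← hcent oz']
      exact map_mono fun x hx => mem_centralizer_singleton_iff.2 (Subtype.ext (hS x hx))
    rw [hQ.card_t _ (him oz') hzL, hBs] at h3
    obtain ⟨c, hc⟩ := h3
    obtain ⟨i, rfl⟩ := hs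
    obtain ⟨j, hj⟩ := hQ.e_odd
    subst hj
    have : (2 * j + 1) * (2 * i + 1) = 2 * c := by linarith
    have : ((2 * j + 1) * (2 * i + 1)) % 2 = 1 := by
      simp [Nat.mul_mod, Nat.add_mod]
    omega
  -- involutions commuting with `π z`
  obtain ⟨z₀, b₀, t₀, oz₀, ob₀, ot₀, hz₀, hb₀, ht₀, hne₀, hzb₀, hzt₀⟩ := hQ.exist
  obtain ⟨g, hg⟩ := hQ.one z₀ (π z') oz₀ (him oz') hz₀ hzL
  set zq := π z' with hzq
  have hCz : ∀ c ∈ centralizer ({zq} : Set (↥M ⧸ Cfsg.oddCore ↥M)), c * zq = zq * c := fun c hc =>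
    mem_centralizer_singleton_iff.1 hc
  have hlift : ∀ {x : ↥M ⧸ Cfsg.oddCore ↥M}, orderOf x = 2 → zq * x = x * zq →
      ∃ w : ↥M, w ∈ centralizer ({z'} : Set ↥M) ∧ orderOf w = 2 ∧ π w = x := fun {x} ox hx => by
    obtain ⟨w, hw, ow, e⟩ := exists_lift_inv hodd (π := π) (K := centralizer ({z'} : Set ↥M))
      (by rw [hcent oz']; exact mem_centralizer_singleton_iff.2 hx.symm) ox
    exact ⟨w, hw, ow, e⟩
  have hcg : ∀ {x : ↥M ⧸ Cfsg.oddCore ↥M}, z₀ * x = x * z₀ → zq * (g * x * g⁻¹) = g * x * g⁻¹ * zq :=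
    fun {x} hx => by
      rw [← hg, show g * z₀ * g⁻¹ * (g * x * g⁻¹) = g * (z₀ * x) * g⁻¹ by group, hx]
      group
  obtain ⟨b, hbC, ob, hb⟩ := hlift (by rw [Small.orderOf_conj_eq, ob₀]) (hcg hzb₀)
  obtain ⟨t, htC, ot, ht⟩ := hlift (by rw [Small.orderOf_conj_eq, ot₀]) (hcg hzt₀)
  have hbL : π b ∈ L := hb ▸ hQ.normal.conj_mem _ hb₀ g
  have htL : π t ∉ L := fun h => ht₀ (by
    have := hQ.normal.conj_mem _ (ht ▸ h) g⁻¹
    simpa [mul_assoc] using this)
  have hbz : z' * b = b * z' := (mem_centralizer_singleton_iff.1 hbC).symm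
  have htz : z' * t = t * z' := (mem_centralizer_singleton_iff.1 htC).symm
  have hcomm : ∀ {x : ↥M}, z' * x = x * z' → zq * π x = π x * zq := fun {x} h => by
    rw [hzq, ← map_mul, h, map_mul]
  have hbne : π b ≠ zq := fun h => hne₀ (by
    have : g * z₀ * g⁻¹ = g * b₀ * g⁻¹ := by rw [hg, ← hb, h]
    exact mul_left_cancel (mul_right_cancel this))
  have htne : π t ≠ zq := fun h => htL (h ▸ hzL)
  -- fusion in `M` is membership in `L`
  have hfus : ∀ x : ↥M, orderOf x = 2 → (Fused M z (x : G) ↔ π x ∈ L) := by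
    intro x ox
    constructor
    · rintro ⟨m, hm, e⟩
      have e' : (⟨m, hm⟩ : ↥M) * z' * ⟨m, hm⟩⁻¹ = x := Subtype.ext e
      rw [← e', map_mul, map_mul, map_inv]
      exact hQ.normal.conj_mem _ hzL _
    · intro hxL
      obtain ⟨q, hq⟩ := hQ.one zq (π x) (him oz') (him ox) hzL hxL
      obtain ⟨m, rfl⟩ := hsurj q
      obtain ⟨w, -, -, e⟩ := exists_ker_conj hodd (π := π) (K := ⊤) (mem_top x) (mem_top (m * z' * m⁻¹))
        ox (by rw [Small.orderOf_conj_eq, oz']) (by rw [map_mul, map_mul, map_inv, ← hzq, hq])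
      refine ⟨(w * m : ↥M), (w * m).2, ?_⟩
      have := congrArg Subtype.val e
      simp only [Subgroup.coe_mul, InvMemClass.coe_inv] at this ⊢
      rw [← this]
      group
      rfl
  -- fusion inside `C(z)`
  have h8C : 8 ∣ Nat.card (centralizer ({zq} : Set (↥M ⧸ Cfsg.oddCore ↥M))) := by
    obtain ⟨a, hA⟩ := hQ.four_dvd
    exact ⟨e * a, by rw [hQ.card_z _ (him oz') hzL, hA]; ring⟩
  have hin : ∀ x x' y : ↥M, z' * x = x * z' → z' * x' = x' * z' → z' * y = y * z' →
      orderOf x = 2 → orderOf x' = 2 → orderOf y = 2 → π x ≠ zq → π x' ≠ zq → π y ≠ zq →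
      (π x ∈ L ↔ π x' ∈ L) → ¬ (π x ∈ L ↔ π y ∈ L) →
      ∃ m : ↥M, m * z' * m⁻¹ = z' ∧ m * x * m⁻¹ = x' := by
    intro x x' y hx hx' hy ox ox' oy nx nx' ny hs hd
    obtain ⟨c, hc, hcx⟩ := conj_of_same_side hQ.dih L (him oz') hCz
      (mem_centralizer_singleton_iff.2 rfl) h8C
      (mem_centralizer_singleton_iff.2 (hcomm hx).symm)
      (mem_centralizer_singleton_iff.2 (hcomm hx').symm)
      (mem_centralizer_singleton_iff.2 (hcomm hy).symm) (him ox) (him ox') (him oy) nx nx' ny hs hd
    rw [← hcent oz'] at hc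
    obtain ⟨k, hk, rfl⟩ := hc
    have hx'C : x' ∈ centralizer ({z'} : Set ↥M) := mem_centralizer_singleton_iff.2 hx'.symm
    have hxC : x ∈ centralizer ({z'} : Set ↥M) := mem_centralizer_singleton_iff.2 hx.symm
    obtain ⟨w, hw, -, e⟩ := exists_ker_conj hodd (π := π) hx'C
      (mul_mem (mul_mem hk hxC) (inv_mem hk)) ox' (by rw [Small.orderOf_conj_eq, ox]) (by
        rw [map_mul, map_mul, map_inv, hcx])
    refine ⟨w * k, ?_, by rw [← e]; group⟩
    rw [mem_centralizer_singleton_iff.1 (mul_mem hw hk), mul_inv_cancel_right]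
  have hzz' : z' * z' = 1 := Small.mul_self_of_orderOf_two oz'
  have hord : ∀ x : ↥M, orderOf x = 2 → z' * x = x * z' → π x ≠ zq →
      orderOf (z' * x) = 2 ∧ z' * (z' * x) = z' * x * z' ∧ π (z' * x) ≠ zq := by
    intro x ox hx nx
    refine ⟨orderOf_eq_prime ?_ ?_, ?_, ?_⟩
    · rw [Commute.mul_pow hx, pow_two, pow_two, hzz', Small.mul_self_of_orderOf_two ox, one_mul]
    · intro h
      refine nx ?_
      rw [← inv_eq_of_mul_eq_one_right h, inv_eq_of_mul_eq_one_right hzz']
    · rw [mul_assoc z' x, ← hx]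
    · intro h
      rw [map_mul, ← hzq, mul_eq_left] at h
      exact Small.ne_one_of_orderOf_two (him ox) h
  obtain ⟨ozb, hzzb, hzbne⟩ := hord b ob hbz hbne
  obtain ⟨ozt, hzzt, hztne⟩ := hord t ot htz htne
  have hzbL : π (z' * b) ∈ L := by rw [map_mul]; exact mul_mem hzL hbL
  have hztL : π (z' * t) ∉ L := by
    rw [map_mul]
    exact fun h => htL ((mul_mem_cancel_left hzL).1 h)
  -- the orders of centralizers
  have hcard : ∀ (K : Subgroup ↥M) (H : Subgroup G), H ⊓ M = K.map M.subtype →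
      Nat.card (M ⊓ H : Subgroup G) =
        Nat.card (oddIn M ⊓ H : Subgroup G) * Nat.card (K.map π) := by
    intro K H hH
    rw [inf_comm, hH, card_map_of_injective M.subtype_injective, card_eq_ker_mul (π := π)]
    congr 1
    rw [hker, ← card_map_of_injective M.subtype_injective,
      map_inf_eq _ _ _ M.subtype_injective, ← hH]
    show Nat.card (oddIn M ⊓ (H ⊓ M) : Subgroup G) = _
    rw [← inf_assoc, inf_eq_left.2 (inf_le_left.trans (oddIn_le M))]
  have hsub : ∀ x : ↥M, centralizer ({(x : G)} : Set G) ⊓ M =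
      (centralizer ({x} : Set ↥M)).map M.subtype := by
    intro x
    ext v
    simp only [mem_inf, mem_map, mem_centralizer_singleton_iff, coe_subtype]
    constructor
    · rintro ⟨h, hv⟩
      exact ⟨⟨v, hv⟩, Subtype.ext h, rfl⟩
    · rintro ⟨v', h, rfl⟩
      exact ⟨congrArg Subtype.val h, v'.2⟩
  have hpair : ∀ x : ↥M, orderOf x = 2 → z' * x = x * z' → π x ≠ zq →
      Nat.card (M ⊓ centralizer ({z} : Set G) ⊓ centralizer ({(x : G)} : Set G) : Subgroup G) =
        Nat.card (oddIn M ⊓ centralizer ({z} : Set G) ⊓ centralizer ({(x : G)} : Set G) :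
          Subgroup G) * (4 * e) := by
    intro x ox hx nx
    rw [inf_assoc, inf_assoc, hcard (centralizer ({z'} : Set ↥M) ⊓ centralizer ({x} : Set ↥M))]
    · rw [map_inf_centralizer hodd _ (mem_centralizer_singleton_iff.2 hx.symm) ox, hcent oz',
        ← hzq, hQ.card_pair zq (π x) (him oz') hzL (him ox) (hcomm hx) fun h => nx h.symm]
    · rw [map_inf_eq _ _ _ M.subtype_injective, ← hsub, ← hsub]
      show centralizer ({z} : Set G) ⊓ _ ⊓ M = centralizer ({z} : Set G) ⊓ M ⊓ _
      rw [inf_inf_distrib_right]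
  refine ⟨b, t, ?_⟩
  exact
    { zM := z'.2
      bM := b.2
      tM := t.2
      oz := hz
      ob := by rw [orderOf_coe, ob]
      ot := by rw [orderOf_coe, ot]
      comm_zb := congrArg Subtype.val hbz
      comm_zt := congrArg Subtype.val htz
      ne_zb := fun h => hbne (congrArg π (Subtype.ext h.symm : b = z'))
      fus_b := (hfus b ob).2 hbL
      fus_zb := (hfus (z' * b) ozb).2 hzbL
      fus_zt := by
        obtain ⟨m, -, hm⟩ := hin t (z' * t) b htz hzzt hbz ot ozt ob htne hztne hbne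
          (iff_of_false htL hztL) fun h => htL (h.2 hbL)
        exact ⟨m, m.2, congrArg Subtype.val hm⟩
      not_fus := fun h => htL ((hfus t ot).1 h)
      four := by
        intro x hx ox hzx hxz
        set x' : ↥M := ⟨x, hx⟩
        have ox' : orderOf x' = 2 := by rw [orderOf_mk, ox]
        have hzx' : z' * x' = x' * z' := Subtype.ext hzx
        have nx : π x' ≠ zq := fun h => hxz (by
          have hk : x' * z' ∈ π.ker := by
            rw [MonoidHom.mem_ker, map_mul, h, hzq, ← map_mul, hzz', map_one]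
          have h1 := DGroupCent.eq_one_of_odd hodd (hk : π (x' * z') = 1) (by
            calc x' * z' * (x' * z') = x' * (z' * x') * z' := by group
              _ = (x' * x') * (z' * z') := by rw [hzx']; group
              _ = 1 := by rw [Small.mul_self_of_orderOf_two ox', hzz', one_mul])
          have := inv_eq_of_mul_eq_one_left h1
          rw [inv_eq_of_mul_eq_one_right hzz'] at this
          exact congrArg Subtype.val this.symm)
        by_cases hxL : π x' ∈ L
        · obtain ⟨m, hm1, hm⟩ := hin x' b t hzx' hbz htz ox' ob ot nx hbne htne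
            (iff_of_true hxL hbL) fun h => htL (h.1 hxL)
          exact ⟨m, m.2, congrArg Subtype.val hm1, Or.inl (congrArg Subtype.val hm)⟩
        · obtain ⟨m, hm1, hm⟩ := hin x' t b hzx' htz hbz ox' ot ob nx htne hbne
            (iff_of_false hxL htL) fun h => hxL (h.2 hbL)
          exact ⟨m, m.2, congrArg Subtype.val hm1,
            Or.inr (Or.inr (Or.inl (congrArg Subtype.val hm)))⟩
      mul_outer := by
        intro x hx y hy ox oy hxy hne hfx hfy
        have ox' : orderOf (⟨x, hx⟩ : ↥M) = 2 := by rw [orderOf_mk, ox]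
        have oy' : orderOf (⟨y, hy⟩ : ↥M) = 2 := by rw [orderOf_mk, oy]
        have oxy : orderOf ((⟨x, hx⟩ : ↥M) * ⟨y, hy⟩) = 2 := by
          rw [← orderOf_coe, Subgroup.coe_mul]
          refine orderOf_eq_prime ?_ fun h => hne ?_
          · rw [Commute.mul_pow hxy, pow_two, pow_two, Small.mul_self_of_orderOf_two ox,
              Small.mul_self_of_orderOf_two oy, one_mul]
          · replace h : x * y = 1 := h
            rw [← inv_eq_of_mul_eq_one_left h,
              inv_eq_of_mul_eq_one_right (Small.mul_self_of_orderOf_two oy)]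
        refine (hfus _ oxy).2 ?_
        rw [map_mul]
        exact hQ.two _ _ (him ox') (him oy') (fun h => hfx ((hfus _ ox').2 h))
          fun h => hfy ((hfus _ oy').2 h)
      e_odd := hQ.e_odd
      four_dvd := hQ.four_dvd
      dvd_AB := hQ.dvd_AB
      half := hQ.half
      small := hQ.small
      six := hQ.six
      card_all := by
        rw [card_eq_card_quotient_mul_card_subgroup (Cfsg.oddCore ↥M), hQ.card_all, oddIn,
          card_map_of_injective M.subtype_injective, mul_comm]
      card_z := by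
        rw [hcard (centralizer ({z'} : Set ↥M)) _ (hsub z'), hcent oz', hQ.card_z _ (him oz') hzL]
      card_t := by
        rw [hcard (centralizer ({t} : Set ↥M)) _ (hsub t), hcent ot, hQ.card_t _ (him ot) htL]
      card_zb := hpair b ob hbz hbne
      card_zt := hpair t ot htz htne
      core_cent := by
        intro Y hY hCY hnf y hy
        set Y' := Y.subgroupOf M
        have hCY' : centralizer ({t} : Set ↥M) ≤ Y' := fun c hc =>
          hCY ⟨c.2, mem_centralizer_singleton_iff.2
            (congrArg Subtype.val (mem_centralizer_singleton_iff.1 hc))⟩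
        have hzY : z' ∈ Y' := hCY' (mem_centralizer_singleton_iff.2 htz)
        have hcq : centralizer ({π t} : Set (↥M ⧸ Cfsg.oddCore ↥M)) ≤ Y'.map π := by
          rw [← hcent ot]
          exact map_mono hCY'
        have h := hQ.core_cent zq (π t) (him oz') hzL (him ot) htL (hcomm htz) _ hcq (by
          intro x hx ox hzx hxL
          by_contra hne
          obtain ⟨w, hw, ow, rfl⟩ := exists_lift_inv hodd (π := π)
            (K := Y' ⊓ centralizer ({z'} : Set ↥M)) (by
              rw [map_inf_centralizer hodd _ hzY oz']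
              exact ⟨hx, mem_centralizer_singleton_iff.2 hzx.symm⟩) ox
          refine hnf (w : G) hw.1 (by rw [orderOf_coe, ow])
            (congrArg Subtype.val (mem_centralizer_singleton_iff.1 hw.2).symm) ?_ ((hfus w ow).2 hxL)
          intro e
          exact hne (congrArg π (Subtype.ext e : w = z'))) (π ⟨y, hY hy⟩)
            ⟨⟨y, hY hy⟩, hy, rfl⟩
        have htt := Small.mul_self_of_orderOf_two ot
        have hk : (⟨y, hY hy⟩ : ↥M) * t * (⟨y, hY hy⟩ : ↥M)⁻¹ * t ∈ Cfsg.oddCore ↥M := by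
          rw [← hker, MonoidHom.mem_ker, map_mul, map_mul, map_mul, map_inv, h, mul_inv_cancel_right,
            ← map_mul, htt, map_one]
        exact ⟨_, hk, rfl⟩ }

end Minimal

end CfsgLib.GW
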