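import Cfsg.Agent.GW.TwoCount
import Cfsg.Agent.GW.KBound

/-!
# Gorenstein–Walter: two classes of involutions, the ratio

Unless the four-group centralizers in `M` have equal order (then `q = 3`), the bound on the ratio
gives `a = 3 c` and `q ∈ {3, 5, 7}`, and the order formula determines `|G : M|`: it is `35`, `7`,
`20`.  A conjugate of `M` has at least `q (q - ε) / 2` images under `M`, so only `q = 3` remains.
-/

set_option autoImplicit false
set_option linter.style.haveILetI false
set_option linter.unusedSectionVars false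

open Subgroup

namespace CfsgLib.GW

universe u

variable {G : Type u} [Group G] [Finite G]

namespace TwoClass

variable {M : Subgroup G} {z b τ : G} {A B e N : ℕ} (hT : TwoClass M z b τ A B e N)
variable (hCM : centralizer ({z} : Set G) ≤ M) (hG : Minimal G)
include hT hCM hG

theorem eight_le_sylow : ∀ S : Sylow 2 G, 4 < Nat.card (S : Subgroup G) := by
  intro S
  haveI : Fact (Nat.Prime 2) := ⟨Nat.prime_two⟩
  have h8 : 8 ∣ Nat.card G := by
    refine dvd_trans ?_ (centralizer ({z} : Set G)).card_subgroup_dvd_card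
    rw [hT.card_centralizer hCM]
    obtain ⟨k, hk⟩ := hT.four_dvd
    exact ⟨oc M z * e * k, by rw [hk]; ring⟩
  obtain ⟨k, -, hc, -⟩ := hG.card_sylow S
  have h := (Nat.Prime.pow_dvd_iff_le_factorization Nat.prime_two (Nat.card_pos.ne')).1
    (show 2 ^ 3 ∣ Nat.card G from h8)
  rw [S.card_eq_multiplicity]
  calc 4 < 2 ^ 3 := by norm_num
    _ ≤ _ := Nat.pow_le_pow_right two_pos h

/-- A dihedral setup in which `b` and the other class of reflections give the two ratios. -/
theorem exists_data : ∃ (P : Sylow 2 G) (σ : G) (h : ℕ) (_ : Inv54.DihedralBlock.Setup P σ b h),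
    σ ^ h = z ∧ Nat.card (fix z (σ * b)) = oc2 M z τ * e := by
  obtain ⟨P, σ, t, h, S, hz, rfl⟩ :=
    hG.exists_setup hT.oz hT.ob hT.ne_zb hT.comm_zb (hT.eight_le_sylow hCM hG)
  refine ⟨P, σ, h, S, hz, ?_⟩
  have h2 := S.two_le
  have hσz : σ * z = z * σ := by rw [← hz, ← pow_succ', pow_succ]
  have hσb : σ * t * (σ * t) = 1 := by
    have := S.rel
    rw [Small.inv_eq_self_of_orderOf_two S.ordτ] at this
    calc σ * t * (σ * t) = σ * (t * σ * t) := by group
      _ = 1 := by rw [this, mul_inv_cancel]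
  have hne1 : σ * t ≠ 1 := fun h' => S.notMem (by
    rw [eq_inv_of_mul_eq_one_right h']
    exact inv_mem (mem_zpowers σ))
  have ho : orderOf (σ * t) = 2 := Small.orderOf_eq_two_iff_sq.2 ⟨hne1, hσb⟩
  have hcz : z * (σ * t) = σ * t * z := by
    rw [← mul_assoc, ← hσz, mul_assoc, hT.comm_zb, ← mul_assoc]
  have hne : σ * t ≠ z := by
    intro h'
    refine S.notMem ?_
    have : t = σ⁻¹ * z := by rw [← h', inv_mul_cancel_left]
    rw [this]
    exact mul_mem (inv_mem (mem_zpowers σ)) (hz ▸ pow_mem (mem_zpowers σ) h)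
  have hσM : σ ∈ M := hCM (mem_centralizer_singleton_iff.2 hσz)
  have hxM : σ * t ∈ M := mul_mem hσM hT.bM
  -- the other class is not fused
  have hnf : ¬ Fused M z (σ * t) := by
    intro hf
    refine hT.not_fus ?_
    obtain ⟨S', hτS, -, hS'⟩ := hG.exists_sylow_ge hT.oz (V := zpowers τ)
      (IsPGroup.of_card (n := 1) (by rw [Nat.card_zpowers, hT.ot, pow_one]))
      (zpowers_le.2 (mem_centralizer_singleton_iff.2 hT.comm_zt.symm))
    obtain ⟨u, hu, p, hp, hup⟩ := hG.decomp hT.oz (S := P) (fun p hp => by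
      obtain ⟨i, rfl | rfl⟩ := S.elems p hp
      · rw [← hz, ← pow_add, add_comm, pow_add]
      · rw [mul_assoc, ← hz, ← pow_add, add_comm, pow_add, ← mul_assoc, hz, ← hT.comm_zb,
          mul_assoc]) (mem_centralizer_singleton_iff.2 hT.comm_zt.symm)
    have hpC : p ∈ centralizer ({z} : Set G) := by
      have := mul_mem (inv_mem (core_le z hu)) (mem_centralizer_singleton_iff.2 hT.comm_zt.symm :
        τ ∈ centralizer ({z} : Set G))
      rwa [hup, inv_mul_cancel_left] at this
    have hτ := Small.mul_self_of_orderOf_two hT.ot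
    -- `p` is an involution
    have hpp : p * p = 1 := by
      have h1 : p * p ∈ core z := by
        have e1 : p * p = (p * u * p⁻¹)⁻¹ * u⁻¹ * (u * p * (u * p)) * 1 := by
          group
        rw [e1, ← hup, hτ, mul_one, mul_one]
        refine mul_mem (inv_mem (core_conj hpC hu)) (inv_mem hu)
      obtain ⟨j, hj⟩ := IsPGroup.iff_orderOf.1 P.isPGroup' ⟨_, mul_mem hp hp⟩
      rw [orderOf_mk] at hj
      exact orderOf_eq_one_iff.1 (Nat.eq_one_of_dvd_coprimes
        ((Nat.coprime_two_left.2 (odd_orderOf_core h1)).pow_left j) hj.dvd dvd_rfl)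
    have hfp : Fused M z p := by
      have hpow : ∀ i, Fused M z (σ ^ i) ∨ σ ^ i * σ ^ i ≠ 1 ∨ σ ^ i = 1 := fun i => by
        by_cases h1 : σ ^ i * σ ^ i = 1
        · by_cases h2 : σ ^ i = 1
          · exact Or.inr (Or.inr h2)
          · left
            rw [S.J_unique h1 h2, hz]
            exact Fused.self M z
        · exact Or.inr (Or.inl h1)
      obtain ⟨i, hi | hi⟩ := S.elems p hp
      · rcases hpow i with h' | h' | h'
        · exact hi ▸ h'
        · exact absurd (hi ▸ hpp) h'
        · exfalso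
          have : τ = u := by rw [hup, hi, h', mul_one]
          exact (by decide : ¬ Odd 2) (hT.ot ▸ this ▸ odd_orderOf_core hu)
      · -- a reflection is conjugate to `t` or to `σ t`
        have hrel : t * σ = σ⁻¹ * t := by rw [← S.rel]; group
        have hconj : ∀ j : ℕ, σ ^ j * t * (σ ^ j)⁻¹ = σ ^ (2 * j) * t := fun j => by
          induction j with
          | zero => simp
          | succ j ih =>
            rw [pow_succ']
            calc σ * σ ^ j * t * (σ * σ ^ j)⁻¹ = σ * (σ ^ j * t * (σ ^ j)⁻¹) * σ⁻¹ := by group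
              _ = σ * σ ^ (2 * j) * (t * σ⁻¹) := by rw [ih]; group
              _ = σ * σ ^ (2 * j) * (σ * t) := by
                congr 1
                calc t * σ⁻¹ = σ * (σ⁻¹ * t) * σ⁻¹ := by group
                  _ = σ * (t * σ) * σ⁻¹ := by rw [hrel]
                  _ = σ * t := by group
              _ = σ ^ (2 * (j + 1)) * t := by
                rw [← mul_assoc, ← pow_succ', ← pow_succ, mul_add, mul_one]
        have hts : ∀ i : ℕ, t * σ ^ i = σ ^ ((2 * h - 1) * i) * t := fun i => by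
          have e1 : σ⁻¹ = σ ^ (2 * h - 1) := by
            refine inv_eq_of_mul_eq_one_left ?_
            rw [← pow_succ, show 2 * h - 1 + 1 = 2 * h by omega, ← S.ordσ, pow_orderOf_eq_one]
          induction i with
          | zero => simp
          | succ i ih =>
            rw [pow_succ, ← mul_assoc, ih, mul_assoc, hrel, e1, ← mul_assoc, ← pow_add, mul_add,
              mul_one]
        rw [hi, hts]
        set m := (2 * h - 1) * i
        rcases Nat.even_or_odd' m with ⟨j, hj | hj⟩
        · rw [hj, ← hconj]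
          exact hT.fus_b.conj (pow_mem hσM j)
        · have : σ ^ m * t = σ ^ j * (σ * t) * (σ ^ j)⁻¹ := by
            rw [show σ ^ j * (σ * t) * (σ ^ j)⁻¹ = σ ^ j * σ * (σ ^ j)⁻¹ * (σ ^ j * t * (σ ^ j)⁻¹)
              by group, hconj, ← pow_succ, pow_succ', mul_inv_cancel_right, ← mul_assoc,
              ← pow_succ', hj]
          rw [this]
          exact hf.conj (pow_mem hσM j)
    obtain ⟨w, hw, hwe⟩ := exists_conj_of_odd hτ hpp (by
      rw [hup, mul_assoc, hpp, mul_one]
      exact odd_orderOf_core hu)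
    rw [← hwe]
    refine hfp.conj (hCM ?_)
    refine zpowers_le.2 ?_ hw
    rw [hup, mul_assoc, hpp, mul_one]
    exact core_le z hu
  have h := hG.card_pair hT.oz ho hne.symm hcz
  rw [hT.pair_not_fused hxM ho hcz hne hnf, hT.card_cent_zt hCM] at h
  linarith

/-- The unequal case: `a = 3 c`, `v = 3 d`, and `q ∈ {3, 5, 7}`. -/
theorem ratio_three (hne : oc2 M z b ≠ oc2 M z τ) :
    oc M z = 3 * oc M τ ∧ oc2 M z b = 3 * oc2 M z τ ∧
      (B = 2 ∨ B = 6) ∧
      192 * Nat.card G * (oc2 M z τ * e) ^ 2 =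
        35 * Nat.card (centralizer ({z} : Set G)) ^ 3 := by
  obtain ⟨t, ht, hB⟩ := hT.half
  obtain ⟨P, σ, h, S, hz, hW2⟩ := hT.exists_data hCM hG
  have hW1 : Nat.card (fix z b) = oc2 M z b * e := hT.card_fix_b hCM hG
  have hk := hG.not_five_le (σ := σ) (τ := b) (h := h) S
  rw [hz, hW1, hW2] at hk
  have hd := hT.ct_dvd hCM hne hG hB
  have hle : oc2 M z τ ≤ oc2 M z b := hT.le_pair hCM hG
  have had := hT.ad_eq
  have hc := oc_pos M τ
  have hd0 := oc2_pos M z τ
  have he := hT.e_pos
  -- the bound transferred to `a` and `c`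
  have h5 : oc M z < 5 * oc M τ := by
    by_contra hle5
    refine hk.1 ?_
    push Not at hle5
    have : 5 * oc2 M z τ * oc M τ ≤ oc2 M z b * oc M τ := by
      rw [← had]
      calc 5 * oc2 M z τ * oc M τ = 5 * oc M τ * oc2 M z τ := by ring
        _ ≤ _ := Nat.mul_le_mul_right _ hle5
    calc 5 * (oc2 M z τ * e) = 5 * oc2 M z τ * e := by ring
      _ ≤ _ := Nat.mul_le_mul_right _ (Nat.le_of_mul_le_mul_right this hc)
  obtain ⟨m, hm⟩ := hd
  have hm5 : t * m < 5 := by
    by_contra h'
    push Not at h'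
    have := Nat.mul_le_mul_left (oc M τ) h'
    rw [← mul_assoc, ← hm] at this
    linarith
  have htm : t * m ≠ 1 := fun h' => hne (by
    rw [mul_assoc, h', mul_one] at hm
    rw [hm] at had
    exact (Nat.eq_of_mul_eq_mul_left hc (by linarith)).symm)
  have hodd : Odd (t * m) := by
    have := odd_oc M z
    rw [hm, mul_assoc] at this
    exact (Nat.odd_mul.1 this).2
  have h3 : t * m = 3 := by
    obtain ⟨j, hj⟩ := hodd
    omega
  have ha : oc M z = 3 * oc M τ := by rw [hm, mul_assoc, h3]; ring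
  have hv : oc2 M z b = 3 * oc2 M z τ := by
    rw [ha] at had
    exact Nat.eq_of_mul_eq_mul_right hc (by linarith)
  refine ⟨ha, hv, ?_, ?_⟩
  · rcases (Nat.dvd_prime Nat.prime_three).1 (Dvd.intro m h3) with h' | h'
    · exact Or.inl (by rw [hB, h'])
    · exact Or.inr (by rw [hB, h'])
  · have h' := hG.order_of_ratio_three (σ := σ) (τ := b) (h := h) S (by
      rw [hz, hW1, hW2, hv]; ring)
    rw [hz, hW1, hW2, hv] at h'
    refine Nat.eq_of_mul_eq_mul_left (show 0 < 96 * (oc2 M z τ * e) ^ 2 from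
      Nat.mul_pos (by norm_num) (pow_pos (Nat.mul_pos hd0 he) 2)) ?_
    linarith [h']

/-- The index of `M` in the unequal case. -/
theorem index_eq (hne : oc2 M z b ≠ oc2 M z τ) : M.index * (16 * N) = 105 * A ^ 3 := by
  obtain ⟨ha, hv, -, hord⟩ := hT.ratio_three hCM hG hne
  have hW := hT.wielandt_zb
  rw [hT.card_centralizer hCM, ← M.card_mul_index, hT.card_all] at hord
  rw [hv] at hW
  have hpos : 0 < oc M z ^ 3 * e ^ 3 :=
    Nat.mul_pos (pow_pos (oc_pos M z) 3) (pow_pos hT.e_pos 3)
  refine Nat.eq_of_mul_eq_mul_left (show 0 < 24 * (oc M z ^ 3 * e ^ 3) from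
    Nat.mul_pos (by norm_num) hpos) ?_
  have e1 : Nat.card (oddIn M) * (2 * e * N) * M.index * (oc2 M z τ * e) ^ 2 * 9 =
      oc M z * oc M z * oc M z * (2 * e * N) * M.index * e ^ 2 := by
    rw [← hW]; ring
  calc 24 * (oc M z ^ 3 * e ^ 3) * (M.index * (16 * N))
      = 192 * (oc M z * oc M z * oc M z * (2 * e * N) * M.index * e ^ 2) := by ring
    _ = 9 * (192 * (Nat.card (oddIn M) * (2 * e * N) * M.index) * (oc2 M z τ * e) ^ 2) := by
      rw [← e1]; ring
    _ = 9 * (35 * (oc M z * (2 * e * A)) ^ 3) := by rw [hord]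
    _ = 24 * (oc M z ^ 3 * e ^ 3) * (105 * A ^ 3) := by ring

/-- The intersection with a conjugate is small. -/
theorem relIndex_ge (hne : oc2 M z b ≠ oc2 M z τ) {h : G} (h1 : h * z * h⁻¹ = τ)
    (h2 : h * τ * h⁻¹ = z * τ) :
    N ≤ B * (M.map (MulAut.conj h).toMonoidHom).relIndex M := by
  set Y := M ⊓ M.map (MulAut.conj h).toMonoidHom with hY
  set C := M ⊓ centralizer ({τ} : Set G)
  have hle : Y ≤ C ⊔ oddIn M := fun y hy => by
    obtain ⟨w, hw, u, hu, rfl, -⟩ :=
      hT.exists_factor inf_le_left hy (hT.inter_core hCM hne h1 h2 y hy)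
    exact mul_mem (mem_sup_right hw) (mem_sup_left hu)
  have hsup := PLocal.card_sup_mul_card_inf (A := C) (B := oddIn M)
    (inf_le_left.trans (le_normalizer_oddIn M))
  have hinf : Nat.card (C ⊓ oddIn M : Subgroup G) = oc M τ := by
    rw [show C ⊓ oddIn M = oddIn M ⊓ centralizer ({τ} : Set G) from SetLike.ext fun g => by
      simp only [C, mem_inf]
      exact ⟨fun h => ⟨h.2, h.1.2⟩, fun h => ⟨⟨oddIn_le M h.1, h.2⟩, h.1⟩⟩]
    rfl
  rw [hinf, hT.card_t] at hsup
  change Nat.card (C ⊔ oddIn M : Subgroup G) * oc M τ =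
    oc M τ * (2 * e * B) * Nat.card (oddIn M) at hsup
  have hcard : Nat.card Y ≤ Nat.card (oddIn M) * (2 * e * B) := by
    refine (card_le_of_le hle).trans (le_of_eq ?_)
    exact Nat.eq_of_mul_eq_mul_right (oc_pos M τ) (by linarith)
  have hrel : Nat.card Y * (M.map (MulAut.conj h).toMonoidHom).relIndex M = Nat.card M := by
    rw [← inf_relIndex_left]
    exact PLocal.card_mul_relIndex inf_le_left
  rw [hT.card_all] at hrel
  have := Nat.mul_le_mul_right ((M.map (MulAut.conj h).toMonoidHom).relIndex M) hcard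
  rw [hrel] at this
  have hpos : 0 < Nat.card (oddIn M) * (2 * e) :=
    Nat.mul_pos (Nat.card_pos (α := oddIn M)) (Nat.mul_pos two_pos hT.e_pos)
  refine Nat.le_of_mul_le_mul_left ?_ hpos
  linarith

/-- In the unequal case `q = 3`. -/
theorem small_of_ne (hne : oc2 M z b ≠ oc2 M z τ) : B = 2 := by
  obtain ⟨-, -, hB | hB, -⟩ := hT.ratio_three hCM hG hne
  · exact hB
  exfalso
  obtain ⟨h, h1, h2⟩ := hG.exists_cycle hT.oz hT.ot hT.ne_zt hT.comm_zt
  have hhM : h ∉ M := fun hm => hT.not_fus ⟨h, hm, h1⟩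
  have hr := succ_relIndex_conj_le_index hhM
  have hN := hT.relIndex_ge hCM hG hne h1 h2
  have hD := hT.index_eq hCM hG hne
  rw [hB] at hN
  rcases hT.six hB with ⟨rfl, rfl⟩ | ⟨rfl, rfl⟩ <;> omega

end TwoClass

end CfsgLib.GW
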