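import Cfsg.Agent.GW.TwoRatio
import Cfsg.Agent.GW.NoSection
import Cfsg.Agent.BlocksCharsC.PGroupCenter

/-!
# Gorenstein–Walter: two classes of involutions, the case `q = 3`

If the four-group centralizers have equal order the odd core is generated by parts of the cores of
the three involutions of the unfused four-group, hence trivial, and the Brauer–Suzuki–Wall theorem
applies.  Otherwise the odd core is a 3-group, centralized by `z` by the fusion theorem of
Glauberman, and the normalizer of `C_O(τ)` reverses the ratio unless `|O| = 3` and `|G| = 2520`.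
-/

set_option autoImplicit false
set_option linter.style.haveILetI false
set_option linter.unusedSectionVars false

open Subgroup

namespace CfsgLib.GW

universe u

variable {G : Type u} [Group G] [Finite G]

/-- An element of prime-to-`n` order whose `n`-th power lies in a subgroup lies in it. -/
theorem mem_of_coprime_pow {K : Subgroup G} {g : G} {n : ℕ} (hn : Nat.Coprime (orderOf g) n)
    (h : g ^ n ∈ K) : g ∈ K := by
  obtain ⟨i, hi⟩ := exists_pow_eq_self_of_coprime hn.symm
  have h2 : g ∈ zpowers (g ^ n) := ⟨i, by simpa using hi⟩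
  exact zpowers_le.2 h h2

/-- An element normalizing a subgroup normalizes its centralizer. -/
theorem mem_normalizer_centralizer {O : Subgroup G} {m : G} (hm : m ∈ normalizer (O : Set G)) :
    m ∈ normalizer ((centralizer (O : Set G) : Subgroup G) : Set G) := by
  have key : ∀ n ∈ normalizer (O : Set G), ∀ c ∈ centralizer (O : Set G),
      n * c * n⁻¹ ∈ centralizer (O : Set G) := fun n hn c hc => mem_centralizer_iff.2 fun o ho => by
    have h := mem_centralizer_iff.1 hc (n⁻¹ * o * n) (by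
      simpa using (mem_normalizer_iff.1 (inv_mem hn) o).1 ho)
    calc o * (n * c * n⁻¹) = n * ((n⁻¹ * o * n) * c) * n⁻¹ := by group
      _ = n * (c * (n⁻¹ * o * n)) * n⁻¹ := by rw [h]
      _ = _ := by group
  exact mem_normalizer_iff.2 fun c => ⟨key m hm c, fun hc => by
    simpa [mul_assoc] using key m⁻¹ (inv_mem hm) _ hc⟩

theorem odd_of_mem {K : Subgroup G} (hK : Odd (Nat.card K)) {g : G} (hg : g ∈ K) :
    Odd (orderOf g) :=
  hK.of_dvd_nat (K.orderOf_dvd_natCard hg)

namespace TwoClass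

variable {M : Subgroup G} {z b τ : G} {A B e N : ℕ} (hT : TwoClass M z b τ A B e N)
variable (hB : B = 2)
include hT hB

theorem card_t_three : Nat.card (M ⊓ centralizer ({τ} : Set G) : Subgroup G) = oc M τ * 4 := by
  obtain ⟨-, -, he⟩ := hT.small hB
  rw [hT.card_t, hB, he]
  rfl

theorem card_z_three : Nat.card (M ⊓ centralizer ({z} : Set G) : Subgroup G) = oc M z * 8 := by
  obtain ⟨hA, -, he⟩ := hT.small hB
  rw [hT.card_z, hA, he]
  rfl

theorem card_all_three : Nat.card M = Nat.card (oddIn M) * 24 := by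
  obtain ⟨-, hN, he⟩ := hT.small hB
  rw [hT.card_all, hN, he]

omit hB hT in
theorem normalizer_oc (x : G) :
    M ⊓ centralizer ({x} : Set G) ≤
      normalizer ((oddIn M ⊓ centralizer ({x} : Set G) : Subgroup G) : Set G) := fun g hg => by
  have key : ∀ g ∈ M ⊓ centralizer ({x} : Set G), ∀ k ∈ oddIn M ⊓ centralizer ({x} : Set G),
      g * k * g⁻¹ ∈ oddIn M ⊓ centralizer ({x} : Set G) := fun g hg k hk =>
    mem_inf.2 ⟨(mem_normalizer_iff.1 (le_normalizer_oddIn M hg.1) k).1 hk.1,
      (centralizer ({x} : Set G)).mul_mem ((centralizer ({x} : Set G)).mul_mem hg.2 hk.2)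
        ((centralizer ({x} : Set G)).inv_mem hg.2)⟩
  exact mem_normalizer_iff.2 fun k => ⟨key g hg k, fun hk => by
    simpa [mul_assoc] using key g⁻¹ (inv_mem hg) _ hk⟩

/-- An element of odd order commuting with `z`, `τ` or `z τ` lies in the odd core. -/
theorem odd_mem {u : G} (hu : u ∈ M) (ho : Odd (orderOf u))
    (h : u * z = z * u ∨ u * τ = τ * u ∨ u * (z * τ) = z * τ * u) : u ∈ oddIn M := by
  have hle : ∀ x : G, oddIn M ⊓ centralizer ({x} : Set G) ≤ M ⊓ centralizer ({x} : Set G) :=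
    fun x => inf_le_inf_right _ (oddIn_le M)
  rcases h with h | h | h
  · exact (odd_mem_of_card (hle z) (normalizer_oc z) (j := 3) (hT.card_z_three hB)
      (mem_inf.2 ⟨hu, mem_centralizer_singleton_iff.2 h⟩) ho).1
  · exact (odd_mem_of_card (hle τ) (normalizer_oc τ) (j := 2) (hT.card_t_three hB)
      (mem_inf.2 ⟨hu, mem_centralizer_singleton_iff.2 h⟩) ho).1
  · obtain ⟨m, hm, e⟩ := hT.fus_zt
    have h2 : m⁻¹ * u * m ∈ oddIn M := by
      refine (odd_mem_of_card (hle τ) (normalizer_oc τ) (j := 2) (hT.card_t_three hB)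
        (mem_inf.2 ⟨mul_mem (mul_mem (inv_mem hm) hu) hm, mem_centralizer_singleton_iff.2 ?_⟩)
        ?_).1
      · calc m⁻¹ * u * m * τ = m⁻¹ * (u * (m * τ * m⁻¹)) * m := by group
          _ = m⁻¹ * (m * τ * m⁻¹ * u) * m := by rw [e, h]
          _ = τ * (m⁻¹ * u * m) := by group
      · have e1 := Small.orderOf_conj_eq m⁻¹ u
        rw [inv_inv] at e1
        rwa [e1]
    have := (mem_normalizer_iff.1 (le_normalizer_oddIn M hm) _).1 h2
    rwa [show m * (m⁻¹ * u * m) * m⁻¹ = u by group] at this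

/-- An odd subgroup of `M` normalised by `z` and `τ` lies in the odd core. -/
theorem odd_sub {K : Subgroup G} (hK : K ≤ M) (hodd : Odd (Nat.card K))
    (hzK : z ∈ normalizer (K : Set G)) (htK : τ ∈ normalizer (K : Set G)) : K ≤ oddIn M := by
  set K' := K ⊓ oddIn M
  have hzK' : z ∈ normalizer (K' : Set G) :=
    inf_normalizer_le_normalizer_inf ⟨hzK, le_normalizer_oddIn M hT.zM⟩
  have htK' : τ ∈ normalizer (K' : Set G) :=
    inf_normalizer_le_normalizer_inf ⟨htK, le_normalizer_oddIn M hT.tM⟩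
  have heq : ∀ x, (x = z ∨ x = τ ∨ x = z * τ) →
      K ⊓ centralizer ({x} : Set G) = K' ⊓ centralizer ({x} : Set G) := by
    intro x hx
    refine le_antisymm (fun u hu => mem_inf.2 ⟨mem_inf.2 ⟨hu.1, ?_⟩, hu.2⟩)
      (inf_le_inf_right _ inf_le_left)
    have hc := mem_centralizer_singleton_iff.1 hu.2
    refine hT.odd_mem hB (hK hu.1) (odd_of_mem hodd hu.1) ?_
    rcases hx with rfl | rfl | rfl
    exacts [Or.inl hc, Or.inr (Or.inl hc), Or.inr (Or.inr hc)]
  have h1 := FourFixed.card_mul_centralizer_sq hodd (Small.mul_self_of_orderOf_two hT.oz)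
    (Small.mul_self_of_orderOf_two hT.ot) hT.comm_zt hzK htK
  have h2 := FourFixed.card_mul_centralizer_sq (O := K')
    (hodd.of_dvd_nat (card_dvd_of_le inf_le_left)) (Small.mul_self_of_orderOf_two hT.oz)
    (Small.mul_self_of_orderOf_two hT.ot) hT.comm_zt hzK' htK'
  rw [← heq z (Or.inl rfl), ← heq τ (Or.inr (Or.inl rfl)), ← heq _ (Or.inr (Or.inr rfl))] at h2
  rw [← h2] at h1
  have hcard := Nat.eq_of_mul_eq_mul_right (pow_pos Nat.card_pos 2) h1
  have : K' = K := eq_of_le_of_card_ge inf_le_left hcard.le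
  exact this ▸ inf_le_right

variable (hCM : centralizer ({z} : Set G) ≤ M) (hG : Minimal G)
include hCM hG

/-- The core of `z` is the centralizer of `z` in the odd core. -/
theorem core_z : core z = oddIn M ⊓ centralizer ({z} : Set G) := by
  refine le_antisymm (fun u hu => mem_inf.2 ⟨?_, core_le z hu⟩) fun u hu =>
    hG.mem_core hT.oz hu.2 (odd_of_mem (odd_oddIn M) hu.1)
  exact hT.odd_mem hB (hCM (core_le z hu)) (odd_orderOf_core hu)
    (Or.inl (commute_of_mem_core hu))

/-- Equal four-group centralizers are impossible. -/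
theorem false_of_eq (hM : IsCoatom M) (heq : oc2 M z b = oc2 M z τ) : False := by
  haveI := hG.simple
  obtain ⟨hac, -⟩ := hT.two_of_eq hCM hG heq
  obtain ⟨h, h1, h2⟩ := hG.exists_cycle hT.oz hT.ot hT.ne_zt hT.comm_zt
  have h3 : h * (z * τ) * h⁻¹ = z := by
    rw [show h * (z * τ) * h⁻¹ = (h * z * h⁻¹) * (h * τ * h⁻¹) by group, h1, h2, hT.comm_zt,
      ← mul_assoc, Small.mul_self_of_orderOf_two hT.ot, one_mul]
  have hzt2 := orderOf_mul_two hT.oz hT.ot hT.comm_zt hT.ne_zt
  set O := oddIn M with hO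
  have hmap : ∀ x y : G, orderOf x = 2 → h * x * h⁻¹ = y →
      (core x).map (MulAut.conj h).toMonoidHom = core y := by
    intro x y hx hxy
    refine le_antisymm ?_ fun k hk => ⟨h⁻¹ * k * h, ?_, ?_⟩
    · rintro _ ⟨k, hk, rfl⟩
      simpa [hxy] using hG.conj_core (g := h) hx hk
    · have := hG.conj_core (g := h⁻¹) (z := y) (by rw [← hxy, Small.orderOf_conj_eq, hx]) hk
      rw [inv_inv, ← hxy, show h⁻¹ * (h * x * h⁻¹) * h = x by group] at this
      exact this
    · simp [mul_assoc]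
  have hcz : core z = O ⊓ centralizer ({z} : Set G) := hT.core_z hB hCM hG
  have hcard : Nat.card (core τ) = oc M z := by
    rw [← hmap z τ hT.oz h1, card_map_conj, hcz]
    rfl
  have hcard' : Nat.card (core (z * τ)) = oc M z := by
    rw [← hmap τ _ hT.ot h2, card_map_conj, hcard]
  have hle : ∀ x, orderOf x = 2 → O ⊓ centralizer ({x} : Set G) ≤ core x := fun x hx u hu =>
    hG.mem_core hx hu.2 (odd_of_mem (odd_oddIn M) hu.1)
  have hct : core τ = O ⊓ centralizer ({τ} : Set G) :=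
    (eq_of_le_of_card_ge (hle τ hT.ot) (by rw [hcard, hac]; rfl)).symm
  have hczt : core (z * τ) = O ⊓ centralizer ({z * τ} : Set G) :=
    (eq_of_le_of_card_ge (hle _ hzt2) (by rw [hcard', hac, ← hT.oc_zt]; rfl)).symm
  -- the three cores generate
  set R := core z ⊔ core τ ⊔ core (z * τ) with hR
  have hRO : R ≤ O := by
    rw [hR, hcz, hct, hczt]
    exact sup_le (sup_le inf_le_left inf_le_left) inf_le_left
  have hnorm : ∀ v : G, v * z = z * v → v * τ = τ * v → v ∈ normalizer (R : Set G) := by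
    intro v hvz hvt
    have hvzt : v * (z * τ) = z * τ * v := by rw [← mul_assoc, hvz, mul_assoc, hvt, mul_assoc]
    have hn : ∀ x : G, v * x = x * v → v ∈ normalizer (core x : Set G) := fun x hx =>
      centralizer_le_normalizer_core x (mem_centralizer_singleton_iff.2 hx)
    refine mem_normalizer_iff_map_conj_eq.2 ?_
    show R.map (MulAut.conj v).toMonoidHom = R
    rw [hR, Subgroup.map_sup, Subgroup.map_sup, map_conj_of_mem (hn z hvz),
      map_conj_of_mem (hn τ hvt), map_conj_of_mem (hn _ hvzt)]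
  have hzR : z ∈ normalizer (R : Set G) := hnorm z rfl hT.comm_zt
  have htR : τ ∈ normalizer (R : Set G) := hnorm τ hT.comm_zt.symm rfl
  have hRO' : R = O := by
    have e : ∀ x, core x ≤ R → core x = O ⊓ centralizer ({x} : Set G) →
        R ⊓ centralizer ({x} : Set G) = O ⊓ centralizer ({x} : Set G) := fun x hx he =>
      le_antisymm (inf_le_inf_right _ hRO) (le_inf (he ▸ hx) inf_le_right)
    have h1' := FourFixed.card_mul_centralizer_sq (odd_oddIn M)
      (Small.mul_self_of_orderOf_two hT.oz) (Small.mul_self_of_orderOf_two hT.ot) hT.comm_zt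
      (le_normalizer_oddIn M hT.zM) (le_normalizer_oddIn M hT.tM)
    have h2' := FourFixed.card_mul_centralizer_sq (O := R)
      ((odd_oddIn M).of_dvd_nat (card_dvd_of_le hRO)) (Small.mul_self_of_orderOf_two hT.oz)
      (Small.mul_self_of_orderOf_two hT.ot) hT.comm_zt hzR htR
    rw [e z (le_sup_left.trans le_sup_left) hcz, e τ (le_sup_right.trans le_sup_left) hct,
      e _ le_sup_right hczt] at h2'
    change Nat.card O * _ = _ at h1'
    rw [← h2'] at h1'
    exact eq_of_le_of_card_ge hRO (Nat.eq_of_mul_eq_mul_right (pow_pos Nat.card_pos 2) h1').le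
  -- it is normalised by `h`, hence normal
  have hhO : h ∈ normalizer (O : Set G) := by
    rw [← hRO']
    refine mem_normalizer_iff_map_conj_eq.2 ?_
    show R.map (MulAut.conj h).toMonoidHom = R
    rw [hR, Subgroup.map_sup, Subgroup.map_sup, hmap z τ hT.oz h1, hmap τ _ hT.ot h2,
      hmap _ z hzt2 h3]
    rw [sup_comm, sup_assoc]
  have htop : normalizer (O : Set G) = ⊤ := by
    refine hM.2 _ (lt_of_le_of_ne (le_normalizer_oddIn M) fun e => ?_)
    exact hT.not_fus ⟨h, e ▸ hhO, h1⟩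
  have hbot : O = ⊥ := by
    rcases (normalizer_eq_top_iff.1 htop).eq_bot_or_eq_top with hb | ht
    · exact hb
    · exact absurd (top_le_iff.1 (ht ▸ oddIn_le M)) hM.1
  have hcore : core z = ⊥ := by rw [hcz, hbot, bot_inf_eq]
  obtain ⟨S, hzS, hS⟩ := hG.exists_sylow hT.oz
  refine hG.false_of_bsw hT.oz S hzS hS (fun h' => absurd hcore h') (fun s _ hs => ?_)
    fun Y hY hY1 => absurd (le_bot_iff.1 (hcore ▸ hY)) hY1
  exact absurd (mem_centralizer_iff.2 fun y hy => by
    rw [mem_bot.1 (hcore ▸ hy : y ∈ (⊥ : Subgroup G))]; simp) hs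

/-- The data of the unequal case: `|G : M| = 35` and the odd core is a 3-group with a subgroup
`C_O(τ)` whose order is a third of that of `C_O(z)`. -/
theorem three_group (hM : IsCoatom M) (hne : oc2 M z b ≠ oc2 M z τ) :
    M.index = 35 ∧ IsPGroup 3 (oddIn M) := by
  haveI := hG.simple
  haveI : Fact (Nat.Prime 3) := ⟨Nat.prime_three⟩
  obtain ⟨hA, hN, he⟩ := hT.small hB
  have hD : M.index = 35 := by
    have := hT.index_eq hCM hG hne
    rw [hA, hN] at this
    omega
  refine ⟨hD, ?_⟩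
  obtain ⟨ha, -, -, -⟩ := hT.ratio_three hCM hG hne
  obtain ⟨h, h1, h2⟩ := hG.exists_cycle hT.oz hT.ot hT.ne_zt hT.comm_zt
  have h3 : h * (z * τ) * h⁻¹ = z := by
    rw [show h * (z * τ) * h⁻¹ = (h * z * h⁻¹) * (h * τ * h⁻¹) by group, h1, h2, hT.comm_zt,
      ← mul_assoc, Small.mul_self_of_orderOf_two hT.ot, one_mul]
  have hhM : h ∉ M := fun hm => hT.not_fus ⟨h, hm, h1⟩
  set O := oddIn M
  set Mh := M.map (MulAut.conj h).toMonoidHom with hMh
  set O' := O.map (MulAut.conj h).toMonoidHom with hO'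
  set J := O ⊓ Mh with hJ
  set Y := M ⊓ Mh with hY
  set C1 := M ⊓ centralizer ({τ} : Set G) with hC1
  have hCt : centralizer ({τ} : Set G) ≤ Mh := by
    rw [← h1, ← map_conj_centralizer]
    exact map_mono hCM
  have hztMh : z ∈ Mh := ⟨z * τ, mul_mem hT.zM hT.tM, h3⟩
  have htMh : τ ∈ Mh := ⟨z, hT.zM, h1⟩
  have hYJ : Y ≤ normalizer (J : Set G) := fun y hy =>
    inf_normalizer_le_normalizer_inf ⟨le_normalizer_oddIn M hy.1, le_normalizer hy.2⟩
  have hC1Y : C1 ≤ Y := le_inf inf_le_left (inf_le_right.trans hCt)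
  have hC1J : C1 ⊔ J = Y := by
    refine le_antisymm (sup_le hC1Y (le_inf (inf_le_left.trans (oddIn_le M)) inf_le_right))
      fun y hy => ?_
    obtain ⟨w, hw, u, hu, rfl, -⟩ :=
      hT.exists_factor inf_le_left hy (hT.inter_core hCM hne h1 h2 y hy)
    have hwJ : w ∈ J := by
      refine mem_inf.2 ⟨hw, ?_⟩
      have := Mh.mul_mem hy.2 (Mh.inv_mem (hC1Y hu).2)
      rwa [mul_inv_cancel_right] at this
    exact mul_mem (mem_sup_right hwJ) (mem_sup_left hu)
  have hJt : J ⊓ centralizer ({τ} : Set G) = O ⊓ centralizer ({τ} : Set G) :=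
    le_antisymm (inf_le_inf_right _ inf_le_left)
      (le_inf (le_inf inf_le_left (inf_le_right.trans hCt)) inf_le_right)
  have hYcard : Nat.card Y = 4 * Nat.card J := by
    have hsup := PLocal.card_sup_mul_card_inf (A := C1) (B := J) (hC1Y.trans hYJ)
    rw [hC1J, show C1 ⊓ J = O ⊓ centralizer ({τ} : Set G) from by
      rw [← hJt]
      exact SetLike.ext fun g => by
        simp only [hC1, hJ, mem_inf]
        exact ⟨fun h => ⟨h.2, h.1.2⟩, fun h => ⟨⟨oddIn_le M h.1.1, h.2⟩, h.1⟩⟩,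
      hC1, hT.card_t_three hB] at hsup
    change Nat.card Y * oc M τ = oc M τ * 4 * Nat.card J at hsup
    exact Nat.eq_of_mul_eq_mul_right (oc_pos M τ) (by linarith)
  -- `|O : J| ≤ 5`
  have hrel : Nat.card Y * Mh.relIndex M = Nat.card M := by
    rw [← inf_relIndex_left]
    exact PLocal.card_mul_relIndex inf_le_left
  have hι : Nat.card J * J.relIndex O = Nat.card O := PLocal.card_mul_relIndex inf_le_left
  set ι := J.relIndex O
  have hrel6 : Mh.relIndex M = 6 * ι := by
    rw [hYcard, hT.card_all_three hB, ← hι] at hrel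
    refine Nat.eq_of_mul_eq_mul_left (Nat.mul_pos four_pos (Nat.card_pos (α := J))) ?_
    linarith
  have hι5 : ι ≤ 5 := by
    have := succ_relIndex_conj_le_index hhM
    rw [← hMh, hrel6, hD] at this
    omega
  -- the fixed points on `J`
  have hJz : Nat.card (J ⊓ centralizer ({z} : Set G) : Subgroup G) = oc M τ := by
    set C2 := centralizer ({z} : Set G) ⊓ centralizer ({τ} : Set G)
    set K := J ⊓ centralizer ({z} : Set G)
    have hC2Y : C2 ≤ Y := le_inf (inf_le_left.trans hCM) (inf_le_right.trans hCt)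
    have hn : C2 ≤ normalizer (K : Set G) := fun g hg =>
      inf_normalizer_le_normalizer_inf ⟨hYJ (hC2Y hg), le_normalizer hg.1⟩
    have hH : C2 ⊔ K = centralizer ({z} : Set G) ⊓ Mh := by
      refine le_antisymm (sup_le (le_inf inf_le_left (hC2Y.trans inf_le_right))
        (le_inf inf_le_right (inf_le_left.trans inf_le_right))) fun y hy => ?_
      have hyY : y ∈ Y := mem_inf.2 ⟨hCM hy.1, hy.2⟩
      obtain ⟨w, hw, u, hu, rfl, hwu⟩ :=
        hT.exists_factor inf_le_left hyY (hT.inter_core hCM hne h1 h2 y hyY)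
      obtain ⟨hwz, huz⟩ := hwu (mem_centralizer_singleton_iff.1 hy.1)
      refine mul_mem (mem_sup_right (mem_inf.2 ⟨mem_inf.2 ⟨hw, ?_⟩,
        mem_centralizer_singleton_iff.2 hwz⟩))
        (mem_sup_left (mem_inf.2 ⟨mem_centralizer_singleton_iff.2 huz, hu.2⟩))
      have := Mh.mul_mem hy.2 (Mh.inv_mem (hCt hu.2))
      rwa [mul_inv_cancel_right] at this
    have hsup := PLocal.card_sup_mul_card_inf hn
    rw [hH, hT.card_inter h1 h2, hT.card_cent_zt hCM, hB, he,
      show C2 ⊓ K = O ⊓ centralizer ({z} : Set G) ⊓ centralizer ({τ} : Set G) from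
        SetLike.ext fun g => by
          simp only [C2, K, hJ, mem_inf]
          exact ⟨fun h => ⟨⟨h.2.1.1, h.1.1⟩, h.1.2⟩,
            fun h => ⟨⟨h.1.2, h.2⟩, ⟨h.1.1, hCt h.2⟩, h.1.2⟩⟩] at hsup
    change oc M τ * (2 * 1 * 2) * oc2 M z τ = oc2 M z τ * (4 * 1) * Nat.card K at hsup
    exact (Nat.eq_of_mul_eq_mul_left (Nat.mul_pos four_pos (oc2_pos M z τ)) (by linarith)).symm
  set cj := Nat.card (J ⊓ centralizer ({z * τ} : Set G) : Subgroup G)
  have hJodd : Odd (Nat.card J) := (odd_oddIn M).of_dvd_nat (card_dvd_of_le inf_le_left)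
  have hzJ : z ∈ normalizer (J : Set G) := hYJ (mem_inf.2 ⟨hT.zM, hztMh⟩)
  have htJ : τ ∈ normalizer (J : Set G) := hYJ (mem_inf.2 ⟨hT.tM, htMh⟩)
  have hJW := FourFixed.card_mul_centralizer_sq hJodd (Small.mul_self_of_orderOf_two hT.oz)
    (Small.mul_self_of_orderOf_two hT.ot) hT.comm_zt hzJ htJ
  rw [show J ⊓ centralizer ({z} : Set G) ⊓ centralizer ({τ} : Set G) =
      O ⊓ centralizer ({z} : Set G) ⊓ centralizer ({τ} : Set G) from le_antisymm
    (inf_le_inf_right _ (inf_le_inf_right _ inf_le_left))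
    (le_inf (le_inf (le_inf (inf_le_left.trans inf_le_left) (inf_le_right.trans hCt))
      (inf_le_left.trans inf_le_right)) inf_le_right), hJz, hJt] at hJW
  change Nat.card J * oc2 M z τ ^ 2 = oc M τ * oc M τ * cj at hJW
  have hι3 : ι = 3 := by
    have hW := hT.wielandt_zt
    change Nat.card O * _ = _ at hW
    rw [← hι, ha] at hW
    -- `ι c' = 3 c` and `c'` divides `c`
    have e : ι * cj = 3 * oc M τ := by
      refine Nat.eq_of_mul_eq_mul_left
        (Nat.mul_pos (oc_pos M τ) (oc_pos M τ)) ?_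
      calc oc M τ * oc M τ * (ι * cj) = ι * (oc M τ * oc M τ * cj) := by ring
        _ = ι * (Nat.card J * oc2 M z τ ^ 2) := by rw [hJW]
        _ = Nat.card J * ι * oc2 M z τ ^ 2 := by ring
        _ = 3 * oc M τ * oc M τ * oc M τ := hW
        _ = _ := by ring
    obtain ⟨j, hj⟩ : cj ∣ oc M τ := by
      rw [← hT.oc_zt]
      exact card_dvd_of_le (inf_le_inf_right _ inf_le_left)
    have hι' : ι = 3 * j := by
      rw [hj] at e
      refine Nat.eq_of_mul_eq_mul_left (Nat.card_pos : 0 < cj) ?_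
      linarith
    have hjpos : 0 < j := Nat.pos_of_ne_zero fun h0 => by
      rw [h0, mul_zero] at hj
      exact (oc_pos M τ).ne' hj
    omega
  rw [hι3] at hι
  -- `J` lies in the odd core of the conjugate
  have hJO' : J ≤ O' := by
    have hle : J.map (MulAut.conj h⁻¹).toMonoidHom ≤ O := by
      refine hT.odd_sub hB ?_ (by rwa [card_map_conj]) ?_ ?_
      · rintro _ ⟨j, hj, rfl⟩
        obtain ⟨m, hm, rfl⟩ := hj.2
        simp only [MulEquiv.coe_toMonoidHom, MulAut.conj_apply]
        rwa [show h⁻¹ * (h * m * h⁻¹) * h⁻¹⁻¹ = m by group]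
      · -- `z` is the conjugate of `τ`
        have hz' : h⁻¹ * τ * h⁻¹⁻¹ = z := by rw [← h1]; group
        rw [← hz']
        refine mem_normalizer_iff_map_conj_eq.2 ?_
        show (J.map _).map (MulAut.conj (h⁻¹ * τ * h⁻¹⁻¹)).toMonoidHom = _
        conv_rhs => rw [← map_conj_of_mem htJ]
        rw [map_map, map_map]
        refine congrArg (fun f => J.map f) (MonoidHom.ext fun x => ?_)
        simp [mul_assoc]
      · have ht' : h⁻¹ * (z * τ) * h⁻¹⁻¹ = τ := by rw [← h2]; group
        rw [← ht']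
        refine mem_normalizer_iff_map_conj_eq.2 ?_
        show (J.map _).map (MulAut.conj (h⁻¹ * (z * τ) * h⁻¹⁻¹)).toMonoidHom = _
        conv_rhs => rw [← map_conj_of_mem (mul_mem hzJ htJ)]
        rw [map_map, map_map]
        refine congrArg (fun f => J.map f) (MonoidHom.ext fun x => ?_)
        simp [mul_assoc]
    intro j hj
    exact ⟨h⁻¹ * j * h, hle ⟨j, hj, by simp⟩, by simp [mul_assoc]⟩
  -- elements of order prime to three
  have hmem : ∀ K : Subgroup G, J ≤ K → Nat.card J * 3 = Nat.card K → ∀ y ∈ K,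
      ¬ 3 ∣ orderOf y → y ∈ J := by
    intro K hJK hK y hy h3y
    have hidx : (J.subgroupOf K).index = 3 := by
      have := PLocal.card_mul_relIndex hJK
      rw [← hK] at this
      exact Nat.eq_of_mul_eq_mul_left (Nat.card_pos (α := J)) this
    have hKodd : Odd (Nat.card K) := hK ▸ (odd_oddIn M).of_dvd_nat (dvd_of_eq hι)
    haveI : (J.subgroupOf K).Normal := normal_of_index_eq_minFac_card (by
      rw [hidx]
      have hne1 : Nat.card K ≠ 1 := by
        have := Nat.card_pos (α := J)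
        omega
      have h3le : 3 ≤ (Nat.card K).minFac := by
        have h2 := (Nat.minFac_prime hne1).two_le
        have : (Nat.card K).minFac ≠ 2 := fun h =>
          hKodd.not_two_dvd_nat (h ▸ Nat.minFac_dvd _)
        omega
      have := Nat.minFac_le_of_dvd (show 2 ≤ 3 by norm_num)
        (⟨Nat.card J, by rw [mul_comm]; exact hK.symm⟩ : 3 ∣ Nat.card K)
      omega)
    have hp := (J.subgroupOf K).pow_index_mem ⟨y, hy⟩
    rw [hidx, mem_subgroupOf] at hp
    exact mem_of_coprime_pow ((Nat.Prime.coprime_iff_not_dvd Nat.prime_three).2 h3y).symm hp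
  have hJO : J ≤ O := inf_le_left
  have hO'card : Nat.card J * 3 = Nat.card O' := by rw [hO', card_map_conj]; exact hι
  set T : Set G := {y | y ∈ O ∧ ¬ 3 ∣ orderOf y}
  have hT' : T = {y | y ∈ O' ∧ ¬ 3 ∣ orderOf y} := Set.ext fun y =>
    ⟨fun hy => ⟨hJO' (hmem O hJO hι y hy.1 hy.2), hy.2⟩,
      fun hy => ⟨hJO (hmem O' hJO' hO'card y hy.1 hy.2), hy.2⟩⟩
  set E := closure T
  have hEM : ∀ m ∈ M, E.map (MulAut.conj m).toMonoidHom ≤ E := fun m hm => by
    rw [MonoidHom.map_closure, closure_le]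
    rintro _ ⟨y, hy, rfl⟩
    exact subset_closure ⟨(mem_normalizer_iff.1 (le_normalizer_oddIn M hm) y).1 hy.1, by
      rw [MulEquiv.coe_toMonoidHom, MulAut.conj_apply, Small.orderOf_conj_eq]; exact hy.2⟩
  have hEh : E.map (MulAut.conj h).toMonoidHom ≤ E := by
    rw [MonoidHom.map_closure, closure_le]
    rintro _ ⟨y, hy, rfl⟩
    refine subset_closure (hT' ▸ ⟨⟨y, hy.1, rfl⟩, ?_⟩)
    rw [MulEquiv.coe_toMonoidHom, MulAut.conj_apply, Small.orderOf_conj_eq]
    exact hy.2
  have hnorm : ∀ g : G, E.map (MulAut.conj g).toMonoidHom ≤ E → g ∈ normalizer (E : Set G) :=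
    fun g hg => mem_normalizer_iff_map_conj_eq.2
      (eq_of_le_of_card_ge hg (card_map_conj g E).ge)
  have htop : normalizer (E : Set G) = ⊤ := by
    refine hM.2 _ (lt_of_le_of_ne (fun m hm => hnorm m (hEM m hm)) fun e => ?_)
    exact hhM (e ▸ hnorm h hEh)
  have hEO : E ≤ O := (closure_le _).2 fun y hy => hy.1
  have hE : E = ⊥ := by
    rcases (normalizer_eq_top_iff.1 htop).eq_bot_or_eq_top with hb | ht
    · exact hb
    · exact absurd (top_le_iff.1 (ht ▸ hEO.trans (oddIn_le M))) hM.1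
  intro y
  obtain ⟨k, m, hm, hk⟩ := Nat.exists_eq_pow_mul_and_not_dvd (orderOf_pos (y : G)).ne' 3 (by norm_num)
  refine ⟨k, Subtype.ext ?_⟩
  have : (y : G) ^ 3 ^ k ∈ E := subset_closure ⟨pow_mem y.2 _, by
    rw [orderOf_pow, hk, Nat.gcd_eq_right (dvd_mul_right _ _), Nat.mul_div_cancel_left _
      (pow_pos three_pos k)]
    exact hm⟩
  rw [hE, mem_bot] at this
  simpa using this

/-- `z` centralizes the odd core in the unequal case. -/
theorem le_centralizer (hM : IsCoatom M) (hne : oc2 M z b ≠ oc2 M z τ) :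
    oddIn M ≤ centralizer ({z} : Set G) := by
  by_contra hz
  haveI := hG.simple
  haveI : Fact (Nat.Prime 3) := ⟨Nat.prime_three⟩
  obtain ⟨hD, hO3⟩ := hT.three_group hB hCM hG hM hne
  obtain ⟨ha, -, -, -⟩ := hT.ratio_three hCM hG hne
  obtain ⟨hA, hN, he⟩ := hT.small hB
  set O := oddIn M with hO
  set K := M ⊓ centralizer (O : Set G) with hK
  -- `K` has odd order
  have hKn : M ≤ normalizer (K : Set G) := fun m hm =>
    inf_normalizer_le_normalizer_inf ⟨le_normalizer hm,
      mem_normalizer_centralizer (le_normalizer_oddIn M hm)⟩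
  have hKodd : Odd (Nat.card K) := by
    rw [← Nat.not_even_iff_odd, even_iff_two_dvd]
    intro hev
    haveI : Fact (Nat.Prime 2) := ⟨Nat.prime_two⟩
    obtain ⟨S, hzS, hS⟩ := hG.exists_sylow hT.oz
    have hSM : (S : Subgroup G) ≤ M := (hG.sylow_le hS).trans hCM
    obtain ⟨x, hx⟩ := exists_prime_orderOf_dvd_card' (G := K) 2 hev
    rw [← orderOf_coe] at hx
    -- conjugate into `S`
    obtain ⟨Q, hQ⟩ := (IsPGroup.of_card (n := 1) (by
      rw [Nat.card_zpowers, ← hx, ← orderOf_coe, pow_one]) :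
        IsPGroup 2 (zpowers (⟨(x : G), x.2.1⟩ : M))).exists_le_sylow
    obtain ⟨m, hm⟩ := MulAction.exists_smul_eq M Q (S.subtype hSM)
    have hxS : (m : G) * x * (m : G)⁻¹ ∈ (S : Subgroup G) := by
      have : (m * ⟨(x : G), x.2.1⟩ * m⁻¹ : M) ∈ ((S.subtype hSM : Sylow 2 M) : Subgroup M) := by
        rw [← hm]
        exact ⟨⟨(x : G), x.2.1⟩, hQ (mem_zpowers _), rfl⟩
      exact this
    have hxK : (m : G) * x * (m : G)⁻¹ ∈ K := (mem_normalizer_iff.1 (hKn m.2) _).1 x.2
    -- a central involution of `S` in `K`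
    set KS := K.subgroupOf (S : Subgroup G)
    haveI : KS.Normal := normal_subgroupOf_of_le_normalizer (hSM.trans hKn)
    haveI : Nontrivial KS := by
      refine (nontrivial_iff_ne_bot KS).2 fun hb => ?_
      have : (⟨_, hxS⟩ : (S : Subgroup G)) ∈ KS := mem_subgroupOf.2 hxK
      rw [hb, mem_bot] at this
      exact Small.ne_one_of_orderOf_two (by rw [Small.orderOf_conj_eq]; exact hx)
        (congrArg Subtype.val this)
    obtain ⟨w, hwK, hw1, hwc⟩ : ∃ w : (S : Subgroup G), w ∈ KS ∧ w ≠ 1 ∧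
        w ∈ center (S : Subgroup G) := by
      have := BlocksCharsC.inf_center_ne_bot S.isPGroup' KS
      obtain ⟨w, hw, hw1⟩ := (bot_or_exists_ne_one _).resolve_left this
      exact ⟨w, hw.1, hw1, hw.2⟩
    obtain ⟨i, hi⟩ := IsPGroup.iff_orderOf.1 S.isPGroup' w
    have hi0 : i ≠ 0 := fun h0 => hw1 (orderOf_eq_one_iff.1 (by rw [hi, h0, pow_zero]))
    set c := w ^ 2 ^ (i - 1) with hc
    have hc2 : orderOf (c : G) = 2 := by
      rw [orderOf_coe, hc, orderOf_pow, hi, Nat.gcd_eq_right (pow_dvd_pow 2 (by omega)),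
        Nat.pow_div (by omega) two_pos, show i - (i - 1) = 1 by omega, pow_one]
    have hcK : (c : G) ∈ K := mem_subgroupOf.1 (pow_mem hwK _)
    have hcc : ∀ s ∈ (S : Subgroup G), s * c = c * s := fun s hs =>
      congrArg Subtype.val (mem_center_iff.1 (pow_mem hwc (2 ^ (i - 1))) ⟨s, hs⟩)
    by_cases hcz : (c : G) = z
    · refine hz fun o ho => mem_centralizer_singleton_iff.2 ?_
      exact mem_centralizer_iff.1 (hcz ▸ hcK.2) o ho
    -- otherwise `S` centralizes a four-group
    have hzc : z * (c : G) = c * z := hcc z hzS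
    have hSle : (S : Subgroup G) ≤
        centralizer ({z} : Set G) ⊓ centralizer ({(c : G)} : Set G) :=
      le_inf (hG.sylow_le hS) fun s hs => mem_centralizer_singleton_iff.2 (hcc s hs)
    obtain ⟨k, -, hk, -⟩ := hG.card_sylow S
    have h8 := hT.eight_le_sylow hCM hG S
    have hdvd := card_dvd_of_le hSle
    rw [hk] at h8 hdvd
    have hk3 : 3 ≤ k := by
      by_contra hlt
      have := Nat.pow_le_pow_right (show 1 ≤ 2 by omega) (show k ≤ 2 by omega)
      omega
    have hpair : Nat.card (centralizer ({z} : Set G) ⊓ centralizer ({(c : G)} : Set G) :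
        Subgroup G) = 4 * Nat.card (fix z (c : G)) :=
      hG.card_pair hT.oz hc2 (Ne.symm hcz) hzc
    rw [hpair] at hdvd
    have h2 : 2 ∣ Nat.card (fix z (c : G)) := by
      refine Nat.dvd_of_mul_dvd_mul_left four_pos ?_
      exact (pow_dvd_pow 2 hk3).trans hdvd
    exact (odd_fix z (c : G)).not_two_dvd_nat h2
  have hKO : K ≤ O := le_oddIn inf_le_left hKn hKodd
  -- Glauberman
  set O₀ := Cfsg.oddCore M
  have hO₀3 : IsPGroup 3 O₀ := hO3.of_equiv
    (O₀.equivMapOfInjective M.subtype M.subtype_injective).symm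
  have hO₀le : O₀ ≤ Cfsg.pCore 3 M := PLocal.le_pCore hO₀3
  have hc : centralizer (Cfsg.pCore 3 M : Set M) ≤ Cfsg.pCore 3 M := by
    intro x hx
    refine hO₀le ?_
    have hxK : (x : G) ∈ K := mem_inf.2 ⟨x.2, mem_centralizer_iff.2 fun o ho => by
      obtain ⟨o', ho', rfl⟩ := ho
      exact congrArg Subtype.val (mem_centralizer_iff.1 hx o' (hO₀le ho'))⟩
    obtain ⟨x', hx', e⟩ := hKO hxK
    rwa [← Subtype.ext e]
  obtain ⟨P₀⟩ : Nonempty (Sylow 3 M) := inferInstance
  set P := (P₀ : Subgroup M).map M.subtype with hP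
  have hP3 : IsPGroup 3 P := P₀.isPGroup'.map _
  have hPidx : ¬ 3 ∣ P.index := by
    rw [hP, index_map_subtype]
    intro h3
    rcases (Nat.Prime.dvd_mul Nat.prime_three).1 h3 with h | h
    · exact P₀.not_dvd_index h
    · rw [hD] at h; norm_num at h
  set PG : Sylow 3 G := hP3.toSylow hPidx
  -- `N(ZJ(P)) = M`
  have hOP : O ≤ P := map_mono (hO₀le.trans (PLocal.pCore_le_sylow P₀))
  have hZ₀ : (Cfsg.centerThompsonOf 3 (P₀ : Subgroup M)).Normal :=
    OddOrder.ZJ.centerThompsonOf_normal (by norm_num) (hG.dihType.subgroup M |>.quadraticStable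
      (by norm_num)) hc P₀
  have hZ : Cfsg.centerThompsonOf 3 P =
      (Cfsg.centerThompsonOf 3 (P₀ : Subgroup M)).map M.subtype :=
    (SolvCrit.map_centerThompson M.subtype M.subtype_injective 3 _).symm
  have hZM : normalizer ((Cfsg.centerThompsonOf 3 P : Subgroup G) : Set G) = M := by
    have hle : M ≤ normalizer ((Cfsg.centerThompsonOf 3 P : Subgroup G) : Set G) := by
      rw [hZ]
      intro m hm
      refine mem_normalizer_iff_map_conj_eq.2 (eq_of_le_of_card_ge ?_ (card_map_conj m _).ge)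
      rintro _ ⟨_, ⟨y, hy, rfl⟩, rfl⟩
      exact ⟨⟨m, hm⟩ * y * ⟨m, hm⟩⁻¹, hZ₀.conj_mem y hy _, rfl⟩
    refine ((hle.lt_or_eq).resolve_left fun hlt => ?_).symm
    have hn := normalizer_eq_top_iff.1 (hM.2 _ hlt)
    rcases hn.eq_bot_or_eq_top with hb | ht
    · refine SolvCrit.centerThompson_ne_bot hP3 (fun hP1 => hz ?_) hb
      rw [hP1, le_bot_iff] at hOP
      rw [hOP]
      exact bot_le
    · refine hM.1 (top_le_iff.1 (ht ▸ ?_))
      rw [hZ]
      exact map_subtype_le _
  -- fusion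
  obtain ⟨h, h1, h2⟩ := hG.exists_cycle hT.oz hT.ot hT.ne_zt hT.comm_zt
  set R0 := O ⊓ centralizer ({τ} : Set G) with hR0
  have hconjz : ∀ a ∈ R0, h⁻¹ * a * h * z = z * (h⁻¹ * a * h) := fun a ha => by
    have hat := mem_centralizer_singleton_iff.1 ha.2
    rw [show z = h⁻¹ * τ * h by rw [← h1]; group]
    calc h⁻¹ * a * h * (h⁻¹ * τ * h) = h⁻¹ * (a * τ) * h := by group
      _ = h⁻¹ * (τ * a) * h := by rw [hat]
      _ = _ := by group
  have himg : (fun a => h⁻¹ * a * h) '' (R0 : Set G) ⊆ (PG : Set G) := by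
    rintro _ ⟨a, ha, rfl⟩
    have ho : Odd (orderOf (h⁻¹ * a * h)) := by
      have e := Small.orderOf_conj_eq h⁻¹ a
      rw [inv_inv] at e
      rw [e]
      exact odd_of_mem (odd_oddIn M) ha.1
    exact hOP (hT.odd_mem hB (hCM (mem_centralizer_singleton_iff.2 (hconjz a ha))) ho
      (Or.inl (hconjz a ha)))
  obtain ⟨n, hn, hna⟩ := Transfer.ZJFusion.exists_mem_normalizer_centerThompson (by norm_num)
    (fun K R _ => (hG.dihType.subgroup K).quadraticStable_quotient (R.subgroupOf K) (by norm_num)) PG (R0 : Set G)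
    (fun a ha => hOP ha.1) h himg
  change n ∈ normalizer ((Cfsg.centerThompsonOf 3 P : Subgroup G) : Set G) at hn
  rw [hZM] at hn
  set z1 := n * z * n⁻¹ with hz1
  have hz1c : ∀ a ∈ R0, a * z1 = z1 * a := fun a ha => by
    have := hconjz a ha
    rw [← hna a ha] at this
    rw [hz1]
    calc a * (n * z * n⁻¹) = n * (n⁻¹ * a * n * z) * n⁻¹ := by group
      _ = n * (z * (n⁻¹ * a * n)) * n⁻¹ := by rw [this]
      _ = _ := by group
  -- a fused involution in `C_M(R0) ∩ C(τ)`
  obtain ⟨x', hx'M, hx'o, hx't, hx'R, hx'f⟩ : ∃ x' : G, x' ∈ M ∧ orderOf x' = 2 ∧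
      x' * τ = τ * x' ∧ (∀ a ∈ R0, a * x' = x' * a) ∧ Fused M z x' := by
    haveI : Fact (Nat.Prime 2) := ⟨Nat.prime_two⟩
    set L := M ⊓ centralizer (R0 : Set G) with hL
    have htL : τ ∈ L := mem_inf.2 ⟨hT.tM, mem_centralizer_iff.2 fun a ha =>
      mem_centralizer_singleton_iff.1 ha.2⟩
    have hzL : z1 ∈ L := mem_inf.2 ⟨mul_mem (mul_mem hn hT.zM) (inv_mem hn),
      mem_centralizer_iff.2 hz1c⟩
    have hp : ∀ x : L, orderOf (x : G) = 2 → IsPGroup 2 (zpowers x) := fun x hx =>
      IsPGroup.of_card (n := 1) (by rw [Nat.card_zpowers, ← orderOf_coe, hx, pow_one])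
    obtain ⟨Q, hQ⟩ := (hp ⟨τ, htL⟩ hT.ot).exists_le_sylow
    have hzo : orderOf z1 = 2 := by rw [hz1, Small.orderOf_conj_eq]; exact hT.oz
    obtain ⟨Q', hQ'⟩ := (hp ⟨z1, hzL⟩ hzo).exists_le_sylow
    obtain ⟨l, hl⟩ := MulAction.exists_smul_eq L Q' Q
    have hxQ : l * ⟨z1, hzL⟩ * l⁻¹ ∈ (Q : Subgroup L) := by
      rw [← hl]
      exact ⟨⟨z1, hzL⟩, hQ' (mem_zpowers _), rfl⟩
    set xq : L := l * ⟨z1, hzL⟩ * l⁻¹
    have hxf : Fused M z (xq : G) := (Fused.conj ⟨n, hn, rfl⟩ l.2.1 :)
    have hxo : orderOf (xq : G) = 2 := by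
      show orderOf ((l : G) * z1 * (l : G)⁻¹) = 2
      rw [Small.orderOf_conj_eq, hzo]
    -- a central involution of `Q`
    haveI : Nontrivial (Q : Subgroup L) := (nontrivial_iff_ne_bot _).2 fun hb => by
      have := hQ (mem_zpowers (⟨τ, htL⟩ : L))
      rw [hb, mem_bot] at this
      exact Small.ne_one_of_orderOf_two hT.ot (congrArg Subtype.val this)
    haveI := Q.isPGroup'.center_nontrivial
    obtain ⟨w, hw1⟩ := exists_ne (1 : center (Q : Subgroup L))
    obtain ⟨i, hi⟩ := IsPGroup.iff_orderOf.1 (Q.isPGroup'.to_subgroup (center _)) w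
    have hi0 : i ≠ 0 := fun h0 => hw1 (orderOf_eq_one_iff.1 (by rw [hi, h0, pow_zero]))
    set c := w ^ 2 ^ (i - 1) with hc
    have hc2 : orderOf (((c : (Q : Subgroup L)) : L) : G) = 2 := by
      rw [orderOf_coe, orderOf_coe, orderOf_coe, hc, orderOf_pow, hi,
        Nat.gcd_eq_right (pow_dvd_pow 2 (by omega)), Nat.pow_div (by omega) two_pos,
        show i - (i - 1) = 1 by omega, pow_one]
    set c₀ : G := (((c : (Q : Subgroup L)) : L) : G) with hc₀
    have hcc : ∀ y : L, y ∈ (Q : Subgroup L) → (y : G) * c₀ = c₀ * (y : G) := fun y hy =>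
      congrArg (fun q : (Q : Subgroup L) => ((q : L) : G)) (mem_center_iff.1 c.2 ⟨y, hy⟩)
    have hcM : c₀ ∈ M := ((c : (Q : Subgroup L)) : L).2.1
    have hcR : ∀ a ∈ R0, a * c₀ = c₀ * a :=
      mem_centralizer_iff.1 ((c : (Q : Subgroup L)) : L).2.2
    have hct := hcc ⟨τ, htL⟩ (hQ (mem_zpowers _))
    change τ * c₀ = c₀ * τ at hct
    by_cases hcf : Fused M z c₀
    · exact ⟨c₀, hcM, hc2, hct.symm, hcR, hcf⟩
    · by_cases hct' : c₀ = τ
      · refine ⟨xq, xq.2.1, hxo, ?_, mem_centralizer_iff.1 xq.2.2, hxf⟩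
        rw [← hct']
        exact hcc xq hxQ
      · refine ⟨τ * c₀, mul_mem hT.tM hcM, orderOf_mul_two hT.ot hc2 hct (Ne.symm hct'), ?_,
          fun a ha => ?_, hT.mul_outer τ hT.tM c₀ hcM hT.ot hc2 hct (Ne.symm hct')
            hT.not_fus hcf⟩
        · rw [mul_assoc, ← hct]
        · rw [← mul_assoc, mem_centralizer_singleton_iff.1 ha.2, mul_assoc, hcR a ha, mul_assoc]
  -- it is `z` times an element of `R0`
  have hV4 : ∃ o ∈ R0, x' = o * z := by
    set V := Subgroup.closure ({z, τ} : Set G)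
    obtain ⟨hV, hcases⟩ := hG.four_spec hT.oz hT.ot hT.ne_zt hT.comm_zt
    obtain ⟨hV4', -⟩ := TwoGroups.isKleinFour_iff.1 hV
    have hzV : z ∈ V := subset_closure (by simp)
    have htV : τ ∈ V := subset_closure (by simp)
    have hVle : V ≤ M ⊓ centralizer ({τ} : Set G) := (closure_le _).2 (by
      rintro x (rfl | rfl)
      · exact mem_inf.2 ⟨hT.zM, mem_centralizer_singleton_iff.2 hT.comm_zt⟩
      · exact mem_inf.2 ⟨hT.tM, mem_centralizer_singleton_iff.2 rfl⟩)
    have hRle : R0 ≤ M ⊓ centralizer ({τ} : Set G) := inf_le_inf_right _ (oddIn_le M)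
    have hVn : V ≤ normalizer (R0 : Set G) := hVle.trans (normalizer_oc τ)
    have hsup := PLocal.card_sup_mul_card_inf hVn
    have hbot : V ⊓ R0 = ⊥ := disjoint_iff.1 (disjoint_of_coprime_natCard (by
      rw [hV4']
      exact (Nat.coprime_two_left.2 (odd_oc M τ)).pow_left 2))
    rw [hbot, card_bot, mul_one, hV4'] at hsup
    have heq : V ⊔ R0 = M ⊓ centralizer ({τ} : Set G) := by
      refine eq_of_le_of_card_ge (sup_le hVle hRle) ?_
      rw [hsup, hT.card_t_three hB, mul_comm]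
      rfl
    have hxmem : x' ∈ V ⊔ R0 :=
      heq.symm ▸ mem_inf.2 ⟨hx'M, mem_centralizer_singleton_iff.2 hx't⟩
    rw [sup_comm, ← SetLike.mem_coe, Subgroup.coe_mul_of_right_le_normalizer_left _ _ hVn] at hxmem
    obtain ⟨o, ho, v, hv, rfl⟩ := hxmem
    have hoodd : Odd (orderOf o) := odd_of_mem (odd_oddIn M) ho.1
    have hxx := Small.mul_self_of_orderOf_two hx'o
    have hout : ∀ v, v = τ ∨ v = z * τ → v * v = 1 → o * v * (o * v) = 1 →
        ¬ Fused M z (o * v) := by
      intro v hv hvv hovv hf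
      obtain ⟨w, hw, hwe⟩ := exists_conj_of_odd hovv hvv (by
        rw [mul_assoc, hvv, mul_one]
        exact hoodd)
      rw [← hwe] at hf
      have hwM : w ∈ M := by
        refine zpowers_le.2 ?_ hw
        rw [mul_assoc, hvv, mul_one]
        exact (hRle ho).1
      have := hf.of_conj hwM
      rcases hv with rfl | rfl
      exacts [hT.not_fus this, hT.not_fus_zt this]
    rcases hcases v hv with rfl | rfl | rfl | rfl
    · simp only [mul_one] at hx'o
      exact absurd (hx'o ▸ hoodd) (by decide)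
    · exact ⟨o, ho, rfl⟩
    · exact absurd hx'f (hout _ (Or.inl rfl) (Small.mul_self_of_orderOf_two hT.ot) hxx)
    · exact absurd hx'f (hout _ (Or.inr rfl) (Small.mul_self_of_orderOf_two
        (orderOf_mul_two hT.oz hT.ot hT.comm_zt hT.ne_zt)) hxx)
  obtain ⟨o, ho, hxe⟩ := hV4
  have hzR : ∀ a ∈ R0, a * z = z * a := by
    have hzz := Small.mul_self_of_orderOf_two hT.oz
    have hxz : x' * z = o := by rw [hxe, mul_assoc, hzz, mul_one]
    obtain ⟨w, hw, hwe⟩ := exists_conj_of_odd (Small.mul_self_of_orderOf_two hx'o) hzz (by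
      rw [hxz]
      exact odd_of_mem (odd_oddIn M) ho.1)
    have hwR : w ∈ R0 := zpowers_le.2 (hxz ▸ ho) hw
    intro a ha
    have := hx'R (w * a * w⁻¹) (mul_mem (mul_mem hwR ha) (inv_mem hwR))
    rw [← hwe] at this
    calc a * z = w⁻¹ * ((w * a * w⁻¹) * (w * z * w⁻¹)) * w := by group
      _ = w⁻¹ * ((w * z * w⁻¹) * (w * a * w⁻¹)) * w := by rw [this]
      _ = z * a := by group
  -- so `z` centralizes everything
  have hd : oc2 M z τ = oc M τ := by
    unfold oc2 oc
    rw [show O ⊓ centralizer ({z} : Set G) ⊓ centralizer ({τ} : Set G) = R0 from le_antisymm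
      (inf_le_inf_right _ inf_le_left)
      (le_inf (le_inf inf_le_left fun a ha => mem_centralizer_singleton_iff.2 (hzR a ha))
        inf_le_right)]
  have hW := hT.wielandt_zt
  rw [hd] at hW
  have hcard : Nat.card O = oc M z := by
    refine Nat.eq_of_mul_eq_mul_right (pow_pos (oc_pos M τ) 2) ?_
    rw [hW]
    ring
  exact hz (inf_eq_left.1 (eq_of_le_of_card_ge inf_le_left hcard.le))

end TwoClass

end CfsgLib.GW
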